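import Cfsg.Agent.Nodes.RGDTypeA
import Cfsg.Agent.Nodes.Bruhat
import Cfsg.Agent.H601.K4.InvClass_m3
import Cfsg.Agent.H293.F23B.Num_m3
import Cfsg.Agent.Nodes.KindB_m3
import Cfsg.Agent.H183.OutPSL
import Cfsg.Agent.H299.K4.SuzX
import Cfsg.Agent.CharactersDeep.IndFun
import Cfsg.Agent.Characters.Linear
import Cfsg.Agent.CharDeep.CliffordCorr
import Cfsg.Agent.CharactersDeep.CliffordSum
import Cfsg.Agent.H742.TwoC_m3
import Cfsg.Agent.H612.ModA_m3
import Cfsg.Agent.H809.LabPSU_mg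
import Cfsg.Agent.H137.K4.ReeInv
import Cfsg.Agent.H245.DG.GTwo
import Cfsg.Agent.H198.SympGamma
import Cfsg.Agent.ClassicalGeometry.AutPSL.SylowU
import Cfsg.Agent.ClassicalGeometry.PSUAutSylow
import Cfsg.Agent.LieClassical.HermGen
import Cfsg.Agent.H714.S4547.Coset_m3
import Cfsg.Agent.OddHalf.Known
import Cfsg.Agent.S0252
import Cfsg.Agent.S0254
import Mathlib
import Cfsg.Agent.ClassicalGeometry.AutPSL.Main
import Cfsg.Agent.KFacts.Mult.TypeA
import Cfsg.Agent.ClassicalGeometry.AutPSL.Root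
import Cfsg.Agent.S0249
import Cfsg.Agent.H921.K4.Uniq_m3
import Cfsg.Agent.H813.K547.FiTF_m3
import Cfsg.Agent.Lib.FrattiniPGroup
import Cfsg.Agent.H670.SL2Odd
import Cfsg.Agent.H27.Psl.Field
import Cfsg.Agent.H622.Levi.NonSwap
import Cfsg.Agent.S2300
import Cfsg.Agent.S0173
import Cfsg.Agent.H684.CoverCount_m3
import Cfsg.Agent.ClassicalGeometry.PSL2Basic
import Cfsg.Agent.H969.TT.TopAbs
import Cfsg.Agent.H612.Sym
import Cfsg.Agent.S2121
import Cfsg.Agent.S2129
import Cfsg.Agent.TypeU3Sz.Main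
import Cfsg.Agent.Classification.PSLTwoEvenSylow
import Cfsg.Agent.H277.CS.PslTop
import Cfsg.Agent.H419.Count_m3
import Cfsg.Agent.H813.K547.Par
import Cfsg.Agent.S0279
import Cfsg.Agent.Schreier.SylMTwentyTwo
import Cfsg.Agent.SporadicA.MathieuRecog
import Cfsg.Agent.H921.K4.M23Good
import Cfsg.Agent.S2063
import Cfsg.Agent.S2064
import Cfsg.Agent.H935.Meet.CoTwo
import Cfsg.Agent.H935.Meet.Baby
import Cfsg.Agent.S2084
import Cfsg.Agent.H819.TwoACent
import Cfsg.Agent.Lib.ListFast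
import Cfsg.Agent.S2600
import Cfsg.Agent.S2601
import Cfsg.Agent.S2602
import Cfsg.Agent.S2603
import Cfsg.Agent.S2126
import Cfsg.Agent.S2128
import Cfsg.Agent.StdSpFour.Trich_mg_m3
import Cfsg.Agent.KFacts.RgdField
import Cfsg.Agent.KFacts.TwESix.Cent_m3
import Cfsg.Agent.PRankPar.Inst
import Cfsg.Agent.S1054
import Cfsg.Agent.H311.K547.Val_m3
import Cfsg.Agent.ClassicalGeometry.PSUAutCount
import Cfsg.Agent.S0277
import Cfsg.Agent.ClassicalGeometry.PSUAutMain
import Cfsg.Agent.S0283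
import Cfsg.Agent.S4623
import Cfsg.Agent.S4627
import Cfsg.Agent.S4628
import Cfsg.Agent.FastGrp
import Cfsg.Agent.Prune
set_option linter.all false

section
prune_inst 0x7fb0acf90da801dedfff7e3fa6d4cdfc10800fffa4def94b7fe061af0b9f030009452b8509e010fe0ec2401400a87803f97eceffe06bdc7ffffd5ff41ffbee0fe5f6b100519488240f300ff703f0778e6f3fffffffffffffffffffffffffffbeffbffbfeffff

-- part: H71/QE/Split
section
prune_inst 0x4d10023041e40120000000582312022147c0004b20060080088010a440a00a34a0d00894004201113522aa38100050068130000e002000000000004000000000000808200a009000082008e001080010000000000000000000000000000000004004010000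
set_option linter.all false
open scoped Cfsg.Agent.FastGrp

-- part: H71/QE/GLRgd
section
/-!
# S4547, task QE7 (helper71): the root group datum of `GL_{n+1}(F)`

`dgl d` : the diagonal matrix; `TG` : the diagonal torus of `GL_{n+1}(F)`; `rgd_gl` : the root group datum;
`GG_gl` : it generates.
-/

set_option autoImplicit false
set_option linter.unusedSectionVars false

namespace Cfsg.Agent.H71.QE

open Matrix CoxeterSystem Cfsg.Agent.ChevalleyStructure.CoxeterGeom Cfsg.Agent.Tits.Roots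
open Cfsg.Agent.Nodes Cfsg.Agent.Nodes.Reps Cfsg.Agent.Nodes.BNOf Cfsg.Agent.Nodes.RGDLib Cfsg.Agent.Nodes.RootsA
  Cfsg.Agent.Nodes.RGDTypeA Cfsg.Agent.Nodes.Bruhat
open Cfsg.Agent.LieRecognition.BNCox (cA)
open Cfsg.Agent.TitsThree.KSideA (tv tv_of_ne tv_add tv_zero tv_neg)

universe u

section enlarge

variable {I W Y : Type*} [Fintype I] [DecidableEq I] [Group W] [Group Y] {M : CoxeterMatrix I}
  {cs : CoxeterSystem M W} {A : I → I → ℤ} {h : IsCartan M A} {p : ℕ} {T : Subgroup Y} {n : I → Y}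
  {X : (I → ℤ) → Subgroup Y}

/-- a bigger torus -/
theorem rgd_torus (R : RGD cs h p T n X) {T' : Subgroup Y} (hT : T ≤ T')
    (hn : ∀ i, n i ∈ Subgroup.normalizer (T' : Set Y))
    (htor : ∀ x, IsRoot cs h x → ∀ t ∈ T', cj t (X x) = X x) (hc : (Nat.card T').Coprime p) :
    RGD cs h p T' n X where
  nsys := ⟨hn, fun i j => hT (R.nsys.rel i j)⟩
  conj := R.conj
  tor := htor
  comm := R.comm
  rk1 i u hu hu1 := by
    obtain ⟨a, ha, t, ht, b, hb, e⟩ := R.rk1 i u hu hu1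
    exact ⟨a, ha, t, hT ht, b, hb, e⟩
  pgrp := R.pgrp
  notp := R.notp
  tcop := hc

end enlarge

section gl

variable {n : ℕ} {F : Type u} [Field F]

/-- diagonal matrices -/
noncomputable def dgl (n : ℕ) (F : Type u) [Field F] : (Fin (n + 1) → Fˣ) →* GL (Fin (n + 1)) F :=
  (Units.map (Matrix.diagonalRingHom (Fin (n + 1)) F).toMonoidHom).comp MulEquiv.piUnits.symm.toMonoidHom

theorem dgl_val (d : Fin (n + 1) → Fˣ) :
    ((dgl n F d : GL (Fin (n + 1)) F) : Matrix (Fin (n + 1)) (Fin (n + 1)) F) = Matrix.diagonal fun i => (d i : F) := rfl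

/-- the diagonal torus -/
noncomputable def TG (n : ℕ) (F : Type u) [Field F] : Subgroup (GL (Fin (n + 1)) F) := (dgl n F).range

theorem dgl_mem (d : Fin (n + 1) → Fˣ) : dgl n F d ∈ TG n F := ⟨d, rfl⟩

theorem dgl_injective : Function.Injective (dgl n F) := by
  intro d d' e
  funext i
  apply Units.ext
  have h1 := congrArg (fun g : GL (Fin (n + 1)) F => (g : Matrix (Fin (n + 1)) (Fin (n + 1)) F) i i) e
  simpa [dgl_val] using h1

theorem mem_TG {g : GL (Fin (n + 1)) F} : g ∈ TG n F ↔ ∀ i j, i ≠ j → (g : Matrix (Fin (n + 1)) (Fin (n + 1)) F) i j = 0 := by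
  constructor
  · rintro ⟨d, rfl⟩ i j hij
    rw [dgl_val, Matrix.diagonal_apply_ne _ hij]
  · intro h
    have hd : (g : Matrix (Fin (n + 1)) (Fin (n + 1)) F) = Matrix.diagonal fun i => (g : Matrix _ _ F) i i := by
      ext i j
      by_cases hij : i = j
      · rw [hij, Matrix.diagonal_apply_eq]
      · rw [h i j hij, Matrix.diagonal_apply_ne _ hij]
    have hdet : ∏ i, (g : Matrix (Fin (n + 1)) (Fin (n + 1)) F) i i ≠ 0 := by
      rw [← Matrix.det_diagonal, ← hd]
      exact (Matrix.isUnit_iff_isUnit_det _).1 g.isUnit |>.ne_zero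
    refine ⟨fun i => Units.mk0 ((g : Matrix (Fin (n + 1)) (Fin (n + 1)) F) i i)
      (Finset.prod_ne_zero_iff.1 hdet i (Finset.mem_univ i)), ?_⟩
    apply Units.ext
    rw [dgl_val]
    exact hd.symm

/-- monomial matrices permute the diagonal matrices -/
theorem mono_dgl {σ : Equiv.Perm (Fin (n + 1))} {g : _root_.Matrix.SpecialLinearGroup (Fin (n + 1)) F} (hg : Mono σ g)
    (d : Fin (n + 1) → Fˣ) : SpecialLinearGroup.toGL g * dgl n F d = dgl n F (fun i => d (σ⁻¹ i)) * SpecialLinearGroup.toGL g := by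
  apply Units.ext
  change (g : Matrix (Fin (n + 1)) (Fin (n + 1)) F) * Matrix.diagonal _ = Matrix.diagonal _ * (g : Matrix _ _ F)
  ext i j
  rw [Matrix.mul_diagonal, Matrix.diagonal_mul]
  by_cases h0 : (g : Matrix (Fin (n + 1)) (Fin (n + 1)) F) i j = 0
  · rw [h0, zero_mul, mul_zero]
  · have h1 : i = σ j := hg i j h0
    rw [h1, mul_comm]
    simp

theorem mono_normalizer {σ : Equiv.Perm (Fin (n + 1))} {g : _root_.Matrix.SpecialLinearGroup (Fin (n + 1)) F} (hg : Mono σ g) :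
    SpecialLinearGroup.toGL g ∈ Subgroup.normalizer (TG n F : Set (GL (Fin (n + 1)) F)) := by
  rw [Subgroup.mem_normalizer_iff]
  intro t
  constructor
  · rintro ⟨d, rfl⟩
    rw [mono_dgl hg, mul_inv_cancel_right]
    exact dgl_mem _
  · intro ht
    obtain ⟨d, hd⟩ := ht
    have h1 : t = (SpecialLinearGroup.toGL g)⁻¹ * dgl n F d * SpecialLinearGroup.toGL g := by
      rw [hd]; group
    have h2 := mono_dgl hg (fun i => d (σ i))
    have h3 : (fun i => (fun i => d (σ i)) (σ⁻¹ i)) = d := by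
      funext i; simp
    rw [h3] at h2
    rw [h1, mul_assoc, ← h2, inv_mul_cancel_left]
    exact dgl_mem _

/-- diagonal matrices and transvections -/
theorem dgl_tv (d : Fin (n + 1) → Fˣ) {a b : Fin (n + 1)} (hab : a ≠ b) (s : F) :
    dgl n F d * SpecialLinearGroup.toGL (tv a b s) =
      SpecialLinearGroup.toGL (tv a b ((d a : F) * s * ((d b)⁻¹ : Fˣ))) * dgl n F d := by
  apply Units.ext
  change Matrix.diagonal _ * (tv a b s).1 = (tv a b ((d a : F) * s * ((d b)⁻¹ : Fˣ))).1 * Matrix.diagonal _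
  rw [tv_val hab, tv_val hab, mul_add, add_mul, mul_one, one_mul]
  congr 1
  ext i j
  rw [Matrix.mul_diagonal, Matrix.diagonal_mul, Matrix.single_apply, Matrix.single_apply]
  by_cases h1 : a = i ∧ b = j
  · rw [if_pos h1, if_pos h1, ← h1.1, ← h1.2]
    rw [Units.val_inv_eq_inv_val]
    exact (inv_mul_cancel_right₀ (Units.ne_zero (d b)) _).symm
  · rw [if_neg h1, if_neg h1, mul_zero, zero_mul]

theorem card_TG [Finite F] {p : ℕ} [Fact p.Prime] [CharP F p] : (Nat.card (TG n F)).Coprime p := by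
  have := Fintype.ofFinite F
  have h1 : Nat.card (TG n F) = (Nat.card F - 1) ^ (n + 1) := by
    rw [TG, ← Nat.card_congr (MonoidHom.ofInjective (dgl_injective (n := n) (F := F))).toEquiv, Nat.card_fun,
      Nat.card_units, Nat.card_eq_fintype_card (α := Fin (n + 1)), Fintype.card_fin]
  rw [h1]
  apply Nat.Coprime.pow_left
  obtain ⟨k, -, hk⟩ := FiniteField.card F p
  have h2 : (Nat.card F - 1).Coprime (Nat.card F) := by
    have h3 : 1 ≤ Nat.card F := Nat.card_pos
    have h4 : Nat.card F = (Nat.card F - 1) + 1 := by omega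
    rw [h4, Nat.add_sub_cancel]
    exact (Nat.coprime_self_add_right).2 (Nat.coprime_one_right _)
  refine Nat.Coprime.coprime_dvd_right ?_ h2
  rw [Nat.card_eq_fintype_card, hk]
  exact dvd_pow_self p k.ne_zero

variable {W : Type*} [Group W] (cs : CoxeterSystem (cA n) W) {A : Fin n → Fin n → ℤ} (h : IsCartan (cA n) A)

theorem toGL_injective : Function.Injective (SpecialLinearGroup.toGL (n := Fin (n + 1)) (R := F)) := by
  intro a b e
  apply Subtype.ext
  exact congrArg (fun g : GL (Fin (n + 1)) F => (g : Matrix (Fin (n + 1)) (Fin (n + 1)) F)) e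

/-- **The root group datum of `GL_{n+1}(F)`.** -/
theorem rgd_gl [Finite W] [Finite F] {p : ℕ} [Fact p.Prime] [CharP F p] :
    RGD cs h p (TG n F) (fun i => SpecialLinearGroup.toGL (ns n F i))
      (fun x => (RGDTypeA.X F x).map SpecialLinearGroup.toGL) := by
  have h1 := rgd_map_of_ker_le_center (rgd (F := F) (p := p) cs h) (SpecialLinearGroup.toGL (n := Fin (n + 1)) (R := F))
    (by rw [(MonoidHom.ker_eq_bot_iff _).2 toGL_injective]; exact bot_le)
  refine rgd_torus h1 ?_ (fun i => mono_normalizer (mono_ns i)) ?_ card_TG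
  · rintro _ ⟨t, ht, rfl⟩
    rw [mem_TG]
    intro i j hij
    by_contra h2
    exact hij ((mem_T.1 ht) i j h2)
  · rintro x hx _ ⟨d, rfl⟩
    obtain ⟨a, b, hab, rfl⟩ := exists_of_isRoot cs h hx
    have h2 : ∀ d : Fin (n + 1) → Fˣ, cj (dgl n F d) ((RGDTypeA.X F (rtA a b)).map SpecialLinearGroup.toGL) ≤
        (RGDTypeA.X F (rtA a b)).map SpecialLinearGroup.toGL := by
      intro d
      rw [X_rtA hab]
      rintro _ ⟨_, ⟨_, ⟨s, rfl⟩, rfl⟩, rfl⟩
      refine ⟨tv a b ((d a : F) * s * ((d b)⁻¹ : Fˣ)), ⟨_, rfl⟩, ?_⟩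
      change _ = dgl n F d * SpecialLinearGroup.toGL (tv a b s) * (dgl n F d)⁻¹
      rw [dgl_tv d hab, mul_inv_cancel_right]
    refine le_antisymm (h2 d) ?_
    have h3 := cj_mono (dgl n F d) (h2 d⁻¹)
    rwa [map_inv, cj_cj_inv] at h3

/-- **The root groups and the torus generate `GL_{n+1}(F)`.** -/
theorem GG_gl : GG cs h (TG n F) (fun x => (RGDTypeA.X F x).map SpecialLinearGroup.toGL) = ⊤ := by
  rw [eq_top_iff]
  intro g _
  have h1 : (SpecialLinearGroup.toGL (n := Fin (n + 1)) (R := F)).range ≤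
      GG cs h (TG n F) (fun x => (RGDTypeA.X F x).map SpecialLinearGroup.toGL) := by
    have h2 := G1_map cs h (RGDTypeA.X F) (SpecialLinearGroup.toGL (n := Fin (n + 1)) (R := F))
    rw [G1_eq_top, ← MonoidHom.range_eq_map] at h2
    rw [← h2]
    exact le_sup_right
  let d : Fin (n + 1) → Fˣ := fun i => if i = 0 then GeneralLinearGroup.det g else 1
  have hd : GeneralLinearGroup.det (dgl n F d) = GeneralLinearGroup.det g := by
    apply Units.ext
    change (Matrix.diagonal fun i => (d i : F)).det = _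
    rw [Matrix.det_diagonal, Finset.prod_eq_single 0]
    · simp [d]
    · intro i _ hi
      simp [d, hi]
    · intro h0
      exact absurd (Finset.mem_univ _) h0
  have h3 : (dgl n F d)⁻¹ * g ∈ (SpecialLinearGroup.toGL (n := Fin (n + 1)) (R := F)).range := by
    have h4 : GeneralLinearGroup.det ((dgl n F d)⁻¹ * g) = 1 := by
      rw [map_mul, map_inv, hd, inv_mul_cancel]
    refine ⟨⟨((dgl n F d)⁻¹ * g : GL (Fin (n + 1)) F), congrArg Units.val h4⟩, Units.ext rfl⟩
  have h5 := mul_mem (le_sup_left (a := TG n F) (dgl_mem d)) (h1 h3)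
  rwa [mul_inv_cancel_left] at h5

end gl

end Cfsg.Agent.H71.QE
end

-- part: H71/QE/TSRgd
section
/-!
# S4547, task QE7 (helper71): the principal series of a root group datum in characteristic two
-/

set_option autoImplicit false
set_option linter.unusedSectionVars false

open scoped ComplexConjugate
open Cfsg

namespace Cfsg.Agent.H71.QE

open Cfsg.Agent.Characters Cfsg.Agent.H601.K4 Cfsg.Agent.H967.K4 Cfsg.Agent.H821.K547 Cfsg.Agent.H307.QE
open CoxeterSystem Cfsg.Agent.ChevalleyStructure.CoxeterGeom Cfsg.Agent.Tits.Roots Cfsg.Agent.Tits.Core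
  Cfsg.Agent.Tits.Exchange Cfsg.Agent.Nodes.Reps Cfsg.Agent.Nodes.BNOf Cfsg.Agent.Nodes.StabComb
  Cfsg.Agent.Nodes.Bruhat Cfsg.Agent.Nodes.OppDec Cfsg.Agent.Nodes.LeviDec Cfsg.Agent.H53.HC
  Cfsg.Agent.H246.Dl Cfsg.Agent.KFacts.RgdAut Cfsg.Agent.KFacts.RgdDiag
open Cfsg.Agent.H726.Four (TS)

universe u

section rgd

variable {I W : Type*} {Y : Type u} [Fintype I] [DecidableEq I] [Group W] [Group Y] {M : CoxeterMatrix I}
  {cs : CoxeterSystem M W} {A : I → I → ℤ} {h : IsCartan M A} {T : Subgroup Y} {n : I → Y}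
  {X : (I → ℤ) → Subgroup Y}

/-- representatives of the elements of `W` -/
noncomputable def gw (R : RGD cs h 2 T n X) (w : W) : Y := (exists_rp cs R.nsys w).choose

theorem gw_rp (R : RGD cs h 2 T n X) (w : W) : Rp cs R.nsys w (gw R w) := (exists_rp cs R.nsys w).choose_spec

/-- **The principal series of a root group datum.** -/
theorem exists_ts (R : RGD cs h 2 T n X) [Finite W] [Finite Y] (hG : GG cs h T X = ⊤) :
    ∃ c : RGD.B cs h T X →* T, TS 2 (RGD.B cs h T X) T c (gw R) ∧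
      ∀ (u : Y) (_ : u ∈ RGD.Sup X (RGD.Pos cs h)) (t : T) (hut : u * t ∈ RGD.B cs h T X), c ⟨u * t, hut⟩ = t := by
  have hn := R.T_le_normalizer_U
  have hVM : ∀ x, x ∈ RGD.Sup X (RGD.Pos cs h) → x ∈ T → x = 1 := fun x h1 h2 => T_inf_U R h1 h2
  obtain ⟨π, hπ⟩ := exists_proj (RGD.Sup X (RGD.Pos cs h)) T hn hVM
  have hB : RGD.B cs h T X ≤ RGD.Sup X (RGD.Pos cs h) ⊔ T := by
    rw [sup_comm]
    exact le_rfl
  have hc : ∀ (u : Y) (_ : u ∈ RGD.Sup X (RGD.Pos cs h)) (t : T) (hut : u * t ∈ RGD.B cs h T X),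
      (π.comp (Subgroup.inclusion hB)) ⟨u * t, hut⟩ = t := fun u hu t hut => hπ u hu t
  refine ⟨π.comp (Subgroup.inclusion hB), ⟨le_sup_left, ?_, ?_, R.tcop, fun w => (gw_rp R w).mem_normalizer, ?_, ?_, ?_⟩, hc⟩
  · intro t ht
    have h1 := hc 1 (one_mem _) ⟨t, ht⟩ (by rw [one_mul]; exact le_sup_left (a := T) ht)
    rw [← h1]
    congr 1
    exact Subtype.ext (one_mul t).symm
  · rintro ⟨b, hb⟩ hb1
    obtain ⟨u, hu, t, ht, rfl⟩ := H967.K4.mem_sup _ _ hn (hB hb)
    have h1 := hc u hu ⟨t, ht⟩ hb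
    have h2 : (⟨t, ht⟩ : T) = 1 := h1.symm.trans hb1
    have h3 : t = 1 := congrArg Subtype.val h2
    obtain ⟨k, hk⟩ := R.isPGroup_Upos ⟨u, hu⟩
    refine ⟨k, ?_⟩
    change (u * t) ^ 2 ^ k = 1
    rw [h3, mul_one]
    exact congrArg Subtype.val hk
  · intro x
    obtain ⟨w, b₁, hb₁, k, hk, b₂, hb₂, e⟩ := (mem_GG R).1 (show x ∈ GG cs h T X by rw [hG]; exact Subgroup.mem_top x)
    refine ⟨w, b₁, hb₁, (gw R w)⁻¹ * k * b₂, mul_mem (le_sup_left (a := T) ((gw_rp R w).unique hk)) hb₂, ?_⟩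
    rw [e]; group
  · rintro w w' ⟨a, ha, b, hb, e⟩
    have h1 : Cell R.nsys cs h X w (gw R w') := ⟨a, ha, gw R w, gw_rp R w, b, hb, e⟩
    exact Cell.unique R h1 (cell_of_rp (gw_rp R w'))
  · intro w w'
    exact ((gw_rp R w).mul (gw_rp R w')).unique (gw_rp R _)

end rgd

end Cfsg.Agent.H71.QE
end

-- part: H71/QE/GLPerm
section
/-!
# S4547, task QE7 (helper71): the action of `W` on the torus of `GL_{n+1}(F)` and on its linear characters

`lam ζ v` : the linear character `diag d ↦ ∏ ζ (d i) ^ v i`.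
-/

set_option autoImplicit false
set_option linter.unusedSectionVars false

namespace Cfsg.Agent.H71.QE

open Matrix CoxeterSystem Cfsg.Agent.ChevalleyStructure.CoxeterGeom Cfsg.Agent.Tits.Roots Cfsg.Agent.Tits.Core
open Cfsg.Agent.Nodes Cfsg.Agent.Nodes.Reps Cfsg.Agent.Nodes.BNOf Cfsg.Agent.Nodes.RGDLib Cfsg.Agent.Nodes.RootsA
  Cfsg.Agent.Nodes.RGDTypeA Cfsg.Agent.Nodes.Bruhat
open Cfsg.Agent.LieRecognition.BNCox (cA)
open Cfsg.Agent.H726.Four (TS)

universe u

section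

variable {n : ℕ} {F : Type u} [Field F] [Finite F] [CharP F 2]
variable {W : Type*} [Group W] [Finite W] (cs : CoxeterSystem (cA n) W) {A : Fin n → Fin n → ℤ} (h : IsCartan (cA n) A)

theorem exists_pm (w : W) : ∃ σ : Equiv.Perm (Fin (n + 1)), (∀ a b, rep cs h w (rtA a b) = rtA (σ a) (σ b)) ∧
    ∀ k, Rp cs (rgd_gl (F := F) (p := 2) cs h).nsys w k → ∀ d, k⁻¹ * dgl n F d * k = dgl n F (fun i => d (σ i)) := by
  obtain ⟨ω, rfl⟩ := cs.wordProd_surjective w
  induction ω with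
  | nil =>
    refine ⟨1, fun a b => by rw [wordProd_nil, map_one]; rfl, fun k hk d => ?_⟩
    rw [wordProd_nil] at hk
    obtain ⟨d', rfl⟩ := hk.mem_of_one
    rw [mul_assoc, ← map_mul, mul_comm d d', map_mul, inv_mul_cancel_left]
    rfl
  | cons j ω ih =>
    obtain ⟨σ, hσ, hσ'⟩ := ih
    refine ⟨Equiv.swap j.castSucc j.succ * σ, fun a b => ?_, fun k hk d => ?_⟩
    · rw [wordProd_cons, rep_mul_apply, hσ, rep_simple_rtA]
      rfl
    · have h1 : Rp cs (rgd_gl (F := F) (p := 2) cs h).nsys (cs.wordProd ω) ((SpecialLinearGroup.toGL (ns n F j))⁻¹ * k) := by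
        have h2 := (rp_simple cs (rgd_gl (F := F) (p := 2) cs h).nsys j).inv.mul hk
        rwa [wordProd_cons, inv_mul_cancel_left] at h2
      have h3 := mono_dgl (mono_ns (F := F) j) (fun i => d (Equiv.swap j.castSucc j.succ i))
      have h4 : (fun i => (fun i => d (Equiv.swap j.castSucc j.succ i)) ((Equiv.swap j.castSucc j.succ)⁻¹ i)) = d := by
        funext i
        rw [Equiv.swap_inv]
        exact congrArg d (Equiv.swap_apply_self _ _ _)
      rw [h4] at h3
      have h5 := hσ' _ h1 (fun i => d (Equiv.swap j.castSucc j.succ i))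
      rw [show (fun i => d ((Equiv.swap j.castSucc j.succ * σ) i)) =
        (fun i => (fun i => d (Equiv.swap j.castSucc j.succ i)) (σ i)) from rfl, ← h5, _root_.mul_inv_rev, inv_inv]
      have h6 : SpecialLinearGroup.toGL (ns n F j) * dgl n F (fun i => d (Equiv.swap j.castSucc j.succ i)) *
          (SpecialLinearGroup.toGL (ns n F j))⁻¹ = dgl n F d := by
        rw [h3, mul_inv_cancel_right]
      rw [← h6]
      group

/-- the permutation of `w` -/
noncomputable def pm (F : Type u) [Field F] [Finite F] [CharP F 2] (w : W) : Equiv.Perm (Fin (n + 1)) :=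
  (exists_pm (F := F) cs h w).choose

theorem pm_rep (w : W) (a b : Fin (n + 1)) : rep cs h w (rtA a b) = rtA (pm cs h F w a) (pm cs h F w b) :=
  (exists_pm (F := F) cs h w).choose_spec.1 a b

theorem pm_rp {w : W} {k : GL (Fin (n + 1)) F} (hk : Rp cs (rgd_gl (F := F) (p := 2) cs h).nsys w k)
    (d : Fin (n + 1) → Fˣ) : k⁻¹ * dgl n F d * k = dgl n F (fun i => d (pm cs h F w i)) :=
  (exists_pm (F := F) cs h w).choose_spec.2 k hk d

theorem pm_eq_one {w : W} (hw : pm cs h F w = 1) : w = 1 := by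
  apply rep_injective cs h
  rw [map_one]
  refine LinearMap.pi_ext' fun i => ?_
  refine LinearMap.ext_ring ?_
  have h1 := pm_rep (F := F) cs h w i.castSucc i.succ
  rw [hw] at h1
  simpa only [rtA_sr, sr, _root_.LinearMap.coe_comp, _root_.LinearMap.coe_single, _root_.Function.comp_apply, _root_.Module.End.one_apply, _root_.Equiv.Perm.coe_one, _root_.id_eq] using h1

theorem pm_surj (hn : 0 < n) (σ : Equiv.Perm (Fin (n + 1))) : ∃ w : W, pm cs h F w = σ := by
  obtain ⟨w, hw⟩ := KindA.exists_w cs h σ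
  refine ⟨w, ?_⟩
  ext1 a
  obtain ⟨b, hb⟩ : ∃ b : Fin (n + 1), a ≠ b := by
    by_cases ha : a = 0
    · exact ⟨Fin.last n, by rw [ha]; intro e; have := congrArg Fin.val e; simp at this; omega⟩
    · exact ⟨0, ha⟩
  have h1 := (pm_rep (F := F) cs h w a b).symm.trans (hw a b)
  exact (rtA_inj (fun e => hb ((pm cs h F w).injective e)) h1).1

/-- the linear characters -/
noncomputable def lam (ζ : Fˣ →* ℂˣ) (v : Fin (n + 1) → ℤ) : TG n F →* ℂˣ :=
  (MonoidHom.mk' (fun d : Fin (n + 1) → Fˣ => ∏ i, (ζ (d i)) ^ v i) (by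
    intro d d'
    rw [← Finset.prod_mul_distrib]
    refine Finset.prod_congr rfl fun i _ => ?_
    rw [Pi.mul_apply, map_mul, mul_zpow])).comp (MonoidHom.ofInjective (dgl_injective (n := n) (F := F))).symm.toMonoidHom

theorem lam_dgl (ζ : Fˣ →* ℂˣ) (v : Fin (n + 1) → ℤ) (d : Fin (n + 1) → Fˣ) (hd : dgl n F d ∈ TG n F) :
    lam ζ v ⟨dgl n F d, hd⟩ = ∏ i, (ζ (d i)) ^ v i := by
  have h1 : (MonoidHom.ofInjective (dgl_injective (n := n) (F := F))).symm ⟨dgl n F d, hd⟩ = d := by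
    rw [MulEquiv.symm_apply_eq]
    rfl
  change ∏ i, (ζ ((MonoidHom.ofInjective (dgl_injective (n := n) (F := F))).symm ⟨dgl n F d, hd⟩ i)) ^ v i = _
  rw [h1]

end

end Cfsg.Agent.H71.QE
end

-- part: H71/QE/GLSer
section
/-!
# S4547, task QE7 (helper71): the principal series character of `GL_3(F)` attached to a cubic character

`RR ζ` : induced from the character `diag d ↦ ζ (d 0) ζ (d 2)⁻¹` of the Borel subgroup, `ζ ^ 3 = 1`, `ζ ≠ 1`.
-/

set_option autoImplicit false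
set_option linter.unusedSectionVars false

open scoped ComplexConjugate

namespace Cfsg.Agent.H71.QE

open Cfsg Matrix CoxeterSystem Cfsg.Agent.ChevalleyStructure.CoxeterGeom Cfsg.Agent.Tits.Roots Cfsg.Agent.Tits.Core
open Cfsg.Agent.Nodes Cfsg.Agent.Nodes.Reps Cfsg.Agent.Nodes.BNOf Cfsg.Agent.Nodes.RGDLib Cfsg.Agent.Nodes.RootsA
  Cfsg.Agent.Nodes.RGDTypeA Cfsg.Agent.Nodes.Bruhat
open Cfsg.Agent.LieRecognition.BNCox (cA)
open Cfsg.Agent.Characters Cfsg.Agent.H726.Four Cfsg.Agent.H967.K4 Cfsg.Agent.OddOrderCharacters.Clifford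
open Cfsg.Agent.TitsThree.KSideA (tv tv_of_ne tv_add tv_zero tv_neg)

universe u

/-! ### induced functions and automorphisms -/

section aut

variable {G : Type u} [Group G] [Fintype G] {p : ℕ} {B T : Subgroup G} {c : B →* T} {W : Type*} [Group W] {g : W → G}

theorem R_aut (h : TS p B T c g) (α : MulAut G) (hB : ∀ x, α x ∈ B ↔ x ∈ B) (hT : ∀ t ∈ T, α t ∈ T) (θ θ' : T → ℂ)
    (hθ : ∀ t : T, θ ⟨α t, hT t t.2⟩ = θ' t) (x : G) : TS.R c θ (α x) = TS.R c θ' x := by
  unfold TS.R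
  rw [S0150.indFun_apply, S0150.indFun_apply]
  congr 1
  refine (Fintype.sum_bijective α α.bijective _ _ fun y => ?_).symm
  rw [show (α y)⁻¹ * α x * α y = α (y⁻¹ * x * y) by simp only [_root_.map_mul, _root_.map_inv]]
  by_cases hz : y⁻¹ * x * y ∈ B
  · rw [ext_apply_mem B _ _ hz, ext_apply_mem B _ _ ((hB _).2 hz)]
    have h1 := h.sep_aut α hT hz ((hB _).2 hz)
    change θ' (c _) = θ (c _)
    rw [← hθ]
    congr 1
    exact Subtype.ext h1.symm
  · rw [ext_apply_not_mem B _ _ hz, ext_apply_not_mem B _ _ (fun h2 => hz ((hB _).1 h2))]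

end aut

section ser

variable {F : Type u} [Field F] [Finite F] [CharP F 2]

/-- the Coxeter system of type `A_2` -/
abbrev csA : CoxeterSystem (cA 2) (cA 2).Group := (cA 2).toCoxeterSystem

instance finA : Finite (cA 2).Group := finite_W csA (isCartan 2)

variable (F) in
/-- the Borel subgroup of `GL_3(F)` -/
noncomputable abbrev BG : Subgroup (GL (Fin 3) F) :=
  RGD.B csA (isCartan 2) (TG 2 F) (fun x => (RGDTypeA.X F x).map SpecialLinearGroup.toGL)

variable (F) in
theorem rgG : RGD csA (isCartan 2) 2 (TG 2 F) (fun i => SpecialLinearGroup.toGL (ns 2 F i))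
    (fun x => (RGDTypeA.X F x).map SpecialLinearGroup.toGL) := rgd_gl (F := F) (p := 2) csA (isCartan 2)

variable (F) in
/-- the projection on the torus -/
noncomputable def cG : BG F →* TG 2 F := (exists_ts (rgG F) (GG_gl _ _)).choose

variable (F) in
theorem tsG : TS 2 (BG F) (TG 2 F) (cG F) (gw (rgG F)) := (exists_ts (rgG F) (GG_gl _ _)).choose_spec.1

theorem cG_mul (u : GL (Fin 3) F) (hu : u ∈ RGD.Sup (fun x => (RGDTypeA.X F x).map SpecialLinearGroup.toGL)
    (RGD.Pos csA (isCartan 2))) (t : TG 2 F) (hut : u * t ∈ BG F) : cG F ⟨u * t, hut⟩ = t :=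
  (exists_ts (rgG F) (GG_gl _ _)).choose_spec.2 u hu t hut

theorem exists_dgl (t : TG 2 F) : ∃ d, t = ⟨dgl 2 F d, dgl_mem d⟩ := by
  obtain ⟨t, ht⟩ := t
  obtain ⟨d, rfl⟩ := id ht
  exact ⟨d, rfl⟩

/-- the linear characters as functions -/
noncomputable def lamC (ζ : Fˣ →* ℂˣ) (v : Fin 3 → ℤ) : TG 2 F → ℂ := fun t => (lam ζ v t : ℂ)

theorem isIrr_lamC (ζ : Fˣ →* ℂˣ) (v : Fin 3 → ℤ) : IsIrrCharacter (TG 2 F) (lamC ζ v) :=
  Linear.isIrrCharacter_hom (lam ζ v)

theorem act_lamC (ζ : Fˣ →* ℂˣ) (v : Fin 3 → ℤ) (w : (cA 2).Group) :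
    (tsG F).act w (lamC ζ v) = lamC ζ (fun i => v ((pm csA (isCartan 2) F w)⁻¹ i)) := by
  funext t
  obtain ⟨d, rfl⟩ := exists_dgl t
  rw [TS.act_apply]
  have h1 := pm_rp csA (isCartan 2) (gw_rp (rgG F) w) d
  have h2 : cT (TG 2 F) (gw (rgG F) w) ((tsG F).norm w) ⟨dgl 2 F d, dgl_mem d⟩ =
      ⟨dgl 2 F (fun i => d (pm csA (isCartan 2) F w i)), dgl_mem _⟩ := Subtype.ext h1
  rw [h2]
  unfold lamC
  rw [lam_dgl, lam_dgl]
  congr 1
  refine Eq.trans ?_ (Equiv.prod_comp (pm csA (isCartan 2) F w)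
    (fun j => ζ (d j) ^ v ((pm csA (isCartan 2) F w)⁻¹ j)))
  refine Finset.prod_congr rfl fun i _ => ?_
  have h3 : (pm csA (isCartan 2) F w)⁻¹ (pm csA (isCartan 2) F w i) = i :=
    (pm csA (isCartan 2) F w).symm_apply_apply i
  simp only [h3]

theorem lamC_congr {ζ : Fˣ →* ℂˣ} (hζ : ∀ x, ζ x ^ 3 = 1) {v v' : Fin 3 → ℤ} (hv : ∀ i, (3 : ℤ) ∣ v i - v' i) :
    lamC ζ v = lamC ζ v' := by
  funext t
  obtain ⟨d, rfl⟩ := exists_dgl t
  unfold lamC
  rw [lam_dgl, lam_dgl]
  congr 1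
  refine Finset.prod_congr rfl fun i _ => ?_
  obtain ⟨k, hk⟩ := hv i
  rw [show v i = v' i + 3 * k by omega, _root_.zpow_add, _root_.zpow_mul, show (3 : ℤ) = ((3 : ℕ) : ℤ) from rfl,
    _root_.zpow_natCast, hζ, _root_.one_zpow, mul_one]

theorem lamC_inj {ζ : Fˣ →* ℂˣ} (hζ : ∀ x, ζ x ^ 3 = 1) {x₀ : Fˣ} (hx₀ : ζ x₀ ≠ 1) {v v' : Fin 3 → ℤ}
    (h : lamC ζ v = lamC ζ v') (i : Fin 3) : (3 : ℤ) ∣ v i - v' i := by
  have h1 := congrFun h ⟨dgl 2 F (Pi.mulSingle i x₀), dgl_mem _⟩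
  unfold lamC at h1
  rw [lam_dgl, lam_dgl] at h1
  have h2 : ∀ v : Fin 3 → ℤ, ∏ j, ζ ((Pi.mulSingle i x₀ : Fin 3 → Fˣ) j) ^ v j = ζ x₀ ^ v i := by
    intro v
    rw [Finset.prod_eq_single i]
    · rw [Pi.mulSingle_eq_same]
    · intro j _ hj
      rw [Pi.mulSingle_eq_of_ne hj, map_one, _root_.one_zpow]
    · intro hi
      exact absurd (Finset.mem_univ i) hi
  have h3 : ζ x₀ ^ v i = ζ x₀ ^ v' i := Units.ext (by rw [← h2 v, ← h2 v']; exact h1)
  have h4 : ζ x₀ ^ (v i - v' i) = 1 := by rw [_root_.zpow_sub, h3, mul_inv_cancel]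
  have h5 : orderOf (ζ x₀) = 3 := orderOf_eq_prime (hζ x₀) hx₀
  have h6 := orderOf_dvd_iff_zpow_eq_one.2 h4
  rwa [h5] at h6

/-- the exponents `(1, 0, -1)` -/
def v0 : Fin 3 → ℤ := ![1, 0, -1]

variable [Fintype (GL (Fin 3) F)]

/-- the principal series character -/
noncomputable def RR (ζ : Fˣ →* ℂˣ) : GL (Fin 3) F → ℂ := TS.R (cG F) (lamC ζ v0)

theorem RR_inner {ζ : Fˣ →* ℂˣ} (hζ : ∀ x, ζ x ^ 3 = 1) {x₀ : Fˣ} (hx₀ : ζ x₀ ≠ 1) :
    classInner (RR ζ) (RR ζ) = 1 := by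
  classical
  have := Fintype.ofFinite (cA 2).Group
  unfold RR
  rw [(tsG F).inner (isIrr_lamC ζ v0) (isIrr_lamC ζ v0)]
  have h1 : (Finset.univ.filter fun w : (cA 2).Group => lamC ζ v0 = (tsG F).act w (lamC ζ v0)) = {1} := by
    ext w
    rw [Finset.mem_filter, Finset.mem_singleton]
    constructor
    · rintro ⟨-, hw⟩
      rw [act_lamC] at hw
      apply pm_eq_one csA (isCartan 2) (F := F)
      have h2 := fun i => lamC_inj hζ hx₀ hw i
      have key : ∀ σ : Equiv.Perm (Fin 3), (∀ i, (3 : ℤ) ∣ v0 i - v0 (σ⁻¹ i)) → σ = 1 := by decide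
      exact key _ h2
    · rintro rfl
      refine ⟨Finset.mem_univ _, ?_⟩
      rw [(tsG F).act_one (Core.isIrr_isClassFunction (isIrr_lamC ζ v0))]
  rw [h1, Finset.card_singleton, Nat.cast_one]

theorem RR_isCharacter (ζ : Fˣ →* ℂˣ) : IsCharacter (GL (Fin 3) F) (RR ζ) := by
  refine CharactersDeep.IndFun.isCharacter_indFun _ ?_
  exact Core.isIrr_isCharacter (Core.isIrr_comp _ (tsG F).surj (isIrr_lamC ζ v0))

theorem RR_isIrr {ζ : Fˣ →* ℂˣ} (hζ : ∀ x, ζ x ^ 3 = 1) {x₀ : Fˣ} (hx₀ : ζ x₀ ≠ 1) :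
    IsIrrCharacter (GL (Fin 3) F) (RR ζ) :=
  Core.isIrr_of_classInner_self (RR_isCharacter ζ) (RR_inner hζ hx₀)

theorem RR_act (ζ : Fˣ →* ℂˣ) (σ : Equiv.Perm (Fin 3)) :
    TS.R (cG F) (lamC ζ (fun i => v0 (σ i))) = RR ζ := by
  obtain ⟨w, hw⟩ := pm_surj csA (isCartan 2) (F := F) (by norm_num) σ⁻¹
  have h1 := (tsG F).R_act (isIrr_lamC ζ v0) w
  rw [act_lamC, hw, inv_inv] at h1
  exact h1

theorem U_le : RGD.Sup (fun x => (RGDTypeA.X F x).map SpecialLinearGroup.toGL) (RGD.Pos csA (isCartan 2)) ≤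
    (SpecialLinearGroup.toGL (n := Fin 3) (R := F)).range :=
  RGD.Sup_le fun _ _ => Subgroup.map_le_range _ _

theorem det_toGL (s : _root_.Matrix.SpecialLinearGroup (Fin 3) F) : GeneralLinearGroup.det (SpecialLinearGroup.toGL s) = 1 :=
  Units.ext s.2

theorem exists_ut {b : GL (Fin 3) F} (hb : b ∈ BG F) :
    ∃ u ∈ RGD.Sup (fun x => (RGDTypeA.X F x).map SpecialLinearGroup.toGL) (RGD.Pos csA (isCartan 2)),
      ∃ t ∈ TG 2 F, b = u * t := by
  have h1 : BG F ≤ RGD.Sup (fun x => (RGDTypeA.X F x).map SpecialLinearGroup.toGL) (RGD.Pos csA (isCartan 2)) ⊔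
      TG 2 F := by
    rw [sup_comm]
    exact le_rfl
  exact H967.K4.mem_sup _ _ (rgG F).T_le_normalizer_U (h1 hb)

theorem det_cG (b : BG F) : GeneralLinearGroup.det ((cG F b : TG 2 F) : GL (Fin 3) F) =
    GeneralLinearGroup.det (b : GL (Fin 3) F) := by
  obtain ⟨b, hb⟩ := b
  obtain ⟨u, hu, t, ht, rfl⟩ := exists_ut hb
  have h1 := cG_mul u hu ⟨t, ht⟩ hb
  rw [h1]
  obtain ⟨s, rfl⟩ := U_le hu
  rw [map_mul, det_toGL, one_mul]

theorem RR_eps {ζ : Fˣ →* ℂˣ} (hζ : ∀ x, ζ x ^ 3 = 1) (g : GL (Fin 3) F) :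
    RR ζ g * (ζ (GeneralLinearGroup.det g) : ℂ) = RR ζ g := by
  obtain ⟨σ, hσ⟩ : ∃ σ : Equiv.Perm (Fin 3), ∀ i, (3 : ℤ) ∣ v0 i + 1 - v0 (σ i) := by decide
  have h1 : RR ζ = TS.R (cG F) (lamC ζ (fun i => v0 i + 1)) := by
    rw [← RR_act ζ σ, lamC_congr hζ hσ]
  let ε : GL (Fin 3) F → ℂ := fun g => (ζ (GeneralLinearGroup.det g) : ℂ)
  have hε : IsClassFunction (GL (Fin 3) F) ε := by
    intro x y
    simp only [ε]
    have h0 : GeneralLinearGroup.det (y * x * y⁻¹) = GeneralLinearGroup.det x := by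
      rw [map_mul, map_mul, map_inv, mul_comm (GeneralLinearGroup.det y), mul_inv_cancel_right]
    rw [h0]
  have h2 := CharactersDeep.IndFun.indFun_mul (BG F) (lamC ζ v0 ∘ cG F) ε hε
  have h3 : (fun b : BG F => (lamC ζ v0 ∘ cG F) b * ε b) = lamC ζ (fun i => v0 i + 1) ∘ cG F := by
    funext b
    simp only [Function.comp_apply, ε]
    rw [← det_cG b]
    obtain ⟨d, hd⟩ := exists_dgl (cG F b)
    rw [hd]
    unfold lamC
    rw [lam_dgl, lam_dgl]
    have h4 : GeneralLinearGroup.det (dgl 2 F d) = ∏ i, d i := by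
      apply Units.ext
      change (Matrix.diagonal fun i => (d i : F)).det = _
      rw [Matrix.det_diagonal, Units.coe_prod]
    change ((∏ i, ζ (d i) ^ v0 i : ℂˣ) : ℂ) * (ζ (GeneralLinearGroup.det (dgl 2 F d)) : ℂ) = _
    rw [h4, map_prod, ← Units.val_mul, ← Finset.prod_mul_distrib]
    congr 1
    refine Finset.prod_congr rfl fun i _ => ?_
    rw [_root_.zpow_add_one]
  have h5 := congrFun h2 g
  rw [h3] at h5
  rw [Pi.mul_apply] at h5
  change RR ζ g * (ζ (GeneralLinearGroup.det g) : ℂ) = TS.R (cG F) (lamC ζ (fun i => v0 i + 1)) g at h5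
  rw [h5, ← h1]

theorem RR_one (ζ : Fˣ →* ℂˣ) : RR ζ 1 = ((BG F).index : ℂ) := by
  unfold RR TS.R
  rw [CharactersDeep.NormalInd.indFun_one]
  simp only [lamC, _root_.Function.comp_apply, _root_.Nat.reduceAdd, _root_.map_one, _root_.Units.val_one, _root_.mul_one]

theorem odd_index_BG : Odd (BG F).index := H967.K4.odd_index_of_le (rgG F) (GG_gl _ _) le_sup_right

theorem RR_sf (ζ : Fˣ →* ℂˣ) : SF (RR ζ) := by
  refine SF.ind ?_
  refine SF.comp (cG F) (SF.of_odd ?_ _)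
  rw [← Nat.coprime_two_right]
  exact (rgG F).tcop

/-- elements without conjugates in the Borel subgroup -/
theorem RR_zero (ζ : Fˣ →* ℂˣ) {g : GL (Fin 3) F} {ℓ : ℕ} (hℓ : ℓ.Prime) (hg : orderOf g = ℓ) (h2 : ℓ ≠ 2)
    (hT : ¬ ℓ ∣ Nat.card (TG 2 F)) : RR ζ g = 0 := by
  unfold RR TS.R
  rw [S0150.indFun_apply, Finset.sum_eq_zero, mul_zero]
  intro x _
  apply ext_apply_not_mem
  intro hb
  have ho : orderOf (x⁻¹ * g * x) = ℓ := by
    rw [← hg]
    have := MulEquiv.orderOf_eq (MulAut.conj x⁻¹) g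
    rwa [MulAut.conj_apply, inv_inv] at this
  have h3 : cG F ⟨_, hb⟩ = 1 := by
    rw [← orderOf_eq_one_iff]
    have h4 : orderOf (cG F ⟨_, hb⟩) ∣ ℓ := by
      rw [← ho, ← Subgroup.orderOf_mk _ hb]
      exact orderOf_map_dvd _ _
    rcases (Nat.dvd_prime hℓ).1 h4 with h5 | h5
    · exact h5
    · exfalso
      apply hT
      rw [← h5]
      exact orderOf_dvd_natCard _
  obtain ⟨k, hk⟩ := (tsG F).ker _ h3
  have h4 : ℓ ∣ 2 ^ k := by
    rw [← ho]
    exact orderOf_dvd_of_pow_eq_one hk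
  exact h2 ((Nat.prime_dvd_prime_iff_eq hℓ Nat.prime_two).1 (hℓ.dvd_of_dvd_pow h4))

theorem RR_class (ζ : Fˣ →* ℂˣ) (x g : GL (Fin 3) F) : RR ζ (x * g * x⁻¹) = RR ζ g :=
  Core.isCharacter_isClassFunction (RR_isCharacter ζ) g x

/-- scalar matrices -/
theorem RR_scalar (ζ : Fˣ →* ℂˣ) (a : Fˣ) (g : GL (Fin 3) F) : RR ζ (dgl 2 F (fun _ => a) * g) = RR ζ g := by
  have hz : ∀ x : GL (Fin 3) F, dgl 2 F (fun _ => a) * x = x * dgl 2 F (fun _ => a) := by
    intro x
    apply Units.ext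
    change Matrix.diagonal (fun _ => (a : F)) * (x : Matrix (Fin 3) (Fin 3) F) = _ * Matrix.diagonal (fun _ => (a : F))
    ext i j
    rw [Matrix.diagonal_mul, Matrix.mul_diagonal, mul_comm]
  unfold RR TS.R
  rw [S0150.indFun_apply, S0150.indFun_apply]
  (with_reducible congr 1)
  refine Finset.sum_congr rfl fun x _ => ?_
  have e : x⁻¹ * (dgl 2 F (fun _ => a) * g) * x = dgl 2 F (fun _ => a) * (x⁻¹ * g * x) := by
    rw [← mul_assoc, ← hz x⁻¹]
    group
  rw [e]
  have hzB : dgl 2 F (fun _ => a) ∈ BG F := (tsG F).le (dgl_mem _)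
  by_cases hb : x⁻¹ * g * x ∈ BG F
  · rw [ext_apply_mem _ _ _ (mul_mem hzB hb), ext_apply_mem _ _ _ hb]
    have e2 : (⟨dgl 2 F (fun _ => a) * (x⁻¹ * g * x), mul_mem hzB hb⟩ : BG F) =
        ⟨dgl 2 F (fun _ => a), hzB⟩ * ⟨x⁻¹ * g * x, hb⟩ := rfl
    rw [e2]
    change lamC ζ v0 (cG F _) = lamC ζ v0 (cG F _)
    rw [map_mul, (tsG F).ret _ (dgl_mem _)]
    unfold lamC
    rw [map_mul, lam_dgl]
    have h1 : ∏ i, ζ a ^ v0 i = 1 := by
      rw [Fin.prod_univ_three]
      simp [v0]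
    rw [h1, one_mul]
  · rw [ext_apply_not_mem _ _ _ hb, ext_apply_not_mem _ _ _ (fun h1 => hb ?_)]
    have := mul_mem (inv_mem hzB) h1
    rwa [inv_mul_cancel_left] at this

end ser

end Cfsg.Agent.H71.QE
end

-- part: H71/QE/GLAut
section
/-!
# S4547, task QE7 (helper71): the invariance of `RR ζ` under graph-field automorphisms
-/

set_option autoImplicit false
set_option linter.unusedSectionVars false

open scoped ComplexConjugate

namespace Cfsg.Agent.H71.QE

open Cfsg Matrix CoxeterSystem Cfsg.Agent.ChevalleyStructure.CoxeterGeom Cfsg.Agent.Tits.Roots Cfsg.Agent.Tits.Core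
open Cfsg.Agent.Nodes Cfsg.Agent.Nodes.Reps Cfsg.Agent.Nodes.BNOf Cfsg.Agent.Nodes.RGDLib Cfsg.Agent.Nodes.RootsA
  Cfsg.Agent.Nodes.RGDTypeA Cfsg.Agent.Nodes.Bruhat
open Cfsg.Agent.LieRecognition.BNCox (cA)
open Cfsg.Agent.Characters Cfsg.Agent.H726.Four Cfsg.Agent.H967.K4 Cfsg.Agent.OddOrderCharacters.Clifford
open Cfsg.Agent.TitsThree.KSideA (tv tv_of_ne tv_add tv_zero tv_neg)
open Cfsg.Agent.H183.OutPSL (fldGL itrGL)

universe u

section

variable {F : Type u} [Field F]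

/-- the antidiagonal permutation matrix -/
def PP (F : Type u) [Field F] : GL (Fin 3) F where
  val := !![0, 0, 1; 0, 1, 0; 1, 0, 0]
  inv := !![0, 0, 1; 0, 1, 0; 1, 0, 0]
  val_inv := by
    ext i j
    (revert i j; simp only [Matrix.mul_apply, Fin.sum_univ_three, Matrix.one_apply, _root_.Fin.forall_fin_succ, _root_.Matrix.of_apply, _root_.Matrix.cons_val', _root_.Matrix.cons_val_fin_one, Fin.isValue, _root_.Matrix.cons_val_zero, _root_.Matrix.cons_val_one, _root_.Matrix.cons_val, _root_.MulZeroClass.mul_zero, _root_.add_zero, _root_.mul_one, _root_.zero_add, _root_.Matrix.cons_val_succ, _root_.Fin.succ_zero_eq_one, _root_.Fin.succ_one_eq_two, _root_.IsEmpty.forall_iff, _root_.and_true, ↓reduceIte, _root_.zero_ne_one, Fin.reduceEq, _root_.and_self, _root_.Fin.succ_ne_zero, _root_.right_eq_ite_iff, _root_.imp_false, _root_.left_eq_ite_iff, _root_.one_ne_zero, _root_.Decidable.not_not, _root_.true_and, _root_.not_false_eq_true])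
  inv_val := by
    ext i j
    (revert i j; simp only [Matrix.mul_apply, Fin.sum_univ_three, Matrix.one_apply, _root_.Fin.forall_fin_succ, _root_.Matrix.of_apply, _root_.Matrix.cons_val', _root_.Matrix.cons_val_fin_one, Fin.isValue, _root_.Matrix.cons_val_zero, _root_.Matrix.cons_val_one, _root_.Matrix.cons_val, _root_.MulZeroClass.mul_zero, _root_.add_zero, _root_.mul_one, _root_.zero_add, _root_.Matrix.cons_val_succ, _root_.Fin.succ_zero_eq_one, _root_.Fin.succ_one_eq_two, _root_.IsEmpty.forall_iff, _root_.and_true, ↓reduceIte, _root_.zero_ne_one, Fin.reduceEq, _root_.and_self, _root_.Fin.succ_ne_zero, _root_.right_eq_ite_iff, _root_.imp_false, _root_.left_eq_ite_iff, _root_.one_ne_zero, _root_.Decidable.not_not, _root_.true_and, _root_.not_false_eq_true])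

theorem PP_inv : (PP F)⁻¹ = PP F := Units.ext rfl

theorem PP_apply (i j : Fin 3) : (PP F : Matrix (Fin 3) (Fin 3) F) i j = if j = Fin.rev i then 1 else 0 := by
  fin_cases i <;> fin_cases j <;> rfl

theorem mul_PP (M : Matrix (Fin 3) (Fin 3) F) (i j : Fin 3) :
    ((PP F : Matrix (Fin 3) (Fin 3) F) * M * (PP F : Matrix (Fin 3) (Fin 3) F)) i j = M (Fin.rev i) (Fin.rev j) := by
  have h1 : ∀ (M : Matrix (Fin 3) (Fin 3) F) (i j : Fin 3), ((PP F : Matrix (Fin 3) (Fin 3) F) * M) i j = M (Fin.rev i) j := by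
    intro M i j
    rw [Matrix.mul_apply, Finset.sum_eq_single (Fin.rev i)]
    · rw [PP_apply, if_pos rfl, one_mul]
    · intro k _ hk
      rw [PP_apply, if_neg hk, zero_mul]
    · intro h
      exact absurd (Finset.mem_univ _) h
  rw [Matrix.mul_apply, Finset.sum_eq_single (Fin.rev j)]
  · rw [h1, PP_apply, if_pos (Fin.rev_rev j).symm, mul_one]
  · intro k _ hk
    rw [PP_apply, if_neg (fun e => hk (by rw [e, Fin.rev_rev])), mul_zero]
  · intro h
    exact absurd (Finset.mem_univ _) h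

theorem itrGL_mul (A B : GL (Fin 3) F) : itrGL (A * B) = itrGL A * itrGL B := by
  apply Units.ext
  change (((A * B)⁻¹ : GL (Fin 3) F) : Matrix (Fin 3) (Fin 3) F)ᵀ = ((A⁻¹ : GL (Fin 3) F) : Matrix (Fin 3) (Fin 3) F)ᵀ *
    ((B⁻¹ : GL (Fin 3) F) : Matrix (Fin 3) (Fin 3) F)ᵀ
  rw [_root_.mul_inv_rev, Units.val_mul, Matrix.transpose_mul]

theorem itrGL_itrGL (A : GL (Fin 3) F) : itrGL (itrGL A) = A := by
  apply Units.ext
  change ((A : Matrix (Fin 3) (Fin 3) F)ᵀ)ᵀ = A
  rw [Matrix.transpose_transpose]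

/-- inverse transpose as an automorphism -/
def itA (F : Type u) [Field F] : MulAut (GL (Fin 3) F) where
  toFun := itrGL
  invFun := itrGL
  left_inv := itrGL_itrGL
  right_inv := itrGL_itrGL
  map_mul' := itrGL_mul

/-- the graph-field automorphism preserving the upper triangular matrices -/
def alp (φ : F ≃+* F) : MulAut (GL (Fin 3) F) := MulAut.conj (PP F) * fldGL φ * itA F

theorem alp_apply (φ : F ≃+* F) (g : GL (Fin 3) F) : alp φ g = PP F * fldGL φ (itrGL g) * (PP F)⁻¹ := rfl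

theorem alp_val (φ : F ≃+* F) (g : GL (Fin 3) F) (i j : Fin 3) :
    (alp φ g : Matrix (Fin 3) (Fin 3) F) i j = φ (((g⁻¹ : GL (Fin 3) F) : Matrix (Fin 3) (Fin 3) F) (Fin.rev j) (Fin.rev i)) := by
  rw [alp_apply, PP_inv, Units.val_mul, Units.val_mul, mul_PP]
  rfl

theorem alp_dgl (φ : F ≃+* F) (d : Fin 3 → Fˣ) :
    alp φ (dgl 2 F d) = dgl 2 F (fun i => (Units.map (φ : F →* F) (d (Fin.rev i)))⁻¹) := by
  apply Units.ext
  ext i j
  rw [alp_val, ← map_inv, dgl_val, dgl_val]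
  by_cases hij : i = j
  · rw [hij, Matrix.diagonal_apply_eq, Matrix.diagonal_apply_eq]
    simp
  · rw [Matrix.diagonal_apply_ne _ hij, Matrix.diagonal_apply_ne _ (fun e => hij (Fin.rev_injective e).symm), map_zero]

theorem tv_inv (a b : Fin 3) (s : F) : (tv a b s)⁻¹ = tv a b (-s) := by
  rw [inv_eq_iff_mul_eq_one, ← tv_add, add_neg_cancel, tv_zero]

theorem alp_tv (φ : F ≃+* F) {a b : Fin 3} (hab : a ≠ b) (s : F) :
    alp φ (SpecialLinearGroup.toGL (tv a b s)) = SpecialLinearGroup.toGL (tv (Fin.rev b) (Fin.rev a) (-(φ s))) := by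
  apply Units.ext
  ext i j
  rw [alp_val, ← map_inv, tv_inv]
  change φ ((tv a b (-s)).1 (Fin.rev j) (Fin.rev i)) = (tv (Fin.rev b) (Fin.rev a) (-(φ s))).1 i j
  rw [tv_val hab, tv_val (fun e => hab (Fin.rev_injective e).symm)]
  simp only [Matrix.add_apply, Matrix.one_apply, Matrix.single_apply, map_add]
  congr 1
  · by_cases hij : i = j
    · rw [if_pos hij, if_pos (by rw [hij]), map_one]
    · rw [if_neg hij, if_neg (fun e => hij (Fin.rev_injective e).symm), map_zero]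
  · by_cases h1 : a = Fin.rev j ∧ b = Fin.rev i
    · rw [if_pos h1, if_pos ⟨by rw [h1.2, Fin.rev_rev], by rw [h1.1, Fin.rev_rev]⟩, map_neg]
    · rw [if_neg h1, if_neg (fun h2 => h1 ⟨by rw [← h2.2, Fin.rev_rev], by rw [← h2.1, Fin.rev_rev]⟩), map_zero]

variable [Finite F] [CharP F 2]

theorem alp_T (φ : F ≃+* F) : ∀ t ∈ TG 2 F, alp φ t ∈ TG 2 F := by
  rintro _ ⟨d, rfl⟩
  rw [alp_dgl]
  exact dgl_mem _

theorem alp_B_le (φ : F ≃+* F) : (BG F).map (alp φ).toMonoidHom ≤ BG F := by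
  rw [Subgroup.map_le_iff_le_comap]
  refine sup_le ?_ (RGD.Sup_le ?_)
  · intro t ht
    exact le_sup_left (a := TG 2 F) (alp_T φ t ht)
  · rintro x ⟨hx, h0⟩
    obtain ⟨a, b, hab, rfl⟩ := exists_of_isRoot csA (isCartan 2) hx
    rw [X_rtA hab]
    rintro _ ⟨_, ⟨s, rfl⟩, rfl⟩
    have h1 : a ≤ b := rtA_nonneg_iff.1 h0
    have hab' : Fin.rev b ≠ Fin.rev a := fun e => hab (Fin.rev_injective e).symm
    have h2 : rtA (Fin.rev b) (Fin.rev a) ∈ RGD.Pos csA (isCartan 2) :=
      ⟨isRoot_rtA csA (isCartan 2) hab', rtA_nonneg_iff.2 (Fin.rev_le_rev.2 h1)⟩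
    refine le_sup_right (a := TG 2 F) (RGD.le_Sup h2 ?_)
    rw [X_rtA hab']
    exact ⟨_, ⟨-(φ s), rfl⟩, (alp_tv φ hab s).symm⟩

theorem alp_B (φ : F ≃+* F) (x : GL (Fin 3) F) : alp φ x ∈ BG F ↔ x ∈ BG F := by
  have hfin : Finite (GL (Fin 3) F) := inferInstance
  have h1 : (BG F).map (alp φ).toMonoidHom = BG F := by
    apply Subgroup.eq_of_le_of_card_ge (alp_B_le φ)
    rw [Nat.card_congr ((BG F).equivMapOfInjective (alp φ).toMonoidHom (alp φ).injective).toEquiv]
  constructor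
  · intro h2
    rw [← h1] at h2
    obtain ⟨y, hy, e⟩ := h2
    rwa [← (alp φ).injective e]
  · intro h2
    rw [← h1]
    exact ⟨x, h2, rfl⟩

variable [Fintype (GL (Fin 3) F)]

/-- **The invariance.** -/
theorem RR_alp {ζ : Fˣ →* ℂˣ} (φ : F ≃+* F)
    (hφ : (∀ x : Fˣ, ζ (Units.map (φ : F →* F) x) = ζ x) ∨ (∀ x : Fˣ, ζ (Units.map (φ : F →* F) x) = (ζ x)⁻¹))
    (g : GL (Fin 3) F) : RR ζ (alp φ g) = RR ζ g := by
  rcases hφ with hφ | hφ
  · refine R_aut (tsG F) (alp φ) (alp_B φ) (alp_T φ) _ _ ?_ g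
    intro t
    obtain ⟨d, rfl⟩ := exists_dgl t
    unfold lamC
    congr 1
    have e : (⟨alp φ (dgl 2 F d), alp_T φ _ (dgl_mem d)⟩ : TG 2 F) =
        ⟨dgl 2 F (fun i => (Units.map (φ : F →* F) (d (Fin.rev i)))⁻¹), dgl_mem _⟩ := Subtype.ext (alp_dgl φ d)
    change lam ζ v0 ⟨alp φ (dgl 2 F d), alp_T φ _ (dgl_mem d)⟩ = _
    rw [e, lam_dgl, lam_dgl, Fin.prod_univ_three, Fin.prod_univ_three]
    simp only [map_inv, hφ, v0]
    change (ζ (d 2))⁻¹ ^ (1 : ℤ) * (ζ (d 1))⁻¹ ^ (0 : ℤ) * (ζ (d 0))⁻¹ ^ (-1 : ℤ) =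
      ζ (d 0) ^ (1 : ℤ) * ζ (d 1) ^ (0 : ℤ) * ζ (d 2) ^ (-1 : ℤ)
    simp [mul_comm]
  · have h1 : RR ζ g = TS.R (cG F) (lamC ζ (fun i => v0 (Fin.revPerm i))) g := by rw [RR_act]
    rw [h1]
    refine R_aut (tsG F) (alp φ) (alp_B φ) (alp_T φ) _ _ ?_ g
    intro t
    obtain ⟨d, rfl⟩ := exists_dgl t
    unfold lamC
    congr 1
    have e : (⟨alp φ (dgl 2 F d), alp_T φ _ (dgl_mem d)⟩ : TG 2 F) =
        ⟨dgl 2 F (fun i => (Units.map (φ : F →* F) (d (Fin.rev i)))⁻¹), dgl_mem _⟩ := Subtype.ext (alp_dgl φ d)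
    change lam ζ v0 ⟨alp φ (dgl 2 F d), alp_T φ _ (dgl_mem d)⟩ = _
    rw [e, lam_dgl, lam_dgl, Fin.prod_univ_three, Fin.prod_univ_three]
    simp only [map_inv, hφ, v0, inv_inv]
    change (ζ (d 2)) ^ (1 : ℤ) * (ζ (d 1)) ^ (0 : ℤ) * (ζ (d 0)) ^ (-1 : ℤ) =
      ζ (d 0) ^ (-1 : ℤ) * ζ (d 1) ^ (0 : ℤ) * ζ (d 2) ^ (1 : ℤ)
    simp [mul_comm]

end

end Cfsg.Agent.H71.QE
end

-- part: H71/QE/Split
section
/-!
# S4547, task QE7 (helper71): the splitting of the series of the cubic character in `PSL_3(F)`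

* `exists_Phi` : the character `Φ` of `PSL_3(F)` with `Φ (pr g) = RR ζ g`;
* `Phi_aut` : its invariance under graph-field automorphisms;
* `exists_ne` : a constituent of `Φ` is not invariant under `PGL_3(F)`;
* `val_zero` : its value at an element of prime order without conjugates in the Borel subgroup.
-/

set_option autoImplicit false
set_option linter.unusedSectionVars false

open scoped ComplexConjugate

namespace Cfsg.Agent.H71.QE

open Cfsg Matrix CoxeterSystem Cfsg.Agent.ChevalleyStructure.CoxeterGeom Cfsg.Agent.Tits.Roots Cfsg.Agent.Tits.Core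
open Cfsg.Agent.Nodes Cfsg.Agent.Nodes.BNOf Cfsg.Agent.Nodes.RGDLib Cfsg.Agent.Nodes.RootsA
  Cfsg.Agent.Nodes.Bruhat
open Cfsg.Agent.LieRecognition.BNCox (cA)
open Cfsg.Agent.Characters Cfsg.Agent.H726.Four Cfsg.Agent.H967.K4 Cfsg.Agent.OddOrderCharacters.Clifford
open Cfsg.Agent.H183.OutPSL (fldGL itrGL)
open Cfsg.Agent.ClassicalGeometry.AutPSL.Root Cfsg.Agent.ClassicalGeometry.AutPSL.Auto
open Cfsg.Agent.H307.QE (OS)

universe u

section

variable {F : Type u} [Field F]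

theorem toGL_cj (A : GL (Fin 3) F) (g : _root_.Matrix.SpecialLinearGroup (Fin 3) F) :
    SpecialLinearGroup.toGL (cj A g) = A * SpecialLinearGroup.toGL g * A⁻¹ := Units.ext rfl

theorem toGL_fld (φ : F ≃+* F) (g : _root_.Matrix.SpecialLinearGroup (Fin 3) F) :
    SpecialLinearGroup.toGL (fld φ g) = fldGL φ (SpecialLinearGroup.toGL g) := Units.ext rfl

theorem toGL_itr (g : _root_.Matrix.SpecialLinearGroup (Fin 3) F) :
    SpecialLinearGroup.toGL (itr g) = itrGL (SpecialLinearGroup.toGL g) := by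
  apply Units.ext
  change ((g⁻¹ : _root_.Matrix.SpecialLinearGroup (Fin 3) F) : Matrix (Fin 3) (Fin 3) F)ᵀ =
    (((SpecialLinearGroup.toGL g)⁻¹ : GL (Fin 3) F) : Matrix (Fin 3) (Fin 3) F)ᵀ
  rw [← map_inv]
  rfl

/-- scalar matrices are central -/
theorem dgl_scalar_comm (a : Fˣ) (x : GL (Fin 3) F) : dgl 2 F (fun _ => a) * x = x * dgl 2 F (fun _ => a) := by
  apply Units.ext
  change Matrix.diagonal (fun _ => (a : F)) * (x : Matrix (Fin 3) (Fin 3) F) = _ * Matrix.diagonal (fun _ => (a : F))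
  ext i j
  rw [Matrix.diagonal_mul, Matrix.mul_diagonal, mul_comm]

theorem exists_scalar {g g' : _root_.Matrix.SpecialLinearGroup (Fin 3) F} (h : (pr g : ProjectiveSpecialLinearGroup (Fin 3) F) = pr g') :
    ∃ a : Fˣ, SpecialLinearGroup.toGL g' = dgl 2 F (fun _ => a) * SpecialLinearGroup.toGL g := by
  have h1 : g⁻¹ * g' ∈ Subgroup.center (_root_.Matrix.SpecialLinearGroup (Fin 3) F) := QuotientGroup.eq.1 h
  obtain ⟨r, hr, hr'⟩ := Matrix.SpecialLinearGroup.mem_center_iff.1 h1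
  have hr0 : r ≠ 0 := by
    rintro rfl
    simp at hr
  refine ⟨Units.mk0 r hr0, ?_⟩
  have h2 : SpecialLinearGroup.toGL (g⁻¹ * g') = dgl 2 F (fun _ => Units.mk0 r hr0) := Units.ext hr'.symm
  rw [map_mul, map_inv, inv_mul_eq_iff_eq_mul] at h2
  rw [h2, dgl_scalar_comm]

variable [Finite F] [CharP F 2] [Fintype (GL (Fin 3) F)]

theorem exists_Phi (ζ : Fˣ →* ℂˣ) : ∃ Φ : ProjectiveSpecialLinearGroup (Fin 3) F → ℂ,
    ∀ g : _root_.Matrix.SpecialLinearGroup (Fin 3) F, Φ (pr g) = RR ζ (SpecialLinearGroup.toGL g) := by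
  refine ⟨fun x => RR ζ (SpecialLinearGroup.toGL (Function.surjInv pr_surjective x)), fun g => ?_⟩
  have h1 : pr (Function.surjInv pr_surjective (pr g)) = (pr g : ProjectiveSpecialLinearGroup (Fin 3) F) :=
    Function.surjInv_eq pr_surjective (pr g)
  obtain ⟨a, ha⟩ := exists_scalar h1
  change RR ζ (SpecialLinearGroup.toGL _) = _
  rw [ha, RR_scalar]

variable {ζ : Fˣ →* ℂˣ} {Φ : ProjectiveSpecialLinearGroup (Fin 3) F → ℂ}
  (hΦ : ∀ g : _root_.Matrix.SpecialLinearGroup (Fin 3) F, Φ (pr g) = RR ζ (SpecialLinearGroup.toGL g))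

include hΦ

theorem Phi_isCharacter : IsCharacter (ProjectiveSpecialLinearGroup (Fin 3) F) Φ := by
  refine H299.K4.Orb.isCharacter_of_comp pr pr_surjective ?_
  have h1 : Φ ∘ pr = RR ζ ∘ (SpecialLinearGroup.toGL (n := Fin 3) (R := F)) := funext hΦ
  rw [h1]
  exact Core.isCharacter_comp _ (RR_isCharacter ζ)

theorem Phi_one : Φ 1 = ((BG F).index : ℂ) := by
  have h1 := hΦ 1
  rw [map_one, map_one, RR_one] at h1
  exact h1

theorem Phi_sf : SF Φ := by
  have : Finite (ProjectiveSpecialLinearGroup (Fin 3) F) := Quotient.finite _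
  obtain ⟨k, hk⟩ := exists_cube (_root_.Matrix.SpecialLinearGroup (Fin 3) F)
  have hk' := Cube.of_surjective (pr : _root_.Matrix.SpecialLinearGroup (Fin 3) F →* ProjectiveSpecialLinearGroup (Fin 3) F)
    pr_surjective hk
  have h1 : SF (RR ζ ∘ (SpecialLinearGroup.toGL (n := Fin 3) (R := F))) := SF.comp _ (RR_sf ζ)
  refine SF.of_pow hk' fun x => ?_
  obtain ⟨g, rfl⟩ := pr_surjective x
  rw [← map_pow, hΦ, hΦ]
  exact h1.apply_pow hk g

/-- invariance under graph-field automorphisms -/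
theorem Phi_aut (φ : F ≃+* F)
    (hφ : (∀ x : Fˣ, ζ (Units.map (φ : F →* F) x) = ζ x) ∨ (∀ x : Fˣ, ζ (Units.map (φ : F →* F) x) = (ζ x)⁻¹))
    (A : GL (Fin 3) F) (x : ProjectiveSpecialLinearGroup (Fin 3) F) : Φ (_root_.Cfsg.Agent.ClassicalGeometry.AutPSL.Auto.lift (cj A * fld φ * itr) x) = Φ x := by
  obtain ⟨g, rfl⟩ := pr_surjective x
  rw [lift_pr, hΦ, hΦ, MulAut.mul_apply, MulAut.mul_apply, toGL_cj, toGL_fld, toGL_itr, RR_class,
    ← RR_class ζ (PP F) (fldGL φ _)]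
  exact RR_alp φ hφ _

end

section

variable {F : Type u} [Field F] [Finite F] [CharP F 2] [Fintype (GL (Fin 3) F)] {ζ : Fˣ →* ℂˣ}

theorem det_dgl (t : Fin 3 → Fˣ) : GeneralLinearGroup.det (dgl 2 F t) = ∏ i, t i := by
  apply Units.ext
  change (Matrix.diagonal fun i => (t i : F)).det = _
  rw [Matrix.det_diagonal, Units.coe_prod]

/-- `ζ ∘ det` -/
def epsZ (ζ : Fˣ →* ℂˣ) : GL (Fin 3) F →* ℂˣ := ζ.comp GeneralLinearGroup.det

theorem epsZ_apply (g : GL (Fin 3) F) : epsZ ζ g = ζ (GeneralLinearGroup.det g) := rfl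

theorem RR_off (hζ : ∀ x, ζ x ^ 3 = 1) (g : GL (Fin 3) F) (hg : g ∉ (epsZ ζ).ker) : RR ζ g = 0 := by
  have h1 := RR_eps hζ g
  by_contra h2
  apply hg
  rw [MonoidHom.mem_ker]
  have h3 : (ζ (GeneralLinearGroup.det g) : ℂ) = 1 := mul_left_cancel₀ h2 (by rw [h1, mul_one])
  exact Units.ext h3

theorem index_epsZ (hζ : ∀ x, ζ x ^ 3 = 1) {x₀ : Fˣ} (hx₀ : ζ x₀ ≠ 1) : (epsZ ζ).ker.index = 3 := by
  rw [Subgroup.index_ker]
  have h1 : (epsZ ζ).range ≤ rootsOfUnity 3 ℂ := by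
    rintro _ ⟨g, rfl⟩
    exact hζ _
  have h2 : Nat.card (rootsOfUnity 3 ℂ) = 3 := Complex.card_rootsOfUnity 3
  have h3 : Nat.card (epsZ ζ).range ∣ 3 := by
    have h4 := Subgroup.card_dvd_of_le h1
    rwa [h2] at h4
  rcases (Nat.dvd_prime Nat.prime_three).1 h3 with h4 | h4
  · exfalso
    rw [Subgroup.card_eq_one] at h4
    have h5 : epsZ ζ (dgl 2 F (Pi.mulSingle 0 x₀)) ∈ (epsZ ζ).range := ⟨_, rfl⟩
    rw [h4, Subgroup.mem_bot] at h5
    apply hx₀
    have h6 : GeneralLinearGroup.det (dgl 2 F (Pi.mulSingle 0 x₀)) = x₀ := by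
      rw [det_dgl, Fin.prod_univ_three]
      simp
    rw [← h6]
    exact h5
  · exact h4

theorem norm_epsZ (hζ : ∀ x, ζ x ^ 3 = 1) {x₀ : Fˣ} (hx₀ : ζ x₀ ≠ 1) [Fintype (epsZ ζ (F := F)).ker] :
    classInner (fun g : (epsZ ζ).ker => RR ζ g) (fun g : (epsZ ζ).ker => RR ζ g) = 3 := by
  have h1 := RR_inner hζ hx₀
  rw [Core.classInner_def, sum_eq_sum_subgroup (epsZ ζ).ker _ (fun g hg => by rw [RR_off hζ g hg, zero_mul])] at h1
  rw [Core.classInner_def]
  have h2 := (epsZ ζ (F := F)).ker.card_mul_index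
  rw [index_epsZ hζ hx₀] at h2
  have h3 : (Nat.card (GL (Fin 3) F) : ℂ) = Nat.card (epsZ ζ (F := F)).ker * 3 := by exact_mod_cast h2.symm
  rw [h3, mul_inv] at h1
  have h4 : (Nat.card (epsZ ζ (F := F)).ker : ℂ) ≠ 0 := Core.card_ne_zero_complex
  linear_combination 3 * h1

/-- scalars -/
noncomputable def scl : Fˣ →* GL (Fin 3) F := (dgl 2 F).comp (Pi.constMonoidHom (Fin 3) Fˣ)

theorem scl_apply (a : Fˣ) : scl a = dgl 2 F (fun _ => a) := rfl

theorem scl_comm (a : Fˣ) (x : GL (Fin 3) F) : Commute (scl a) x := dgl_scalar_comm a x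

theorem det_scl (a : Fˣ) : GeneralLinearGroup.det (scl a : GL (Fin 3) F) = a ^ 3 := by
  rw [scl_apply, det_dgl, Fin.prod_const]

/-- the parametrisation `SL_3 × Fˣ → GL_3` -/
noncomputable def parG : _root_.Matrix.SpecialLinearGroup (Fin 3) F × Fˣ →* GL (Fin 3) F where
  toFun p := scl p.2 * SpecialLinearGroup.toGL p.1
  map_one' := by rw [Prod.snd_one, Prod.fst_one, map_one, map_one, one_mul]
  map_mul' p p' := by
    rw [Prod.snd_mul, Prod.fst_mul, map_mul, map_mul]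
    exact (scl_comm p'.2 (SpecialLinearGroup.toGL p.1)).mul_mul_mul_comm _ _

/-- the parametrisation `SL_3 × Fˣ → ker (ζ ∘ det)` -/
noncomputable def parZ (hζ : ∀ x, ζ x ^ 3 = 1) : _root_.Matrix.SpecialLinearGroup (Fin 3) F × Fˣ →* (epsZ ζ (F := F)).ker :=
  parG.codRestrict (epsZ ζ (F := F)).ker (fun p => by
    rw [MonoidHom.mem_ker, epsZ_apply]
    change ζ (GeneralLinearGroup.det (scl p.2 * SpecialLinearGroup.toGL p.1)) = 1
    rw [map_mul, det_scl, det_toGL, mul_one, map_pow, hζ])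

theorem parZ_coe (hζ : ∀ x, ζ x ^ 3 = 1) (p : _root_.Matrix.SpecialLinearGroup (Fin 3) F × Fˣ) :
    ((parZ hζ p : (epsZ ζ (F := F)).ker) : GL (Fin 3) F) = dgl 2 F (fun _ => p.2) * SpecialLinearGroup.toGL p.1 := rfl

theorem parZ_surjective (hζ : ∀ x, ζ x ^ 3 = 1) {x₀ : Fˣ} (hx₀ : ζ x₀ ≠ 1) :
    Function.Surjective (parZ hζ (F := F)) := by
  rintro ⟨g, hg⟩
  rw [MonoidHom.mem_ker, epsZ_apply] at hg
  obtain ⟨y, hy⟩ := IsCyclic.exists_generator (α := Fˣ)
  obtain ⟨m, hm⟩ := Subgroup.mem_zpowers_iff.1 (hy (GeneralLinearGroup.det g))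
  have hy1 : ζ y ≠ 1 := by
    intro h1
    apply hx₀
    obtain ⟨j, rfl⟩ := Subgroup.mem_zpowers_iff.1 (hy x₀)
    rw [map_zpow, h1, _root_.one_zpow]
  have ho : orderOf (ζ y) = 3 := orderOf_eq_prime (hζ y) hy1
  rw [← hm, map_zpow] at hg
  have h3 := orderOf_dvd_iff_zpow_eq_one.2 hg
  rw [ho] at h3
  obtain ⟨j, hj⟩ := h3
  have hdet : GeneralLinearGroup.det g = (y ^ j) ^ 3 := by
    rw [← hm, hj, ← zpow_natCast, ← _root_.zpow_mul, mul_comm]
  have hdet2 : GeneralLinearGroup.det ((dgl 2 F (fun _ => y ^ j))⁻¹ * g) = 1 := by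
    rw [map_mul, map_inv, det_dgl, Fin.prod_const, hdet, inv_mul_cancel]
  let s : _root_.Matrix.SpecialLinearGroup (Fin 3) F := ⟨((dgl 2 F (fun _ => y ^ j))⁻¹ * g : GL (Fin 3) F), congrArg Units.val hdet2⟩
  have h1 : SpecialLinearGroup.toGL s = (dgl 2 F (fun _ => y ^ j))⁻¹ * g := Units.ext rfl
  refine ⟨(s, y ^ j), ?_⟩
  apply Subtype.ext
  rw [parZ_coe, h1, mul_inv_cancel_left]

variable {Φ : ProjectiveSpecialLinearGroup (Fin 3) F → ℂ}
  (hΦ : ∀ g : _root_.Matrix.SpecialLinearGroup (Fin 3) F, Φ (pr g) = RR ζ (SpecialLinearGroup.toGL g))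

/-- if `RR ζ` is a multiple of an irreducible character on `SL_3`, then `3` is a square -/
theorem no_multiple (hζ : ∀ x, ζ x ^ 3 = 1) {x₀ : Fˣ} (hx₀ : ζ x₀ ≠ 1)
    [Fintype (ProjectiveSpecialLinearGroup (Fin 3) F)] {χ : ProjectiveSpecialLinearGroup (Fin 3) F → ℂ}
    (hχ : IsIrrCharacter _ χ) (c : ℕ)
    (hval : ∀ s : _root_.Matrix.SpecialLinearGroup (Fin 3) F, RR ζ (SpecialLinearGroup.toGL s) = (c : ℂ) * χ (pr s)) : False := by
  classical
  have := Fintype.ofFinite (_root_.Matrix.SpecialLinearGroup (Fin 3) F)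
  have : Fintype Fˣ := Fintype.ofFinite _
  have : Fintype (epsZ ζ (F := F)).ker := Fintype.ofFinite _
  have h5 := H693.Defl.classInner_comp_surj (parZ hζ) (parZ_surjective hζ hx₀)
    (fun g : (epsZ ζ (F := F)).ker => RR ζ g) (fun g : (epsZ ζ (F := F)).ker => RR ζ g)
  rw [norm_epsZ hζ hx₀] at h5
  have h6 : (fun p => (fun g : (epsZ ζ (F := F)).ker => RR ζ g) (parZ hζ p)) =
      fun p : _root_.Matrix.SpecialLinearGroup (Fin 3) F × Fˣ =>
      ((c : ℂ) • χ) ((pr.comp (MonoidHom.fst (_root_.Matrix.SpecialLinearGroup (Fin 3) F) Fˣ)) p) := by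
    funext p
    change RR ζ (dgl 2 F (fun _ => p.2) * SpecialLinearGroup.toGL p.1) = (c : ℂ) * χ (pr p.1)
    rw [RR_scalar, hval]
  have hsur : Function.Surjective (pr.comp (MonoidHom.fst (_root_.Matrix.SpecialLinearGroup (Fin 3) F) Fˣ)) := by
    intro x
    obtain ⟨g, rfl⟩ := pr_surjective x
    exact ⟨(g, 1), rfl⟩
  rw [h6, H693.Defl.classInner_comp_surj _ hsur, Core.classInner_smul_left, Core.classInner_smul_right,
    Core.classInner_irr_self hχ, Complex.conj_natCast, mul_one] at h5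
  have h7 : c * c = 3 := by exact_mod_cast h5
  have h8 : c ≤ 1 ∨ 2 ≤ c := by omega
  rcases h8 with h8 | h8
  · nlinarith
  · nlinarith only [h7, h8]

include hΦ

/-- **An invariant constituent.** -/
theorem exists_ne (hζ : ∀ x, ζ x ^ 3 = 1) {x₀ : Fˣ} (hx₀ : ζ x₀ ≠ 1)
    [Fintype (ProjectiveSpecialLinearGroup (Fin 3) F)] {χ : ProjectiveSpecialLinearGroup (Fin 3) F → ℂ}
    (hχ : IsIrrCharacter _ χ) (hne : classInner Φ χ ≠ 0) :
    ∃ (E : GL (Fin 3) F) (x : ProjectiveSpecialLinearGroup (Fin 3) F), χ (_root_.Cfsg.Agent.ClassicalGeometry.AutPSL.Auto.lift (cj E) x) ≠ χ x := by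
  classical
  by_contra hcon
  push Not at hcon
  have := Fintype.ofFinite (_root_.Matrix.SpecialLinearGroup (Fin 3) F)
  let N : Subgroup (GL (Fin 3) F) := (SpecialLinearGroup.toGL (n := Fin 3) (R := F)).range
  have hN : N.Normal := by
    constructor
    rintro _ ⟨s, rfl⟩ g
    exact ⟨cj g s, toGL_cj g s⟩
  have : Fintype N := Fintype.ofFinite _
  let e : _root_.Matrix.SpecialLinearGroup (Fin 3) F ≃* N := MonoidHom.ofInjective (toGL_injective (n := 2) (F := F))
  have he : ∀ s, ((e s : N) : GL (Fin 3) F) = SpecialLinearGroup.toGL s := fun s => rfl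
  let pe : N →* ProjectiveSpecialLinearGroup (Fin 3) F := pr.comp e.symm.toMonoidHom
  have hpe : ∀ s, pe (e s) = pr s := by
    intro s
    change pr (e.symm (e s)) = _
    rw [e.symm_apply_apply]
  have hpes : Function.Surjective pe := by
    intro x
    obtain ⟨g, rfl⟩ := pr_surjective x
    exact ⟨e g, hpe g⟩
  have hχN : IsIrrCharacter N (χ ∘ pe) := Core.isIrr_comp pe hpes hχ
  have hχe : ∀ s, (χ ∘ pe) (e s) = χ (pr s) := fun s => congrArg χ (hpe s)
  have hinv : ∀ g : GL (Fin 3) F, (χ ∘ pe) ∘ (MulAut.conjNormal g : MulAut N) = χ ∘ pe := by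
    intro g
    funext n
    obtain ⟨s, rfl⟩ := e.surjective n
    have h1 : (MulAut.conjNormal g : MulAut N) (e s) = e (cj g s) := by
      apply Subtype.ext
      rw [MulAut.conjNormal_apply, he, he, toGL_cj]
    have h2 : ((χ ∘ pe) ∘ (MulAut.conjNormal g : MulAut N)) (e s) = (χ ∘ pe) (e (cj g s)) := congrArg (χ ∘ pe) h1
    rw [h2, hχe, hχe, ← lift_pr, hcon]
  have hin : classInner (fun n : N => RR ζ n) (χ ∘ pe) = classInner Φ χ := by
    rw [← H693.Defl.classInner_comp_surj (pr : _root_.Matrix.SpecialLinearGroup (Fin 3) F →* _) pr_surjective Φ χ,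
      ← H693.Defl.classInner_comp_surj e.toMonoidHom e.surjective (fun n : N => RR ζ n) (χ ∘ pe)]
    congr 1
    · funext s
      exact (hΦ s).symm
    · funext s
      exact hχe s
  have hirr := RR_isIrr hζ hx₀
  have hres := CharDeep.CliffordCorr.restrict_eq_smul_of_invariant N hirr hχN hinv (by rw [hin]; exact hne)
  obtain ⟨c, hc⟩ := Core.classInner_isNat (Phi_isCharacter hΦ) (Core.isIrr_isCharacter hχ)
  rw [hin, hc] at hres
  refine no_multiple hζ hx₀ hχ c fun s => ?_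
  have h1 := congrFun hres (e s)
  rw [Pi.smul_apply, hχe, smul_eq_mul] at h1
  exact h1

end

end Cfsg.Agent.H71.QE
end

private theorem dce_aaf2363d44c1 : _root_.True := by
  try have : _root_.True := by simp only [_root_.Cfsg.Agent.H71.QE.lamC.eq_1]
  try have : _root_.True := by simp only [_root_.Cfsg.Agent.H71.QE.TG.eq_1]
  try have : _root_.True := by simp only [_root_.Cfsg.Agent.H71.QE.gw.congr_simp]
  try have : _root_.True := by simp only [_root_.Cfsg.Agent.H71.QE.cG.congr_simp]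
  try have : _root_.True := by simp only [_root_.Cfsg.Agent.H71.QE.pm.congr_simp]
  try have : _root_.True := by simp only [_root_.Cfsg.Agent.H71.QE.v0.eq_1]
  exact _root_.True.intro
end

-- part: H671/K547/Dispatch_mg
section
prune_inst 0x4d110232506c000000000058211201a72ae0004b210080800000100440480284808000820a02011015228010100010068130000e002000000000004000004000000c0800020410000400086000080000000000000000000000000000000000004000000000
set_option linter.all false
open scoped Cfsg.Agent.FastGrp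

-- part: H601/K4/InvOdd
section
/-!
# Three invariant good characters of the groups of Lie type of odd characteristic (S4547; helper601)
-/

set_option autoImplicit false
set_option linter.unusedSectionVars false

namespace Cfsg.Agent.H601.K4

open Cfsg Cfsg.Agent.Omega.ML.Ex.Typ Cfsg.Agent.Tits.Core
open Cfsg.Agent.LieRecognition.BNCox (cA)
open Cfsg.Agent.H601.OddDeg CoxeterSystem Cfsg.Agent.ChevalleyStructure.CoxeterGeom Cfsg.Agent.Tits.Roots
  Cfsg.Agent.Tits.RootComb Cfsg.Agent.Nodes.Comb Cfsg.Agent.Nodes.Reps Cfsg.Agent.Nodes.BNOf Cfsg.Agent.Nodes.StabComb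
  Cfsg.Agent.H612.BNCosets

universe u

section

variable {S : Type u} [Group S] [Finite S] [IsSimpleGroup S] {p : ℕ}

theorem goodInv3_of_stab (hp : p.Prime) (hp2 : p ≠ 2) {l : ℕ} {M : CoxeterMatrix (Fin l)} (h : HasRGDT p M S)
    (J : Set (Fin l)) (hJ : J.Nonempty)
    (hst : ∀ σ : Equiv.Perm (Fin l), (∀ i j, M (σ i) (σ j) = M i j) → σ '' J = J)
    (hidx : ∀ {W : Type u} [Group W] [Finite W] (cs : CoxeterSystem M W), 2 ∣ (WJ cs J).index) : GoodInv3 S := by
  classical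
  have := Fintype.ofFinite S
  have : Fact p.Prime := ⟨hp⟩
  obtain ⟨A, h, T, n, X, hW, R, hX⟩ := h
  have hgen : RGD.B M.toCoxeterSystem h T X ⊔ NN M.toCoxeterSystem R.nsys = ⊤ := by
    rw [eq_top_iff, ← hX]
    exact Nodes.RGDLib.rgd_G1_le R
  obtain ⟨U, _, _, θ, St, D⟩ := exists_datP_of hp hp2 R hX hgen J hJ hidx
  exact D.inv3 hp2 J hJ (fun σ hσ _ => hst σ hσ) hidx

/-- **Rank two groups whose simple root groups have different orders.** -/
theorem goodInv3_of_labT (hp : p.Prime) (hp2 : p ≠ 2) {M : CoxeterMatrix (Fin 2)} (hM : 2 ∣ M 0 1)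
    (hS : LabT p M S) : GoodInv3 S := by
  classical
  have := Fintype.ofFinite S
  have : Fact p.Prime := ⟨hp⟩
  obtain ⟨A, h, T, n, X, hW, R, hX, hne⟩ := hS
  have hgen : RGD.B M.toCoxeterSystem h T X ⊔ NN M.toCoxeterSystem R.nsys = ⊤ := by
    rw [eq_top_iff, ← hX]
    exact Nodes.RGDLib.rgd_G1_le R
  have hPJ : ∀ i, Nat.card (PJ (R.bnPair hgen) (Equiv.ofInjective n R.n_injective) {i}) =
      (1 + Nat.card (X (sr i))) * Nat.card (RGD.B M.toCoxeterSystem h T X) := by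
    intro i
    rw [← LabRow.card_panel R hgen i]
    unfold PJ
    have h1 : gens (R.bnPair hgen) (Equiv.ofInjective n R.n_injective) {i} = {n i} := by
      unfold gens
      rw [Set.image_singleton]
      rfl
    rw [h1]
  have hidx : ∀ {W : Type u} [Group W] [Finite W] (cs : CoxeterSystem M W), 2 ∣ (WJ cs {0}).index :=
    fun cs => Idx.index_single cs 0 (j := 0) (k := 1) (by decide) hM
  obtain ⟨U, _, _, θ, St, D⟩ := exists_datP_of hp hp2 R hX hgen {0} ⟨0, rfl⟩ hidx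
  refine D.inv3 hp2 {0} ⟨0, rfl⟩ (fun σ _ hlab => ?_) hidx
  have h0 : σ 0 = 0 := by
    by_contra hcon
    have h1 : σ 0 = 1 := by omega
    have h2 := hlab 0
    rw [h1, hPJ, hPJ] at h2
    have h3 : 0 < Nat.card (RGD.B M.toCoxeterSystem h T X) := Nat.card_pos
    have h4 := Nat.eq_of_mul_eq_mul_right h3 h2
    apply hne
    omega
  rw [Set.image_singleton, h0]

theorem inv_A (hp : p.Prime) (hp2 : p ≠ 2) {n : ℕ} (hn : 3 ≤ n) (h : HasRGDT p (cA n) S) : GoodInv3 S := by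
  refine goodInv3_of_stab hp hp2 h {i | ¬ ((i : ℕ) = 0 ∨ (i : ℕ) = n - 1)} ⟨⟨1, by omega⟩, ?_⟩
    (fun σ hσ => H612.Sym.sym_A σ hσ) ?_
  · simp
    omega
  · intro W _ _ cs
    have h1 := (H612.ModA.model (n := n) (by omega)).card_quotient cs (Nodes.RootsA.isCartan n) (by
      intro i
      rw [H612.ModA.l_apply hn]
      split_ifs <;> norm_num)
    have h2 : {i : Fin n | H612.ModA.l n (by omega) i = 0} = {i : Fin n | ¬ ((i : ℕ) = 0 ∨ (i : ℕ) = n - 1)} := by
      ext i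
      show H612.ModA.l n _ i = 0 ↔ _
      rw [H612.ModA.l_apply hn]
      by_cases h1 : (i : ℕ) = 0 ∨ (i : ℕ) = n - 1
      · rw [if_pos h1]
        exact ⟨fun h => absurd h (by norm_num), fun h => absurd h1 h⟩
      · rw [if_neg h1]
        exact ⟨fun _ => h1, fun _ => rfl⟩
    rw [← h2, h1]
    exact (H612.ModA.even_card n).two_dvd

theorem inv_B (hp : p.Prime) (hp2 : p ≠ 2) {n : ℕ} (hn : 3 ≤ n) (h : HasRGDT p (CoxeterMatrix.B n) S) :
    GoodInv3 S := by
  refine goodInv3_of_stab hp hp2 h {i | (i : ℕ) ≠ 0} ⟨⟨1, by omega⟩, ?_⟩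
    (fun σ hσ => H612.Sym.sym_B hn σ hσ) ?_
  · simp
  · intro W _ _ cs
    have h1 := (H612.ModB.model (n := n) (by omega)).card_quotient cs (Nodes.TypeC.isCartan n) (by
      intro i
      rw [H612.ModB.l_apply (by omega)]
      split_ifs <;> norm_num)
    have h2 : {i : Fin n | H612.ModB.l n (by omega) i = 0} = {i : Fin n | (i : ℕ) ≠ 0} := by
      ext i
      show H612.ModB.l n _ i = 0 ↔ (i : ℕ) ≠ 0
      rw [H612.ModB.l_apply (by omega)]
      split_ifs <;> simp_all only [_root_.ne_eq, _root_.Nat.card_eq_fintype_card, _root_.Fintype.card_prod, _root_.Fintype.card_fin, _root_.Fintype.card_bool, _root_.one_ne_zero, _root_.not_true_eq_false, _root_.not_false_eq_true]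
    rw [← h2, h1, Nat.card_prod, Nat.card_eq_fintype_card (α := Bool), Fintype.card_bool]
    exact ⟨_, mul_comm _ _⟩

/-- type `D`, `PΩ⁺_{2m}(q)`, `m = n + 2 ≥ 4` -/
theorem inv_D (hp : p.Prime) (hp2 : p ≠ 2) {n : ℕ} (hn : 2 ≤ n) (h : HasRGDT p (Nodes.TypeD.M n) S) :
    GoodInv3 S := by
  rcases Nat.lt_or_ge n 3 with h3 | h3
  · obtain rfl : n = 2 := by omega
    refine goodInv3_of_stab hp hp2 h {1} ⟨1, rfl⟩ (fun σ hσ => ?_) ?_
    · have h1 : ∀ i, ![1, 3, 1, 1] (σ i) = ![1, 3, 1, 1] i :=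
        H681.GmnTypes.inv_step hσ (g := fun _ => 1) (fun _ => rfl) (by
          intro i
          simp only [H612.Sym.D_apply]
          revert i
          decide)
      have h2 : ∀ a : Fin 4, ![1, 3, 1, 1] a = 3 → a = 1 := by decide
      have h4 : σ 1 = 1 := h2 _ (by rw [h1]; rfl)
      rw [Set.image_singleton, h4]
    · intro W _ _ cs
      refine Idx.index_single cs 1 (j := 0) (k := 2) (by decide) ?_
      rw [H612.Sym.D_apply]
      decide
  · refine goodInv3_of_stab hp hp2 h {i | (i : ℕ) ≠ 0} ⟨⟨1, by omega⟩, ?_⟩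
      (fun σ hσ => H612.Sym.sym_D h3 σ hσ) ?_
    · simp
    · intro W _ _ cs
      have h1 := (H612.ModD.model n).card_quotient cs (Nodes.TypeD.isCartan n) (by
        intro i
        rw [H612.ModD.l_apply (by omega)]
        split_ifs <;> norm_num)
      have h2 : {i : Fin (n + 2) | H612.ModD.l n i = 0} = {i : Fin (n + 2) | (i : ℕ) ≠ 0} := by
        ext i
        show H612.ModD.l n i = 0 ↔ (i : ℕ) ≠ 0
        rw [H612.ModD.l_apply (by omega)]
        split_ifs <;> simp_all only [_root_.ne_eq, _root_.ge_iff_le, _root_.Nat.card_eq_fintype_card, _root_.Fintype.card_prod, _root_.Fintype.card_fin, _root_.Fintype.card_bool, _root_.Fin.val_eq_zero_iff, _root_.one_ne_zero, _root_.Fin.coe_ofNat_eq_mod, _root_.Nat.zero_mod, _root_.not_true_eq_false, _root_.not_false_eq_true]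
      rw [← h2, h1, Nat.card_prod, Nat.card_eq_fintype_card (α := Bool), Fintype.card_bool]
      exact ⟨_, mul_comm _ _⟩

theorem inv_F4 (hp : p.Prime) (hp2 : p ≠ 2) (h : HasRGDT p CoxeterMatrix.F₄ S) : GoodInv3 S := by
  refine goodInv3_of_stab hp hp2 h {0, 3} ⟨0, Or.inl rfl⟩ (fun σ hσ => ?_) ?_
  · have h1 : ∀ i, ![1, 2, 2, 1] (σ i) = ![1, 2, 2, 1] i :=
      H681.GmnTypes.inv_step hσ (g := fun _ => 1) (fun _ => rfl) (by decide)
    apply H612.Sym.image_eq
    have h2 : ∀ i ∈ ({0, 3} : Set (Fin 4)), ![1, 2, 2, 1] i = 1 := by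
      rintro i (rfl | rfl) <;> rfl
    have h3 : ∀ a : Fin 4, ![1, 2, 2, 1] a = 1 → a = 0 ∨ a = 3 := by decide
    intro i hi
    exact h3 _ (by rw [h1, h2 i hi])
  · intro W _ _ cs
    exact Idx.index_pair cs (by decide) (by decide) (k := 1) (l := 2) (by decide) (by decide)

theorem inv_E6 (hp : p.Prime) (hp2 : p ≠ 2) (h : HasRGDT p CoxeterMatrix.E₆ S) : GoodInv3 S := by
  refine goodInv3_of_stab hp hp2 h {3} ⟨3, rfl⟩ (fun σ hσ => ?_) ?_
  · have h1 : ∀ i, ![1, 1, 2, 3, 2, 1] (σ i) = ![1, 1, 2, 3, 2, 1] i :=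
      H681.GmnTypes.inv_step hσ (g := fun _ => 1) (fun _ => rfl) (by decide)
    have h3 : ∀ a : Fin 6, ![1, 1, 2, 3, 2, 1] a = 3 → a = 3 := by decide
    rw [Set.image_singleton, h3 _ (h1 3)]
  · intro W _ _ cs
    exact Idx.index_single cs 3 (j := 0) (k := 1) (by decide) (by decide)

theorem inv_E7 (hp : p.Prime) (hp2 : p ≠ 2) (h : HasRGDT p CoxeterMatrix.E₇ S) : GoodInv3 S := by
  refine goodInv3_of_stab hp hp2 h {3} ⟨3, rfl⟩ (fun σ hσ => ?_) ?_
  · have h1 : ∀ i, ![1, 1, 2, 3, 2, 2, 1] (σ i) = ![1, 1, 2, 3, 2, 2, 1] i :=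
      H681.GmnTypes.inv_step hσ (g := fun _ => 1) (fun _ => rfl) (by decide +kernel)
    have h3 : ∀ a : Fin 7, ![1, 1, 2, 3, 2, 2, 1] a = 3 → a = 3 := by decide
    rw [Set.image_singleton, h3 _ (h1 3)]
  · intro W _ _ cs
    exact Idx.index_single cs 3 (j := 0) (k := 1) (by decide) (by decide)

theorem inv_E8 (hp : p.Prime) (hp2 : p ≠ 2) (h : HasRGDT p CoxeterMatrix.E₈ S) : GoodInv3 S := by
  refine goodInv3_of_stab hp hp2 h {3} ⟨3, rfl⟩ (fun σ hσ => ?_) ?_
  · have h1 : ∀ i, ![1, 1, 2, 3, 2, 2, 2, 1] (σ i) = ![1, 1, 2, 3, 2, 2, 2, 1] i :=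
      H681.GmnTypes.inv_step hσ (g := fun _ => 1) (fun _ => rfl) (by decide +kernel)
    have h3 : ∀ a : Fin 8, ![1, 1, 2, 3, 2, 2, 2, 1] a = 3 → a = 3 := by decide
    rw [Set.image_singleton, h3 _ (h1 3)]
  · intro W _ _ cs
    exact Idx.index_single cs 3 (j := 0) (k := 1) (by decide) (by decide)

end

end Cfsg.Agent.H601.K4
end

-- part: H601/K4/InvSmall
section
/-!
# Three invariant good characters: `PSL₃(q)`, `PSU₃(q)`, `PSp_{2m}(q)`, `G₂(q)`, `²G₂(q)`, `q` odd (S4547; helper601)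
-/

set_option autoImplicit false
set_option linter.unusedSectionVars false

namespace Cfsg.Agent.H601.K4

open Cfsg Cfsg.Agent.Omega.ML.Ex.Typ

universe u

theorem two_ne_p {F : Type} [Field F] {p : ℕ} [CharP F p] (hp2 : p ≠ 2) : (2 : F) ≠ 0 := by
  intro h
  have h1 : p ∣ 2 := (CharP.cast_eq_zero_iff F p 2).1 (by exact_mod_cast h)
  rcases (Nat.dvd_prime Nat.prime_two).1 h1 with h2 | h2
  · subst h2
    exact CharP.ringChar_ne_one (R := F) ((CharP.eq F (ringChar.charP F) inferInstance))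
  · exact hp2 h2

/-! ### `²G₂(q)` -/

theorem goodInv3_ree {S : Type u} [Group S] (h : Lie.IsoRee S) : GoodInv3 S := by
  obtain ⟨χ, h1, h2⟩ := H137.K4.good5_ree h
  intro φ hφ
  obtain ⟨s, hs⟩ := H137.K4.inner_ree h φ hφ
  refine ⟨fun i => χ (Fin.castLE (by norm_num) i), fun i j hij => by simpa using h1 hij, fun i => ⟨h2 _, fun x => ?_⟩⟩
  rw [hs]
  exact Characters.Core.isIrr_isClassFunction (h2 _).odd.1 x s

/-! ### `G₂(q)` -/

section G2

open Cfsg.Lie Cfsg.Agent.ChevalleyStructure.Elts Cfsg.Agent.Schreier.ChevLocal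
open Cfsg.Agent.H70.ChevFix Cfsg.Agent.H70.ChevField Cfsg.Agent.H70.OutCount
open Cfsg.Agent.H490.G2 Cfsg.Agent.H245.DG.G2

variable {F : Type} [Field F] [Fintype F] {p : ℕ} [CharP F p]

omit [Fintype F] [CharP F p] in
theorem xe_pow (r : ℕ) (t : F) (n : ℕ) : xe hD r t ^ n = xe hD r (n * t) := by
  induction n with
  | zero => rw [pow_zero, Nat.cast_zero, zero_mul, xe_zero]
  | succ n ih => rw [pow_succ, ih, ← xe_add]; push_cast; ring_nf

omit [Fintype F] [CharP F p] in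
theorem xe_mem_UU (i : Fin chevG2.rank) (t : F) : xe hD (chevG2.simple i) t ∈ UU chevG2 F := by
  obtain ⟨-, h2⟩ := S1045.result (F := F) chevG2 hD i i.2
  show xG hD (chevG2.simple i) t ∈ chevG2.posUnipotent F
  rw [← h2]
  exact Subgroup.mem_sup_right (xG_mem_rootSubgroup hD _ _)

theorem goodInv3_g2 (hp : p.Prime) (hp2 : p ≠ 2) [IsSimpleGroup (K F)] : GoodInv3 (K F) := by
  classical
  have : Fact p.Prime := ⟨hp⟩
  have h2 : (2 : F) ≠ 0 := two_ne_p hp2
  have hR : HasRGDT p CoxeterMatrix.G₂ (K F) := typ_group (by simp [Nodes.RGDChev.IsType, Nodes.RGDChev.typeList]) F p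
  have hq : 3 ≤ Nat.card F := by
    have h3 : Nat.card F ≠ 0 := Nat.card_pos.ne'
    have h4 : Nat.card F ≠ 1 := Finite.one_lt_card.ne'
    have h5 : Nat.card F ≠ 2 := by
      intro h5
      have h6 : ((Nat.card F : ℕ) : F) = 0 := by rw [Nat.card_eq_fintype_card]; exact FiniteField.cast_card_eq_zero F
      rw [h5] at h6
      exact h2 (by exact_mod_cast h6)
    omega
  by_cases h3 : (3 : F) = 0
  · have hp3 : p = 3 := by
      have h4 : p ∣ 3 := (CharP.cast_eq_zero_iff F p 3).1 (by exact_mod_cast h3)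
      exact (Nat.prime_dvd_prime_iff_eq hp Nat.prime_three).1 h4
    subst hp3
    obtain ⟨ρ, hρ⟩ := exists_graph (F := F)
    refine goodInv3_of_class hp hp2 0 hR (x := xe hD 7 1 * xe hD 6 1) ?_ ?_ fun τ _ => ?_
    · have h4 : xe hD 7 (1 : F) * xe hD 6 1 ∈ UU chevG2 F := by
        have h5 := xe_mem_UU (F := F) (0 : Fin 2) 1
        have h6 := xe_mem_UU (F := F) (1 : Fin 2) 1
        rw [show chevG2.simple ((0 : Fin 2) : ℕ) = 7 from s0] at h5
        rw [show chevG2.simple ((1 : Fin 2) : ℕ) = 6 from s1] at h6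
        exact mul_mem h5 h6
      obtain ⟨m, hm⟩ := Schreier.ChevSch.isPGroup_UU (F := F) hD (p := 3) ⟨_, h4⟩
      exact ⟨m, congrArg Subtype.val hm⟩
    · intro h4
      have h5 : xe hD 7 (1 : F) = xe hD 6 (-1) := by
        rw [xe_neg]
        exact eq_inv_of_mul_eq_one_left h4
      have h6 := comm_opp (F := F) hD (i := (1 : Fin 2)) (j := (0 : Fin 2))
        (fun h => absurd (congrArg Fin.val h) Nat.one_ne_zero) (-1) (-1)
      have h7 := not_comm_self (F := F) hD (0 : Fin 2)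
      apply h7
      rw [show chevG2.simple ((1 : Fin 2) : ℕ) = 6 from s1] at h6
      rw [show chevG2.simple ((0 : Fin 2) : ℕ) = 7 from s0] at h6 ⊢
      rw [h5]
      exact h6
    · obtain ⟨g, σ, α, hα, h4 | h4⟩ := aut_three hρ τ
      · refine ⟨g, ?_⟩
        rw [h4, MulAut.mul_apply, MulAut.conj_apply, map_mul, hα 7 (by norm_num), hα 6 (by norm_num), map_one]
      · refine ⟨g * (xe hD 7 1)⁻¹, ?_⟩
        rw [h4, MulAut.mul_apply, MulAut.conj_apply, MulAut.mul_apply, map_mul, hα 7 (by norm_num), hα 6 (by norm_num),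
          map_one, map_mul, hρ.h7, hρ.h6, one_pow]
        group
  · refine goodInv3_of_class hp hp2 0 hR (x := xe hD 7 1) ⟨1, ?_⟩ ?_ fun τ _ => ?_
    · rw [xe_pow, pow_one, CharP.cast_eq_zero, zero_mul, xe_zero]
    · intro h4
      exact one_ne_zero (xe_eq_one hD (by decide +kernel) h4)
    · obtain ⟨g, σ, α, hα, h4⟩ := aut_three_ne h3 hq τ
      refine ⟨g, ?_⟩
      rw [h4, MulAut.mul_apply, MulAut.conj_apply, hα 7 (by norm_num), map_one]

end G2

/-! ### `PSL₃(q)` -/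

section PSL

open Matrix Cfsg.Agent.ClassicalGeometry.AutPSL.SylowU Cfsg.Agent.ClassicalGeometry.AutPSL.Root
open Cfsg.Agent.ClassicalGeometry.AutPSL.Auto Cfsg.Agent.ClassicalGeometry.AutPSL.Frame

variable {F : Type} [Field F] [Fintype F] {p : ℕ} [CharP F p]

theorem goodInv3_psl3 (hp : p.Prime) (hp2 : p ≠ 2) [IsSimpleGroup (Matrix.ProjectiveSpecialLinearGroup (Fin 3) F)] :
    GoodInv3 (Matrix.ProjectiveSpecialLinearGroup (Fin 3) F) := by
  classical
  have : Fact p.Prime := ⟨hp⟩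
  have h0 : (0 : Fin 3) < 2 := Fin.mk_lt_mk.2 (by norm_num)
  have hi0 : ∀ i : Fin 3, 0 ≤ i := Fin.zero_le
  have hj0 : ∀ i : Fin 3, i ≤ 2 := fun i => Fin.le_def.2 (by
    have h1 : ((2 : Fin 3) : ℕ) = 2 := rfl
    omega)
  have hx1 : (pr (SpecialLinearGroup.transvection h0.ne (1 : F)) : Matrix.ProjectiveSpecialLinearGroup (Fin 3) F) ≠ 1 := by
    intro h
    have h1 := pr_injOn_upper (transvection_mem_upper h0 (1 : F)) (one_mem (upper 3 F)) (by rw [h, map_one])
    have h2 := congrArg (fun g : _root_.Matrix.SpecialLinearGroup (Fin 3) F => (g : Matrix (Fin 3) (Fin 3) F) 0 2) h1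
    have h3 : ((1 : Matrix (Fin 3) (Fin 3) F) + single (0 : Fin 3) (2 : Fin 3) (1 : F) : Matrix (Fin 3) (Fin 3) F) 0 2 =
      (1 : Matrix (Fin 3) (Fin 3) F) 0 2 := h2
    simp at h3
  refine goodInv3_of_class hp hp2 (0 : Fin 2) (typ_PSL 2 (p := p))
    (x := pr (SpecialLinearGroup.transvection h0.ne (1 : F))) ?_ hx1 fun τ _ => ?_
  · obtain ⟨S, hS⟩ := exists_sylow (F := F) 3 p
    have h1 : (pr (SpecialLinearGroup.transvection h0.ne (1 : F)) : Matrix.ProjectiveSpecialLinearGroup (Fin 3) F) ∈ S := by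
      have h2 : (pr (SpecialLinearGroup.transvection h0.ne (1 : F)) : Matrix.ProjectiveSpecialLinearGroup (Fin 3) F) ∈
          (upper 3 F).map pr := ⟨_, transvection_mem_upper h0 (1 : F), rfl⟩
      rw [← hS] at h2
      exact h2
    obtain ⟨m, hm⟩ := S.2 ⟨_, h1⟩
    exact ⟨m, congrArg Subtype.val hm⟩
  · obtain ⟨h, hh⟩ := exists_conj_transvection p h0 hi0 hj0 τ
    obtain ⟨s, hs⟩ := hh 1
    have hs0 : s ≠ 0 := by
      rintro rfl
      apply hx1
      apply τ.injective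
      rw [hs, map_one]
      have h1 : (SpecialLinearGroup.transvection h0.ne (0 : F)) = 1 := by
        apply Subtype.ext
        show (1 : Matrix (Fin 3) (Fin 3) F) + single 0 2 0 = 1
        simp
      rw [h1, mul_one, mul_inv_cancel, map_one]
    let D : _root_.Matrix.SpecialLinearGroup (Fin 3) F := ⟨diagonal ![s, s⁻¹, 1], by
      rw [det_diagonal, Fin.prod_univ_three]
      simp [hs0]⟩
    have hD : D * SpecialLinearGroup.transvection h0.ne (1 : F) * D⁻¹ = SpecialLinearGroup.transvection h0.ne s := by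
      rw [mul_inv_eq_iff_eq_mul]
      apply Subtype.ext
      show diagonal ![s, s⁻¹, 1] * ((1 : Matrix (Fin 3) (Fin 3) F) + single 0 2 1) =
        ((1 : Matrix (Fin 3) (Fin 3) F) + single 0 2 s) * diagonal ![s, s⁻¹, 1]
      ext i j
      rw [diagonal_mul, mul_diagonal]
      (revert i j; simp only [_root_.Fin.forall_fin_succ, _root_.Nat.succ_eq_add_one, Nat.reduceAdd, Fin.isValue, _root_.Matrix.add_apply, Fin.reduceEq, _root_.and_false, _root_.not_false_eq_true, _root_.Matrix.single_apply_of_ne, _root_.add_zero, _root_.Matrix.cons_val_zero, _root_.Matrix.cons_val_succ, _root_.Fin.succ_zero_eq_one, _root_.Matrix.cons_val_fin_one, _root_.mul_one, _root_.Fin.succ_one_eq_two, _root_.IsEmpty.forall_iff, _root_.and_true, _root_.Matrix.one_apply_eq, _root_.one_mul, _root_.ne_eq, _root_.zero_ne_one, _root_.Matrix.one_apply_ne, _root_.MulZeroClass.mul_zero, _root_.MulZeroClass.zero_mul, _root_.Matrix.single_apply_same, _root_.zero_add, _root_.and_self,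 _root_.Fin.succ_ne_zero, _root_.true_and, _root_.add_right_inj])
    refine ⟨pr (h * D), ?_⟩
    rw [hs, ← hD, ← map_inv, ← map_mul, ← map_mul]
    congr 1
    group

end PSL

/-! ### `PSp_{2m}(q)` -/

section PSp

open Matrix

variable {F : Type} [Field F] {m : ℕ}

/-- the short root elements -/
def shm (i j : Fin m) (t : F) : Matrix (Fin m ⊕ Fin m) (Fin m ⊕ Fin m) F :=
  fromBlocks (transvection i j t) 0 0 (transvection j i (-t))

theorem shm_mul {i j : Fin m} (hij : i ≠ j) (s t : F) : shm i j s * shm i j t = shm i j (s + t) := by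
  unfold shm
  rw [fromBlocks_multiply]
  simp only [mul_zero, zero_mul, add_zero, zero_add]
  rw [transvection_mul_transvection_same _ _ hij, transvection_mul_transvection_same _ _ hij.symm, ← neg_add]

theorem shm_zero {i j : Fin m} : shm i j (0 : F) = 1 := by
  unfold shm
  rw [neg_zero, transvection_zero, transvection_zero, fromBlocks_one]

theorem shm_mem {i j : Fin m} (hij : i ≠ j) (t : F) : shm i j t ∈ symplecticGroup (Fin m) F := by
  have h1 : (transvection j i (-t))ᵀ = transvection i j (-t) := by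
    unfold transvection
    rw [transpose_add, transpose_one, transpose_single]
  have h2 : (transvection i j t)ᵀ = transvection j i t := by
    unfold transvection
    rw [transpose_add, transpose_one, transpose_single]
  rw [SymplecticGroup.mem_iff]
  unfold shm J
  rw [fromBlocks_transpose, h1, h2, fromBlocks_multiply, fromBlocks_multiply]
  simp only [mul_zero, zero_mul, add_zero, zero_add, mul_neg, mul_one, transpose_zero, neg_mul]
  rw [transvection_mul_transvection_same _ _ hij, transvection_mul_transvection_same _ _ hij.symm]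
  simp

/-- the short root elements -/
def sh {i j : Fin m} (hij : i ≠ j) (t : F) : symplecticGroup (Fin m) F := ⟨shm i j t, shm_mem hij t⟩

theorem sh_pow {i j : Fin m} (hij : i ≠ j) (t : F) (n : ℕ) : sh hij t ^ n = sh hij (n * t) := by
  induction n with
  | zero =>
    rw [pow_zero, Nat.cast_zero, zero_mul]
    exact Subtype.ext shm_zero.symm
  | succ n ih =>
    rw [pow_succ, ih]
    apply Subtype.ext
    show shm i j _ * shm i j _ = shm i j _
    rw [shm_mul hij]
    push_cast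
    ring_nf

theorem map_shm (σ : F ≃+* F) (i j : Fin m) : (shm i j (1 : F)).map σ = shm i j 1 := by
  unfold shm
  rw [fromBlocks_map]
  have h1 : ∀ (a b : Fin m) (c : F), (transvection a b c).map σ = transvection a b (σ c) := by
    intro a b c
    unfold transvection
    ext k l
    simp only [map_apply, Matrix.add_apply, map_add, single_apply, one_apply, apply_ite σ, map_one, map_zero]
  rw [h1, h1, map_neg, map_one]
  simp

/-- the similitude -/
def simd (m : ℕ) (l : F) : Matrix (Fin m ⊕ Fin m) (Fin m ⊕ Fin m) F := fromBlocks 1 0 0 (l • (1 : Matrix (Fin m) (Fin m) F))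

theorem simd_mul (a b : F) : simd m a * simd m b = simd m (a * b) := by
  unfold simd
  rw [fromBlocks_multiply]
  simp only [smul_smul, mul_comm, _root_.mul_one, _root_.MulZeroClass.mul_zero, _root_.add_zero, _root_.Algebra.mul_smul_comm, _root_.smul_zero, _root_.zero_add]

theorem simd_comm (l : F) (i j : Fin m) (t : F) : simd m l * shm i j t = shm i j t * simd m l := by
  unfold simd shm
  rw [fromBlocks_multiply, fromBlocks_multiply]
  simp

theorem simd_J (l : F) : (simd m l)ᵀ * J (Fin m) F * simd m l = l • J (Fin m) F := by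
  unfold simd J
  rw [fromBlocks_transpose, fromBlocks_multiply, fromBlocks_multiply, fromBlocks_smul]
  simp only [_root_.Matrix.transpose_one, _root_.MulZeroClass.mul_zero, _root_.Matrix.transpose_zero, _root_.mul_one, _root_.add_zero, _root_.mul_neg, _root_.Algebra.mul_smul_comm, _root_.smul_neg, _root_.zero_add, _root_.Matrix.transpose_smul, _root_.neg_zero, _root_.smul_zero]

variable [Fintype F] {p : ℕ} [CharP F p]

theorem goodInv3_psp (hp : p.Prime) (hp2 : p ≠ 2) (hm : 2 ≤ m) [IsSimpleGroup (PSp m F)] : GoodInv3 (PSp m F) := by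
  classical
  have : Fact p.Prime := ⟨hp⟩
  have h2 : (2 : F) ≠ 0 := two_ne_p hp2
  have hij : (⟨0, by omega⟩ : Fin m) ≠ ⟨1, by omega⟩ := by simp
  refine goodInv3_of_class hp hp2 (⟨0, by omega⟩ : Fin m) (typ_PSp (p := p) (by omega))
    (x := (QuotientGroup.mk (sh hij (1 : F)) : PSp m F)) ⟨1, ?_⟩ ?_ fun τ _ => ?_
  · rw [← QuotientGroup.mk_pow, pow_one, sh_pow, CharP.cast_eq_zero, zero_mul]
    have h3 : sh hij (0 : F) = 1 := Subtype.ext shm_zero
    rw [h3]
    rfl
  · intro h3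
    have h4 : sh hij (1 : F) ∈ Subgroup.center (symplecticGroup (Fin m) F) := (QuotientGroup.eq_one_iff _).1 h3
    have h5 := Subgroup.mem_center_iff.1 h4 ⟨J (Fin m) F, SymplecticGroup.J_mem _ _⟩
    have h6 : J (Fin m) F * shm ⟨0, by omega⟩ ⟨1, by omega⟩ 1 = shm ⟨0, by omega⟩ ⟨1, by omega⟩ 1 * J (Fin m) F :=
      congrArg Subtype.val h5
    have h7 := congrFun (congrFun h6 (Sum.inl ⟨0, by omega⟩)) (Sum.inr ⟨1, by omega⟩)
    unfold J shm at h7
    rw [fromBlocks_multiply, fromBlocks_multiply] at h7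
    simp [transvection] at h7
  · obtain ⟨A, σ, ⟨l, hl⟩, hind⟩ := H198.SympGamma.exists_pair (F := F) hm (Or.inr h2) τ
    have hl0 : (l : F) ≠ 0 := l.ne_zero
    have hA : (A : Matrix (Fin m ⊕ Fin m) (Fin m ⊕ Fin m) F)ᵀ * J (Fin m) F * (A : Matrix (Fin m ⊕ Fin m) (Fin m ⊕ Fin m) F) =
        (l : F) • J (Fin m) F := by
      ext i j
      have h3 := hl (Pi.single i 1) (Pi.single j 1)
      have h4 : Pi.single i 1 ⬝ᵥ (((A : Matrix (Fin m ⊕ Fin m) (Fin m ⊕ Fin m) F)ᵀ * J (Fin m) F *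
          (A : Matrix (Fin m ⊕ Fin m) (Fin m ⊕ Fin m) F)) *ᵥ Pi.single j (1 : F)) =
          Pi.single i 1 ⬝ᵥ (((l : F) • J (Fin m) F) *ᵥ Pi.single j (1 : F)) := by
        rw [smul_mulVec, dotProduct_smul, smul_eq_mul]
        unfold sympForm at h3
        rw [← h3, ← mulVec_mulVec, ← mulVec_mulVec, dotProduct_mulVec _ (A : Matrix (Fin m ⊕ Fin m) (Fin m ⊕ Fin m) F)ᵀ,
          vecMul_transpose]
      simpa only [_root_.Matrix.smul_apply, _root_.smul_eq_mul, _root_.Matrix.mulVec_single, _root_.MulOpposite.op_one, _root_.one_smul, _root_.single_dotProduct, _root_.Matrix.col_apply, _root_.one_mul] using h4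
    set S : Matrix (Fin m ⊕ Fin m) (Fin m ⊕ Fin m) F := (A : Matrix (Fin m ⊕ Fin m) (Fin m ⊕ Fin m) F) * simd m (l : F)⁻¹
      with hS
    have hSm : S ∈ symplecticGroup (Fin m) F := by
      rw [SymplecticGroup.mem_iff', hS, transpose_mul]
      calc (simd m (l : F)⁻¹)ᵀ * (A : Matrix (Fin m ⊕ Fin m) (Fin m ⊕ Fin m) F)ᵀ * J (Fin m) F *
            ((A : Matrix (Fin m ⊕ Fin m) (Fin m ⊕ Fin m) F) * simd m (l : F)⁻¹)
          = (simd m (l : F)⁻¹)ᵀ * ((A : Matrix (Fin m ⊕ Fin m) (Fin m ⊕ Fin m) F)ᵀ * J (Fin m) F *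
            (A : Matrix (Fin m ⊕ Fin m) (Fin m ⊕ Fin m) F)) * simd m (l : F)⁻¹ := by simp only [mul_assoc]
        _ = J (Fin m) F := by
            rw [hA, mul_smul_comm, smul_mul_assoc, simd_J, smul_smul, mul_inv_cancel₀ hl0, one_smul]
    have hAS : (A : Matrix (Fin m ⊕ Fin m) (Fin m ⊕ Fin m) F) = S * simd m (l : F) := by
      rw [hS, mul_assoc, simd_mul, inv_mul_cancel₀ hl0]
      have h3 : simd m (1 : F) = 1 := by
        unfold simd
        rw [one_smul, fromBlocks_one]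
      rw [h3, mul_one]
    set s : symplecticGroup (Fin m) F := ⟨S, hSm⟩ with hs
    refine ⟨QuotientGroup.mk s, ?_⟩
    have h3 := hind (sh hij (1 : F)) (s * sh hij 1 * s⁻¹) (by
      have h4 : (sh hij (1 : F) : Matrix (Fin m ⊕ Fin m) (Fin m ⊕ Fin m) F) = shm ⟨0, by omega⟩ ⟨1, by omega⟩ 1 := rfl
      have h5 : (((s⁻¹ : symplecticGroup (Fin m) F) : Matrix (Fin m ⊕ Fin m) (Fin m ⊕ Fin m) F)) * S = 1 :=
        congrArg Subtype.val (inv_mul_cancel s)
      have h6 : (A : Matrix (Fin m ⊕ Fin m) (Fin m ⊕ Fin m) F) * ((A⁻¹ : GL (Fin m ⊕ Fin m) F) : Matrix _ _ F) = 1 := by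
        rw [← Units.val_mul, mul_inv_cancel, Units.val_one]
      rw [h4, map_shm]
      set X : Matrix (Fin m ⊕ Fin m) (Fin m ⊕ Fin m) F := shm ⟨0, by omega⟩ ⟨1, by omega⟩ 1 with hX
      show S * X * ((s⁻¹ : symplecticGroup (Fin m) F) : Matrix (Fin m ⊕ Fin m) (Fin m ⊕ Fin m) F) = _
      calc S * X * ((s⁻¹ : symplecticGroup (Fin m) F) : Matrix (Fin m ⊕ Fin m) (Fin m ⊕ Fin m) F)
          = S * X * ((s⁻¹ : symplecticGroup (Fin m) F) : Matrix (Fin m ⊕ Fin m) (Fin m ⊕ Fin m) F) *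
            ((A : Matrix (Fin m ⊕ Fin m) (Fin m ⊕ Fin m) F) * ((A⁻¹ : GL (Fin m ⊕ Fin m) F) : Matrix _ _ F)) := by
            rw [h6, mul_one]
        _ = S * X * (((s⁻¹ : symplecticGroup (Fin m) F) : Matrix (Fin m ⊕ Fin m) (Fin m ⊕ Fin m) F) * S) *
            simd m (l : F) * ((A⁻¹ : GL (Fin m ⊕ Fin m) F) : Matrix _ _ F) := by
            rw [hAS]
            simp only [mul_assoc]
        _ = _ := by
            rw [h5, mul_one, mul_assoc S, hX, ← simd_comm, ← mul_assoc S, ← hAS])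
    exact h3

end PSp

/-! ### `PSU₃(q)` -/

section PSU

open Matrix Cfsg.Agent.LieClassical.HermBasic Cfsg.Agent.LieClassical.HermSiegel
open Cfsg.Agent.ClassicalGeometry.PSUAutBasic Cfsg.Agent.ClassicalGeometry.PSUAutSylow

variable {F : Type} [Field F] [Fintype F] {q n : ℕ}

/-- all unitary transvections are conjugate -/
theorem exists_conj_transv (hF : Fintype.card F = q ^ 2) (hn : 3 ≤ n) {u v : Fin n → F} (hu0 : u ≠ 0) (hv0 : v ≠ 0)
    (hu : hermForm n F q u u = 0) (hv : hermForm n F q v v = 0) {μ ν : F} (hμ0 : μ ≠ 0) (hν0 : ν ≠ 0)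
    (hμ : μ + μ ^ q = 0) (hν : ν + ν ^ q = 0) :
    ∃ g : SU n F q, transv hF v hv ν hν = g * transv hF u hu μ hμ * g⁻¹ := by
  obtain ⟨c, hc0, hc⟩ := exists_norm_eq_ne hF (c := μ / ν) (by
    have h1 : μ ^ q = -μ := by linear_combination hμ
    have h2 : ν ^ q = -ν := by linear_combination hν
    rw [div_pow, h1, h2, neg_div_neg_eq]) (div_ne_zero hμ0 hν0)
  have hcu : hermForm n F q (c • u) (c • u) = 0 := by
    rw [herm_smul_left, herm_smul_right, hu, mul_zero, mul_zero]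
  obtain ⟨g, -, hg⟩ := LieClassical.HermGen.exists_map_iso hF hn le_rfl
    (LieClassical.HermGen.mem_coordSub_top (c • u)) (LieClassical.HermGen.mem_coordSub_top v)
    (smul_ne_zero hc0 hu0) hv0 hcu hv
  refine ⟨g, ?_⟩
  rw [eq_mul_inv_iff_mul_eq]
  apply ext_act
  intro x
  rw [act_mul, act_mul, act_transv, act_transv, act_add, ← hg, herm_act, herm_smul_right, act_smul, act_smul, smul_smul]
  congr 2
  have h3 : μ = ν * (c * c ^ q) := by rw [hc]; field_simp
  rw [h3]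
  ring

theorem goodInv3_psu3 {p : ℕ} [CharP F p] (hp : p.Prime) (hp2 : p ≠ 2) (hF : Fintype.card F = q ^ 2)
    [IsSimpleGroup (PSU 3 F q)] : GoodInv3 (PSU 3 F q) := by
  classical
  have : Fact p.Prime := ⟨hp⟩
  obtain ⟨m, hm, hR⟩ := typ_PSU (p := p) hF (le_refl 3)
  obtain ⟨μ, hμ0, hμ⟩ := exists_trace_zero_ne hF
  obtain ⟨S⟩ : Nonempty (Sylow p (SU 3 F q)) := inferInstance
  obtain ⟨u, hu0, hu, -⟩ := exists_fixed p hF (by norm_num) S.isPGroup'
  have hpow : ∀ (v : Fin 3 → F) (hv : hermForm 3 F q v v = 0) (ν : F) (hν : ν + ν ^ q = 0),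
      ∃ k : ℕ, transv hF v hv ν hν ^ p ^ k = 1 := by
    intro v hv ν hν
    obtain ⟨k, -, hk⟩ := FiniteField.card F p
    refine ⟨k, ?_⟩
    rw [← hk]
    exact siegel_pow_card hF _
  have hne : ∀ (v : Fin 3 → F) (hv0 : v ≠ 0) (hv : hermForm 3 F q v v = 0) (ν : F) (hν : ν + ν ^ q = 0),
      ν ≠ 0 → transv hF v hv ν hν ≠ 1 := by
    intro v hv0 hv ν hν hν0 h
    apply hν0
    obtain ⟨f, -, -, hf⟩ := exists_partner hF hv0 hv
    have h1 := act_transv hF hv hν f
    rw [h, act_one, hf, mul_one] at h1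
    have h2 : ν • v = 0 := by
      have h3 : f + 0 = f + ν • v := by rw [add_zero]; exact h1
      exact (add_left_cancel h3).symm
    exact (smul_eq_zero.1 h2).resolve_right hv0
  obtain ⟨k, hk⟩ := hpow u hu μ hμ
  have hx1 : pr 3 F q (transv hF u hu μ hμ) ≠ 1 := by
    intro h
    exact hne u hu0 hu μ hμ hμ0 (eq_of_pr_eq hF le_rfl hk (l := 0) (by rw [pow_zero, pow_one]) (by rw [h, map_one]))
  refine goodInv3_of_class hp hp2 (⟨0, by omega⟩ : Fin m) hR (x := pr 3 F q (transv hF u hu μ hμ)) ⟨k, ?_⟩ hx1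
    fun τ _ => ?_
  · rw [← map_pow, hk, map_one]
  · obtain ⟨v, hv0, hv, hmap⟩ := exists_map_RR hF le_rfl τ hu0 hu
    have h1 : τ (pr 3 F q (transv hF u hu μ hμ)) ∈ RR hF v hv := by
      rw [← hmap]
      exact ⟨_, mem_RR.2 ⟨μ, hμ, rfl⟩, rfl⟩
    obtain ⟨ν, hν, h2⟩ := mem_RR.1 h1
    have hν0 : ν ≠ 0 := by
      rintro rfl
      apply hx1
      apply τ.injective
      rw [h2, transv_zero, map_one, map_one]
    obtain ⟨g, hg⟩ := exists_conj_transv hF le_rfl hu0 hv0 hu hv hμ0 hν0 hμ hν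
    refine ⟨pr 3 F q g, ?_⟩
    rw [h2, hg, map_mul, map_mul, map_inv]

end PSU

end Cfsg.Agent.H601.K4
end

-- part: H601/K4/InvLie
section
/-!
# Row (B) of S4547 for the groups of Lie type of odd characteristic (helper601)

* `lie_inv` : `GoodInv3 S` for all groups of Lie type of odd characteristic other than `PSL₂(q)`.
-/

set_option autoImplicit false
set_option linter.unusedSectionVars false

namespace Cfsg.Agent.H601.K4

open Cfsg Cfsg.Agent.Omega.ML.Ex.Typ
open Cfsg.Agent.LieRecognition.BNCox (cA)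
open Cfsg.Agent.Nodes.RGDChev

universe u

variable {S : Type u} [Group S] [Finite S] [IsSimpleGroup S] {p : ℕ}

theorem simple_of_equiv {K : Type*} [Group K] (e : S ≃* K) : IsSimpleGroup K := by
  have : Nontrivial K := e.symm.toEquiv.nontrivial
  exact IsSimpleGroup.isSimpleGroup_of_surjective e.toMonoidHom e.surjective

/-- **Three invariant good characters for the groups of Lie type of odd characteristic.** -/
theorem lie_inv (hp : p.Prime) (hp2 : p ≠ 2) (h : IsLieTypeChar p S) :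
    GoodInv3 S ∨ ∃ (F : Type) (_ : Field F) (_ : Fintype F), (2 : F) ≠ 0 ∧ 4 ≤ Fintype.card F ∧ CharP F p ∧
      Nonempty (S ≃* Matrix.ProjectiveSpecialLinearGroup (Fin 2) F) := by
  have : Fact p.Prime := ⟨hp⟩
  rcases h with h | h | h | h | h | h | h | h | ⟨h, -⟩ | ⟨h, -⟩ | ⟨-, h⟩
  · obtain ⟨F, _, _, _, n, hn, hn4, ⟨e⟩⟩ := h
    rcases Nat.lt_or_ge n 4 with h4 | h4
    · have h5 : n = 2 ∨ n = 3 := by omega
      rcases h5 with rfl | rfl
      · exact Or.inr ⟨F, _, _, two_ne_p hp2, hn4 rfl, inferInstance, ⟨e⟩⟩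
      · have := simple_of_equiv e
        exact Or.inl ((goodInv3_psl3 hp hp2).congr e)
    · obtain ⟨m, rfl⟩ : ∃ m, n = m + 1 := ⟨n - 1, by omega⟩
      exact Or.inl (inv_A hp hp2 (by omega) ((typ_PSL m).of_equiv e.symm))
  · obtain ⟨F, _, _, _, m, hm, -, ⟨e⟩⟩ := h
    have := simple_of_equiv e
    exact Or.inl ((goodInv3_psp hp hp2 hm).congr e)
  · obtain ⟨F, _, _, _, n, q, hF, hn, -, ⟨e⟩⟩ := h
    rcases Nat.lt_or_ge n 6 with h6 | h6
    · have h5 : n = 3 ∨ n = 4 ∨ n = 5 := by omega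
      rcases h5 with rfl | rfl | rfl
      · have := simple_of_equiv e
        exact Or.inl ((goodInv3_psu3 hp hp2 hF).congr e)
      · exact Or.inl (goodInv3_of_labT hp hp2 (by decide) ((H809.LabPSU.lab_psu4 hF hp2).of_equiv e.symm))
      · exact Or.inl (goodInv3_of_labT hp hp2 (by decide) ((H809.LabPSU.lab_psu5 hF hp2).of_equiv e.symm))
    · obtain ⟨m, hm, hR⟩ := typ_PSU (p := p) hF hn
      exact Or.inl (inv_B hp hp2 (by omega) (hR.of_equiv e.symm))
  · obtain ⟨F, _, _, _, m, hm, -, ⟨e⟩⟩ := h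
    exact Or.inl (inv_B hp hp2 hm ((H580.LieFam.typ_PO_odd (two_ne_p (F := F) hp2) (by omega)).of_equiv e.symm))
  · obtain ⟨F, _, _, _, m, hm, ⟨e⟩⟩ := h
    obtain ⟨n, rfl⟩ : ∃ n, m = n + 3 := ⟨m - 3, by omega⟩
    exact Or.inl (inv_D hp hp2 (by omega) ((typ_PO_plus n).of_equiv e.symm))
  · obtain ⟨F, _, _, _, m, a, b, hm, hab, ⟨e⟩⟩ := h
    exact Or.inl (inv_B hp hp2 (by omega) ((typ_PO_minus hab (by omega)).of_equiv e.symm))
  · obtain ⟨F, _, _, _, ⟨-, ⟨e⟩⟩ | ⟨⟨e⟩⟩ | ⟨⟨e⟩⟩ | ⟨⟨e⟩⟩ | ⟨⟨e⟩⟩⟩ := h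
    · have : IsSimpleGroup (H490.G2.K F) := simple_of_equiv e
      exact Or.inl ((goodInv3_g2 hp hp2).congr e)
    · exact Or.inl (inv_F4 hp hp2 ((typ_group (by simp [IsType, typeList]) F p).of_equiv e.symm))
    · exact Or.inl (inv_E6 hp hp2 ((typ_group (by simp [IsType, typeList]) F p).of_equiv e.symm))
    · exact Or.inl (inv_E7 hp hp2 ((typ_group (by simp [IsType, typeList]) F p).of_equiv e.symm))
    · exact Or.inl (inv_E8 hp hp2 ((typ_group (by simp [IsType, typeList]) F p).of_equiv e.symm))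
  · obtain ⟨K, _, _, _, q, hq, ⟨hK, ⟨e⟩⟩ | ⟨hK, ⟨e⟩⟩⟩ := h
    · exact Or.inl (inv_F4 hp hp2 ((typ_twE6 hq hK p).of_equiv e.symm))
    · exact Or.inl (goodInv3_of_labT hp hp2 (by decide) ((H809.LabTwD4.lab_twD4 hq hK p).of_equiv e.symm))
  · exact absurd h hp2
  · exact absurd h hp2
  · exact Or.inl (goodInv3_ree h)

end Cfsg.Agent.H601.K4
end

-- part: H671/K547/Dispatch
section
/-!
# S4547: the rows of all finite simple groups from the rows of the families (helper671)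

* `D3Ext S` : the Sylow 2-subgroups of `AutExt τ` need three generators for every outer `τ` of 2-power order;
* `OddInputs`, `EvenInputs`, `SporInputs` : what is needed from the families;
* `row_known` : `Row S` for every known simple group.
-/

set_option autoImplicit false

namespace Cfsg.Agent.H671.K547

open Cfsg Cfsg.Agent.H601.K4 Cfsg.Agent.H821.K547 Matrix

universe u v

/-- `AutExt τ` has `D3` for all outer automorphisms `τ` of 2-power order modulo inner automorphisms. -/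
def D3Ext (S : Type u) [Group S] : Prop := ∀ τ : MulAut S, TwoPow τ → ¬ IsInn τ → D3 (AutExt τ)

theorem d3Ext_congr {S : Type u} {T : Type v} [Group S] [Group T] [Finite S] (e : S ≃* T) (h : D3Ext T) : D3Ext S :=
  fun τ h2 ho => (d3_autExt_congr_iff e τ).1 (h _ (twoPow_congr e h2) fun hi => ho ((isInn_congr_iff e).1 hi))

/-- what is needed from the groups of Lie type of odd characteristic -/
structure OddInputs : Prop where
  /-- `PSL₂(q)` -/
  psl2 : ∀ {F : Type} [Field F] [Fintype F], Odd (Fintype.card F) → 4 ≤ Fintype.card F →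
    Row (ProjectiveSpecialLinearGroup (Fin 2) F)
  x_psl3 : ∀ {F : Type} [Field F] [Fintype F], Odd (Fintype.card F) → XCond (ProjectiveSpecialLinearGroup (Fin 3) F)
  ext_psl3 : ∀ {F : Type} [Field F] [Fintype F], Odd (Fintype.card F) → D3Ext (ProjectiveSpecialLinearGroup (Fin 3) F)
  x_psu3 : ∀ {F : Type} [Field F] [Fintype F] {q : ℕ}, Fintype.card F = q ^ 2 → Odd q → XCond (PSU 3 F q)
  ext_psu3 : ∀ {F : Type} [Field F] [Fintype F] {q : ℕ}, Fintype.card F = q ^ 2 → Odd q → D3Ext (PSU 3 F q)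
  d3_psl : ∀ {F : Type} [Field F] [Fintype F] {n : ℕ}, Odd (Fintype.card F) → 4 ≤ n →
    D3 (ProjectiveSpecialLinearGroup (Fin n) F)
  ext_psl : ∀ {F : Type} [Field F] [Fintype F] {n : ℕ}, Odd (Fintype.card F) → 4 ≤ n →
    D3Ext (ProjectiveSpecialLinearGroup (Fin n) F)
  d3_psu : ∀ {F : Type} [Field F] [Fintype F] {n q : ℕ}, Fintype.card F = q ^ 2 → Odd q → 4 ≤ n → D3 (PSU n F q)
  ext_psu : ∀ {F : Type} [Field F] [Fintype F] {n q : ℕ}, Fintype.card F = q ^ 2 → Odd q → 4 ≤ n → D3Ext (PSU n F q)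
  d3_psp : ∀ {F : Type} [Field F] [Fintype F] {m : ℕ}, Odd (Fintype.card F) → 2 ≤ m → D3 (PSp m F)
  ext_psp : ∀ {F : Type} [Field F] [Fintype F] {m : ℕ}, Odd (Fintype.card F) → 2 ≤ m → D3Ext (PSp m F)
  d3_oddO : ∀ {F : Type} [Field F] [Fintype F] {m : ℕ}, Odd (Fintype.card F) → 3 ≤ m → D3 (POmega F (quadFormOdd m F))
  ext_oddO : ∀ {F : Type} [Field F] [Fintype F] {m : ℕ}, Odd (Fintype.card F) → 3 ≤ m →
    D3Ext (POmega F (quadFormOdd m F))
  d3_plusO : ∀ {F : Type} [Field F] [Fintype F] {m : ℕ}, Odd (Fintype.card F) → 4 ≤ m →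
    D3 (POmega F (quadFormPlus m F))
  ext_plusO : ∀ {F : Type} [Field F] [Fintype F] {m : ℕ}, Odd (Fintype.card F) → 4 ≤ m →
    D3Ext (POmega F (quadFormPlus m F))
  d3_minusO : ∀ {F : Type} [Field F] [Fintype F] {m : ℕ} {a b : F}, Odd (Fintype.card F) → 4 ≤ m →
    (∀ z₁ z₂ : F, z₁ ^ 2 + a * z₁ * z₂ + b * z₂ ^ 2 = 0 → z₁ = 0 ∧ z₂ = 0) →
      D3 (POmega F (quadFormMinus (m - 1) F a b))
  ext_minusO : ∀ {F : Type} [Field F] [Fintype F] {m : ℕ} {a b : F}, Odd (Fintype.card F) → 4 ≤ m →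
    (∀ z₁ z₂ : F, z₁ ^ 2 + a * z₁ * z₂ + b * z₂ ^ 2 = 0 → z₁ = 0 ∧ z₂ = 0) →
      D3Ext (POmega F (quadFormMinus (m - 1) F a b))
  d3_g2 : ∀ {F : Type} [Field F] [Fintype F], Odd (Fintype.card F) → D3 (Lie.chevG2.group F)
  ext_g2 : ∀ {F : Type} [Field F] [Fintype F], Odd (Fintype.card F) → D3Ext (Lie.chevG2.group F)
  d3_f4 : ∀ {F : Type} [Field F] [Fintype F], Odd (Fintype.card F) → D3 (Lie.chevF4.group F)
  ext_f4 : ∀ {F : Type} [Field F] [Fintype F], Odd (Fintype.card F) → D3Ext (Lie.chevF4.group F)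
  d3_e6 : ∀ {F : Type} [Field F] [Fintype F], Odd (Fintype.card F) → D3 (Lie.chevE6.group F)
  ext_e6 : ∀ {F : Type} [Field F] [Fintype F], Odd (Fintype.card F) → D3Ext (Lie.chevE6.group F)
  d3_e7 : ∀ {F : Type} [Field F] [Fintype F], Odd (Fintype.card F) → D3 (Lie.chevE7.group F)
  ext_e7 : ∀ {F : Type} [Field F] [Fintype F], Odd (Fintype.card F) → D3Ext (Lie.chevE7.group F)
  d3_e8 : ∀ {F : Type} [Field F] [Fintype F], Odd (Fintype.card F) → D3 (Lie.chevE8.group F)
  ext_e8 : ∀ {F : Type} [Field F] [Fintype F], Odd (Fintype.card F) → D3Ext (Lie.chevE8.group F)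
  d3_twE6 : ∀ {K : Type} [Field K] [Fintype K] {q : ℕ}, IsPrimePow q → Fintype.card K = q ^ 2 → Odd q →
    D3 (Lie.twistedE6 K q)
  ext_twE6 : ∀ {K : Type} [Field K] [Fintype K] {q : ℕ}, IsPrimePow q → Fintype.card K = q ^ 2 → Odd q →
    D3Ext (Lie.twistedE6 K q)
  d3_twD4 : ∀ {K : Type} [Field K] [Fintype K] {q : ℕ}, IsPrimePow q → Fintype.card K = q ^ 3 → Odd q →
    D3 (Lie.twistedD4 K q)
  ext_twD4 : ∀ {K : Type} [Field K] [Fintype K] {q : ℕ}, IsPrimePow q → Fintype.card K = q ^ 3 → Odd q →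
    D3Ext (Lie.twistedD4 K q)
  ree : ∀ {G : Type} [Group G], Lie.IsoRee G → Row G

/-- what is needed from the groups of Lie type of characteristic two -/
structure EvenInputs : Prop where
  base : ∀ {S : Type u} [Group S] [Finite S] [IsSimpleGroup S], IsLieTypeChar 2 S → BaseRow S
  ext : ∀ {S : Type u} [Group S] [Finite S] [IsSimpleGroup S], IsLieTypeChar 2 S →
    ∀ τ : MulAut S, TwoPow τ → ¬ IsInn τ → ExtRow S τ

/-- the sporadic rows and the row of the Tits group -/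
structure SporInputs : Prop where
  m11 : ∀ {S : Type u} [Group S], Spor.IsoM11 S → Row S
  m12 : ∀ {S : Type u} [Group S], Spor.IsoM12 S → Row S
  m22 : ∀ {S : Type u} [Group S], Spor.IsoM22 S → Row S
  m23 : ∀ {S : Type u} [Group S], Spor.IsoM23 S → Row S
  m24 : ∀ {S : Type u} [Group S], Spor.IsoM24 S → Row S
  j1 : ∀ {S : Type u} [Group S], Spor.IsoJ1 S → Row S
  j2 : ∀ {S : Type u} [Group S], Spor.IsoJ2 S → Row S
  j3 : ∀ {S : Type u} [Group S], Spor.IsoJ3 S → Row S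
  j4 : ∀ {S : Type u} [Group S], Spor.IsoJ4 S → Row S
  co1 : ∀ {S : Type u} [Group S], Spor.IsoCo1 S → Row S
  co2 : ∀ {S : Type u} [Group S], Spor.IsoCo2 S → Row S
  co3 : ∀ {S : Type u} [Group S], Spor.IsoCo3 S → Row S
  mcl : ∀ {S : Type u} [Group S], Spor.IsoMcL S → Row S
  hs : ∀ {S : Type u} [Group S], Spor.IsoHS S → Row S
  suz : ∀ {S : Type u} [Group S], Spor.IsoSuz S → Row S
  he : ∀ {S : Type u} [Group S], Spor.IsoHe S → Row S
  ru : ∀ {S : Type u} [Group S], Spor.IsoRu S → Row S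
  on : ∀ {S : Type u} [Group S], Spor.IsoON S → Row S
  ly : ∀ {S : Type u} [Group S], Spor.IsoLy S → Row S
  fi22 : ∀ {S : Type u} [Group S], Spor.IsoFi22 S → Row S
  fi23 : ∀ {S : Type u} [Group S], Spor.IsoFi23 S → Row S
  fi24 : ∀ {S : Type u} [Group S], Spor.IsoFi24' S → Row S
  hn : ∀ {S : Type u} [Group S], Spor.IsoHN S → Row S
  th : ∀ {S : Type u} [Group S], Spor.IsoTh S → Row S
  b : ∀ {S : Type u} [Group S], Spor.IsoB S → Row S
  m : ∀ {S : Type u} [Group S], Spor.IsoM S → Row S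
  tits : ∀ {S : Type u} [Group S], Lie.IsoTits S → Row S

/-- everything -/
structure Inputs : Prop where
  odd : OddInputs
  even : EvenInputs.{u}
  spor : SporInputs.{u}
  alt : ∀ {n : ℕ}, 7 ≤ n → Row (alternatingGroup (Fin n))

theorem odd_card {F : Type} [Field F] [Fintype F] {p : ℕ} [CharP F p] (hp : p.Prime) (hp2 : p ≠ 2) :
    Odd (Fintype.card F) := by
  have : Fact p.Prime := ⟨hp⟩
  obtain ⟨n, -, hn⟩ := FiniteField.card F p
  rw [hn]
  exact (hp.odd_of_ne_two hp2).pow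

theorem odd_of_pow {a q k : ℕ} (h : Odd a) (he : a = q ^ k) (hk : k ≠ 0) : Odd q := by
  rw [he] at h
  rcases Nat.even_or_odd q with h1 | h1
  · exact absurd (h1.pow_of_ne_zero hk) (Nat.not_even_iff_odd.2 h)
  · exact h1

section

variable {S : Type u} [Group S] [Finite S] [IsSimpleGroup S]

/-- the groups of Lie type of odd characteristic -/
theorem row_odd (R : OddInputs) {p : ℕ} (hp : p.Prime) (hp2 : p ≠ 2) (h : IsLieTypeChar p S) : Row S := by
  have hgi : GoodInv3 S ∨ ∃ (F : Type) (_ : Field F) (_ : Fintype F), (2 : F) ≠ 0 ∧ 4 ≤ Fintype.card F ∧ CharP F p ∧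
      Nonempty (S ≃* ProjectiveSpecialLinearGroup (Fin 2) F) := lie_inv hp hp2 h
  rcases hgi with hi | ⟨F, _, _, -, h4, _, ⟨e⟩⟩
  swap
  · exact row_congr e (R.psl2 (odd_card hp hp2) h4)
  have hg5 : Good5 S ∨ SmallRank S := good_lie_odd hp hp2 h
  rcases hg5 with hg | hs
  swap
  · rcases hs with ⟨hn, h2, h4, e⟩ | ⟨hF, h2, e⟩ | h
    · rename_i F _ _ n
      have hodd : Odd (Fintype.card F) := by
        rcases Nat.even_or_odd (Fintype.card F) with he | ho
        · exfalso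
          obtain ⟨r, hr⟩ := CharP.exists F
          have hrp : Fact r.Prime := ⟨CharP.char_is_prime F r⟩
          obtain ⟨k, hk, hc⟩ := FiniteField.card F r
          have h3 : 2 ∣ r ^ (k : ℕ) := by
            rw [← hc]
            exact he.two_dvd
          have h5 := (Nat.prime_dvd_prime_iff_eq Nat.prime_two hrp.out).1 (Nat.prime_two.dvd_of_dvd_pow h3)
          subst h5
          exact h2 (by exact_mod_cast CharP.cast_eq_zero F 2)
        · exact ho
      rcases hn with rfl | rfl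
      · exact row_congr e (R.psl2 hodd (h4 rfl))
      · exact row_of_xcond (xcond_congr e (R.x_psl3 hodd)) hi (d3Ext_congr e (R.ext_psl3 hodd))
    · rename_i F _ _ q
      have hodd : Odd (Fintype.card F) := by
        rcases Nat.even_or_odd (Fintype.card F) with he | ho
        · exfalso
          obtain ⟨r, hr⟩ := CharP.exists F
          have hrp : Fact r.Prime := ⟨CharP.char_is_prime F r⟩
          obtain ⟨k, hk, hc⟩ := FiniteField.card F r
          have h3 : 2 ∣ r ^ (k : ℕ) := by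
            rw [← hc]
            exact he.two_dvd
          have h5 := (Nat.prime_dvd_prime_iff_eq Nat.prime_two hrp.out).1 (Nat.prime_two.dvd_of_dvd_pow h3)
          subst h5
          exact h2 (by exact_mod_cast CharP.cast_eq_zero F 2)
        · exact ho
      have hq : Odd q := odd_of_pow hodd hF two_ne_zero
      exact row_of_xcond (xcond_congr e (R.x_psu3 hF hq)) hi (d3Ext_congr e (R.ext_psu3 hF hq))
    · obtain ⟨K, _, _, m, hm, hK, ⟨e⟩⟩ := h
      exact row_congr e (R.ree ⟨K, inferInstance, inferInstance, m, hm, hK, ⟨MulEquiv.refl _⟩⟩)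
  have key : ∀ {T : Type} [Group T], (S ≃* T) → D3 T → D3Ext T → Row S := fun e h1 h2 =>
    row_of hg (d3_congr e h1) hi (d3Ext_congr e h2)
  rcases h with h | h | h | h | h | h | h | h | ⟨h, -⟩ | ⟨h, -⟩ | ⟨-, h⟩
  · obtain ⟨F, _, _, _, n, hn, hn4, ⟨e⟩⟩ := h
    have ho : Odd (Fintype.card F) := odd_card hp hp2
    rcases Nat.lt_or_ge n 4 with h4 | h4
    · have h5 : n = 2 ∨ n = 3 := by omega
      rcases h5 with rfl | rfl
      · exact row_congr e (R.psl2 ho (hn4 rfl))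
      · exact row_of_xcond (xcond_congr e (R.x_psl3 ho)) hi (d3Ext_congr e (R.ext_psl3 ho))
    · exact key e (R.d3_psl ho h4) (R.ext_psl ho h4)
  · obtain ⟨F, _, _, _, m, hm, -, ⟨e⟩⟩ := h
    have ho : Odd (Fintype.card F) := odd_card hp hp2
    exact key e (R.d3_psp ho hm) (R.ext_psp ho hm)
  · obtain ⟨F, _, _, _, n, q, hF, hn, -, ⟨e⟩⟩ := h
    have ho : Odd q := odd_of_pow (odd_card (F := F) hp hp2) hF two_ne_zero
    rcases Nat.lt_or_ge n 4 with h4 | h4
    · obtain rfl : n = 3 := by omega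
      exact row_of_xcond (xcond_congr e (R.x_psu3 hF ho)) hi (d3Ext_congr e (R.ext_psu3 hF ho))
    · exact key e (R.d3_psu hF ho h4) (R.ext_psu hF ho h4)
  · obtain ⟨F, _, _, _, m, hm, -, ⟨e⟩⟩ := h
    have ho : Odd (Fintype.card F) := odd_card hp hp2
    exact key e (R.d3_oddO ho hm) (R.ext_oddO ho hm)
  · obtain ⟨F, _, _, _, m, hm, ⟨e⟩⟩ := h
    have ho : Odd (Fintype.card F) := odd_card hp hp2
    exact key e (R.d3_plusO ho hm) (R.ext_plusO ho hm)
  · obtain ⟨F, _, _, _, m, a, b, hm, hab, ⟨e⟩⟩ := h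
    have ho : Odd (Fintype.card F) := odd_card hp hp2
    exact key e (R.d3_minusO ho hm hab) (R.ext_minusO ho hm hab)
  · obtain ⟨F, _, _, _, h⟩ := h
    have ho : Odd (Fintype.card F) := odd_card hp hp2
    rcases h with ⟨-, ⟨e⟩⟩ | ⟨⟨e⟩⟩ | ⟨⟨e⟩⟩ | ⟨⟨e⟩⟩ | ⟨⟨e⟩⟩
    · exact key e (R.d3_g2 ho) (R.ext_g2 ho)
    · exact key e (R.d3_f4 ho) (R.ext_f4 ho)
    · exact key e (R.d3_e6 ho) (R.ext_e6 ho)
    · exact key e (R.d3_e7 ho) (R.ext_e7 ho)
    · exact key e (R.d3_e8 ho) (R.ext_e8 ho)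
  · obtain ⟨K, _, _, _, q, hq, ⟨hK, ⟨e⟩⟩ | ⟨hK, ⟨e⟩⟩⟩ := h
    · have ho : Odd q := odd_of_pow (odd_card (F := K) hp hp2) hK two_ne_zero
      exact key e (R.d3_twE6 hq hK ho) (R.ext_twE6 hq hK ho)
    · have ho : Odd q := odd_of_pow (odd_card (F := K) hp hp2) hK three_ne_zero
      exact key e (R.d3_twD4 hq hK ho) (R.ext_twD4 hq hK ho)
  · exact absurd h hp2
  · exact absurd h hp2
  · obtain ⟨K, _, _, m, hm, hK, ⟨e⟩⟩ := h
    exact row_congr e (R.ree ⟨K, inferInstance, inferInstance, m, hm, hK, ⟨MulEquiv.refl _⟩⟩)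

/-- the groups of Lie type of characteristic two -/
theorem row_even (R : EvenInputs.{u}) (h : IsLieTypeChar 2 S) : Row S := ⟨R.base h, R.ext h⟩

omit [Finite S] [IsSimpleGroup S] in
/-- the sporadic groups -/
theorem row_sporadic (R : SporInputs.{u}) (h : IsSporadicGroup S) : Row S := by
  rcases h with h | h | h | h | h | h | h | h | h | h | h | h | h | h | h | h | h | h |
      h | h | h | h | h | h | h | h
  · exact R.m11 h
  · exact R.m12 h
  · exact R.m22 h
  · exact R.m23 h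
  · exact R.m24 h
  · exact R.j1 h
  · exact R.j2 h
  · exact R.j3 h
  · exact R.j4 h
  · exact R.co1 h
  · exact R.co2 h
  · exact R.co3 h
  · exact R.mcl h
  · exact R.hs h
  · exact R.suz h
  · exact R.he h
  · exact R.ru h
  · exact R.on h
  · exact R.ly h
  · exact R.fi22 h
  · exact R.fi23 h
  · exact R.fi24 h
  · exact R.hn h
  · exact R.th h
  · exact R.b h
  · exact R.m h

/-- **The rows of all known simple groups.** -/
theorem row_known (R : Inputs.{u}) (hna : ¬ IsMulCommutative S) (hK : IsKnownSimple' S) : Row S := by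
  rcases OddHalf.Known.classify hna hK with h | ⟨p, hp, hp2, h⟩ | (h | h) | h
  · obtain ⟨n, hn, ⟨e⟩⟩ := h
    rcases (show n = 5 ∨ n = 6 ∨ 7 ≤ n by omega) with rfl | rfl | h7
    · let _ : Fintype (GaloisField 2 2) := Fintype.ofFinite _
      have hF : Fintype.card (GaloisField 2 2) = 4 := by
        rw [Fintype.card_eq_nat_card, GaloisField.card 2 2 (by norm_num)]; norm_num
      obtain ⟨f⟩ := S0252.result hF
      exact row_even R.even (Or.inl ⟨GaloisField 2 2, inferInstance, inferInstance, inferInstance, 2, le_rfl,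
        fun _ => hF.ge, ⟨e.trans f.symm⟩⟩)
    · let _ : Fintype (GaloisField 3 2) := Fintype.ofFinite _
      have hF : Fintype.card (GaloisField 3 2) = 9 := by
        rw [Fintype.card_eq_nat_card, GaloisField.card 3 2 (by norm_num)]; norm_num
      obtain ⟨f⟩ := S0254.result hF
      exact row_odd R.odd Nat.prime_three (by norm_num) (Or.inl ⟨GaloisField 3 2, inferInstance, inferInstance,
        inferInstance, 2, le_rfl, fun _ => by rw [hF]; norm_num, ⟨e.trans f.symm⟩⟩)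
    · exact row_congr e (R.alt h7)
  · exact row_odd R.odd hp hp2 h
  · exact row_even R.even h
  · exact R.spor.tits h
  · exact row_sporadic R.spor h

end

end Cfsg.Agent.H671.K547
end

-- part: H71/QE/FieldCases
section
/-!
# S4547, task QE7 (helper71): field automorphisms of 2-power order in characteristic two

* `field_cases` : the case distinction for the automorphism `φ` of `2`-power order of the finite field `F`.
-/

set_option autoImplicit false

namespace Cfsg.Agent.H71.QE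

universe u

variable {F : Type u} [Field F]

/-- `φ + 1` -/
def nn (φ : F ≃+* F) (z : F) : F := φ z + z

theorem nn_iter [CharP F 2] (φ : F ≃+* F) (j : ℕ) : ∀ z : F, (nn φ)^[2 ^ j] z = φ^[2 ^ j] z + z := by
  induction j with
  | zero => intro z; rfl
  | succ j ih =>
    intro z
    have hadd : ∀ (m : ℕ) (a b : F), φ^[m] (a + b) = φ^[m] a + φ^[m] b := fun m => by
      induction m with
      | zero => intro a b; rfl
      | succ m ihm => intro a b; rw [Function.iterate_succ_apply, map_add, ihm]; rfl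
    rw [pow_succ, mul_two, Function.iterate_add_apply, ih, ih, Function.iterate_add_apply, hadd]
    linear_combination CharTwo.add_self_eq_zero (φ^[2 ^ j] z)

theorem exists_two_cycle [CharP F 2] (φ : F ≃+* F) (hφ : ∃ k : ℕ, ∀ x, φ^[2 ^ k] x = x) (h1 : ∃ x, φ x ≠ x) :
    ∃ z : F, φ (φ z) = z ∧ φ z ≠ z := by
  classical
  obtain ⟨k, hk⟩ := hφ
  obtain ⟨z₀, hz₀⟩ := h1
  have hex : ∃ m : ℕ, (nn φ)^[m] z₀ = 0 := ⟨2 ^ k, by rw [nn_iter, hk, CharTwo.add_self_eq_zero]⟩
  have h2 := Nat.find_spec hex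
  have h3 : ∀ m < Nat.find hex, (nn φ)^[m] z₀ ≠ 0 := fun m hm => Nat.find_min hex hm
  generalize Nat.find hex = m at h2 h3
  have hz0 : z₀ ≠ 0 := by rintro rfl; exact hz₀ (map_zero φ)
  have hm0 : m ≠ 0 := by rintro rfl; exact hz0 h2
  have hm1 : m ≠ 1 := by
    rintro rfl
    apply hz₀
    have h4 : φ z₀ + z₀ = 0 := h2
    rw [CharTwo.add_eq_zero] at h4
    exact h4
  obtain ⟨m, rfl⟩ : ∃ j, m = j + 2 := ⟨m - 2, by omega⟩
  refine ⟨(nn φ)^[m] z₀, ?_, ?_⟩
  · rw [Function.iterate_succ_apply', Function.iterate_succ_apply'] at h2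
    generalize (nn φ)^[m] z₀ = w at h2
    change φ (φ w + w) + (φ w + w) = 0 at h2
    rw [map_add] at h2
    have h5 : φ (φ w) + w = 0 := by
      linear_combination h2 - CharTwo.add_self_eq_zero (φ w)
    rw [CharTwo.add_eq_zero] at h5
    exact h5
  · intro h4
    have h5 := h3 (m + 1) (by omega)
    rw [Function.iterate_succ_apply'] at h5
    apply h5
    unfold nn at h4 ⊢
    rw [h4, CharTwo.add_self_eq_zero]

theorem sq_one [CharP F 2] {y : F} (h : y * y = 1) : y = 1 := by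
  have h1 : (y - 1) * (y - 1) = 0 := by
    linear_combination h - y * CharTwo.add_self_eq_zero (1 : F) + CharTwo.add_self_eq_zero (1 : F)
  rcases mul_eq_zero.1 h1 with h2 | h2 <;> exact sub_eq_zero.1 h2

theorem field_cases [Finite F] [CharP F 2] (h4 : 4 ≤ Nat.card F) (φ : F ≃+* F)
    (hφ : ∃ k : ℕ, ∀ x, φ^[2 ^ k] x = x) :
    (Nat.card F = 4 ∧ ∀ x, φ x = x) ∨
    (3 ∣ Nat.card Fˣ ∧ ∀ x : Fˣ, ∃ y : Fˣ, x * Units.map (φ : F →* F) x = y ^ 3) ∨
    ∃ x y : F, x ≠ 0 ∧ x ≠ 1 ∧ y ≠ 0 ∧ y ≠ 1 ∧ y ≠ x ∧ x * y ≠ 1 ∧ (φ x = x ∨ φ x * x = 1) ∧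
      (φ y = y ∨ φ y * y = 1) := by
  classical
  have : Fintype F := Fintype.ofFinite F
  rw [Nat.card_eq_fintype_card] at h4 ⊢
  by_cases h1 : ∀ x, φ x = x
  · rcases eq_or_lt_of_le h4 with h5 | h5
    · exact Or.inl ⟨h5.symm, h1⟩
    · refine Or.inr (Or.inr ?_)
      have key : ∀ s : Finset F, s.card ≤ 4 → ∃ x, x ∉ s := by
        intro s hs
        by_contra hcon
        push Not at hcon
        have h6 : s = Finset.univ := Finset.eq_univ_iff_forall.2 hcon
        rw [h6, Finset.card_univ] at hs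
        omega
      obtain ⟨x, hx⟩ := key {0, 1} (Finset.card_le_two.trans (by norm_num))
      obtain ⟨y, hy⟩ := key {0, 1, x, x⁻¹} Finset.card_le_four
      simp only [Finset.mem_insert, Finset.mem_singleton, not_or] at hx hy
      refine ⟨x, y, hx.1, hx.2, hy.1, hy.2.1, hy.2.2.1, fun h => hy.2.2.2 ?_, Or.inl (h1 x), Or.inl (h1 y)⟩
      exact eq_inv_of_mul_eq_one_right h
  · push Not at h1
    obtain ⟨z, hz2, hz1⟩ := exists_two_cycle φ hφ h1
    have hz0 : z ≠ 0 := by rintro rfl; exact hz1 (map_zero φ)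
    have hφz0 : φ z ≠ 0 := fun h => hz0 ((map_eq_zero φ).1 h)
    set y := φ z / z with hy
    have hyy : φ y * y = 1 := by
      rw [hy, map_div₀, hz2]
      field_simp
    have hy0 : y ≠ 0 := div_ne_zero hφz0 hz0
    have hy1 : y ≠ 1 := fun h => hz1 (by rwa [hy, div_eq_one_iff_eq hz0] at h)
    by_cases h2 : ∃ x, x ≠ 0 ∧ x ≠ 1 ∧ φ x = x
    · obtain ⟨x, hx0, hx1, hx⟩ := h2
      refine Or.inr (Or.inr ⟨x, y, hx0, hx1, hy0, hy1, ?_, ?_, Or.inl hx, Or.inr hyy⟩)
      · intro h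
        rw [h, hx] at hyy
        exact hx1 (sq_one hyy)
      · intro h
        have h5 : φ x * φ y = 1 := by rw [← map_mul, h, map_one]
        rw [hx] at h5
        have h6 : y = φ y := mul_left_cancel₀ hx0 (h.trans h5.symm)
        rw [← h6] at hyy
        exact hy1 (sq_one hyy)
    · push Not at h2
      have hfix : ∀ x, x ≠ 0 → φ x = x → x = 1 := fun x hx0 hx => by
        by_contra hx1
        exact h2 x hx0 hx1 hx
      have ha : φ z + z = 1 := by
        refine hfix _ (fun h => hz1 (CharTwo.add_eq_zero.1 h)) ?_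
        rw [map_add, hz2, add_comm]
      have hb : φ z * z = 1 := by
        refine hfix _ (mul_ne_zero hφz0 hz0) ?_
        rw [map_mul, hz2, mul_comm]
      have hz : z ^ 2 + z + 1 = 0 := by
        have h5 : φ z = z + 1 := by linear_combination ha - CharTwo.add_self_eq_zero z
        rw [h5] at hb
        linear_combination hb + CharTwo.add_self_eq_zero (1 : F)
      have hz3 : z ^ 3 = 1 := by linear_combination (z - 1) * hz
      have hzne : z ≠ 1 := by
        rintro rfl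
        exact hz1 (map_one φ)
      set Z : Fˣ := Units.mk0 z hz0 with hZ
      have hZo : orderOf Z = 3 := by
        have : Fact (Nat.Prime 3) := ⟨Nat.prime_three⟩
        refine orderOf_eq_prime (Units.ext ?_) fun h => hzne (congrArg Units.val h)
        rw [Units.val_pow_eq_pow_val]
        exact hz3
      refine Or.inr (Or.inl ⟨?_, ?_⟩)
      · rw [← hZo]
        exact orderOf_dvd_natCard Z
      · obtain ⟨m, hm⟩ := MonoidHom.map_cyclic (Units.map (φ : F →* F))
        have h5 : Z ^ (m + 1) = 1 := by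
          rw [zpow_add, ← hm, zpow_one]
          apply Units.ext
          exact hb
        have h6 := orderOf_dvd_iff_zpow_eq_one.2 h5
        rw [hZo] at h6
        obtain ⟨j, hj⟩ := h6
        intro x
        refine ⟨x ^ j, ?_⟩
        rw [hm, ← zpow_one_add, add_comm, hj, ← zpow_natCast, ← zpow_mul, mul_comm]

end Cfsg.Agent.H71.QE
end

-- part: H71/QE/Shape
section
/-!
# S4547, task QE7 (helper71): the shape of the normalised automorphisms of `PSL_3(F)` reversing the diagram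

* `psl3_shape` : `β = lift (cj A * fld φ * itr)` with `A` antidiagonal.
-/

set_option autoImplicit false
set_option linter.unusedSectionVars false

namespace Cfsg.Agent.H71.QE

open Cfsg Matrix CoxeterSystem Cfsg.Agent.ChevalleyStructure.CoxeterGeom Cfsg.Agent.Tits.Roots Cfsg.Agent.Tits.Core
open Cfsg.Agent.Nodes Cfsg.Agent.Nodes.RGDTypeA
open Cfsg.Agent.TitsThree.KSideA (tv tv_of_ne tv_add tv_zero tv_neg)
open Cfsg.Agent.LieRecognition.BNCox (cA)
open Cfsg.Agent.ClassicalGeometry.AutPSL.Auto (cj fld itr lift lift_pr coe_cj coe_fld_apply)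
open Cfsg.Agent.H307.QE Cfsg.Agent.H821.K547 Cfsg.Agent.H42.K547.Even

universe u

variable {F : Type u} [Field F] [CharP F 2]

theorem tv_sq (a b : Fin 3) (t : F) : tv a b t * tv a b t = 1 := by
  rw [← tv_add, CharTwo.add_self_eq_zero, tv_zero]

theorem eq_of_pr {M M' : _root_.Matrix.SpecialLinearGroup (Fin 3) F} (h : RGDTypeA.pr 2 F M = RGDTypeA.pr 2 F M') (h1 : M * M = 1)
    (h2 : M' * M' = 1) : M = M' := by
  obtain ⟨a, ha⟩ := exists_scalar (F := F) h
  have h3 : SpecialLinearGroup.toGL M' * SpecialLinearGroup.toGL M' = dgl 2 F (fun _ => a) * dgl 2 F (fun _ => a) := by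
    rw [ha]
    calc dgl 2 F (fun _ => a) * SpecialLinearGroup.toGL M * (dgl 2 F (fun _ => a) * SpecialLinearGroup.toGL M)
        = dgl 2 F (fun _ => a) * (SpecialLinearGroup.toGL M * dgl 2 F (fun _ => a)) * SpecialLinearGroup.toGL M := by
          group
      _ = dgl 2 F (fun _ => a) * dgl 2 F (fun _ => a) * (SpecialLinearGroup.toGL M * SpecialLinearGroup.toGL M) := by
          rw [← dgl_scalar_comm a (SpecialLinearGroup.toGL M)]
          group
      _ = _ := by rw [← map_mul SpecialLinearGroup.toGL, h1, map_one, mul_one]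
  rw [← map_mul SpecialLinearGroup.toGL, h2, map_one, ← map_mul] at h3
  have h4 : (fun _ => a) * (fun _ => a) = (1 : Fin 3 → Fˣ) :=
    dgl_injective (n := 2) (F := F) (h3.symm.trans (map_one (dgl 2 F)).symm)
  have h5 : (1 : Fˣ) = a * a := (congrFun h4 0).symm
  have h6 : (a : F) = 1 := sq_one (congrArg Units.val h5.symm)
  have h7 : a = 1 := Units.ext h6
  have h8 : dgl 2 F (fun _ => a) = 1 := by
    rw [h7]
    exact map_one _
  rw [h8, one_mul] at ha
  exact (toGL_injective (n := 2) (F := F) ha).symm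

/-- the entries of `A` -/
theorem ent {A : GL (Fin 3) F} {a b c d : Fin 3} (hab : a ≠ b) (hcd : c ≠ d) {t : F} (ht : t ≠ 0)
    (h : RGDTypeA.pr 2 F (cj A (tv a b t)) ∈ (XX F c d).map (RGDTypeA.pr 2 F)) :
    (∀ i, i ≠ c → (A : Matrix (Fin 3) (Fin 3) F) i a = 0) ∧ ∀ j, j ≠ b → (A : Matrix (Fin 3) (Fin 3) F) d j = 0 := by
  obtain ⟨_, ⟨s, rfl⟩, hs⟩ := h
  have h1 : tv c d s = cj A (tv a b t) :=
    eq_of_pr hs (tv_sq c d s) (by rw [← map_mul, tv_sq, map_one])
  have h2 : (1 + single c d s) * (A : Matrix (Fin 3) (Fin 3) F) = (A : Matrix (Fin 3) (Fin 3) F) * (1 + single a b t) := by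
    have h3 := congrArg (fun g : _root_.Matrix.SpecialLinearGroup (Fin 3) F => (g : Matrix (Fin 3) (Fin 3) F) *
      (A : Matrix (Fin 3) (Fin 3) F)) h1
    change (tv c d s).1 * _ = (cj A (tv a b t) : Matrix (Fin 3) (Fin 3) F) * _ at h3
    rw [coe_cj, tv_val hcd, tv_val hab, mul_assoc (_ * _), ← Units.val_mul, inv_mul_cancel, Units.val_one,
      mul_one] at h3
    exact h3
  rw [add_mul, one_mul, mul_add, mul_one, add_right_inj] at h2
  have hent : ∀ i j, (if i = c then s * (A : Matrix (Fin 3) (Fin 3) F) d j else 0) =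
      if j = b then (A : Matrix (Fin 3) (Fin 3) F) i a * t else 0 := by
    intro i j
    have h3 := congrFun (congrFun h2 i) j
    by_cases hi : i = c
    · by_cases hj : j = b
      · subst hi hj
        rw [if_pos rfl, if_pos rfl]
        simpa only [_root_.Matrix.single_mul_apply_same, _root_.Matrix.mul_single_apply_same] using h3
      · subst hi
        rw [if_pos rfl, if_neg hj]
        rw [Matrix.mul_single_apply_of_ne _ _ _ _ _ hj] at h3
        simpa only [_root_.mul_eq_zero, _root_.Matrix.single_mul_apply_same] using h3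
    · by_cases hj : j = b
      · subst hj
        rw [if_neg hi, if_pos rfl]
        rw [Matrix.single_mul_apply_of_ne _ _ _ _ _ hi] at h3
        simpa using h3
      · rw [if_neg hi, if_neg hj]
  have hA : ∃ i, (A : Matrix (Fin 3) (Fin 3) F) i a ≠ 0 := by
    by_contra hcon
    push Not at hcon
    have h3 : (A : Matrix (Fin 3) (Fin 3) F).det = 0 := Matrix.det_eq_zero_of_column_eq_zero a hcon
    exact (GeneralLinearGroup.det A).ne_zero h3
  have hs0 : s ≠ 0 := by
    rintro rfl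
    obtain ⟨i, hi⟩ := hA
    have h3 := hent i b
    rw [if_pos rfl, zero_mul, ite_self] at h3
    exact mul_ne_zero hi ht h3.symm
  refine ⟨fun i hi => ?_, fun j hj => ?_⟩
  · have h3 := hent i b
    rw [if_neg hi, if_pos rfl] at h3
    exact (mul_eq_zero.1 h3.symm).resolve_right ht
  · have h3 := hent c j
    rw [if_pos rfl, if_neg hj] at h3
    exact (mul_eq_zero.1 h3).resolve_left hs0

theorem perm_two {σ : Equiv.Perm (Fin 2)} (hσ : σ ≠ 1) : σ 0 = 1 ∧ σ 1 = 0 := by
  revert σ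
  decide

section shape

variable {F : Type} [Field F] [CharP F 2] [Finite F] {β : MulAut (Matrix.ProjectiveSpecialLinearGroup (Fin 3) F)}
  {σ : Equiv.Perm (Fin 2)}

theorem nrm_pos (hN : Nrm (rA 2 F) β σ) (i j : Fin 2) (hij : σ i = j) (t : F) :
    β (RGDTypeA.pr 2 F (tv i.castSucc i.succ t)) ∈ (XX F j.castSucc j.succ).map (RGDTypeA.pr 2 F) := by
  subst hij
  have h1 := (hN.diag.pos i (RGDTypeA.pr 2 F (tv i.castSucc i.succ t))).2
  rw [X_sr, X_sr] at h1
  exact h1 ⟨_, tv_mem_XX _ _ _, rfl⟩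

theorem nrm_neg (hN : Nrm (rA 2 F) β σ) (i j : Fin 2) (hij : σ i = j) (t : F) :
    β (RGDTypeA.pr 2 F (tv i.succ i.castSucc t)) ∈ (XX F j.succ j.castSucc).map (RGDTypeA.pr 2 F) := by
  subst hij
  have h1 := (hN.diag.neg i (RGDTypeA.pr 2 F (tv i.succ i.castSucc t))).2
  rw [X_neg_sr, X_neg_sr] at h1
  exact h1 ⟨_, tv_mem_XX _ _ _, rfl⟩

theorem fld_tv (φ : F ≃+* F) {a b : Fin 3} (hab : a ≠ b) (t : F) :
    fld φ (tv a b t) = tv a b (φ t) := by
  apply Subtype.ext
  ext i j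
  rw [coe_fld_apply]
  rw [tv_val hab, tv_val hab, Matrix.add_apply, Matrix.add_apply, map_add]
  congr 1
  · rw [Matrix.one_apply]
    split_ifs <;> simp
  · rw [Matrix.single_apply, Matrix.single_apply]
    split_ifs <;> simp

theorem itr_tv {a b : Fin 3} (hab : a ≠ b) (t : F) :
    itr (tv a b t) = (tv b a t : _root_.Matrix.SpecialLinearGroup (Fin 3) F) := by
  have h1 : (tv a b t : _root_.Matrix.SpecialLinearGroup (Fin 3) F)⁻¹ = tv a b t := inv_eq_of_mul_eq_one_right (tv_sq a b t)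
  apply Subtype.ext
  change ((tv a b t : _root_.Matrix.SpecialLinearGroup (Fin 3) F)⁻¹).1ᵀ = _
  rw [h1, tv_val hab, tv_val hab.symm, Matrix.transpose_add, Matrix.transpose_one, Matrix.transpose_single]

/-- **The shape of `β`** -/
theorem psl3_shape (hN : Nrm (rA 2 F) β σ) (hσ : σ ≠ 1) :
    ∃ (φ : F ≃+* F) (A : GL (Fin 3) F), β = _root_.Cfsg.Agent.ClassicalGeometry.AutPSL.Auto.lift (cj A * fld φ * itr) ∧
      ∀ i j : Fin 3, j ≠ Fin.rev i → (A : Matrix (Fin 3) (Fin 3) F) i j = 0 := by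
  have : Fact (Nat.Prime 2) := ⟨Nat.prime_two⟩
  have : Fintype F := Fintype.ofFinite F
  obtain ⟨h01, h10⟩ := perm_two hσ
  rcases Cfsg.Agent.ClassicalGeometry.AutPSL.Main.surj_three 2 (le_refl 3) β with ⟨A, φ, hβ⟩ | ⟨A, φ, hβ⟩
  · exfalso
    have e1 := nrm_pos hN 0 1 h01 1
    have e2 := nrm_pos hN 1 0 h10 1
    rw [hβ] at e1 e2
    have f1 : RGDTypeA.pr 2 F (cj A (tv 0 1 1)) ∈ (XX F 1 2).map (RGDTypeA.pr 2 F) := by
      have h1 : _root_.Cfsg.Agent.ClassicalGeometry.AutPSL.Auto.lift (cj A * fld φ) (RGDTypeA.pr 2 F (tv 0 1 1)) = RGDTypeA.pr 2 F (cj A (tv 0 1 1)) := by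
        change RGDTypeA.pr 2 F (cj A (fld φ (tv 0 1 1))) = _
        rw [fld_tv φ (by decide), map_one]
      rw [← h1]
      exact e1
    have f2 : RGDTypeA.pr 2 F (cj A (tv 1 2 1)) ∈ (XX F 0 1).map (RGDTypeA.pr 2 F) := by
      have h1 : _root_.Cfsg.Agent.ClassicalGeometry.AutPSL.Auto.lift (cj A * fld φ) (RGDTypeA.pr 2 F (tv 1 2 1)) = RGDTypeA.pr 2 F (cj A (tv 1 2 1)) := by
        change RGDTypeA.pr 2 F (cj A (fld φ (tv 1 2 1))) = _
        rw [fld_tv φ (by decide), map_one]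
      rw [← h1]
      exact e2
    obtain ⟨-, g1⟩ := ent (by decide) (by decide) one_ne_zero f1
    obtain ⟨g2, -⟩ := ent (by decide) (by decide) one_ne_zero f2
    have h3 : (A : Matrix (Fin 3) (Fin 3) F).det = 0 := by
      refine Matrix.det_eq_zero_of_row_eq_zero 2 fun j => ?_
      fin_cases j
      · exact g1 0 (by decide)
      · exact g2 2 (by decide)
      · exact g1 2 (by decide)
    exact (GeneralLinearGroup.det A).ne_zero h3
  · refine ⟨φ, A, hβ, ?_⟩
    have key : ∀ {a b c d : Fin 3}, a ≠ b → c ≠ d →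
        β (RGDTypeA.pr 2 F (tv a b 1)) ∈ (XX F c d).map (RGDTypeA.pr 2 F) →
        (∀ i, i ≠ c → (A : Matrix (Fin 3) (Fin 3) F) i b = 0) ∧ ∀ j, j ≠ a → (A : Matrix (Fin 3) (Fin 3) F) d j = 0 := by
      intro a b c d hab hcd h
      refine ent hab.symm hcd one_ne_zero ?_
      have h1 : β (RGDTypeA.pr 2 F (tv a b 1)) = RGDTypeA.pr 2 F (cj A (tv b a 1)) := by
        rw [hβ]
        change RGDTypeA.pr 2 F (cj A (fld φ (itr (tv a b 1)))) = _
        rw [itr_tv hab, fld_tv φ hab.symm, map_one]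
      rw [← h1]
      exact h
    have g1 := key (by decide) (by decide) (nrm_pos hN 0 1 h01 1)
    have g2 := key (by decide) (by decide) (nrm_pos hN 1 0 h10 1)
    have g3 := key (by decide) (by decide) (nrm_neg hN 0 1 h01 1)
    intro i j hij
    fin_cases i <;> fin_cases j
    · exact g3.1 0 (by decide)
    · exact g1.1 0 (by decide)
    · exact absurd rfl hij
    · exact g3.1 1 (by decide)
    · exact absurd rfl hij
    · exact g2.1 1 (by decide)
    · exact absurd rfl hij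
    · exact g1.1 2 (by decide)
    · exact g2.1 2 (by decide)

open Cfsg.Agent.H507.K4.SizeA (dg dg_mem dg_center)

/-- the action on the diagonal matrices `diag (x, 1, x⁻¹)` -/
theorem shape_dg {φ : F ≃+* F} {A : GL (Fin 3) F} (hβ : β = _root_.Cfsg.Agent.ClassicalGeometry.AutPSL.Auto.lift (cj A * fld φ * itr))
    (hA : ∀ i j : Fin 3, j ≠ Fin.rev i → (A : Matrix (Fin 3) (Fin 3) F) i j = 0) (x : Fˣ) :
    β (RGDTypeA.pr 2 F (dg (x, 1))) = RGDTypeA.pr 2 F (dg (Units.map (φ : F →* F) x, 1)) := by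
  rw [hβ]
  change RGDTypeA.pr 2 F (cj A (fld φ (itr (dg (x, 1))))) = _
  congr 1
  apply toGL_injective (n := 2) (F := F)
  rw [toGL_cj, mul_inv_eq_iff_eq_mul]
  apply Units.ext
  have h1 : (fld φ (itr (dg (x, 1))) : _root_.Matrix.SpecialLinearGroup (Fin 3) F).1 =
      Matrix.diagonal ![φ ((x⁻¹ : Fˣ) : F), 1, φ (x : F)] := by
    ext i j
    rw [coe_fld_apply]
    change φ (((dg (x, 1))⁻¹ : _root_.Matrix.SpecialLinearGroup (Fin 3) F).1 j i) = _
    rw [← map_inv]
    change φ (Matrix.diagonal _ j i) = _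
    (revert i j; simp only [Matrix.diagonal, _root_.Fin.forall_fin_succ, _root_.Prod.inv_mk, _root_.inv_one, _root_.Units.val_inv_eq_inv_val, _root_.Units.val_one, _root_.mul_one, _root_.inv_inv, _root_.Matrix.of_apply, _root_.Nat.succ_eq_add_one, Nat.reduceAdd, _root_.map_inv₀, Fin.isValue, _root_.Matrix.cons_val_zero, _root_.Matrix.cons_val_succ, _root_.Fin.succ_zero_eq_one, _root_.MonoidWithZeroHom.map_ite_one_zero, _root_.Matrix.cons_val_fin_one, _root_.Fin.succ_one_eq_two, _root_.IsEmpty.forall_iff, _root_.and_true, ↓reduceIte, _root_.one_ne_zero, _root_.zero_ne_one, Fin.reduceEq, _root_.map_zero, _root_.and_self, _root_.Fin.succ_ne_zero, _root_.EmbeddingLike.map_eq_zero_iff, _root_.ite_eq_right_iff, _root_.inv_eq_zero, _root_.Units.ne_zero, _root_.imp_false, _root_.not_false_eq_true])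
  change (A : Matrix (Fin 3) (Fin 3) F) * (fld φ (itr (dg (x, 1))) : _root_.Matrix.SpecialLinearGroup (Fin 3) F).1 =
    (dg (Units.map (φ : F →* F) x, 1)).1 * (A : Matrix (Fin 3) (Fin 3) F)
  rw [h1]
  change _ = Matrix.diagonal ![((Units.map (φ : F →* F) x : Fˣ) : F), ((1 : Fˣ) : F),
    (((Units.map (φ : F →* F) x * 1)⁻¹ : Fˣ) : F)] * (A : Matrix (Fin 3) (Fin 3) F)
  rw [mul_one, ← map_inv]
  ext i j
  rw [Matrix.mul_diagonal, Matrix.diagonal_mul]
  by_cases hij : j = Fin.rev i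
  · subst hij
    fin_cases i
    · exact mul_comm _ _
    · exact mul_comm _ _
    · exact mul_comm _ _
  · rw [hA i j hij, zero_mul, mul_zero]

theorem pr_dg_inj {x y : Fˣ} (h : RGDTypeA.pr 2 F (dg (x, 1)) = RGDTypeA.pr 2 F (dg (y, 1))) : x = y := by
  have h1 : (dg (x, 1))⁻¹ * dg (y, 1) ∈ Subgroup.center (_root_.Matrix.SpecialLinearGroup (Fin 3) F) := QuotientGroup.eq.1 h
  rw [← map_inv, ← map_mul] at h1
  have h2 := (dg_center h1).1
  change x⁻¹ * y = 1⁻¹ * 1 at h2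
  rw [inv_one, one_mul, inv_mul_eq_one] at h2
  exact h2

theorem shape_pow {φ : F ≃+* F} (hd : ∀ x : Fˣ, β (RGDTypeA.pr 2 F (dg (x, 1))) =
    RGDTypeA.pr 2 F (dg (Units.map (φ : F →* F) x, 1))) {m : ℕ} (hm : β ^ m = 1) (x : F) : φ^[m] x = x := by
  by_cases hx : x = 0
  · subst hx
    exact Function.iterate_fixed (map_zero φ) m
  have h1 : ∀ (j : ℕ) (x : Fˣ), (β ^ j) (RGDTypeA.pr 2 F (dg (x, 1))) =
      RGDTypeA.pr 2 F (dg ((Units.map (φ : F →* F))^[j] x, 1)) := by
    intro j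
    induction j with
    | zero => intro x; rfl
    | succ j ih =>
      intro x
      rw [pow_succ, MulAut.mul_apply, hd, ih, Function.iterate_succ_apply]
  have h2 := h1 m (Units.mk0 x hx)
  rw [hm, MulAut.one_apply] at h2
  have h3 := pr_dg_inj h2
  have h4 : ∀ (j : ℕ) (x : Fˣ), (((Units.map (φ : F →* F))^[j] x : Fˣ) : F) = φ^[j] (x : F) := by
    intro j
    induction j with
    | zero => intro x; rfl
    | succ j ih =>
      intro x
      rw [Function.iterate_succ_apply, Function.iterate_succ_apply, ih]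
      rfl
  have h5 := congrArg Units.val h3
  rw [h4] at h5
  exact h5.symm

end shape

end Cfsg.Agent.H71.QE
end

-- part: H71/QE/Val
section
/-!
# S4547, task QE7 (helper71): values of the constituents of the cubic series of `PSL_3(F)`

* `val_zero` : a constituent `χ` of `Φ` vanishes at `pr s` if `RR ζ` vanishes at `s` and the `GL_3`-class of `s` is a
  `SL_3`-class.
-/

set_option autoImplicit false
set_option linter.unusedSectionVars false

open scoped ComplexConjugate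

namespace Cfsg.Agent.H71.QE

open Cfsg Matrix CoxeterSystem Cfsg.Agent.ChevalleyStructure.CoxeterGeom Cfsg.Agent.Tits.Roots Cfsg.Agent.Tits.Core
open Cfsg.Agent.Nodes Cfsg.Agent.Nodes.BNOf Cfsg.Agent.Nodes.RGDLib Cfsg.Agent.Nodes.RootsA
  Cfsg.Agent.Nodes.Bruhat
open Cfsg.Agent.LieRecognition.BNCox (cA)
open Cfsg.Agent.Characters Cfsg.Agent.H726.Four Cfsg.Agent.H967.K4 Cfsg.Agent.OddOrderCharacters.Clifford
open Cfsg.Agent.H183.OutPSL (fldGL itrGL)
open Cfsg.Agent.ClassicalGeometry.AutPSL.Root Cfsg.Agent.ClassicalGeometry.AutPSL.Auto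
open Cfsg.Agent.H307.QE (OS)

universe u

variable {F : Type u} [Field F] [Finite F] [CharP F 2] [Fintype (GL (Fin 3) F)] {ζ : Fˣ →* ℂˣ}
  {Φ : ProjectiveSpecialLinearGroup (Fin 3) F → ℂ}
  (hΦ : ∀ g : _root_.Matrix.SpecialLinearGroup (Fin 3) F, Φ (pr g) = RR ζ (SpecialLinearGroup.toGL g))

include hΦ

theorem val_zero (hζ : ∀ x, ζ x ^ 3 = 1) {x₀ : Fˣ} (hx₀ : ζ x₀ ≠ 1)
    [Fintype (ProjectiveSpecialLinearGroup (Fin 3) F)] {χ : ProjectiveSpecialLinearGroup (Fin 3) F → ℂ}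
    (hχ : IsIrrCharacter _ χ) (hne : classInner Φ χ ≠ 0) {s : _root_.Matrix.SpecialLinearGroup (Fin 3) F}
    (hs : ∀ g : GL (Fin 3) F, ∃ k : _root_.Matrix.SpecialLinearGroup (Fin 3) F, cj g s = k * s * k⁻¹)
    (h0 : RR ζ (SpecialLinearGroup.toGL s) = 0) : χ (pr s) = 0 := by
  classical
  have := Fintype.ofFinite (_root_.Matrix.SpecialLinearGroup (Fin 3) F)
  let N : Subgroup (GL (Fin 3) F) := (SpecialLinearGroup.toGL (n := Fin 3) (R := F)).range
  have hN : N.Normal := by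
    constructor
    rintro _ ⟨s, rfl⟩ g
    exact ⟨cj g s, toGL_cj g s⟩
  have : Fintype N := Fintype.ofFinite _
  let e : _root_.Matrix.SpecialLinearGroup (Fin 3) F ≃* N := MonoidHom.ofInjective (toGL_injective (n := 2) (F := F))
  have he : ∀ s, ((e s : N) : GL (Fin 3) F) = SpecialLinearGroup.toGL s := fun s => rfl
  let pe : N →* ProjectiveSpecialLinearGroup (Fin 3) F := pr.comp e.symm.toMonoidHom
  have hpe : ∀ s, pe (e s) = pr s := by
    intro s
    change pr (e.symm (e s)) = _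
    rw [e.symm_apply_apply]
  have hpes : Function.Surjective pe := by
    intro x
    obtain ⟨g, rfl⟩ := pr_surjective x
    exact ⟨e g, hpe g⟩
  have hχN : IsIrrCharacter N (χ ∘ pe) := Core.isIrr_comp pe hpes hχ
  have hχe : ∀ s, (χ ∘ pe) (e s) = χ (pr s) := fun s => congrArg χ (hpe s)
  have hinv : ∀ g : GL (Fin 3) F, ((χ ∘ pe) ∘ (MulAut.conjNormal g : MulAut N)) (e s) = χ (pr s) := by
    intro g
    have h1 : (MulAut.conjNormal g : MulAut N) (e s) = e (cj g s) := by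
      apply Subtype.ext
      rw [MulAut.conjNormal_apply, he, he, toGL_cj]
    have h2 : ((χ ∘ pe) ∘ (MulAut.conjNormal g : MulAut N)) (e s) = (χ ∘ pe) (e (cj g s)) := congrArg (χ ∘ pe) h1
    obtain ⟨k, hk⟩ := hs g
    rw [h2, hχe, hk, map_mul, map_mul, map_inv]
    exact Core.isIrr_isClassFunction hχ _ _
  have hin : classInner (fun n : N => RR ζ n) (χ ∘ pe) = classInner Φ χ := by
    rw [← H693.Defl.classInner_comp_surj (pr : _root_.Matrix.SpecialLinearGroup (Fin 3) F →* _) pr_surjective Φ χ,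
      ← H693.Defl.classInner_comp_surj e.toMonoidHom e.surjective (fun n : N => RR ζ n) (χ ∘ pe)]
    congr 1
    · funext s
      exact (hΦ s).symm
    · funext s
      exact hχe s
  have hirr := RR_isIrr hζ hx₀
  have hne' : classInner (fun n : N => RR ζ n) (χ ∘ pe) ≠ 0 := by rw [hin]; exact hne
  have hres := CharactersDeep.CliffordSum.restrict_eq_smul_sum N hirr hχN hne'
  have h1 := congrFun hres (e s)
  rw [Pi.smul_apply, Finset.sum_apply, Finset.sum_congr rfl (g := fun _ => χ (pr s))] at h1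
  · have h2 : RR ζ ((e s : N) : GL (Fin 3) F) = 0 := h0
    rw [h2, Finset.sum_const, nsmul_eq_mul, smul_eq_mul] at h1
    have h3 := h1.symm
    rcases mul_eq_zero.1 h3 with h4 | h4
    · exact absurd h4 hne'
    rcases mul_eq_zero.1 h4 with h5 | h5
    · exfalso
      rw [Nat.cast_eq_zero, Finset.card_eq_zero, Finset.image_eq_empty] at h5
      exact Finset.univ_nonempty.ne_empty h5
    · exact h5
  · intro ψ hψ
    obtain ⟨g, -, rfl⟩ := Finset.mem_image.1 hψ
    exact hinv g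

end Cfsg.Agent.H71.QE
end

-- part: H71/QE/Cases
section
/-!
# S4547, task QE7 (helper71): the exceptional cases of `PSL_3(F)`, `F` of characteristic two

* `gInv3_cube` : if `x φ(x)` is always a cube;
* `exists_zeta` : a character of order three of `Fˣ`.
-/

set_option autoImplicit false
set_option linter.unusedSectionVars false

open scoped ComplexConjugate

namespace Cfsg.Agent.H71.QE

open Cfsg Matrix CoxeterSystem Cfsg.Agent.ChevalleyStructure.CoxeterGeom Cfsg.Agent.Tits.Roots Cfsg.Agent.Tits.Core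
open Cfsg.Agent.Nodes Cfsg.Agent.Nodes.BNOf Cfsg.Agent.Nodes.RGDLib Cfsg.Agent.Nodes.RootsA
  Cfsg.Agent.Nodes.Bruhat
open Cfsg.Agent.LieRecognition.BNCox (cA)
open Cfsg.Agent.Characters Cfsg.Agent.H726.Four Cfsg.Agent.H967.K4 Cfsg.Agent.OddOrderCharacters.Clifford
open Cfsg.Agent.H183.OutPSL (fldGL itrGL fld_mul_cj itr_mul_cj lift_cj_toGL)
open Cfsg.Agent.ClassicalGeometry.AutPSL.Root Cfsg.Agent.ClassicalGeometry.AutPSL.Auto
open Cfsg.Agent.H307.QE Cfsg.Agent.H821.K547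

universe u

section

variable {G : Type u} [Group G]

theorem os_twist {β δ : MulAut G} {t : G} (h : δ * β = MulAut.conj t * (β * δ)) {χ : G → ℂ} (hχ : OS β χ) :
    OS β (χ ∘ δ) where
  odd := by
    refine ⟨Core.isIrr_comp δ.toMonoidHom δ.surjective hχ.odd.1, ?_⟩
    have h1 : charDegree (χ ∘ δ) = charDegree χ := by
      unfold charDegree
      rw [Function.comp_apply, map_one]
    rw [h1]
    exact hχ.odd.2
  sf := SF.comp δ.toMonoidHom hχ.sf
  fix x := by
    have h1 : δ (β x) = t * β (δ x) * t⁻¹ := congrArg (fun a : MulAut G => a x) h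
    rw [Function.comp_apply, h1, Core.isIrr_isClassFunction hχ.odd.1 (β (δ x)) t, hχ.fix]
    rfl

end

section

variable {F : Type u} [Field F]

theorem det_itrGL (A : GL (Fin 3) F) : GeneralLinearGroup.det (itrGL A) = (GeneralLinearGroup.det A)⁻¹ := by
  rw [← map_inv]
  apply Units.ext
  change (((A⁻¹ : GL (Fin 3) F) : Matrix (Fin 3) (Fin 3) F)ᵀ).det = _
  rw [Matrix.det_transpose]
  rfl

theorem det_fldGL (φ : F ≃+* F) (A : GL (Fin 3) F) :
    GeneralLinearGroup.det (fldGL φ A) = Units.map (φ : F →* F) (GeneralLinearGroup.det A) := by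
  apply Units.ext
  change ((A : Matrix (Fin 3) (Fin 3) F).map φ).det = φ (A : Matrix (Fin 3) (Fin 3) F).det
  rw [← RingEquiv.mapMatrix_apply, ← RingEquiv.map_det]

theorem lift_cj_cube [Finite F] [CharP F 2] [Fintype (GL (Fin 3) F)] {M : GL (Fin 3) F} {y : Fˣ} (h : GeneralLinearGroup.det M = y ^ 3) :
    ∃ s : ProjectiveSpecialLinearGroup (Fin 3) F, _root_.Cfsg.Agent.ClassicalGeometry.AutPSL.Auto.lift (cj M) = MulAut.conj s := by
  have hdet2 : GeneralLinearGroup.det ((scl y)⁻¹ * M) = 1 := by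
    rw [map_mul, map_inv, det_scl, h, inv_mul_cancel]
  let m : _root_.Matrix.SpecialLinearGroup (Fin 3) F := ⟨((scl y)⁻¹ * M : GL (Fin 3) F), congrArg Units.val hdet2⟩
  have h1 : SpecialLinearGroup.toGL m = (scl y)⁻¹ * M := Units.ext rfl
  have h2 : M = scl y * SpecialLinearGroup.toGL m := by rw [h1, mul_inv_cancel_left]
  have h3 : cj (scl y : GL (Fin 3) F) = 1 := by
    ext g : 1
    apply toGL_injective (n := 2) (F := F)
    rw [toGL_cj, (scl_comm y _).eq, mul_inv_cancel_right]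
    rfl
  refine ⟨pr m, ?_⟩
  rw [h2, map_mul, h3, one_mul, lift_cj_toGL]

variable [Finite F] [CharP F 2]

/-- **The case where `x φ(x)` is always a cube.** -/
theorem gInv3_cube (hT : H601.OddDeg.TwoC (ProjectiveSpecialLinearGroup (Fin 3) F))
    {β : MulAut (ProjectiveSpecialLinearGroup (Fin 3) F)} (hpow : ∃ k : ℕ, β ^ 2 ^ k = 1) {φ : F ≃+* F}
    {A : GL (Fin 3) F} (hβ : β = _root_.Cfsg.Agent.ClassicalGeometry.AutPSL.Auto.lift (cj A * fld φ * itr)) {ζ : Fˣ →* ℂˣ} (hζ : ∀ x, ζ x ^ 3 = 1) {x₀ : Fˣ}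
    (hx₀ : ζ x₀ ≠ 1) (hφ : ∀ x : Fˣ, ∃ y : Fˣ, x * Units.map (φ : F →* F) x = y ^ 3) : GInv3 β := by
  have : Finite (_root_.Matrix.SpecialLinearGroup (Fin 3) F) := inferInstance
  have : Finite (ProjectiveSpecialLinearGroup (Fin 3) F) := Quotient.finite _
  have : Fintype (GL (Fin 3) F) := Fintype.ofFinite _
  have : Fintype (ProjectiveSpecialLinearGroup (Fin 3) F) := Fintype.ofFinite _
  have hζφ : ∀ x : Fˣ, ζ (Units.map (φ : F →* F) x) = (ζ x)⁻¹ := by
    intro x
    obtain ⟨y, hy⟩ := hφ x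
    rw [eq_inv_iff_mul_eq_one, mul_comm, ← map_mul, hy, map_pow, hζ]
  obtain ⟨Φ, hΦ⟩ := exists_Phi (F := F) ζ
  obtain ⟨k, hk⟩ := hpow
  obtain ⟨χ, h1, h2⟩ := exists_os_const hk (Phi_isCharacter hΦ) (Phi_one hΦ) odd_index_BG (Phi_sf hΦ)
    (fun x => by rw [hβ]; exact Phi_aut hΦ φ (Or.inr hζφ) A x)
  obtain ⟨E, x, hx⟩ := exists_ne hΦ hζ hx₀ h1.odd.1 h2
  have hd : GeneralLinearGroup.det (E * A * (fldGL φ (itrGL E))⁻¹ * A⁻¹) =
      GeneralLinearGroup.det E * Units.map (φ : F →* F) (GeneralLinearGroup.det E) := by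
    rw [map_mul, map_mul, map_mul, map_inv, map_inv, det_fldGL, det_itrGL, map_inv, inv_inv]
    rw [mul_assoc (GeneralLinearGroup.det E), mul_comm (GeneralLinearGroup.det A), ← mul_assoc, mul_inv_cancel_right]
  obtain ⟨y, hy⟩ := hφ (GeneralLinearGroup.det E)
  obtain ⟨t, ht⟩ := lift_cj_cube (hd.trans hy)
  have hcomm : _root_.Cfsg.Agent.ClassicalGeometry.AutPSL.Auto.lift (cj E) * β = MulAut.conj t * (β * _root_.Cfsg.Agent.ClassicalGeometry.AutPSL.Auto.lift (cj E)) := by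
    have e1 : (cj A * fld φ * itr * cj E : MulAut (_root_.Matrix.SpecialLinearGroup (Fin 3) F)) =
        cj (A * fldGL φ (itrGL E)) * fld φ * itr := by
      rw [mul_assoc, itr_mul_cj, ← mul_assoc, mul_assoc (cj A), fld_mul_cj, ← mul_assoc, ← map_mul]
    rw [← ht, hβ, ← map_mul, ← map_mul, ← map_mul, e1]
    congr 1
    rw [← mul_assoc, ← mul_assoc, ← mul_assoc, ← mul_assoc, ← map_mul, ← map_mul]
    congr 3
    group
  have h3 := os_twist hcomm h1
  refine GInv3.of_os hT (one_os β) h1 h3 ?_ ?_ ?_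
  · rintro h4
    apply hx
    rw [← h4]
    rfl
  · intro h4
    apply hx
    have h5 : ∀ z, χ z = 1 := by
      intro z
      have h6 := congrFun h4 ((_root_.Cfsg.Agent.ClassicalGeometry.AutPSL.Auto.lift (cj E))⁻¹ z)
      rw [Function.comp_apply, MulAut.apply_inv_self] at h6
      exact h6.symm
    rw [h5, h5]
  · intro h4
    exact hx (congrFun h4 x).symm

end

end Cfsg.Agent.H71.QE
end

-- part: H71/QE/Four
section
/-!
# S4547, task QE7 (helper71): `PSL_3(4)`, the exceptional cases of `PSL_3(F)`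

* `exists_zeta` : a character of order three of `Fˣ`;
* `gInv3_four` : `|F| = 4`, the graph automorphism.
-/

set_option autoImplicit false
set_option linter.unusedSectionVars false

open scoped ComplexConjugate

namespace Cfsg.Agent.H71.QE

open Cfsg Matrix CoxeterSystem Cfsg.Agent.ChevalleyStructure.CoxeterGeom Cfsg.Agent.Tits.Roots Cfsg.Agent.Tits.Core
open Cfsg.Agent.Nodes Cfsg.Agent.Nodes.BNOf Cfsg.Agent.Nodes.RGDLib Cfsg.Agent.Nodes.RootsA
  Cfsg.Agent.Nodes.Bruhat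
open Cfsg.Agent.LieRecognition.BNCox (cA)
open Cfsg.Agent.Characters Cfsg.Agent.H726.Four Cfsg.Agent.H967.K4 Cfsg.Agent.OddOrderCharacters.Clifford
open Cfsg.Agent.H183.OutPSL (fldGL itrGL fld_mul_cj itr_mul_cj lift_cj_toGL)
open Cfsg.Agent.ClassicalGeometry.AutPSL.Root Cfsg.Agent.ClassicalGeometry.AutPSL.Auto
open Cfsg.Agent.H307.QE Cfsg.Agent.H821.K547

universe u

variable {F : Type u} [Field F]

theorem exists_zeta [Finite F] (h3 : 3 ∣ Nat.card Fˣ) :
    ∃ ζ : Fˣ →* ℂˣ, (∀ x, ζ x ^ 3 = 1) ∧ ∃ x₀, ζ x₀ ≠ 1 := by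
  classical
  have : Fintype F := Fintype.ofFinite F
  have h1 : 3 ∣ Fintype.card F - 1 := by
    rw [← Fintype.card_units, ← Nat.card_eq_fintype_card]
    exact h3
  obtain ⟨χ, hχ⟩ := MulChar.exists_mulChar_orderOf F h1 (Complex.isPrimitiveRoot_exp 3 (by norm_num))
  have h2 : χ ^ 3 = 1 := by rw [← hχ, pow_orderOf_eq_one]
  refine ⟨χ.toUnitHom, fun x => ?_, ?_⟩
  · apply Units.ext
    rw [Units.val_pow_eq_pow_val, MulChar.coe_toUnitHom, ← MulChar.pow_apply_coe, h2, MulChar.one_apply_coe]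
    rfl
  · by_contra hcon
    push Not at hcon
    have h4 : χ = 1 := by
      ext x
      rw [← MulChar.coe_toUnitHom, hcon, MulChar.one_apply_coe]
      rfl
    rw [h4, orderOf_one] at hχ
    exact absurd hχ (by norm_num)

variable [CharP F 2]

theorem neg_one_eq : (-1 : F) = 1 := CharTwo.neg_eq 1

/-- the element of order five -/
def s5 (a : F) : _root_.Matrix.SpecialLinearGroup (Fin 3) F :=
  ⟨!![0, 1, 0; 1, a, 0; 0, 0, 1], by rw [Matrix.det_fin_three]; simp [neg_one_eq]⟩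

/-- its inverse -/
def i5 (a : F) : _root_.Matrix.SpecialLinearGroup (Fin 3) F :=
  ⟨!![a, 1, 0; 1, 0, 0; 0, 0, 1], by rw [Matrix.det_fin_three]; simp [neg_one_eq]⟩

/-- the permutation matrix -/
def w5 : _root_.Matrix.SpecialLinearGroup (Fin 3) F :=
  ⟨!![0, 1, 0; 1, 0, 0; 0, 0, 1], by rw [Matrix.det_fin_three]; simp [neg_one_eq]⟩

theorem s5_mul_i5 (a : F) : s5 a * i5 a = 1 := by
  apply Subtype.ext
  change !![0, 1, 0; 1, a, 0; 0, 0, 1] * !![a, 1, 0; 1, 0, 0; 0, 0, 1] = (1 : Matrix (Fin 3) (Fin 3) F)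
  ext i j
  (revert i j; simp only [Matrix.mul_apply, Fin.sum_univ_three, CharTwo.add_self_eq_zero, _root_.Fin.forall_fin_succ, _root_.Matrix.of_apply, _root_.Matrix.cons_val', _root_.Matrix.cons_val_fin_one, Fin.isValue, _root_.Matrix.cons_val_zero, _root_.Matrix.cons_val_one, _root_.Matrix.cons_val, _root_.mul_one, _root_.MulZeroClass.mul_zero, _root_.add_zero, _root_.Matrix.cons_val_succ, _root_.zero_add, _root_.IsEmpty.forall_iff, _root_.and_true, _root_.MulZeroClass.zero_mul, _root_.Matrix.one_apply_eq, Nat.reduceAdd, _root_.Fin.succ_zero_eq_one, _root_.ne_eq, _root_.zero_ne_one, _root_.not_false_eq_true, _root_.Matrix.one_apply_ne, _root_.Fin.succ_one_eq_two, Fin.reduceEq, _root_.and_self, _root_.Fin.succ_ne_zero, _root_.one_mul, _root_.true_and])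

theorem w5_conj (a : F) : w5 * s5 a = i5 a * w5 := by
  apply Subtype.ext
  change !![0, 1, 0; 1, 0, 0; 0, 0, 1] * !![0, 1, 0; 1, a, 0; 0, 0, 1] =
    !![a, 1, 0; 1, 0, 0; 0, 0, 1] * (!![0, 1, 0; 1, 0, 0; 0, 0, 1] : Matrix (Fin 3) (Fin 3) F)
  ext i j
  (revert i j; simp only [Matrix.mul_apply, Fin.sum_univ_three, _root_.Fin.forall_fin_succ, _root_.Matrix.of_apply, _root_.Matrix.cons_val', _root_.Matrix.cons_val_fin_one, Fin.isValue, _root_.Matrix.cons_val_zero, _root_.Matrix.cons_val_one, _root_.Matrix.cons_val, _root_.add_left_inj, _root_.MulZeroClass.mul_zero, _root_.mul_one, _root_.zero_add, _root_.Matrix.cons_val_succ, _root_.add_zero, _root_.implies_true, _root_.and_true, _root_.true_and, _root_.one_mul, _root_.add_eq_left, _root_.mul_eq_zero, _root_.true_or, _root_.and_self])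

theorem s5_pow_five {a : F} (ha : a ^ 2 + a + 1 = 0) : s5 a ^ 5 = 1 := by
  have h1 : a * a = a + 1 := by
    have h2 : a ^ 2 = -(a + 1) := by linear_combination ha
    rw [CharTwo.neg_eq] at h2
    rw [← h2, sq]
  have hd : ∀ x : F, x + x = 0 := CharTwo.add_self_eq_zero
  have h2 : (s5 a * s5 a : _root_.Matrix.SpecialLinearGroup (Fin 3) F) = (⟨!![1, a, 0; a, a, 0; 0, 0, 1], by
      rw [Matrix.det_fin_three]
      simp only [Matrix.of_apply, Matrix.cons_val', Matrix.cons_val_zero, Matrix.cons_val_one, Matrix.cons_val]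
      linear_combination -h1 - hd 1 - hd 0⟩ : _root_.Matrix.SpecialLinearGroup (Fin 3) F) := by
    apply Subtype.ext
    change !![0, 1, 0; 1, a, 0; 0, 0, 1] * !![0, 1, 0; 1, a, 0; 0, 0, 1] =
      (!![1, a, 0; a, a, 0; 0, 0, 1] : Matrix (Fin 3) (Fin 3) F)
    ext i j
    (revert i j; simp only [Matrix.mul_apply, Fin.sum_univ_three, _root_.Fin.forall_fin_succ, _root_.Matrix.of_apply, _root_.Matrix.cons_val', _root_.Matrix.cons_val_fin_one, Fin.isValue, _root_.Matrix.cons_val_zero, _root_.Matrix.cons_val_one, _root_.Matrix.cons_val, _root_.MulZeroClass.mul_zero, _root_.mul_one, _root_.zero_add, _root_.add_zero, _root_.Matrix.cons_val_succ, _root_.implies_true, _root_.one_mul, _root_.MulZeroClass.zero_mul, _root_.and_true, _root_.true_and]) <;> (repeat' with_reducible apply And.intro)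
    linear_combination h1 + hd 1
  have h4 : (s5 a * s5 a * (s5 a * s5 a) : _root_.Matrix.SpecialLinearGroup (Fin 3) F) = i5 a := by
    rw [h2]
    apply Subtype.ext
    change !![1, a, 0; a, a, 0; 0, 0, 1] * !![1, a, 0; a, a, 0; 0, 0, 1] =
      (!![a, 1, 0; 1, 0, 0; 0, 0, 1] : Matrix (Fin 3) (Fin 3) F)
    ext i j
    (revert i j; simp only [Matrix.mul_apply, Fin.sum_univ_three, _root_.Fin.forall_fin_succ, _root_.Matrix.of_apply, _root_.Matrix.cons_val', _root_.Matrix.cons_val_fin_one, Fin.isValue, _root_.Matrix.cons_val_zero, _root_.Matrix.cons_val_one, _root_.Matrix.cons_val, _root_.mul_one, _root_.MulZeroClass.mul_zero, _root_.add_zero, _root_.Matrix.cons_val_succ, _root_.zero_add, _root_.implies_true, _root_.one_mul, _root_.MulZeroClass.zero_mul, _root_.and_true, _root_.true_and]) <;> (repeat' with_reducible apply And.intro)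
    · linear_combination h1 + hd 1
    · linear_combination h1 + hd a
    · linear_combination h1 + hd a
    · linear_combination 2 * h1 + (a + 1) * hd 1
  have h5 : s5 a ^ 5 = s5 a * (s5 a * s5 a * (s5 a * s5 a)) := by
    rw [pow_succ', pow_succ, pow_succ, pow_succ, pow_one, mul_assoc (s5 a * s5 a)]
  rw [h5, h4, s5_mul_i5]

theorem inv_s5 (a : F) : (s5 a)⁻¹ = i5 a := inv_eq_of_mul_eq_one_right (s5_mul_i5 a)

theorem s5_entry (a : F) : (s5 a : Matrix (Fin 3) (Fin 3) F) 0 1 = 1 := rfl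

theorem itr_s5 (a : F) : itr (s5 a) = w5 * s5 a * w5⁻¹ := by
  have h1 : itr (s5 a) = i5 a := by
    apply Subtype.ext
    change ((s5 a)⁻¹ : _root_.Matrix.SpecialLinearGroup (Fin 3) F).1ᵀ = (i5 a).1
    rw [inv_s5]
    ext i j
    fin_cases i <;> fin_cases j <;> rfl
  rw [h1, w5_conj, mul_inv_cancel_right]

theorem s5_ne {a : F} : s5 a ∉ Subgroup.center (_root_.Matrix.SpecialLinearGroup (Fin 3) F) := by
  intro h
  obtain ⟨r, -, hr'⟩ := Matrix.SpecialLinearGroup.mem_center_iff.1 h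
  have h1 := congrArg (fun M : Matrix (Fin 3) (Fin 3) F => M 0 1) hr'
  have h2 : (Matrix.scalar (Fin 3) r : Matrix (Fin 3) (Fin 3) F) 0 1 = 0 := by
    rw [Matrix.scalar_apply, Matrix.diagonal_apply_ne _ (by decide)]
  change (Matrix.scalar (Fin 3) r : Matrix (Fin 3) (Fin 3) F) 0 1 = (s5 a : Matrix (Fin 3) (Fin 3) F) 0 1 at h1
  rw [h2, s5_entry] at h1
  exact zero_ne_one h1

variable [Finite F]

/-- the `GL_3`-class of `s5` is a `SL_3`-class -/
theorem cj_s5 [Fintype (GL (Fin 3) F)] (a : F) (g : GL (Fin 3) F) :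
    ∃ k : _root_.Matrix.SpecialLinearGroup (Fin 3) F, cj g (s5 a) = k * s5 a * k⁻¹ := by
  set c := GeneralLinearGroup.det g with hc
  have h1 : GeneralLinearGroup.det (g * dgl 2 F (Pi.mulSingle 2 c⁻¹)) = 1 := by
    rw [map_mul, det_dgl, Fin.prod_univ_three, ← hc]
    simp
  let k : _root_.Matrix.SpecialLinearGroup (Fin 3) F := ⟨(g * dgl 2 F (Pi.mulSingle 2 c⁻¹) : GL (Fin 3) F), congrArg Units.val h1⟩
  have hk : SpecialLinearGroup.toGL k = g * dgl 2 F (Pi.mulSingle 2 c⁻¹) := Units.ext rfl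
  have h2 : dgl 2 F (Pi.mulSingle 2 c⁻¹) * SpecialLinearGroup.toGL (s5 a) =
      SpecialLinearGroup.toGL (s5 a) * dgl 2 F (Pi.mulSingle 2 c⁻¹) := by
    apply Units.ext
    change Matrix.diagonal (fun i => ((Pi.mulSingle 2 c⁻¹ : Fin 3 → Fˣ) i : F)) * !![0, 1, 0; 1, a, 0; 0, 0, 1] =
      !![0, 1, 0; 1, a, 0; 0, 0, 1] * Matrix.diagonal (fun i => ((Pi.mulSingle 2 c⁻¹ : Fin 3 → Fˣ) i : F))
    ext i j
    rw [Matrix.diagonal_mul, Matrix.mul_diagonal]
    (revert i j; simp only [_root_.Fin.forall_fin_succ, Fin.isValue, _root_.Matrix.of_apply, _root_.Matrix.cons_val', _root_.Matrix.cons_val_fin_one, _root_.Matrix.cons_val_zero, _root_.ne_eq, Fin.reduceEq, _root_.not_false_eq_true, _root_.Pi.mulSingle_eq_of_ne, _root_.Units.val_one, _root_.mul_one, _root_.Matrix.cons_val_succ, _root_.Fin.succ_zero_eq_one, _root_.Fin.succ_one_eq_two, _root_.Pi.mulSingle_eq_same, _root_.Units.val_inv_eq_inv_val, _root_.IsEmpty.forall_iff, _root_.and_true, _root_.MulZeroClass.mul_zero,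 _root_.MulZeroClass.zero_mul, _root_.and_self, _root_.one_mul, _root_.true_and])
  refine ⟨k, ?_⟩
  apply toGL_injective (n := 2) (F := F)
  rw [toGL_cj, map_mul, map_mul, map_inv, hk, mul_assoc g (dgl 2 F (Pi.mulSingle 2 c⁻¹)), h2, _root_.mul_inv_rev]
  group

theorem orderOf_s5 {a : F} (ha : a ^ 2 + a + 1 = 0) : orderOf (s5 a) = 5 := by
  have : Fact (Nat.Prime 5) := ⟨by norm_num⟩
  refine orderOf_eq_prime (s5_pow_five ha) ?_
  intro h
  exact s5_ne (a := a) (by rw [h]; exact one_mem _)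

/-- **`|F| = 4`, the graph automorphism** -/
theorem gInv3_four (hT : H601.OddDeg.TwoC (ProjectiveSpecialLinearGroup (Fin 3) F)) (hF : Nat.card F = 4)
    {β : MulAut (ProjectiveSpecialLinearGroup (Fin 3) F)} (hpow : ∃ k : ℕ, β ^ 2 ^ k = 1) {φ : F ≃+* F}
    (hφ : ∀ x, φ x = x) {A : GL (Fin 3) F} (hβ : β = _root_.Cfsg.Agent.ClassicalGeometry.AutPSL.Auto.lift (cj A * fld φ * itr)) : GInv3 β := by
  have : Finite (ProjectiveSpecialLinearGroup (Fin 3) F) := Quotient.finite _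
  have : Fintype (GL (Fin 3) F) := Fintype.ofFinite _
  have : Fintype (ProjectiveSpecialLinearGroup (Fin 3) F) := Fintype.ofFinite _
  have hc3 : Nat.card Fˣ = 3 := by
    rw [Nat.card_units, hF]
  obtain ⟨ζ, hζ, x₀, hx₀⟩ := exists_zeta (F := F) (by rw [hc3])
  -- an element of order three
  have hx1 : (x₀ : F) ≠ 1 := by
    intro h
    apply hx₀
    rw [show x₀ = 1 from Units.ext h, map_one]
  have hx3 : (x₀ : F) ^ 3 = 1 := by
    have h1 : x₀ ^ 3 = 1 := by rw [← hc3, pow_card_eq_one']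
    have h2 := congrArg Units.val h1
    rwa [Units.val_pow_eq_pow_val] at h2
  have ha : (x₀ : F) ^ 2 + x₀ + 1 = 0 := by
    have h1 : ((x₀ : F) - 1) * ((x₀ : F) ^ 2 + x₀ + 1) = 0 := by linear_combination hx3
    exact (mul_eq_zero.1 h1).resolve_left (sub_ne_zero.2 hx1)
  set s : _root_.Matrix.SpecialLinearGroup (Fin 3) F := s5 (x₀ : F) with hs
  have hos : orderOf s = 5 := orderOf_s5 ha
  have hfld : (fld φ : MulAut (_root_.Matrix.SpecialLinearGroup (Fin 3) F)) = 1 := by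
    ext g i j
    rw [coe_fld_apply, hφ]
    rfl
  obtain ⟨Φ, hΦ⟩ := exists_Phi (F := F) ζ
  obtain ⟨k, hk⟩ := hpow
  obtain ⟨χ, h1, h2⟩ := exists_os_const hk (Phi_isCharacter hΦ) (Phi_one hΦ) odd_index_BG (Phi_sf hΦ)
    (fun x => by
      rw [hβ]
      exact Phi_aut hΦ φ (Or.inl fun x => congrArg ζ (Units.ext (hφ x))) A x)
  have h0 : RR ζ (SpecialLinearGroup.toGL s) = 0 := by
    refine RR_zero ζ (ℓ := 5) (by norm_num) ?_ (by norm_num) ?_
    · rw [orderOf_injective _ (toGL_injective (n := 2) (F := F)), hos]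
    · have h3 : Nat.card (TG 2 F) ∣ 27 := by
        have h4 := Subgroup.card_range_dvd (dgl 2 F)
        rw [Nat.card_fun, hc3] at h4
        simpa only [TG, _root_.Nat.reduceAdd, _root_.MonoidHom.mem_range, _root_.nonempty_subtype, ↓ _root_.ExistsAndEq.existsAndEq, _root_.exists_const, _root_.Nat.card_eq_fintype_card, _root_.Fintype.card_fin, _root_.Nat.reducePow] using h4
      intro h4
      have h5 := h4.trans h3
      norm_num at h5
  have hv : χ (pr s) = 0 := val_zero hΦ hζ hx₀ h1.odd.1 h2 (cj_s5 _) h0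
  have hne : χ ≠ 1 := by
    rintro rfl
    exact one_ne_zero hv
  have hord : orderOf (pr s : ProjectiveSpecialLinearGroup (Fin 3) F) ∣ 5 := by
    rw [← hos]
    exact orderOf_map_dvd _ _
  refine gInv3_of_third hT h1 hne (exists_os_third_zero hk (x := pr s) ?_ ?_ ?_ h1 hne hv)
  · intro h3
    exact s5_ne ((QuotientGroup.eq_one_iff _).1 h3)
  · exact Odd.of_dvd_nat (by decide) hord
  · obtain ⟨m, hm⟩ := cj_s5 (x₀ : F) (A * SpecialLinearGroup.toGL w5)
    refine ⟨pr m, ?_⟩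
    rw [hβ, lift_pr, MulAut.mul_apply, MulAut.mul_apply, hfld, MulAut.one_apply, itr_s5, ← map_inv, ← map_mul,
      ← map_mul, ← hm]
    congr 1
    apply toGL_injective (n := 2) (F := F)
    rw [toGL_cj, toGL_cj, map_mul, map_mul, map_inv]
    group

end Cfsg.Agent.H71.QE
end

-- part: H151/K547/Psl3Gen
section
/-!
# S4547, QE7: `PSL₃(q)`, `q` even, two elements of the torus (helper151)

* `dx x` : the element `diag (x, 1, x⁻¹)`;
* `not_conj` : `dx x` and `dx y` are not conjugate in `PSL₃(F)` for `y ∉ {x, x⁻¹}`, `x, y ≠ 1`;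
* `psl3_two` : `GInv3 β` if the images of `dx x` and `dx y` are fixed or inverted by `β`;
* `psl3_generic` : the same for `β (dx x) = dx (φ x)`.
-/

set_option autoImplicit false
set_option linter.unusedSectionVars false

open Cfsg

namespace Cfsg.Agent.H151.K547.Psl3

open Matrix CoxeterSystem Cfsg.Agent.ChevalleyStructure.CoxeterGeom Cfsg.Agent.Tits.Roots Cfsg.Agent.Tits.Core
  Cfsg.Agent.Nodes.Reps Cfsg.Agent.Nodes.BNOf Cfsg.Agent.Nodes.Bruhat Cfsg.Agent.H821.K547 Cfsg.Agent.H307.QE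
  Cfsg.Agent.H42.K547.Even Cfsg.Agent.Nodes.RGDTypeA
open Cfsg.Agent.LieRecognition.BNCox (cA)
open Cfsg.Agent.H507.K4.SizeA (dg dg_mem dg_center)

section elts

variable {F : Type*} [Field F]

/-- `diag (x, 1, x⁻¹)` -/
noncomputable def dx (x : Fˣ) : _root_.Matrix.SpecialLinearGroup (Fin (2 + 1)) F := dg (x, 1)

theorem dx_coe (x : Fˣ) : (dx x : Matrix (Fin 3) (Fin 3) F) = Matrix.diagonal ![(x : F), 1, (x : F)⁻¹] := by
  change Matrix.diagonal ![(x : F), ((1 : Fˣ) : F), ((x * 1)⁻¹ : Fˣ)] = _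
  rw [mul_one, Units.val_one, Units.val_inv_eq_inv_val]

theorem dx_mem (x : Fˣ) : dx x ∈ T (Fin (2 + 1)) F := dg_mem _

theorem pr_dx_ne_one {x : Fˣ} (hx : x ≠ 1) : pr 2 F (dx x) ≠ 1 := by
  intro h
  have h1 : dx x ∈ (pr 2 F).ker := h
  rw [ker_pr] at h1
  exact hx (dg_center h1).1

/-- the eigenvalues -/
theorem det_eq {x y : Fˣ} {g : _root_.Matrix.SpecialLinearGroup (Fin (2 + 1)) F} {c : F}
    (h : (dx y : Matrix (Fin 3) (Fin 3) F) = c • ((g * dx x * g⁻¹ : _root_.Matrix.SpecialLinearGroup (Fin (2 + 1)) F) :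
      Matrix (Fin 3) (Fin 3) F)) (m : F) :
    (m - y) * (m - 1) * (m - (y : F)⁻¹) = (m - c * x) * (m - c) * (m - c * (x : F)⁻¹) := by
  have h1 : ∀ a b e : F, (m • (1 : Matrix (Fin 3) (Fin 3) F) - Matrix.diagonal ![a, b, e]).det
      = (m - a) * (m - b) * (m - e) := by
    intro a b e
    rw [Matrix.smul_one_eq_diagonal, Matrix.diagonal_sub, Matrix.det_diagonal, Fin.prod_univ_three]
    rfl
  have h2 : (m • (1 : Matrix (Fin 3) (Fin 3) F) - (dx y : Matrix (Fin 3) (Fin 3) F)).det =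
      (m • (1 : Matrix (Fin 3) (Fin 3) F) - c • (dx x : Matrix (Fin 3) (Fin 3) F)).det := by
    have h3 : m • (1 : Matrix (Fin 3) (Fin 3) F) - (dx y : Matrix (Fin 3) (Fin 3) F) =
        (g : Matrix (Fin 3) (Fin 3) F) * (m • (1 : Matrix (Fin 3) (Fin 3) F) -
          c • (dx x : Matrix (Fin 3) (Fin 3) F)) * ((g⁻¹ : _root_.Matrix.SpecialLinearGroup (Fin (2 + 1)) F) :
          Matrix (Fin 3) (Fin 3) F) := by
      have h4 : (g : Matrix (Fin 3) (Fin 3) F) * ((g⁻¹ : _root_.Matrix.SpecialLinearGroup (Fin (2 + 1)) F) :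
          Matrix (Fin 3) (Fin 3) F) = 1 := by
        rw [← Matrix.SpecialLinearGroup.coe_mul, mul_inv_cancel, Matrix.SpecialLinearGroup.coe_one]
      rw [h, mul_sub, sub_mul, Matrix.mul_smul, Matrix.smul_mul, mul_one, h4, Matrix.mul_smul, Matrix.smul_mul,
        Matrix.SpecialLinearGroup.coe_mul, Matrix.SpecialLinearGroup.coe_mul]
    have h5 : (g : Matrix (Fin 3) (Fin 3) F).det = 1 := g.2
    have h6 : ((g⁻¹ : _root_.Matrix.SpecialLinearGroup (Fin (2 + 1)) F) : Matrix (Fin 3) (Fin 3) F).det = 1 := g⁻¹.2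
    rw [h3, Matrix.det_mul, Matrix.det_mul, h5, h6, one_mul, mul_one]
  have h7 : c • (Matrix.diagonal ![(x : F), 1, (x : F)⁻¹]) = Matrix.diagonal ![c * (x : F), c, c * (x : F)⁻¹] := by
    rw [← Matrix.diagonal_smul]
    refine congrArg Matrix.diagonal (funext fun i => ?_)
    fin_cases i
    · rfl
    · exact mul_one c
    · rfl
  rw [dx_coe, dx_coe, h7, h1, h1] at h2
  exact h2

/-- **Not conjugate.** -/
theorem not_conj {x y : Fˣ} (hy1 : y ≠ 1) (hxy : y ≠ x) (hxy' : x * y ≠ 1)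
    (z : ProjectiveSpecialLinearGroup (Fin (2 + 1)) F) : z * pr 2 F (dx x) * z⁻¹ ≠ pr 2 F (dx y) := by
  obtain ⟨g, rfl⟩ := pr_surjective z
  intro e
  rw [← map_inv, ← map_mul, ← map_mul] at e
  obtain ⟨c, hc⟩ := Cfsg.Agent.ClassicalGeometry.AutPSL.Root.exists_smul_of_pr_eq e
  have key := det_eq hc
  have hx0 : (x : F) ≠ 0 := x.ne_zero
  have hy0 : (y : F) ≠ 0 := y.ne_zero
  have hy1' : (y : F) - 1 ≠ 0 := fun h => hy1 (Units.ext (sub_eq_zero.1 h))
  have hxy1 : (y : F) - x ≠ 0 := fun h => hxy (Units.ext (sub_eq_zero.1 h))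
  have hxy2 : (y : F) - (x : F)⁻¹ ≠ 0 := by
    intro h
    apply hxy'
    apply Units.ext
    rw [Units.val_mul, sub_eq_zero.1 h, mul_inv_cancel₀ hx0, Units.val_one]
  have hne : ((y : F) - x) * (y - (x : F)⁻¹) * (y - 1) ≠ 0 := mul_ne_zero (mul_ne_zero hxy1 hxy2) hy1'
  have h1 := key 1
  have h2 := key y
  have h3 := key 0
  rw [sub_self, mul_zero, zero_mul] at h1
  rw [sub_self, zero_mul, zero_mul] at h2
  have h4 : c ^ 3 = 1 := by
    have h5 : -((y : F) * (y : F)⁻¹) = -(c ^ 3 * (x * (x : F)⁻¹)) := by linear_combination h3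
    rw [mul_inv_cancel₀ hx0, mul_inv_cancel₀ hy0, mul_one] at h5
    exact (neg_injective h5).symm
  rcases mul_eq_zero.1 h1.symm with h5 | h5
  · rcases mul_eq_zero.1 h5 with h6 | h6
    · -- `c x = 1`
      have h7 : c * x = 1 := (sub_eq_zero.1 h6).symm
      have h8 : c = (x : F)⁻¹ := eq_inv_of_mul_eq_one_left h7
      have h9 : c * (x : F)⁻¹ = x := by
        rw [← h8]
        have : c * c * (c * x) = x * c ^ 3 := by ring
        rw [h7, mul_one, h4, mul_one] at this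
        exact this
      rw [h7, h9, h8] at h2
      exact hne (by linear_combination -h2)
    · -- `c = 1`
      have h7 : c = 1 := (sub_eq_zero.1 h6).symm
      rw [h7, one_mul, one_mul] at h2
      exact hne (by linear_combination -h2)
  · -- `c = x`
    have h7 : c * (x : F)⁻¹ = 1 := (sub_eq_zero.1 h5).symm
    have h8 : c = x := by
      have := eq_inv_of_mul_eq_one_left h7
      rwa [inv_inv] at this
    have h9 : c * x = (x : F)⁻¹ := by
      refine eq_inv_of_mul_eq_one_left ?_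
      rw [← h8, ← h4]
      ring
    rw [h7, h9, h8] at h2
    exact hne (by linear_combination -h2)

/-- the element of `N` inverting `dx x` -/
noncomputable def nz (F : Type*) [Field F] : _root_.Matrix.SpecialLinearGroup (Fin (2 + 1)) F := ns 2 F 0 * ns 2 F 1 * ns 2 F 0

theorem mono_nz : Mono (Equiv.swap (0 : Fin 3) 2) (nz F) := by
  have h1 := ((mono_ns (n := 2) (F := F) 0).mul (mono_ns 1)).mul (mono_ns 0)
  have h2 : Equiv.swap (Fin.castSucc (0 : Fin 2)) (Fin.succ 0) * Equiv.swap (Fin.castSucc (1 : Fin 2)) (Fin.succ 1) *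
      Equiv.swap (Fin.castSucc (0 : Fin 2)) (Fin.succ 0) = Equiv.swap (0 : Fin 3) 2 := by decide
  rw [h2] at h1
  exact h1

theorem nz_conj (x : Fˣ) : nz F * dx x * (nz F)⁻¹ = dx x⁻¹ := by
  rw [mul_inv_eq_iff_eq_mul]
  apply Subtype.ext
  rw [Matrix.SpecialLinearGroup.coe_mul, Matrix.SpecialLinearGroup.coe_mul, dx_coe, dx_coe]
  ext a b
  rw [Matrix.mul_diagonal, Matrix.diagonal_mul]
  by_cases h : (nz F : Matrix (Fin 3) (Fin 3) F) a b = 0
  · rw [h, zero_mul, mul_zero]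
  · have h1 := mono_nz a b h
    rw [mul_comm]
    congr 1
    rw [h1]
    fin_cases b
    · change (x : F) = ((x⁻¹ : Fˣ) : F)⁻¹
      rw [Units.val_inv_eq_inv_val, inv_inv]
    · rfl
    · change (x : F)⁻¹ = ((x⁻¹ : Fˣ) : F)
      rw [Units.val_inv_eq_inv_val]

end elts

section main

variable {F : Type} [Field F] [Fintype F] [CharP F 2]

theorem finite_psl3 : Finite (ProjectiveSpecialLinearGroup (Fin (2 + 1)) F) :=
  have : DecidableEq F := Classical.decEq F
  Quotient.finite _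

theorem twoC_psl3 : H601.OddDeg.TwoC (ProjectiveSpecialLinearGroup (Fin (2 + 1)) F) := by
  have h1 : Finite (ProjectiveSpecialLinearGroup (Fin (2 + 1)) F) := finite_psl3
  have h2 : IsSimpleGroup (ProjectiveSpecialLinearGroup (Fin (2 + 1)) F) := Cfsg.Agent.S0249.result 3 le_rfl
  exact H742.TwoC.twoC_charTwo (Or.inl ⟨F, inferInstance, inferInstance, inferInstance, 3, by norm_num,
    fun h => absurd h (by norm_num), ⟨MulEquiv.refl _⟩⟩)

theorem T_psl_comm : ∀ a ∈ (T (Fin (2 + 1)) F).map (pr 2 F), ∀ b ∈ (T (Fin (2 + 1)) F).map (pr 2 F),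
    a * b = b * a := by
  rintro _ ⟨s, hs, rfl⟩ _ ⟨t, ht, rfl⟩
  rw [← map_mul, ← map_mul, KFacts.Mult.TypeA.T_comm hs ht]

theorem nz_mem : pr 2 F (nz F) ∈ NN (cA 2).toCoxeterSystem (rA 2 F).nsys := by
  have h1 : ∀ i : Fin 2, pr 2 F (ns 2 F i) ∈ NN (cA 2).toCoxeterSystem (rA 2 F).nsys := fun i =>
    ⟨(cA 2).toCoxeterSystem.simple i, rp_simple (cA 2).toCoxeterSystem (rA 2 F).nsys i⟩
  rw [nz, map_mul, map_mul]
  exact mul_mem (mul_mem (h1 0) (h1 1)) (h1 0)

/-- **two elements of the torus** -/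
theorem psl3_two {β : MulAut (ProjectiveSpecialLinearGroup (Fin (2 + 1)) F)}
    {σ : Equiv.Perm (Fin 2)} (hN : Nrm (rA 2 F) β σ) {x y : Fˣ} (hx1 : x ≠ 1) (hy1 : y ≠ 1) (hxy : y ≠ x)
    (hxy' : x * y ≠ 1) (hx : β (pr 2 F (dx x)) = pr 2 F (dx x) ∨ β (pr 2 F (dx x)) = pr 2 F (dx x⁻¹))
    (hy : β (pr 2 F (dx y)) = pr 2 F (dx y) ∨ β (pr 2 F (dx y)) = pr 2 F (dx y⁻¹)) : GInv3 β := by
  have h1 : Finite (ProjectiveSpecialLinearGroup (Fin (2 + 1)) F) := finite_psl3
  have h2 : Finite (cA 2).Group := finite_A 2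
  have key : ∀ x : Fˣ, (β (pr 2 F (dx x)) = pr 2 F (dx x) ∨ β (pr 2 F (dx x)) = pr 2 F (dx x⁻¹)) →
      ∃ z ∈ NN (cA 2).toCoxeterSystem (rA 2 F).nsys, z * pr 2 F (dx x) * z⁻¹ = β (pr 2 F (dx x)) := by
    rintro x (h | h)
    · exact ⟨1, one_mem _, by rw [one_mul, inv_one, mul_one, h]⟩
    · exact ⟨_, nz_mem, by rw [← map_inv, ← map_mul, ← map_mul, nz_conj, h]⟩
  exact H118.K547.gInv3_of_elts hN (gA 2 F) twoC_psl3 T_psl_comm ⟨_, dx_mem x, rfl⟩ ⟨_, dx_mem y, rfl⟩
    (pr_dx_ne_one hx1) (pr_dx_ne_one hy1) (fun z _ => not_conj hy1 hxy hxy' z) (key x hx) (key y hy)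

/-- **P1** -/
theorem psl3_generic {β : MulAut (ProjectiveSpecialLinearGroup (Fin (2 + 1)) F)}
    {σ : Equiv.Perm (Fin 2)} (hN : Nrm (rA 2 F) β σ) (φ : F ≃+* F)
    (hφ : ∀ x y : Fˣ, φ (x : F) = y → β (pr 2 F (dx x)) = pr 2 F (dx y)) {x y : F} (hx0 : x ≠ 0) (hx1 : x ≠ 1)
    (hy0 : y ≠ 0) (hy1 : y ≠ 1) (hxy : y ≠ x) (hxy' : x * y ≠ 1) (hx : φ x = x ∨ φ x * x = 1)
    (hy : φ y = y ∨ φ y * y = 1) : GInv3 β := by
  have key : ∀ {z : F} (h0 : z ≠ 0), (φ z = z ∨ φ z * z = 1) →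
      (β (pr 2 F (dx (Units.mk0 z h0))) = pr 2 F (dx (Units.mk0 z h0)) ∨
        β (pr 2 F (dx (Units.mk0 z h0))) = pr 2 F (dx (Units.mk0 z h0)⁻¹)) := by
    rintro z h0 (h | h)
    · exact Or.inl (hφ _ _ h)
    · refine Or.inr (hφ _ _ ?_)
      rw [Units.val_inv_eq_inv_val, Units.val_mk0]
      exact eq_inv_of_mul_eq_one_left h
  refine psl3_two hN (x := Units.mk0 x hx0) (y := Units.mk0 y hy0) ?_ ?_ ?_ ?_ (key hx0 hx) (key hy0 hy)
  · intro h
    exact hx1 (congrArg Units.val h)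
  · intro h
    exact hy1 (congrArg Units.val h)
  · intro h
    exact hxy (congrArg Units.val h)
  · intro h
    exact hxy' (congrArg Units.val h)

end main

end Cfsg.Agent.H151.K547.Psl3
end

-- part: H71/QE/Psl3Swap
section
/-!
# S4547, task QE7 (helper71): `PSL_3(F)`, `|F| = 2 ^ f ≥ 4`, the automorphisms reversing the diagram

* `psl3_swap` : `GInv3 β` (the case `n = 2` of `EvenSmall.psl_swap`).
-/

set_option autoImplicit false
set_option linter.unusedSectionVars false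

namespace Cfsg.Agent.H71.QE

open Cfsg Matrix Cfsg.Agent.ClassicalGeometry.AutPSL.Auto Cfsg.Agent.H307.QE Cfsg.Agent.H821.K547
  Cfsg.Agent.H42.K547.Even

theorem twoC_psl3 {F : Type} [Field F] [Fintype F] [CharP F 2] :
    H601.OddDeg.TwoC (Matrix.ProjectiveSpecialLinearGroup (Fin 3) F) := by
  have hfin : Finite (Matrix.ProjectiveSpecialLinearGroup (Fin 3) F) := Quotient.finite _
  have hsim : IsSimpleGroup (Matrix.ProjectiveSpecialLinearGroup (Fin 3) F) := Cfsg.Agent.S0249.result 3 (by omega)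
  have hL : IsLieTypeChar 2 (Matrix.ProjectiveSpecialLinearGroup (Fin 3) F) :=
    Or.inl ⟨F, inferInstance, inferInstance, inferInstance, 3, by norm_num, fun h => absurd h (by norm_num),
      ⟨MulEquiv.refl _⟩⟩
  exact H742.TwoC.twoC_charTwo hL

/-- **QE7** -/
theorem psl3_swap {F : Type} [Field F] [Fintype F] [CharP F 2] (h4 : 4 ≤ Fintype.card F)
    {β : MulAut (Matrix.ProjectiveSpecialLinearGroup (Fin 3) F)} {σ : Equiv.Perm (Fin 2)} (hN : Nrm (rA 2 F) β σ)
    (hσ : σ ≠ 1) : GInv3 β := by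
  have hT := twoC_psl3 (F := F)
  obtain ⟨φ, A, hβ, hA⟩ := psl3_shape hN hσ
  have hd := shape_dg hβ hA
  obtain ⟨k, hk⟩ := hN.pow
  have h4' : 4 ≤ Nat.card F := by rwa [Nat.card_eq_fintype_card]
  rcases field_cases h4' φ ⟨k, shape_pow hd hk⟩ with h | h | h
  · exact gInv3_four hT h.1 hN.pow h.2 hβ
  · obtain ⟨ζ, hζ, x₀, hx₀⟩ := exists_zeta h.1
    exact gInv3_cube hT hN.pow hβ hζ hx₀ h.2
  · obtain ⟨x, y, hx0, hx1, hy0, hy1, hxy, hxy', hx, hy⟩ := h
    refine H151.K547.Psl3.psl3_generic hN φ (fun x y hxy => ?_) hx0 hx1 hy0 hy1 hxy hxy' hx hy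
    have h1 := hd x
    rwa [show Units.map (φ : F →* F) x = y from Units.ext hxy] at h1

end Cfsg.Agent.H71.QE
end

private theorem dce_29f0623ba662 : _root_.True := by
  try have : _root_.True := by simp only [_root_.Cfsg.Agent.H71.QE.w5.congr_simp]
  try have : _root_.True := by simp only [_root_.Cfsg.Agent.H71.QE.s5.congr_simp]
  try have : _root_.True := by simp only [_root_.Cfsg.Agent.H151.K547.Psl3.nz.eq_1]
  exact _root_.True.intro
end

-- part: H821/K547/Tools
section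
prune_inst 0x4252028052bc012000004059291201ef78f0004b2106b0801d9e507460687df6a0d02af60ce201e134a2aab0500310048130000f00200000000000400011901a090cad206b349a10cc7008f80b086010000000000000000000000000000041004004010000
set_option linter.all false
open scoped Cfsg.Agent.FastGrp

-- part: H753/K547/Split
section
/-!
# S4547: split extensions (helper753)

* `rk_of_split` : `P = V : K` a finite 2-group, `V ≠ 1` normal, `Rk n K` ⟹ `Rk (n + 1) P`.
* `d3_of_split` : `M ≤ G` of odd index, `M = V : K`, `V ≠ 1` a normal 2-subgroup of `M`, `Rk 2` for a Sylow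
  2-subgroup of `K` ⟹ `D3 G`.
-/

set_option autoImplicit false

namespace Cfsg.Agent.H753.K547

open Cfsg.Agent.H821.K547

universe u v

theorem sq_one : ∀ x : Multiplicative (ZMod 2), x * x = 1 := by decide

theorem eq_of_ne : ∀ x y : Multiplicative (ZMod 2), x ≠ 1 → y ≠ 1 → x = y := by decide

/-- a nontrivial finite 2-group maps onto a group of order two -/
theorem exists_hom_two {V : Type u} [Group V] [Finite V] (hV : IsPGroup 2 V) [Nontrivial V] :
    ∃ f : V →* Multiplicative (ZMod 2), f ≠ 1 := by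
  have : Fact (Nat.Prime 2) := ⟨Nat.prime_two⟩
  obtain ⟨n, hn⟩ := IsPGroup.iff_card.1 hV
  have hn0 : n ≠ 0 := by
    rintro rfl
    rw [pow_zero, Nat.card_eq_one_iff_unique] at hn
    obtain ⟨h1, -⟩ := hn
    exact not_subsingleton V h1
  obtain ⟨k, rfl⟩ := Nat.exists_eq_succ_of_ne_zero hn0
  obtain ⟨N, hN⟩ := Sylow.exists_subgroup_card_pow_prime 2 (G := V) (n := k) (by rw [hn]; exact pow_dvd_pow 2 (Nat.le_succ k))
  have hi : N.index = 2 := by
    have h1 := N.card_mul_index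
    rw [hn, hN, pow_succ] at h1
    exact Nat.eq_of_mul_eq_mul_left (by positivity) h1
  have hnor : N.Normal := Subgroup.normal_of_index_eq_two hi
  have hc : Nat.card (V ⧸ N) = 2 := hi
  have hcyc : IsCyclic (V ⧸ N) := isCyclic_of_prime_card hc
  have hc2 : Nat.card (Multiplicative (ZMod 2)) = 2 := by
    show Nat.card (ZMod 2) = 2
    rw [Nat.card_eq_fintype_card, ZMod.card]
  have hcyc2 : IsCyclic (Multiplicative (ZMod 2)) := isCyclic_of_prime_card hc2
  let e : V ⧸ N ≃* Multiplicative (ZMod 2) := mulEquivOfCyclicCardEq (hc.trans hc2.symm)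
  refine ⟨e.toMonoidHom.comp (QuotientGroup.mk' N), fun h => ?_⟩
  have h2 : ∀ v : V, (QuotientGroup.mk' N v) = 1 := by
    intro v
    apply e.injective
    rw [map_one]
    exact DFunLike.congr_fun h v
  have h3 : N = ⊤ := by
    rw [eq_top_iff]
    intro v _
    exact (QuotientGroup.eq_one_iff v).1 (h2 v)
  rw [h3, Subgroup.index_top] at hi
  omega

/-- an invariant homomorphism onto a group of order two -/
theorem exists_inv_hom {P : Type u} [Group P] [Finite P] (hP : IsPGroup 2 P) (V : Subgroup P) [V.Normal]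
    (hV : V ≠ ⊥) : ∃ f : V →* Multiplicative (ZMod 2), f ≠ 1 ∧
      ∀ (p : P) (v : V), f ⟨p * v * p⁻¹, Subgroup.Normal.conj_mem inferInstance _ v.2 p⟩ = f v := by
  have hfact : Fact (Nat.Prime 2) := ⟨Nat.prime_two⟩
  have hnt : Nontrivial V := (Subgroup.nontrivial_iff_ne_bot V).2 hV
  obtain ⟨f0, hf0⟩ := exists_hom_two (hP.to_subgroup V)
  have hfin : Finite (V →* Multiplicative (ZMod 2)) :=
    Finite.of_injective (fun f : V →* Multiplicative (ZMod 2) => (f : V → Multiplicative (ZMod 2)))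
      DFunLike.coe_injective
  -- the action
  let c : P →* MulAut V := MulAut.conjNormal
  let act : MulAction P (V →* Multiplicative (ZMod 2)) :=
    { smul := fun p f => f.comp (c p⁻¹).toMonoidHom
      one_smul := fun f => by
        show f.comp (c 1⁻¹).toMonoidHom = f
        rw [inv_one, map_one]
        rfl
      mul_smul := fun p q f => by
        show f.comp (c (p * q)⁻¹).toMonoidHom = (f.comp (c q⁻¹).toMonoidHom).comp (c p⁻¹).toMonoidHom
        rw [mul_inv_rev, map_mul]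
        rfl }
  have hd : 2 ∣ Nat.card (V →* Multiplicative (ZMod 2)) := by
    have h1 : f0 * f0 = 1 := by
      ext v
      exact congrArg Multiplicative.toAdd (sq_one (f0 v))
    have h2 : orderOf f0 = 2 := orderOf_eq_prime (by rw [pow_two]; exact h1) hf0
    have h3 := orderOf_dvd_natCard f0
    rwa [h2] at h3
  obtain ⟨f, hf, hf1⟩ := hP.exists_fixed_point_of_prime_dvd_card_of_fixed_point (V →* Multiplicative (ZMod 2)) hd
    (a := 1) (by
      intro p
      show (1 : V →* Multiplicative (ZMod 2)).comp (c p⁻¹).toMonoidHom = 1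
      rfl)
  refine ⟨f, hf1.symm, fun p v => ?_⟩
  have h1 : f.comp (c p⁻¹⁻¹).toMonoidHom = f := hf p⁻¹
  rw [inv_inv] at h1
  exact DFunLike.congr_fun h1 v

/-- the elementary abelian group of rank `n + 1` -/
def pairEquiv (n : ℕ) : Multiplicative (ZMod 2) × Multiplicative (Fin n → ZMod 2) ≃*
    Multiplicative (Fin (n + 1) → ZMod 2) := by
  refine {
    toFun := fun p => Multiplicative.ofAdd (Fin.cons p.1.toAdd p.2.toAdd)
    invFun := fun q => (Multiplicative.ofAdd (q.toAdd 0), Multiplicative.ofAdd fun i => q.toAdd i.succ)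
    left_inv := ?_
    right_inv := ?_
    map_mul' := ?_ }
  · rintro ⟨a, b⟩
    rfl
  · intro q
    apply Multiplicative.toAdd.injective
    funext i
    refine Fin.cases ?_ (fun j => ?_) i
    · rfl
    · rfl
  · rintro ⟨a, b⟩ ⟨c, d⟩
    apply Multiplicative.toAdd.injective
    funext i
    refine Fin.cases ?_ (fun j => ?_) i
    · rfl
    · rfl

/-- **split extensions** -/
theorem rk_of_split {P : Type u} [Group P] [Finite P] (hP : IsPGroup 2 P) {n : ℕ} (V K : Subgroup P) [V.Normal]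
    (hV : V ≠ ⊥) (hc : Subgroup.IsComplement' V K) (hK : Rk n K) : Rk (n + 1) P := by
  obtain ⟨f, hf1, hf⟩ := exists_inv_hom hP V hV
  obtain ⟨g, hg⟩ := hK
  let e := pairEquiv n
  let E := SemidirectProduct.mulEquivSubgroup hc
  let F1 : V →* Multiplicative (ZMod 2) × Multiplicative (Fin n → ZMod 2) := f.prod 1
  let F2 : K →* Multiplicative (ZMod 2) × Multiplicative (Fin n → ZMod 2) := (1 : K →* Multiplicative (ZMod 2)).prod g
  let L := SemidirectProduct.lift (φ := (MulAut.conjNormal.comp K.subtype : K →* MulAut V)) F1 F2 (by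
    intro k
    ext v
    · show (f _) = (F2 k * F1 v * (F2 k)⁻¹).1
      have h1 : (F2 k * F1 v * (F2 k)⁻¹).1 = f v := by
        show (1 * f v * 1⁻¹ : Multiplicative (ZMod 2)) = f v
        rw [one_mul, inv_one, mul_one]
      rw [h1]
      exact hf (k : P) v
    · rename_i i
      have h1 : (1 : Multiplicative (Fin n → ZMod 2)) = g k * 1 * (g k)⁻¹ := by rw [mul_one, mul_inv_cancel]
      exact congrFun (congrArg Multiplicative.toAdd h1) i)
  refine ⟨(e.toMonoidHom.comp L).comp E.symm.toMonoidHom, ?_⟩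
  have hL : Function.Surjective L := by
    rintro ⟨a, b⟩
    obtain ⟨k, hk⟩ := hg b
    obtain ⟨v, hv⟩ : ∃ v, f v = a := by
      by_cases ha : a = 1
      · exact ⟨1, by rw [map_one, ha]⟩
      · obtain ⟨v, hv⟩ : ∃ v, f v ≠ 1 := by
          by_contra hcon
          push Not at hcon
          exact hf1 (MonoidHom.ext hcon)
        refine ⟨v, ?_⟩
        exact eq_of_ne _ _ hv ha
    refine ⟨SemidirectProduct.inl v * SemidirectProduct.inr k, ?_⟩
    rw [map_mul, SemidirectProduct.lift_inl, SemidirectProduct.lift_inr]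
    show (f v * 1, 1 * g k) = (a, b)
    rw [mul_one, one_mul, hv, hk]
  exact e.surjective.comp (hL.comp E.symm.surjective)

theorem rk_of_surj {n : ℕ} {P : Type u} {P' : Type v} [Group P] [Group P'] (f : P →* P')
    (hf : Function.Surjective f) (h : Rk n P') : Rk n P := by
  obtain ⟨g, hg⟩ := h
  exact ⟨g.comp f, hg.comp hf⟩

section

variable {G : Type u} [Group G] {V K : Subgroup G}

theorem mem_sup_of_norm (hn : K ≤ Subgroup.normalizer (V : Set G)) {x : G} (hx : x ∈ V ⊔ K) :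
    ∃ v ∈ V, ∃ k ∈ K, x = v * k := by
  let T : Subgroup G :=
    { carrier := {x | ∃ v ∈ V, ∃ k ∈ K, x = v * k}
      one_mem' := ⟨1, V.one_mem, 1, K.one_mem, (one_mul 1).symm⟩
      mul_mem' := by
        rintro _ _ ⟨v, hv, k, hk, rfl⟩ ⟨v', hv', k', hk', rfl⟩
        refine ⟨v * (k * v' * k⁻¹), V.mul_mem hv ((Subgroup.mem_normalizer_iff.1 (hn hk) v').1 hv'), k * k',
          K.mul_mem hk hk', ?_⟩
        group
      inv_mem' := by
        rintro _ ⟨v, hv, k, hk, rfl⟩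
        refine ⟨k⁻¹ * v⁻¹ * k, ?_, k⁻¹, K.inv_mem hk, by group⟩
        have := (Subgroup.mem_normalizer_iff.1 (hn (K.inv_mem hk)) v⁻¹).1 (V.inv_mem hv)
        rwa [inv_inv] at this }
  have hT : V ⊔ K ≤ T := sup_le (fun v hv => ⟨v, hv, 1, K.one_mem, (mul_one v).symm⟩)
    (fun k hk => ⟨1, V.one_mem, k, hk, (one_mul k).symm⟩)
  exact hT hx

theorem card_sup (hn : K ≤ Subgroup.normalizer (V : Set G)) (hd : Disjoint V K) :
    Nat.card ↥(V ⊔ K) = Nat.card V * Nat.card K := by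
  rw [← Nat.card_prod]
  refine (Nat.card_congr (Equiv.ofBijective (fun p : V × K => (⟨p.1 * p.2, Subgroup.mul_mem _
    (Subgroup.mem_sup_left p.1.2) (Subgroup.mem_sup_right p.2.2)⟩ : ↥(V ⊔ K))) ⟨?_, ?_⟩)).symm
  · intro p q h
    exact Subgroup.mul_injective_of_disjoint hd (congrArg Subtype.val h)
  · rintro ⟨x, hx⟩
    obtain ⟨v, hv, k, hk, rfl⟩ := mem_sup_of_norm hn hx
    exact ⟨(⟨v, hv⟩, ⟨k, hk⟩), rfl⟩

/-- **split subgroups of odd index** -/
theorem d3_of_split [Finite G] (hn : K ≤ Subgroup.normalizer (V : Set G)) (hV : IsPGroup 2 V) (hV1 : V ≠ ⊥)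
    (hd : Disjoint V K) (hi : ¬ 2 ∣ (V ⊔ K).index) (Q : Sylow 2 K) (hQ : Rk 2 Q) : D3 G := by
  have hfact : Fact (Nat.Prime 2) := ⟨Nat.prime_two⟩
  set Q' : Subgroup G := (Q : Subgroup K).map K.subtype with hQ'
  have hQK : Q' ≤ K := Subgroup.map_subtype_le _
  have eQ : ↥(Q : Subgroup K) ≃* ↥Q' := (Q : Subgroup K).equivMapOfInjective K.subtype K.subtype_injective
  have hn' : Q' ≤ Subgroup.normalizer (V : Set G) := hQK.trans hn
  have hd' : Disjoint V Q' := hd.mono_right hQK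
  set P : Subgroup G := V ⊔ Q' with hPdef
  have hPle : P ≤ V ⊔ K := sup_le_sup_left hQK V
  have cP : Nat.card P = Nat.card V * Nat.card Q' := card_sup hn' hd'
  have cVK := card_sup hn hd
  have cQ' : Nat.card Q' = Nat.card (Q : Subgroup K) := (Nat.card_congr eQ.toEquiv).symm
  have hP2 : IsPGroup 2 P := by
    obtain ⟨a, ha⟩ := IsPGroup.iff_card.1 hV
    obtain ⟨b, hb⟩ := IsPGroup.iff_card.1 Q.2
    refine IsPGroup.of_card (n := a + b) ?_
    rw [cP, cQ', ha, hb, pow_add]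
  have hPi : ¬ 2 ∣ P.index := by
    have h1 := Subgroup.relIndex_mul_index hPle
    rw [← h1, Nat.prime_two.dvd_mul, not_or]
    refine ⟨?_, hi⟩
    have h2 : P.relIndex (V ⊔ K) = (Q : Subgroup K).index := by
      have h3 := Subgroup.card_mul_index (P.subgroupOf (V ⊔ K))
      have h4 : Nat.card (P.subgroupOf (V ⊔ K)) = Nat.card P :=
        Nat.card_congr (Subgroup.subgroupOfEquivOfLe hPle).toEquiv
      have h5 := (Q : Subgroup K).card_mul_index
      rw [h4, cP, cVK, cQ', ← h5, mul_assoc] at h3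
      have h6 : 0 < Nat.card V := Nat.card_pos
      have h7 : 0 < Nat.card (Q : Subgroup K) := Nat.card_pos
      exact Nat.eq_of_mul_eq_mul_left h7 (Nat.eq_of_mul_eq_mul_left h6 h3)
    rw [h2]
    exact Q.not_dvd_index
  -- rank of `P`
  have hVP : V ≤ P := le_sup_left
  have hQP : Q' ≤ P := le_sup_right
  have hPn : P ≤ Subgroup.normalizer (V : Set G) := sup_le Subgroup.le_normalizer hn'
  have hnor : (V.subgroupOf P).Normal := Subgroup.normal_subgroupOf_of_le_normalizer hPn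
  have hrk : Rk 3 P := by
    refine rk_of_split (n := 2) hP2 (V.subgroupOf P) (Q'.subgroupOf P) ?_ ?_ ?_
    · intro h
      apply hV1
      rw [Subgroup.subgroupOf_eq_bot] at h
      exact disjoint_self.1 (h.mono_right hVP)
    · refine Subgroup.isComplement'_of_disjoint_and_mul_eq_univ ?_ ?_
      · rw [Subgroup.disjoint_def]
        intro x hx hx'
        exact Subtype.ext (Subgroup.disjoint_def.1 hd' hx hx')
      · rw [Set.eq_univ_iff_forall]
        rintro ⟨x, hx⟩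
        obtain ⟨v, hv, k, hk, rfl⟩ := mem_sup_of_norm hn' hx
        exact ⟨⟨v, hVP hv⟩, hv, ⟨k, hQP hk⟩, hk, rfl⟩
    · exact rk_of_surj ((Subgroup.subgroupOfEquivOfLe hQP).trans eQ.symm).toMonoidHom
        ((Subgroup.subgroupOfEquivOfLe hQP).trans eQ.symm).surjective hQ
  intro S
  let T : Sylow 2 G := hP2.toSylow hPi
  exact rk_of_surj (Sylow.equiv S T).toMonoidHom (Sylow.equiv S T).surjective hrk

end

/-- a noncyclic finite 2-group maps onto `C₂ × C₂` -/
theorem rk_two_of_not_cyclic {P : Type u} [Group P] [Finite P] (hP : IsPGroup 2 P) (hc : ¬ IsCyclic P) : Rk 2 P := by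
  have hfact : Fact (Nat.Prime 2) := ⟨Nat.prime_two⟩
  obtain ⟨n, hn⟩ := IsPGroup.iff_card.1 hP
  have hn0 : n ≠ 0 := by
    rintro rfl
    rw [pow_zero, Nat.card_eq_one_iff_unique] at hn
    obtain ⟨h1, -⟩ := hn
    exact hc (isCyclic_of_subsingleton)
  obtain ⟨k, rfl⟩ := Nat.exists_eq_succ_of_ne_zero hn0
  have hidx : ∀ N : Subgroup P, Nat.card N = 2 ^ k → N.index = 2 := by
    intro N hN
    have h1 := N.card_mul_index
    rw [hn, hN, pow_succ] at h1
    exact Nat.eq_of_mul_eq_mul_left (by positivity) h1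
  obtain ⟨N, hN⟩ := Sylow.exists_subgroup_card_pow_prime 2 (G := P) (n := k)
    (by rw [hn]; exact pow_dvd_pow 2 (Nat.le_succ k))
  have hNi := hidx N hN
  have hNt : N ≠ ⊤ := by
    rintro rfl
    rw [Subgroup.index_top] at hNi
    omega
  obtain ⟨x, hx⟩ : ∃ x, x ∉ N := by
    by_contra h
    push Not at h
    exact hNt (eq_top_iff.2 fun y _ => h y)
  obtain ⟨j, hj⟩ := IsPGroup.iff_card.1 (hP.to_subgroup (Subgroup.zpowers x))
  have hjk : j ≤ k := by
    by_contra hlt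
    have h1 : 2 ^ (k + 1) ≤ 2 ^ j := Nat.pow_le_pow_right (by norm_num) (by omega)
    have h2 : Subgroup.zpowers x = ⊤ := Subgroup.eq_top_of_card_eq _ (le_antisymm (Subgroup.card_le_card_group _)
      (by rw [hn, hj]; exact h1))
    exact hc (isCyclic_iff_exists_zpowers_eq_top.2 ⟨x, h2⟩)
  obtain ⟨L, hL, hxL⟩ := Sylow.exists_subgroup_card_pow_prime_le 2 (G := P) (n := j) (m := k)
    (by rw [hn]; exact pow_dvd_pow 2 (Nat.le_succ k)) (Subgroup.zpowers x) hj hjk
  have hLi := hidx L hL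
  have hxL' : x ∈ L := hxL (Subgroup.mem_zpowers x)
  -- two homomorphisms
  have key : ∀ M : Subgroup P, M.index = 2 → ∃ f : P →* Multiplicative (ZMod 2), ∀ y, f y = 1 ↔ y ∈ M := by
    intro M hM
    have hnor : M.Normal := Subgroup.normal_of_index_eq_two hM
    have hc2 : Nat.card (Multiplicative (ZMod 2)) = 2 := by
      show Nat.card (ZMod 2) = 2
      rw [Nat.card_eq_fintype_card, ZMod.card]
    have hcM : Nat.card (P ⧸ M) = 2 := hM
    have hcyc : IsCyclic (P ⧸ M) := isCyclic_of_prime_card hcM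
    have hcyc2 : IsCyclic (Multiplicative (ZMod 2)) := isCyclic_of_prime_card hc2
    let e : P ⧸ M ≃* Multiplicative (ZMod 2) := mulEquivOfCyclicCardEq (hcM.trans hc2.symm)
    refine ⟨e.toMonoidHom.comp (QuotientGroup.mk' M), fun y => ?_⟩
    show e (QuotientGroup.mk' M y) = 1 ↔ _
    rw [map_eq_one_iff e e.injective]
    exact QuotientGroup.eq_one_iff y
  obtain ⟨f, hf⟩ := key N hNi
  obtain ⟨g, hg⟩ := key L hLi
  -- an element outside `L` and inside `N`
  obtain ⟨y, hyN, hyL⟩ : ∃ y, y ∈ N ∧ y ∉ L := by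
    by_contra h
    push Not at h
    have h1 : N ≤ L := h
    have h2 : N = L := Subgroup.eq_of_le_of_card_ge h1 (by rw [hN, hL])
    exact hx (h2 ▸ hxL')
  have hc2 : ∀ a : Multiplicative (ZMod 2), a ≠ 1 → a = Multiplicative.ofAdd 1 := by
    intro a ha
    exact eq_of_ne _ _ ha (fun h => by
      have h1 := congrArg Multiplicative.toAdd h
      exact absurd h1 (by show (1 : ZMod 2) ≠ 0; exact one_ne_zero))
  have f1 : f x = Multiplicative.ofAdd 1 := hc2 _ fun h => hx ((hf x).1 h)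
  have f2 : f y = 1 := (hf y).2 hyN
  have g1 : g x = 1 := (hg x).2 hxL'
  have g2 : g y = Multiplicative.ofAdd 1 := hc2 _ fun h => hyL ((hg y).1 h)
  let e1 : Multiplicative (ZMod 2) ≃* Multiplicative (Fin 1 → ZMod 2) :=
    { toFun := fun a => Multiplicative.ofAdd fun _ => a.toAdd
      invFun := fun b => Multiplicative.ofAdd (b.toAdd 0)
      left_inv := fun _ => rfl
      right_inv := fun b => by
        apply Multiplicative.toAdd.injective
        funext i
        rw [Subsingleton.elim i 0]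
        rfl
      map_mul' := fun _ _ => rfl }
  refine ⟨(pairEquiv 1).toMonoidHom.comp (f.prod (e1.toMonoidHom.comp g)), (pairEquiv 1).surjective.comp ?_⟩
  rintro ⟨a, b⟩
  have hab : ∀ a : Multiplicative (ZMod 2), a = 1 ∨ a = Multiplicative.ofAdd 1 := fun a => by
    by_cases ha : a = 1
    · exact Or.inl ha
    · exact Or.inr (hc2 a ha)
  obtain ⟨b, rfl⟩ := e1.surjective b
  rcases hab a with rfl | rfl <;> rcases hab b with rfl | rfl
  · exact ⟨1, by rw [map_one, map_one]; rfl⟩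
  · exact ⟨y, by show (f y, e1 (g y)) = _; rw [f2, g2]⟩
  · exact ⟨x, by show (f x, e1 (g x)) = _; rw [f1, g1]⟩
  · exact ⟨x * y, by show (f (x * y), e1 (g (x * y))) = _; rw [map_mul, map_mul, f1, f2, g1, g2, mul_one, one_mul]⟩

end Cfsg.Agent.H753.K547
end

-- part: H821/K547/Tools
section
/-!
# S4547: the tools for `Rk` and `D3` (task K547-TOOL1, helper513)

* `Rk.mono`, `Rk.of_surj`, `Rk.congr`, `Rk.prod`, `rk_iff`, `Rk.of_sq`, `Rk.of_split`, `Rk.of_swap` (wreath products);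
* `D3.of_sylow`, `D3.congr`, `D3.of_index`, `D3.to_index`, `D3.index_iff`, `D3.of_surj`, `D3.of_map`, `D3.of_split`,
  `D3.of_elementary`, `D3.of_elementary_quot`.
-/

set_option autoImplicit false

namespace Cfsg.Agent.H821.K547

open Cfsg
open scoped commutatorElement

universe u v

/-! ### `Rk` -/

theorem Rk.of_surj {n : ℕ} {P : Type u} {P' : Type v} [Group P] [Group P'] (f : P →* P')
    (hf : Function.Surjective f) (h : Rk n P') : Rk n P := by
  obtain ⟨g, hg⟩ := h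
  exact ⟨g.comp f, hg.comp hf⟩

theorem Rk.congr {n : ℕ} {P : Type u} {P' : Type v} [Group P] [Group P'] (e : P ≃* P') (h : Rk n P') : Rk n P :=
  Rk.of_surj e.toMonoidHom e.surjective h

theorem Rk.mono {m n : ℕ} {P : Type u} [Group P] [Finite P] (h : n ≤ m) (hP : Rk m P) : Rk n P :=
  H951.K547.rk_mono h hP

/-- all squares of `P` lie in `N` and `2 ^ n ≤ |P : N|` -/
theorem Rk.of_sq {n : ℕ} {P : Type u} [Group P] [Finite P] {N : Subgroup P} (hN : ∀ x : P, x ^ 2 ∈ N)
    (h : 2 ^ n ≤ N.index) : Rk n P :=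
  H951.K547.rk_of_sq hN h

theorem Rk.prod {m n : ℕ} {P : Type u} {P' : Type v} [Group P] [Group P'] [Finite P] [Finite P'] (h : Rk m P)
    (h' : Rk n P') : Rk (m + n) (P × P') := by
  obtain ⟨N, hN, hi⟩ := H951.K547.exists_sq_of_rk h
  obtain ⟨N', hN', hi'⟩ := H951.K547.exists_sq_of_rk h'
  refine Rk.of_sq (N := N.prod N') (fun x => ⟨hN x.1, hN' x.2⟩) ?_
  rw [Subgroup.index_prod, hi, hi', pow_add]

theorem Rk.of_split {P : Type u} [Group P] [Finite P] (hP : IsPGroup 2 P) {n : ℕ} (V K : Subgroup P) [V.Normal]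
    (hV : V ≠ ⊥) (hc : Subgroup.IsComplement' V K) (hK : Rk n K) : Rk (n + 1) P :=
  H753.K547.rk_of_split hP V K hV hc hK

/-- **Wreath products.**  `A × B ≤ P` of index two, `t` interchanges `A` and `B`. -/
theorem Rk.of_swap {n : ℕ} {P : Type u} [Group P] [Finite P] (A B : Subgroup P) (hAB : ∀ a ∈ A, ∀ b ∈ B, a * b = b * a)
    (hd : Disjoint A B) (hi : (A ⊔ B).index = 2) (t : P) (hA : ∀ a ∈ A, t * a * t⁻¹ ∈ B)
    (hB : ∀ b ∈ B, t * b * t⁻¹ ∈ A) (hn : Rk n A) : Rk (n + 1) P := by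
  obtain ⟨f, hf⟩ := hn
  -- `B = t A t⁻¹`
  have hcard : ∀ X Y : Subgroup P, (∀ a ∈ X, t * a * t⁻¹ ∈ Y) → Nat.card X ≤ Nat.card Y := by
    intro X Y h
    refine Nat.card_le_card_of_injective (fun x : X => (⟨t * x * t⁻¹, h x x.2⟩ : Y)) ?_
    intro x y hxy
    have h1 := congrArg Subtype.val hxy
    simp only at h1
    exact Subtype.ext (mul_left_cancel (mul_right_cancel h1))
  have hmap : A.map (MulAut.conj t).toMonoidHom = B := by
    apply Subgroup.eq_of_le_of_card_ge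
    · rintro _ ⟨a, ha, rfl⟩
      exact hA a ha
    · rw [Subgroup.card_map_of_injective (MulAut.conj t).injective]
      exact hcard B A hB
  have hB' : ∀ b ∈ B, ∃ a ∈ A, b = t * a * t⁻¹ := by
    intro b hb
    rw [← hmap] at hb
    obtain ⟨a, ha, rfl⟩ := hb
    exact ⟨a, ha, rfl⟩
  let ψ : A × A →* P := MonoidHom.noncommCoprod A.subtype ((MulAut.conj t).toMonoidHom.comp A.subtype)
    (fun a b => hAB a a.2 _ (hA b b.2))
  have hψ : ∀ x : A × A, ψ x = x.1 * (t * x.2 * t⁻¹) := fun x => rfl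
  have huniq : ∀ a ∈ A, ∀ a' ∈ A, ∀ b ∈ B, ∀ b' ∈ B, a * b = a' * b' → a = a' ∧ b = b' := by
    intro a ha a' ha' b hb b' hb' h
    have h1 : a'⁻¹ * a = b' * b⁻¹ := by
      rw [inv_mul_eq_iff_eq_mul, ← mul_assoc, ← h, mul_assoc, mul_inv_cancel, mul_one]
    have h2 : a'⁻¹ * a = 1 :=
      Subgroup.disjoint_def.1 hd (A.mul_mem (A.inv_mem ha') ha) (h1 ▸ B.mul_mem hb' (B.inv_mem hb))
    refine ⟨(inv_mul_eq_one.1 h2).symm, ?_⟩
    rw [h1] at h2
    exact (mul_inv_eq_one.1 h2).symm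
  have hinj : Function.Injective ψ := by
    intro x y h
    rw [hψ, hψ] at h
    obtain ⟨h1, h2⟩ := huniq _ x.1.2 _ y.1.2 _ (hA _ x.2.2) _ (hA _ y.2.2) h
    exact Prod.ext (Subtype.ext h1) (Subtype.ext (mul_left_cancel (mul_right_cancel h2)))
  have hrange : ψ.range = A ⊔ B := by
    apply le_antisymm
    · rintro _ ⟨x, rfl⟩
      rw [hψ]
      exact Subgroup.mul_mem _ (Subgroup.mem_sup_left x.1.2) (Subgroup.mem_sup_right (hA _ x.2.2))
    · rw [sup_le_iff]
      constructor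
      · intro a ha
        exact ⟨(⟨a, ha⟩, 1), by rw [hψ]; simp⟩
      · intro b hb
        obtain ⟨a, ha, rfl⟩ := hB' b hb
        exact ⟨(1, ⟨a, ha⟩), by rw [hψ]; simp⟩
  let φ : A × A →* Multiplicative (Fin n → ZMod 2) := MonoidHom.coprod f f
  have hφ : ∀ x, φ x = f x.1 * f x.2 := fun x => rfl
  have hsqv : ∀ v : Multiplicative (Fin n → ZMod 2), v * v = 1 := by
    intro v
    apply Multiplicative.toAdd.injective
    funext i
    have h2 : ∀ a : ZMod 2, a + a = 0 := by decide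
    exact h2 _
  have hφs : Function.Surjective φ := fun v => by
    obtain ⟨a, ha⟩ := hf v
    exact ⟨(a, 1), by rw [hφ, map_one, mul_one, ha]⟩
  -- the kernel
  refine Rk.of_sq (N := φ.ker.map ψ) ?_ ?_
  · intro x
    by_cases hx : x ∈ A ⊔ B
    · rw [← hrange] at hx
      obtain ⟨y, rfl⟩ := hx
      refine ⟨y ^ 2, ?_, map_pow _ _ _⟩
      show φ (y ^ 2) = 1
      rw [map_pow, pow_two, hsqv]
    · have hx2 : x ^ 2 ∈ A ⊔ B := by
        rw [pow_two, Subgroup.mul_mem_iff_of_index_two hi]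
      rw [← hrange] at hx2
      obtain ⟨y, hy⟩ := hx2
      refine ⟨y, ?_, hy⟩
      show φ y = 1
      rw [hψ] at hy
      have ht : t ∉ A ⊔ B ∨ A = ⊥ := by
        by_contra hcon
        push Not at hcon
        obtain ⟨h1, h2⟩ := hcon
        apply h2
        rw [← hrange] at h1
        obtain ⟨z, hz⟩ := h1
        rw [hψ] at hz
        rw [Subgroup.eq_bot_iff_forall]
        intro a ha
        have h3 := hA a ha
        rw [← hz] at h3
        have h4 : (z.1 : P) * (t * z.2 * t⁻¹) * a * ((z.1 : P) * (t * z.2 * t⁻¹))⁻¹ = z.1 * a * (z.1 : P)⁻¹ := by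
          have h5 := hAB a ha _ (hA _ z.2.2)
          rw [mul_inv_rev, mul_assoc (z.1 : P), ← h5]
          group
        rw [h4] at h3
        have h6 := Subgroup.disjoint_def.1 hd (A.mul_mem (A.mul_mem z.1.2 ha) (A.inv_mem z.1.2)) h3
        rw [mul_inv_eq_one] at h6
        exact mul_left_cancel (h6.trans (mul_one _).symm)
      rcases ht with ht | ht
      · have hm : t⁻¹ * x ∈ A ⊔ B := by
          rw [Subgroup.mul_mem_iff_of_index_two hi, Subgroup.inv_mem_iff]
          exact iff_of_false ht hx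
        rw [← hrange] at hm
        obtain ⟨z, hz⟩ := hm
        rw [hψ] at hz
        have hx' : x = t * (z.1 * (t * z.2 * t⁻¹)) := by rw [hz]; group
        -- `x` on `A`
        have hxa : ∀ a ∈ A, x * a * x⁻¹ = t * (z.1 * a * (z.1 : P)⁻¹) * t⁻¹ := by
          intro a ha
          have h5 := hAB a ha _ (hA _ z.2.2)
          rw [hx', mul_inv_rev, mul_inv_rev]
          rw [show t * (z.1 * (t * z.2 * t⁻¹)) * a * ((t * (z.2 : P) * t⁻¹)⁻¹ * (z.1 : P)⁻¹ * t⁻¹) =
            t * (z.1 * ((t * z.2 * t⁻¹) * a) * (t * (z.2 : P) * t⁻¹)⁻¹ * (z.1 : P)⁻¹) * t⁻¹ by group, ← h5]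
          group
        have hxb : ∀ b ∈ B, x * b * x⁻¹ ∈ A := by
          intro b hb
          have h5 := hAB _ z.1.2 (t * z.2 * t⁻¹ * b * (t * z.2 * t⁻¹)⁻¹)
            (B.mul_mem (B.mul_mem (hA _ z.2.2) hb) (B.inv_mem (hA _ z.2.2)))
          have h6 : x * b * x⁻¹ = t * (t * z.2 * t⁻¹ * b * (t * z.2 * t⁻¹)⁻¹) * t⁻¹ := by
            rw [hx', mul_inv_rev, mul_inv_rev]
            rw [show t * (z.1 * (t * z.2 * t⁻¹)) * b * ((t * (z.2 : P) * t⁻¹)⁻¹ * (z.1 : P)⁻¹ * t⁻¹) =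
              t * (z.1 * (t * z.2 * t⁻¹ * b * (t * z.2 * t⁻¹)⁻¹) * (z.1 : P)⁻¹) * t⁻¹ by group, h5]
            group
          rw [h6]
          exact hB _ (B.mul_mem (B.mul_mem (hA _ z.2.2) hb) (B.inv_mem (hA _ z.2.2)))
        have hcomm : (x * (y.1 : P) * x⁻¹) * (x * (t * y.2 * t⁻¹) * x⁻¹) = (y.1 : P) * (t * y.2 * t⁻¹) := by
          have h7 : x * ((y.1 : P) * (t * y.2 * t⁻¹)) * x⁻¹ = (y.1 : P) * (t * y.2 * t⁻¹) := by
            rw [hy]
            group
          rw [← h7]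
          group
        rw [hxa _ y.1.2] at hcomm
        have hmB : t * (z.1 * y.1 * (z.1 : P)⁻¹) * t⁻¹ ∈ B := hA _ (A.mul_mem (A.mul_mem z.1.2 y.1.2) (A.inv_mem z.1.2))
        have hmA : x * (t * y.2 * t⁻¹) * x⁻¹ ∈ A := hxb _ (hA _ y.2.2)
        rw [← hAB _ hmA _ hmB] at hcomm
        obtain ⟨-, h8⟩ := huniq _ hmA _ y.1.2 _ hmB _ (hA _ y.2.2) hcomm
        have h9 : (z.1 : P) * y.1 * (z.1 : P)⁻¹ = y.2 := mul_left_cancel (mul_right_cancel h8)
        have h10 : y.2 = z.1 * y.1 * z.1⁻¹ := Subtype.ext h9.symm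
        rw [hφ, h10, map_mul, map_mul, map_inv, mul_comm (f z.1), mul_assoc (f y.1), mul_inv_cancel, mul_one, hsqv]
      · have h1 : ∀ a : A, a = 1 := fun a => Subtype.ext ((Subgroup.eq_bot_iff_forall _).1 ht _ a.2)
        rw [hφ, h1 y.1, h1 y.2, map_one, mul_one]
  · rw [Subgroup.index_map, (MonoidHom.ker_eq_bot_iff ψ).2 hinj, sup_bot_eq, hrange, hi, Subgroup.index_ker,
      MonoidHom.range_eq_top.2 hφs, Subgroup.card_top, pow_succ]
    have h1 : Nat.card (Multiplicative (Fin n → ZMod 2)) = 2 ^ n := by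
      rw [Nat.card_congr (Multiplicative.toAdd), Nat.card_fun, Nat.card_zmod, Nat.card_fin]
    rw [h1]

/-! ### `D3` -/

theorem D3.of_sylow {G : Type u} [Group G] [Finite G] (Q : Sylow 2 G) (h : Rk 3 Q) : D3 G := by
  have : Fact (Nat.Prime 2) := ⟨Nat.prime_two⟩
  intro P
  exact Rk.congr (Sylow.equiv P Q) h

/-- a 2-subgroup of odd index -/
theorem D3.of_subgroup {G : Type u} [Group G] [Finite G] (P : Subgroup G) (hP : IsPGroup 2 P) (hi : ¬ 2 ∣ P.index)
    (h : Rk 3 P) : D3 G :=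
  H38.K547.d3_of_card P hP hi h

theorem D3.of_map {G : Type u} {Y : Type v} [Group G] [Finite G] [Group Y] (M : Subgroup G) (hM : ¬ 2 ∣ M.index)
    (f : M →* Y) (hf : Function.Surjective f) (hY : D3 Y) : D3 G :=
  H38.K547.d3_of_map M hM f hf hY

theorem D3.congr {G : Type u} {Y : Type v} [Group G] [Finite G] [Group Y] (e : G ≃* Y) (hY : D3 Y) : D3 G :=
  H38.K547.d3_congr e hY

theorem D3.of_surj {G : Type u} {Y : Type v} [Group G] [Finite G] [Group Y] (f : G →* Y) (hf : Function.Surjective f)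
    (hY : D3 Y) : D3 G := by
  intro P
  have : Fact (Nat.Prime 2) := ⟨Nat.prime_two⟩
  have h1 : Rk 3 ((P.mapSurjective hf : Sylow 2 Y) : Subgroup Y) := hY _
  exact Rk.of_surj (f.subgroupMap (P : Subgroup G)) (f.subgroupMap_surjective _) h1

theorem D3.of_index {G : Type u} [Group G] [Finite G] (M : Subgroup G) (hM : ¬ 2 ∣ M.index) (h : D3 M) : D3 G :=
  D3.of_map M hM (MonoidHom.id M) Function.surjective_id h

theorem D3.to_index {G : Type u} [Group G] [Finite G] (M : Subgroup G) (hM : ¬ 2 ∣ M.index) (h : D3 G) : D3 M := by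
  have : Fact (Nat.Prime 2) := ⟨Nat.prime_two⟩
  intro P
  let P' : Subgroup G := (P : Subgroup M).map M.subtype
  have e : (P : Subgroup M) ≃* P' := (P : Subgroup M).equivMapOfInjective M.subtype M.subtype_injective
  have hP' : IsPGroup 2 P' := P.isPGroup'.map _
  have hi : ¬ 2 ∣ P'.index := by
    intro hcon
    have h1 : P'.index = (P : Subgroup M).index * M.index := by
      rw [Subgroup.index_map, (MonoidHom.ker_eq_bot_iff M.subtype).2 M.subtype_injective, sup_bot_eq,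
        Subgroup.range_subtype]
    rw [h1] at hcon
    rcases (Nat.Prime.dvd_mul Nat.prime_two).1 hcon with h2 | h2
    · exact P.not_dvd_index h2
    · exact hM h2
  let Q : Sylow 2 G := hP'.toSylow hi
  have h1 : Rk 3 (Q : Subgroup G) := h Q
  exact Rk.congr e h1

theorem D3.index_iff {G : Type u} [Group G] [Finite G] (M : Subgroup G) (hM : ¬ 2 ∣ M.index) : D3 M ↔ D3 G :=
  ⟨D3.of_index M hM, D3.to_index M hM⟩

/-- `M = V : K` of odd index, `V ≠ 1` a 2-group, the Sylow 2-subgroups of `K` need two generators -/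
theorem D3.of_split {G : Type u} [Group G] [Finite G] (M : Subgroup G) (hM : ¬ 2 ∣ M.index) (V K : Subgroup M)
    [hV0 : V.Normal] (hV : IsPGroup 2 V) (hV1 : V ≠ ⊥) (hc : Subgroup.IsComplement' V K)
    (hK : ∀ Q : Sylow 2 K, Rk 2 Q) : D3 G := by
  refine D3.of_index M hM (H753.K547.d3_of_split (V := V) (K := K) ?_ hV hV1 hc.disjoint ?_ default (hK _))
  · rw [Subgroup.normalizer_eq_top]
    exact le_top
  · rw [hc.sup_eq_top, Subgroup.index_top]
    decide

theorem D3.of_elementary {G : Type u} [Group G] [Finite G]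
    (h : ∀ (P : Sylow 2 G) (x : (P : Subgroup G)), x ^ 2 ∈ commutator (P : Subgroup G)) (E : Subgroup G)
    (hE : Nat.card E = 8) (hE2 : ∀ x ∈ E, x ^ 2 = 1) : D3 G :=
  H269.K547.d3_quot (MonoidHom.id G) Function.surjective_id h E hE hE2

theorem D3.of_elementary_quot {G : Type u} {Y : Type v} [Group G] [Finite G] [Group Y] (f : G →* Y)
    (hf : Function.Surjective f)
    (h : ∀ (P : Sylow 2 G) (x : (P : Subgroup G)), x ^ 2 ∈ commutator (P : Subgroup G)) (E : Subgroup Y)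
    (hE : Nat.card E = 8) (hE2 : ∀ x ∈ E, x ^ 2 = 1) : D3 Y :=
  H269.K547.d3_quot f hf h E hE hE2

end Cfsg.Agent.H821.K547
end
end

-- part: H984/K547/PslB
section
prune_inst 0x4352029251ec010000004058291203e97a70005b0102b0800090502440680a70008008f60840010034228a30520310048130000e0000000000000000001180080104882020001a000420080001080010000000000000000000000000000000004004010000
set_option linter.all false
open scoped Cfsg.Agent.FastGrp

-- part: H984/K547/PslAut
section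
/-!
# Automorphisms of `PSL₂(F)` (S4547, row PSL2(q), helper984)

* `au A σ` : conjugation by `A ∈ GL₂(F)` after the field automorphism `σ`;
* `au_mul`, `au_one`, `conj_pr`, `isInn_au`, `exists_au`.
-/

set_option autoImplicit false

namespace Cfsg.Agent.H984.K547.PslAut

open Matrix Cfsg.Agent.ClassicalGeometry.AutPSL.Root Cfsg.Agent.ClassicalGeometry.AutPSL.Auto
open Cfsg.Agent.ClassicalGeometry.AutPSL.Main Cfsg.Agent.H821.K547

universe u

variable {F : Type u} [Field F]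

local notation "S2" => SpecialLinearGroup (Fin 2) F
local notation "P2" => ProjectiveSpecialLinearGroup (Fin 2) F

/-- conjugation by `A` after the field automorphism `σ` -/
def au (A : GL (Fin 2) F) (σ : F ≃+* F) : MulAut P2 := lift (cj A * fld σ)

/-- the field automorphism on `GL₂` -/
def gm (σ : F ≃+* F) : GL (Fin 2) F →* GL (Fin 2) F := GeneralLinearGroup.map (σ : F →+* F)

theorem coe_gm (σ : F ≃+* F) (A : GL (Fin 2) F) (i j : Fin 2) :
    (gm σ A : Matrix (Fin 2) (Fin 2) F) i j = σ ((A : Matrix (Fin 2) (Fin 2) F) i j) := rfl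

theorem fld_cj (σ : F ≃+* F) (A : GL (Fin 2) F) :
    (fld σ : MulAut S2) * cj A = cj (gm σ A) * fld σ := by
  apply MulEquiv.ext
  intro g
  apply Subtype.ext
  rw [MulAut.mul_apply, MulAut.mul_apply, coe_cj, ← map_inv]
  ext i j
  rw [coe_fld_apply, coe_cj, Matrix.mul_apply, Matrix.mul_apply, map_sum]
  refine Finset.sum_congr rfl fun k _ => ?_
  rw [map_mul, Matrix.mul_apply, Matrix.mul_apply, map_sum, coe_gm]
  congr 1
  refine Finset.sum_congr rfl fun l _ => ?_
  rw [map_mul, coe_gm, coe_fld_apply]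

theorem au_mul (A B : GL (Fin 2) F) (σ τ : F ≃+* F) :
    au A σ * au B τ = au (A * gm σ B) (σ * τ) := by
  rw [au, au, au, ← map_mul, mul_assoc, ← mul_assoc (fld σ), fld_cj, map_mul cj, map_mul fld]
  simp only [mul_assoc]

theorem au_pr (A : GL (Fin 2) F) (σ : F ≃+* F) (g : S2) : au A σ (pr g) = pr (cj A (fld σ g)) := rfl

theorem au_one : (au 1 1 : MulAut P2) = 1 := by
  rw [au, map_one, map_one, one_mul, map_one]

theorem gm_one (A : GL (Fin 2) F) : gm 1 A = A := by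
  apply Units.ext
  ext i j
  rfl

/-- the element of `GL₂` -/
def tg (g : S2) : GL (Fin 2) F := SpecialLinearGroup.toGL g

theorem coe_tg (g : S2) : (tg g : Matrix (Fin 2) (Fin 2) F) = g := rfl

theorem cj_tg (g : S2) : cj (tg g) = MulAut.conj g := by
  apply MulEquiv.ext
  intro h
  apply Subtype.ext
  rw [coe_cj, coe_tg, MulAut.conj_apply]
  have h1 : ((tg g)⁻¹ : GL (Fin 2) F) = tg g⁻¹ := (map_inv SpecialLinearGroup.toGL g).symm
  rw [h1]
  rfl

theorem conj_pr (g : S2) : (MulAut.conj (pr g) : MulAut P2) = au (tg g) 1 := by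
  rw [au, map_one, mul_one, cj_tg]
  apply MulEquiv.ext
  intro x
  obtain ⟨x, rfl⟩ := pr_surjective x
  rw [MulAut.conj_apply, lift_pr, MulAut.conj_apply, map_mul, map_mul, map_inv]

/-- diagonal matrices -/
def dg (a b : Fˣ) : GL (Fin 2) F := Matrix.GeneralLinearGroup.mkOfDetNeZero !![(a : F), 0; 0, (b : F)] (by
  rw [Matrix.det_fin_two_of, mul_zero, sub_zero]
  exact mul_ne_zero a.ne_zero b.ne_zero)

theorem coe_dg (a b : Fˣ) : (dg a b : Matrix (Fin 2) (Fin 2) F) = !![(a : F), 0; 0, (b : F)] := rfl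

theorem dg_mul (a b c d : Fˣ) : dg a b * dg c d = dg (a * c) (b * d) := by
  apply Units.ext
  rw [Units.val_mul, coe_dg, coe_dg, coe_dg]
  ext i j
  (revert i j; simp only [Matrix.mul_apply, Fin.sum_univ_two, _root_.Fin.forall_fin_succ, _root_.Matrix.of_apply, _root_.Matrix.cons_val', _root_.Matrix.cons_val_fin_one, Fin.isValue, _root_.Matrix.cons_val_zero, _root_.Matrix.cons_val_one, _root_.Units.val_mul, _root_.MulZeroClass.mul_zero, _root_.add_zero, _root_.Matrix.cons_val_succ, _root_.zero_add, _root_.forall_const, _root_.MulZeroClass.zero_mul, _root_.and_self, _root_.implies_true])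

theorem dg_one : (dg 1 1 : GL (Fin 2) F) = 1 := by
  apply Units.ext
  rw [coe_dg]
  ext i j
  (revert i j; simp only [_root_.Fin.forall_fin_succ, _root_.Units.val_one, _root_.Matrix.of_apply, _root_.Matrix.cons_val', _root_.Matrix.cons_val_fin_one, Fin.isValue, _root_.Matrix.cons_val_zero, _root_.Matrix.cons_val_succ, _root_.IsEmpty.forall_iff, _root_.and_true, _root_.Matrix.one_apply_eq, Nat.reduceAdd, _root_.Fin.succ_zero_eq_one, _root_.ne_eq, _root_.zero_ne_one, _root_.not_false_eq_true, _root_.Matrix.one_apply_ne, _root_.and_self, _root_.Fin.succ_ne_zero, _root_.true_and])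

theorem dg_inv (a b : Fˣ) : (dg a b)⁻¹ = dg a⁻¹ b⁻¹ := by
  rw [inv_eq_iff_mul_eq_one, dg_mul, mul_inv_cancel, mul_inv_cancel, dg_one]

theorem det_dg (a b : Fˣ) : (dg a b : Matrix (Fin 2) (Fin 2) F).det = a * b := by
  rw [coe_dg, Matrix.det_fin_two_of, mul_zero, sub_zero]

theorem gm_dg (σ : F ≃+* F) (a b : Fˣ) :
    gm σ (dg a b) = dg (Units.map (σ : F →* F) a) (Units.map (σ : F →* F) b) := by
  apply Units.ext
  ext i j
  rw [coe_gm, coe_dg, coe_dg]
  (revert i j; simp only [_root_.Fin.forall_fin_succ, _root_.Matrix.of_apply, _root_.Matrix.cons_val', _root_.Matrix.cons_val_fin_one, _root_.Units.coe_map, _root_.MonoidHom.coe_coe, Fin.isValue, _root_.Matrix.cons_val_zero, _root_.Matrix.cons_val_succ, _root_.forall_const, _root_.map_zero, _root_.and_self, _root_.implies_true])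

/-- scalars act trivially -/
theorem au_scalar (c : Fˣ) (A : GL (Fin 2) F) (σ : F ≃+* F) : au (dg c c * A) σ = au A σ := by
  rw [au, au, map_mul cj, cj_eq_one_of_scalar (r := (c : F)), one_mul]
  rw [coe_dg]
  ext i j
  (revert i j; simp only [_root_.Fin.forall_fin_succ, _root_.Matrix.scalar_apply, _root_.Matrix.of_apply, _root_.Matrix.cons_val', _root_.Matrix.cons_val_fin_one, Fin.isValue, _root_.Matrix.cons_val_zero, _root_.Matrix.cons_val_succ, _root_.Fin.succ_zero_eq_one, _root_.IsEmpty.forall_iff, _root_.and_true, _root_.Matrix.diagonal_apply_eq, _root_.ne_eq, _root_.zero_ne_one, _root_.not_false_eq_true, _root_.Matrix.diagonal_apply_ne, _root_.and_self, _root_.Fin.succ_ne_zero, _root_.true_and])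

/-- elements of determinant `1` -/
theorem exists_tg (A : GL (Fin 2) F) (h : (A : Matrix (Fin 2) (Fin 2) F).det = 1) : ∃ g : S2, tg g = A :=
  ⟨⟨A, h⟩, Units.ext rfl⟩

/-- the determinant is a square -/
theorem inner_of_sq {A : GL (Fin 2) F} (h : IsSquare (A : Matrix (Fin 2) (Fin 2) F).det) (σ : F ≃+* F) :
    ∃ g : S2, au A σ = au (tg g) σ := by
  obtain ⟨c, hc⟩ := h
  have h0 : (A : Matrix (Fin 2) (Fin 2) F).det ≠ 0 := by
    have := (Matrix.isUnit_iff_isUnit_det _).1 A.isUnit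
    exact this.ne_zero
  have hc0 : c ≠ 0 := by
    rintro rfl
    rw [mul_zero] at hc
    exact h0 hc
  set u : Fˣ := Units.mk0 c hc0 with hu
  have h1 : (dg u⁻¹ u⁻¹ * A : Matrix (Fin 2) (Fin 2) F).det = 1 := by
    rw [det_mul, det_dg, hc, Units.val_inv_eq_inv_val, Units.val_mk0]
    field_simp
  obtain ⟨g, hg⟩ := exists_tg (dg u⁻¹ u⁻¹ * A) h1
  exact ⟨g, by rw [hg, au_scalar]⟩

/-- every automorphism -/
theorem exists_au (p : ℕ) [Fact p.Prime] [CharP F p] [Finite F] (α : MulAut P2) :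
    ∃ (A : GL (Fin 2) F) (σ : F ≃+* F), α = au A σ := by
  have := Fintype.ofFinite F
  exact surj_two p α

/-- equality with `1` -/
theorem eq_one_of_au {A : GL (Fin 2) F} {σ : F ≃+* F} (h : au A σ = 1) :
    (∃ r : F, scalar (Fin 2) r = (A : Matrix (Fin 2) (Fin 2) F)) ∧ σ = 1 := by
  have h1 : lift (cj A * fld σ) = (lift (fld (1 : F ≃+* F)) : MulAut P2) := by
    rw [map_one fld, map_one lift]
    exact h
  exact injective_aux h1

theorem isInn_au {A : GL (Fin 2) F} {σ : F ≃+* F} (h : IsInn (au A σ)) :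
    σ = 1 ∧ IsSquare (A : Matrix (Fin 2) (Fin 2) F).det := by
  obtain ⟨s, hs⟩ := h
  obtain ⟨g, rfl⟩ := pr_surjective s
  have h1 : au A σ = au (tg g) 1 := by
    rw [← conj_pr]
    apply MulEquiv.ext
    exact hs
  have h2 : au (tg g⁻¹ * A) σ = 1 := by
    have h3 : au (tg g⁻¹) 1 * au A σ = au (tg g⁻¹ * A) σ := by
      rw [au_mul, gm_one, one_mul]
    rw [← h3, h1, au_mul, gm_one, mul_one]
    have h4 : tg g⁻¹ * tg g = 1 := by
      change SpecialLinearGroup.toGL g⁻¹ * SpecialLinearGroup.toGL g = 1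
      rw [← map_mul, inv_mul_cancel, map_one]
    rw [h4, au_one]
  obtain ⟨⟨r, hr⟩, hσ⟩ := eq_one_of_au h2
  refine ⟨hσ, r, ?_⟩
  have h5 := congrArg Matrix.det hr
  rw [Units.val_mul, det_mul, coe_tg, g⁻¹.2, one_mul] at h5
  rw [← h5]
  simp [pow_two]

/-- powers -/
theorem au_pow (A : GL (Fin 2) F) (σ : F ≃+* F) (m : ℕ) : ∃ B : GL (Fin 2) F, au A σ ^ m = au B (σ ^ m) := by
  induction m with
  | zero => exact ⟨1, by rw [pow_zero, pow_zero, au_one]⟩
  | succ m ih =>
    obtain ⟨B, hB⟩ := ih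
    exact ⟨B * gm (σ ^ m) A, by rw [pow_succ, hB, au_mul, pow_succ]⟩

theorem two_pow {A : GL (Fin 2) F} {σ : F ≃+* F} (h : TwoPow (au A σ)) : ∃ k : ℕ, σ ^ 2 ^ k = 1 := by
  obtain ⟨k, s, hs⟩ := h
  obtain ⟨B, hB⟩ := au_pow A σ (2 ^ k)
  refine ⟨k, (isInn_au (A := B) ⟨s, fun x => ?_⟩).1⟩
  rw [← hB]
  exact hs x

/-- `au A σ = conj (pr B) * au (dg δ 1) σ` with `δ = det A / c²` -/
theorem exists_split (A : GL (Fin 2) F) (σ : F ≃+* F) (d : Fˣ)
    (hd : ∃ c : F, (A : Matrix (Fin 2) (Fin 2) F).det = d * (c * c)) :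
    ∃ g : S2, au A σ = MulAut.conj (pr g) * au (dg d 1) σ := by
  obtain ⟨c, hc⟩ := hd
  have h1 : IsSquare (A * dg d⁻¹ 1 : Matrix (Fin 2) (Fin 2) F).det := by
    refine ⟨c, ?_⟩
    rw [det_mul, det_dg, hc, Units.val_inv_eq_inv_val, Units.val_one]
    have := d.ne_zero
    field_simp
  obtain ⟨g, hg⟩ := inner_of_sq (A := A * dg d⁻¹ 1) h1 1
  refine ⟨g, ?_⟩
  rw [conj_pr, ← hg, au_mul, gm_one, one_mul, mul_assoc, dg_mul, inv_mul_cancel, mul_one, dg_one, mul_one]

end Cfsg.Agent.H984.K547.PslAut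
end

-- part: H984/K547/Tool
section
/-!
# `¬ D3` for groups with 2-generated Sylow 2-subgroups; `D3` for split extensions (S4547, helper984)
-/

set_option autoImplicit false

namespace Cfsg.Agent.H984.K547.Tool

open Subgroup Cfsg.Agent.H821.K547

universe u

/-- a group generated by two elements does not map onto `C₂³` -/
theorem not_rk_of_closure {P : Type u} [Group P] (a b : P) (h : (⊤ : Subgroup P) ≤ Subgroup.closure {a, b}) : ¬ Rk 3 P := by
  rintro ⟨f, hf⟩
  have hsq : ∀ v : Multiplicative (Fin 3 → ZMod 2), v ^ 2 = 1 := by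
    intro v
    rw [pow_two]
    apply Multiplicative.toAdd.injective
    funext i
    have h2 : ∀ a : ZMod 2, a + a = 0 := by decide
    exact h2 _
  have hord : ∀ v : Multiplicative (Fin 3 → ZMod 2), Nat.card (zpowers v) ≤ 2 := by
    intro v
    rw [Nat.card_zpowers]
    exact Nat.le_of_dvd (by norm_num) (orderOf_dvd_of_pow_eq_one (hsq v))
  have hcl : (Subgroup.closure {f a, f b} : Subgroup (Multiplicative (Fin 3 → ZMod 2))) = ⊤ := by
    rw [← Set.image_pair, ← MonoidHom.map_closure, top_le_iff.1 h, ← MonoidHom.range_eq_map,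
      MonoidHom.range_eq_top.2 hf]
  have hs : Function.Surjective (fun x : zpowers (f a) × zpowers (f b) =>
      ((x.1 : Multiplicative (Fin 3 → ZMod 2)) * x.2)) := by
    intro v
    have hv : v ∈ Subgroup.closure {f a, f b} := by rw [hcl]; exact mem_top v
    obtain ⟨m, n, hmn⟩ := mem_closure_pair.1 hv
    exact ⟨(⟨f a ^ m, zpow_mem (mem_zpowers _) m⟩, ⟨f b ^ n, zpow_mem (mem_zpowers _) n⟩), hmn⟩
  have h1 := Nat.card_le_card_of_surjective _ hs
  rw [Nat.card_prod] at h1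
  have h2 : Nat.card (Multiplicative (Fin 3 → ZMod 2)) = 8 := by
    rw [Nat.card_congr Multiplicative.toAdd, Nat.card_fun, Nat.card_zmod, Nat.card_fin]
    norm_num
  rw [h2] at h1
  have h3 := Nat.mul_le_mul (hord (f a)) (hord (f b))
  omega

/-- **two generators** -/
theorem not_d3_of_closure {G : Type u} [Group G] [Finite G] (Γ P : Subgroup G) (hle : P ≤ Γ) (hP : IsPGroup 2 P)
    (hodd : ¬ 2 ∣ P.relIndex Γ) (a b : G) (ha : a ∈ P) (hb : b ∈ P) (h : P ≤ Subgroup.closure {a, b}) : ¬ D3 Γ := by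
  intro hD
  have h2 : Fact (Nat.Prime 2) := ⟨Nat.prime_two⟩
  have hP' : IsPGroup 2 (P.subgroupOf Γ) := hP.comap_subtype
  have h1 : Rk 3 (P.subgroupOf Γ) := hD (hP'.toSylow hodd)
  have h3 : Rk 3 P := Rk.congr (subgroupOfEquivOfLe hle).symm h1
  refine not_rk_of_closure (⟨a, ha⟩ : P) ⟨b, hb⟩ ?_ h3
  have h4 : (Subgroup.closure {(⟨a, ha⟩ : P), ⟨b, hb⟩}).map P.subtype = Subgroup.closure {a, b} := by
    rw [MonoidHom.map_closure, Set.image_pair]
    rfl
  intro x _
  have h5 : (x : G) ∈ (Subgroup.closure {(⟨a, ha⟩ : P), ⟨b, hb⟩}).map P.subtype := by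
    rw [h4]
    exact h x.2
  obtain ⟨y, hy, hyx⟩ := h5
  have : y = x := Subtype.ext hyx
  rwa [this] at hy

/-- a cyclic subgroup of index at most two in a Sylow 2-subgroup -/
theorem not_d3_of_cyclic {G : Type u} [Group G] [Finite G] (x : G) (n : ℕ) (hx : orderOf x = 2 ^ n)
    (h : ¬ 2 ^ (n + 2) ∣ Nat.card G) : ¬ D3 G := by
  intro hD
  have h2 : Fact (Nat.Prime 2) := ⟨Nat.prime_two⟩
  have hxp : IsPGroup 2 (zpowers x) := IsPGroup.of_card (n := n) (by rw [Nat.card_zpowers, hx])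
  obtain ⟨P, hP⟩ := hxp.exists_le_sylow
  have hxP : x ∈ (P : Subgroup G) := hP (mem_zpowers x)
  obtain ⟨m, hm⟩ := IsPGroup.iff_card.1 P.isPGroup'
  have hcard : Nat.card (zpowers (⟨x, hxP⟩ : (P : Subgroup G))) = 2 ^ n := by
    rw [Nat.card_zpowers, orderOf_mk, hx]
  have hmn : m ≤ n + 1 := by
    by_contra hcon
    apply h
    have h3 : 2 ^ m ∣ Nat.card G := hm ▸ card_subgroup_dvd_card (P : Subgroup G)
    exact (pow_dvd_pow 2 (by omega)).trans h3
  have key : ∃ t : (P : Subgroup G), (⊤ : Subgroup (P : Subgroup G)) ≤ Subgroup.closure {⟨x, hxP⟩, t} := by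
    by_cases hall : ∀ t : (P : Subgroup G), t ∈ zpowers (⟨x, hxP⟩ : (P : Subgroup G))
    · refine ⟨1, fun t _ => ?_⟩
      have h3 : zpowers (⟨x, hxP⟩ : (P : Subgroup G)) ≤ Subgroup.closure {⟨x, hxP⟩, 1} := by
        rw [zpowers_le]
        exact subset_closure (Set.mem_insert _ _)
      exact h3 (hall t)
    · push Not at hall
      obtain ⟨t, ht⟩ := hall
      refine ⟨t, ?_⟩
      have h3 : zpowers (⟨x, hxP⟩ : (P : Subgroup G)) ≤ Subgroup.closure {⟨x, hxP⟩, t} := by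
        rw [zpowers_le]
        exact subset_closure (Set.mem_insert _ _)
      have h4 : t ∈ Subgroup.closure {(⟨x, hxP⟩ : (P : Subgroup G)), t} :=
        subset_closure (Set.mem_insert_of_mem _ rfl)
      have h5 : zpowers (⟨x, hxP⟩ : (P : Subgroup G)) < Subgroup.closure {⟨x, hxP⟩, t} :=
        lt_of_le_of_ne h3 fun h6 => ht (h6 ▸ h4)
      have h6 : 2 ^ n < Nat.card (Subgroup.closure {(⟨x, hxP⟩ : (P : Subgroup G)), t}) := by
        rw [← hcard]
        exact Set.Finite.card_lt_card (Set.toFinite _) h5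
      have h7 := card_subgroup_dvd_card (Subgroup.closure {(⟨x, hxP⟩ : (P : Subgroup G)), t})
      rw [hm] at h7
      obtain ⟨j, hj, hj'⟩ := (Nat.dvd_prime_pow Nat.prime_two).1 h7
      rw [hj'] at h6
      have h8 : n < j := (Nat.pow_lt_pow_iff_right (by norm_num)).1 h6
      have h9 : j = m := by omega
      rw [top_le_iff]
      apply eq_top_of_card_eq
      rw [hj', hm, h9]
  obtain ⟨t, ht⟩ := key
  exact not_rk_of_closure _ t ht (hD P)

/-- the index of a supplement of a normal subgroup -/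
theorem relIndex_odd {G : Type u} [Group G] [Finite G] (N P Q Γ : Subgroup G) [N.Normal] (hΓ : Γ = N ⊔ P) (hQN : Q ≤ N)
    (hQP : Q ≤ P) (ho : ¬ 2 ∣ Q.relIndex N) : ¬ 2 ∣ P.relIndex Γ := by
  have hNΓ : N ≤ Γ := by rw [hΓ]; exact le_sup_left
  have hPΓ : P ≤ Γ := by rw [hΓ]; exact le_sup_right
  have h1 : N.relIndex Γ = N.relIndex P := by
    rw [hΓ, sup_comm, relIndex_sup_right]
  have h2 : Nat.card N * N.relIndex Γ = Nat.card Γ := by
    rw [← relIndex_bot_left, ← relIndex_bot_left, mul_comm]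
    rw [mul_comm]
    exact relIndex_mul_relIndex ⊥ N Γ bot_le hNΓ
  have h3 : Nat.card P * P.relIndex Γ = Nat.card Γ := by
    rw [← relIndex_bot_left, ← relIndex_bot_left]
    exact relIndex_mul_relIndex ⊥ P Γ bot_le hPΓ
  have h4 : Nat.card (N ⊓ P : Subgroup G) * N.relIndex P = Nat.card P := by
    rw [← relIndex_bot_left, ← relIndex_bot_left, ← inf_relIndex_right N P]
    exact relIndex_mul_relIndex ⊥ (N ⊓ P) P bot_le inf_le_right
  have h5 : Nat.card (N ⊓ P : Subgroup G) * (N ⊓ P).relIndex N = Nat.card N := by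
    rw [← relIndex_bot_left, ← relIndex_bot_left]
    exact relIndex_mul_relIndex ⊥ (N ⊓ P) N bot_le inf_le_left
  have h6 : P.relIndex Γ = (N ⊓ P).relIndex N := by
    rw [← h3, h1, ← h5, ← h4] at h2
    have hpos : 0 < Nat.card (N ⊓ P : Subgroup G) := Nat.card_pos
    have hpos2 : 0 < N.relIndex P := Nat.pos_of_ne_zero (by
      intro h0
      have := Nat.card_pos (α := P)
      rw [← h4, h0] at this
      omega)
    have h7 : (Nat.card (N ⊓ P : Subgroup G) * N.relIndex P) * (N ⊓ P).relIndex N =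
        (Nat.card (N ⊓ P : Subgroup G) * N.relIndex P) * P.relIndex Γ := by
      rw [← h2]
      ring
    exact (Nat.eq_of_mul_eq_mul_left (Nat.mul_pos hpos hpos2) h7).symm
  rw [h6]
  intro h7
  apply ho
  have h8 : Q.relIndex (N ⊓ P) * (N ⊓ P).relIndex N = Q.relIndex N :=
    relIndex_mul_relIndex Q (N ⊓ P) N (le_inf hQN hQP) inf_le_left
  rw [← h8]
  exact h7.mul_left _

/-! ### `AutExt` -/

variable {S : Type u} [Group S]

theorem autExt_conj (g : S) (τ : MulAut S) : AutExt (MulAut.conj g * τ) = AutExt τ := by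
  apply le_antisymm
  · refine sup_le le_sup_left ?_
    rw [zpowers_le]
    exact mul_mem (le_sup_left (b := zpowers τ) ⟨g, rfl⟩ : MulAut.conj g ∈ AutExt τ)
      (le_sup_right (a := (MulAut.conj : S →* MulAut S).range) (mem_zpowers τ) : τ ∈ AutExt τ)
  · refine sup_le le_sup_left ?_
    rw [zpowers_le]
    have h1 : MulAut.conj g⁻¹ * (MulAut.conj g * τ) ∈ AutExt (MulAut.conj g * τ) :=
      mul_mem (le_sup_left (b := zpowers (MulAut.conj g * τ)) ⟨g⁻¹, rfl⟩ :
          MulAut.conj g⁻¹ ∈ AutExt (MulAut.conj g * τ))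
        (le_sup_right (a := (MulAut.conj : S →* MulAut S).range) (mem_zpowers _) :
          MulAut.conj g * τ ∈ AutExt (MulAut.conj g * τ))
    rwa [← mul_assoc, ← map_mul, inv_mul_cancel, map_one, one_mul] at h1

instance inn_normal : ((MulAut.conj : S →* MulAut S).range).Normal := by
  constructor
  rintro _ ⟨s, rfl⟩ τ
  refine ⟨τ s, ?_⟩
  ext x
  simp only [MulAut.mul_apply, MulAut.conj_apply, map_mul, map_inv, MulAut.apply_inv_self]

theorem conj_mem (s : S) (τ : MulAut S) : MulAut.conj s ∈ AutExt τ :=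
  le_sup_left (b := zpowers τ) (⟨s, rfl⟩ : MulAut.conj s ∈ (MulAut.conj : S →* MulAut S).range)

theorem self_mem (τ : MulAut S) : τ ∈ AutExt τ :=
  le_sup_right (a := (MulAut.conj : S →* MulAut S).range) (mem_zpowers τ)

end Cfsg.Agent.H984.K547.Tool
end

-- part: H984/K547/PslB
section
/-!
# Automorphisms of `PSL₂(q)` outside `PΣL₂(q)`, `q ≡ 1` modulo 4: two generators (S4547, helper984)
-/

set_option autoImplicit false
set_option linter.unusedSectionVars false

open Cfsg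

namespace Cfsg.Agent.H984.K547.PslB

open Matrix Cfsg.Agent.ClassicalGeometry.AutPSL.Root Cfsg.Agent.ClassicalGeometry.AutPSL.Auto
open Cfsg.Agent.H821.K547 Cfsg.Agent.H984.K547.PslAut Cfsg.Agent.H670.SL2 Cfsg.Agent.H984.K547.Tool
open Subgroup (zpowers mem_zpowers)

universe u

variable {F : Type u} [Field F]

local notation "S2" => SpecialLinearGroup (Fin 2) F
local notation "P2" => ProjectiveSpecialLinearGroup (Fin 2) F

/-- a field with a nontrivial automorphism of 2-power order has square order -/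
theorem exists_sq [Finite F] {σ : F ≃+* F} (h1 : σ ≠ 1) {k : ℕ} (hk : σ ^ 2 ^ k = 1) :
    ∃ q₀ : ℕ, Nat.card F = q₀ ^ 2 := by
  obtain ⟨j, -, hj⟩ := (Nat.dvd_prime_pow Nat.prime_two).1 (orderOf_dvd_of_pow_eq_one hk)
  have hj0 : j ≠ 0 := by
    rintro rfl
    rw [pow_zero, orderOf_eq_one_iff] at hj
    exact h1 hj
  have h2 : orderOf (σ ^ 2 ^ (j - 1)) = 2 := by
    rw [orderOf_pow_of_dvd (pow_ne_zero _ two_ne_zero) (by rw [hj]; exact pow_dvd_pow 2 (by omega)), hj]
    have h3 : 2 ^ j = 2 ^ (j - 1) * 2 := by rw [← pow_succ]; congr 1; omega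
    rw [h3, Nat.mul_div_cancel_left _ (by positivity)]
  exact ⟨_, Cfsg.Agent.H27.Psl.card_fixf Nat.prime_two h2⟩

/-! ### the matrices -/

theorem cj_dg_tor (d u : Fˣ) : cj (dg d 1) (tor u) = tor u := by
  apply Subtype.ext
  rw [coe_cj, dg_inv]
  change !![(d : F), 0; 0, ((1 : Fˣ) : F)] * !![(u : F), 0; 0, ((u⁻¹ : Fˣ) : F)] *
    !![((d⁻¹ : Fˣ) : F), 0; 0, (((1 : Fˣ)⁻¹ : Fˣ) : F)] = !![(u : F), 0; 0, ((u⁻¹ : Fˣ) : F)]
  have := d.ne_zero
  ext i j
  (revert i j; simp only [Matrix.mul_apply, Fin.sum_univ_two, _root_.Fin.forall_fin_succ, _root_.Units.val_one, _root_.Units.val_inv_eq_inv_val, _root_.Matrix.cons_mul, _root_.Nat.succ_eq_add_one, Nat.reduceAdd, _root_.Matrix.vecMul_cons, _root_.Matrix.head_cons, _root_.Matrix.smul_cons, _root_.smul_eq_mul, _root_.MulZeroClass.mul_zero, _root_.Matrix.smul_empty, _root_.Matrix.tail_cons, _root_.zero_smul, _root_.Matrix.empty_vecMul, _root_.add_zero, _root_.one_smul, _root_.zero_add, _root_.Matrix.empty_mul,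 _root_.Equiv.symm_apply_apply, _root_.inv_one, _root_.Matrix.of_apply, _root_.Matrix.cons_val', _root_.Matrix.cons_val_fin_one, Fin.isValue, _root_.Matrix.cons_val_zero, _root_.Matrix.cons_val_one, _root_.Matrix.cons_val_succ, _root_.mul_one, _root_.implies_true, _root_.MulZeroClass.zero_mul, _root_.and_true, _root_.true_and]) <;> (repeat' with_reducible apply And.intro)
  field_simp

theorem cj_dg_wel (d : Fˣ) : cj (dg d 1) wel = tor d * wel := by
  apply Subtype.ext
  rw [coe_cj, dg_inv]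
  change !![(d : F), 0; 0, ((1 : Fˣ) : F)] * !![0, 1; -1, 0] *
    !![((d⁻¹ : Fˣ) : F), 0; 0, (((1 : Fˣ)⁻¹ : Fˣ) : F)] = !![(d : F), 0; 0, ((d⁻¹ : Fˣ) : F)] * !![0, 1; -1, 0]
  ext i j
  (revert i j; simp only [Matrix.mul_apply, Fin.sum_univ_two, _root_.Fin.forall_fin_succ, _root_.Units.val_one, _root_.Matrix.cons_mul, _root_.Nat.succ_eq_add_one, Nat.reduceAdd, _root_.Matrix.vecMul_cons, _root_.Matrix.head_cons, _root_.Matrix.smul_cons, _root_.smul_eq_mul, _root_.MulZeroClass.mul_zero, _root_.mul_one, _root_.Matrix.smul_empty, _root_.Matrix.tail_cons, _root_.zero_smul, _root_.Matrix.empty_vecMul, _root_.add_zero, _root_.one_smul, _root_.zero_add, _root_.Matrix.empty_mul, _root_.Equiv.symm_apply_apply, _root_.Units.val_inv_eq_inv_val, _root_.inv_one, _root_.Matrix.of_apply, _root_.Matrix.cons_val', _root_.Matrix.cons_val_fin_one, Fin.isValue, _root_.Matrix.cons_val_zero, _root_.Matrix.cons_val_one, _root_.mul_neg, _root_.Matrix.cons_val_succ,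 _root_.implies_true, _root_.and_true, _root_.MulZeroClass.zero_mul, _root_.neg_zero, _root_.neg_mul, _root_.one_mul, _root_.and_self])

theorem fld_tor (σ : F ≃+* F) (u : Fˣ) : fld σ (tor u) = tor (Units.map (σ : F →* F) u) := by
  apply Subtype.ext
  ext i j
  rw [coe_fld_apply, coe_tor, coe_tor]
  (revert i j; simp only [_root_.Fin.forall_fin_succ, _root_.Units.val_inv_eq_inv_val, _root_.Matrix.of_apply, _root_.Matrix.cons_val', _root_.Matrix.cons_val_fin_one, _root_.Units.coe_map, _root_.MonoidHom.coe_coe, Fin.isValue, _root_.Matrix.cons_val_zero, _root_.Matrix.cons_val_succ, _root_.forall_const, _root_.map_zero, _root_.and_self, _root_.map_inv₀, _root_.implies_true])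

theorem fld_wel (σ : F ≃+* F) : fld σ (wel : S2) = wel := by
  apply Subtype.ext
  ext i j
  rw [coe_fld_apply, coe_wel]
  (revert i j; simp only [_root_.Fin.forall_fin_succ, _root_.Matrix.of_apply, _root_.Matrix.cons_val', _root_.Matrix.cons_val_fin_one, Fin.isValue, _root_.Matrix.cons_val_zero, _root_.Matrix.cons_val_succ, _root_.forall_const, _root_.map_zero, _root_.map_one, _root_.and_self, _root_.RingEquiv.map_neg_one, _root_.implies_true])

theorem wel_tor (u : Fˣ) : wel * tor u * wel⁻¹ = tor u⁻¹ := by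
  rw [mul_inv_eq_iff_eq_mul]
  apply Subtype.ext
  change !![0, 1; -1, 0] * !![(u : F), 0; 0, ((u⁻¹ : Fˣ) : F)] =
    !![((u⁻¹ : Fˣ) : F), 0; 0, ((u⁻¹⁻¹ : Fˣ) : F)] * !![0, 1; -1, 0]
  ext i j
  (revert i j; simp only [Matrix.mul_apply, Fin.sum_univ_two, _root_.Fin.forall_fin_succ, _root_.Units.val_inv_eq_inv_val, _root_.Matrix.of_apply, _root_.Matrix.cons_val', _root_.Matrix.cons_val_fin_one, Fin.isValue, _root_.Matrix.cons_val_zero, _root_.Matrix.cons_val_one, _root_.inv_inv, _root_.MulZeroClass.mul_zero, _root_.add_zero, _root_.mul_neg, _root_.mul_one, _root_.zero_add, _root_.Matrix.cons_val_succ, _root_.forall_const, _root_.MulZeroClass.zero_mul, _root_.neg_zero, _root_.one_mul, _root_.and_self, _root_.neg_mul, _root_.implies_true])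

theorem wel_sq : (wel : S2) ^ 2 = tor (-1) := by
  rw [pow_two]
  apply Subtype.ext
  change !![0, 1; -1, 0] * !![0, 1; -1, 0] = !![((-1 : Fˣ) : F), 0; 0, (((-1 : Fˣ)⁻¹ : Fˣ) : F)]
  ext i j
  (revert i j; simp only [Matrix.mul_apply, Fin.sum_univ_two, _root_.Fin.forall_fin_succ, _root_.Matrix.of_apply, _root_.Matrix.cons_val', _root_.Matrix.cons_val_fin_one, Fin.isValue, _root_.Matrix.cons_val_zero, _root_.Matrix.cons_val_one, _root_.Units.val_neg, _root_.Units.val_one, _root_.inv_neg, _root_.inv_one, _root_.MulZeroClass.mul_zero, _root_.mul_neg, _root_.mul_one, _root_.zero_add, _root_.Matrix.cons_val_succ, _root_.add_zero, _root_.implies_true, _root_.and_true, _root_.neg_zero, _root_.and_self])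

theorem tor_inj : Function.Injective (tor : Fˣ →* S2) := by
  intro u v h
  apply Units.ext
  have h1 := congrArg (fun g : S2 => (g : Matrix (Fin 2) (Fin 2) F) 0 0) h
  exact h1

theorem tor_ne_wel (u : Fˣ) : tor u ≠ wel := by
  intro h
  have h1 := congrArg (fun g : S2 => (g : Matrix (Fin 2) (Fin 2) F) 0 0) h
  exact u.ne_zero h1

/-! ### the 2-subgroup of `SL₂` -/

/-- generated by the torus part and the Weyl element -/
def QS (z : Fˣ) : Subgroup S2 := zpowers (tor z) ⊔ zpowers wel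

theorem wel_norm (z : Fˣ) : zpowers (wel : S2) ≤ Subgroup.normalizer (zpowers (tor z) : Set S2) := by
  rw [Subgroup.zpowers_le, Subgroup.mem_normalizer_iff]
  intro x
  constructor
  · rintro ⟨n, rfl⟩
    refine ⟨-n, ?_⟩
    change (tor z) ^ (-n) = wel * (tor z) ^ n * wel⁻¹
    rw [← map_zpow, ← map_zpow, wel_tor, _root_.zpow_neg]
  · rintro ⟨n, hn⟩
    refine ⟨-n, ?_⟩
    change (tor z) ^ (-n) = x
    change (tor z) ^ n = wel * x * wel⁻¹ at hn
    have h1 : x = wel⁻¹ * (tor z) ^ n * wel := by rw [hn]; group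
    rw [h1, ← map_zpow, ← map_zpow, _root_.zpow_neg]
    have h2 := wel_tor (z ^ n)
    have h3 : tor (z ^ n)⁻¹ = (tor (z ^ n))⁻¹ := map_inv tor (z ^ n)
    rw [h3] at h2 ⊢
    have h4 : (tor (z ^ n))⁻¹ = wel⁻¹ * tor (z ^ n) * wel := by
      rw [← h2]
      have h5 := wel_sq (F := F)
      have h6 : wel * (wel * tor (z ^ n) * wel⁻¹) * wel⁻¹ = tor (z ^ n) := by
        have h7 : wel ^ 2 * tor (z ^ n) * (wel ^ 2)⁻¹ = tor (z ^ n) := by
          rw [h5, ← map_inv, ← map_mul, ← map_mul]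
          congr 1
          rw [mul_comm (-1 : Fˣ), mul_inv_cancel_right]
        rw [pow_two] at h7
        calc wel * (wel * tor (z ^ n) * wel⁻¹) * wel⁻¹ = wel * wel * tor (z ^ n) * (wel * wel)⁻¹ := by group
          _ = _ := h7
      calc wel * tor (z ^ n) * wel⁻¹ = wel⁻¹ * (wel * (wel * tor (z ^ n) * wel⁻¹) * wel⁻¹) * wel := by group
        _ = wel⁻¹ * tor (z ^ n) * wel := by rw [h6]
    exact h4

variable [Finite F]

theorem isPGroup_QS {z : Fˣ} {m : ℕ} (hz : orderOf z = 2 ^ m) : IsPGroup 2 (QS z) := by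
  have h2 : Fact (Nat.Prime 2) := ⟨Nat.prime_two⟩
  refine IsPGroup.to_sup_of_normal_left' ?_ ?_ (wel_norm z)
  · refine IsPGroup.of_card (n := m) ?_
    rw [Nat.card_zpowers, orderOf_injective tor tor_inj, hz]
  · rintro ⟨x, n, rfl⟩
    refine ⟨2, Subtype.ext ?_⟩
    change (wel ^ n) ^ 4 = 1
    have h1 : (wel : S2) ^ 4 = 1 := by
      rw [show (4 : ℕ) = 2 * 2 from rfl, pow_mul, wel_sq, ← map_pow]
      norm_num
    rw [← zpow_natCast, ← _root_.zpow_mul, mul_comm, _root_.zpow_mul, zpow_natCast, h1, _root_.one_zpow]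

theorem card_QS {z : Fˣ} {m : ℕ} (hz : orderOf z = 2 ^ m) : 2 ^ (m + 1) ∣ Nat.card (QS z) := by
  have h2 : Fact (Nat.Prime 2) := ⟨Nat.prime_two⟩
  obtain ⟨j, hj⟩ := IsPGroup.iff_card.1 (isPGroup_QS hz)
  have h1 : zpowers (tor z) < QS z := by
    refine lt_of_le_of_ne le_sup_left fun h => ?_
    have h3 : (wel : S2) ∈ zpowers (tor z) := by
      rw [h]
      exact (le_sup_right : zpowers (wel : S2) ≤ QS z) (mem_zpowers _)
    obtain ⟨n, hn⟩ := h3
    apply tor_ne_wel (z ^ n)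
    rw [map_zpow]
    exact hn
  have h4 : 2 ^ m < Nat.card (QS z) := by
    have h5 : Nat.card (zpowers (tor z)) = 2 ^ m := by
      rw [Nat.card_zpowers, orderOf_injective tor tor_inj, hz]
    rw [← h5]
    exact Set.Finite.card_lt_card (Set.toFinite _) h1
  rw [hj] at h4 ⊢
  have h6 : m < j := (Nat.pow_lt_pow_iff_right (by norm_num)).1 h4
  exact pow_dvd_pow 2 (by omega)

/-- odd index in `SL₂` -/
theorem index_QS {z : Fˣ} {m : ℕ} (hz : orderOf z = 2 ^ m) (hm : ¬ 2 ^ (m + 1) ∣ Nat.card F - 1)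
    (h4 : Nat.card F % 4 = 1) : ¬ 2 ∣ (QS z).index := by
  intro h
  have := Fintype.ofFinite F
  have h1 := (QS z).card_mul_index
  have h2 : 2 ^ (m + 2) ∣ Nat.card S2 := by
    rw [← h1, pow_succ]
    exact mul_dvd_mul (card_QS hz) h
  rw [H670.SL2.card_SL2, ← Nat.card_eq_fintype_card] at h2
  obtain ⟨c, hc⟩ : ∃ c, Nat.card F = 4 * c + 1 := ⟨Nat.card F / 4, by omega⟩
  apply hm
  have h3 : (Nat.card F + 1) * (Nat.card F * (Nat.card F - 1)) =
      2 * (((2 * c + 1) * (4 * c + 1)) * (Nat.card F - 1)) := by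
    have e : Nat.card F - 1 = 4 * c := by (clear * - hc; omega)
    rw [e, hc]
    ring
  rw [h3, show m + 2 = (m + 1) + 1 from rfl, pow_succ' 2 (m + 1)] at h2
  have h5 : 2 ^ (m + 1) ∣ ((2 * c + 1) * (4 * c + 1)) * (Nat.card F - 1) :=
    Nat.dvd_of_mul_dvd_mul_left (by norm_num) h2
  have h6 : Nat.Coprime (2 ^ (m + 1)) ((2 * c + 1) * (4 * c + 1)) := by
    apply Nat.Coprime.pow_left
    rw [Nat.coprime_two_left]
    exact Odd.mul ⟨c, by ring⟩ ⟨2 * c, by ring⟩
  exact h6.dvd_of_dvd_mul_left h5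

/-! ### the automorphism -/

/-- the inner automorphisms -/
def cpr : S2 →* MulAut P2 := (MulAut.conj : P2 →* MulAut P2).comp pr

omit [Finite F] in
theorem cpr_apply (g : S2) : cpr g = MulAut.conj (pr g) := rfl

omit [Finite F] in
theorem range_cpr : (cpr : S2 →* MulAut P2).range = (MulAut.conj : P2 →* MulAut P2).range := by
  apply le_antisymm
  · rintro _ ⟨g, rfl⟩
    exact ⟨pr g, rfl⟩
  · rintro _ ⟨s, rfl⟩
    obtain ⟨g, rfl⟩ := pr_surjective s
    exact ⟨g, rfl⟩

omit [Finite F] in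
theorem au_conj_cpr (A : GL (Fin 2) F) (σ : F ≃+* F) (g : S2) :
    au A σ * cpr g * (au A σ)⁻¹ = cpr ((cj A * fld σ : MulAut S2) g) := by
  rw [cpr_apply, cpr_apply]
  ext x
  simp only [MulAut.mul_apply, MulAut.conj_apply, map_mul, map_inv, MulAut.apply_inv_self]
  rfl

theorem zpowers_au {z : Fˣ} {m : ℕ} (hz : orderOf z = 2 ^ m) (σ : F ≃+* F) :
    Units.map (σ : F →* F) z ∈ zpowers z := by
  have h1 : IsPrimitiveRoot z (2 ^ m) := hz ▸ IsPrimitiveRoot.orderOf z
  have : NeZero (2 ^ m) := ⟨by positivity⟩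
  rw [h1.zpowers_eq, mem_rootsOfUnity, ← map_pow, ← hz, pow_orderOf_eq_one, map_one]

theorem map_QS {z : Fˣ} {m : ℕ} (hz : orderOf z = 2 ^ m) (σ : F ≃+* F) {g : S2} (hg : g ∈ QS z) :
    (cj (dg z 1) * fld σ : MulAut S2) g ∈ QS z := by
  have h1 : QS z ≤ (QS z).comap (cj (dg z 1) * fld σ : MulAut S2).toMonoidHom := by
    refine sup_le ?_ ?_
    · rw [Subgroup.zpowers_le]
      change cj (dg z 1) (fld σ (tor z)) ∈ QS z
      rw [fld_tor, cj_dg_tor]
      obtain ⟨n, hn⟩ := zpowers_au hz σ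
      have hn' : z ^ n = Units.map (σ : F →* F) z := hn
      rw [← hn', map_zpow]
      exact (le_sup_left : zpowers (tor z) ≤ QS z) ⟨n, rfl⟩
    · rw [Subgroup.zpowers_le]
      change cj (dg z 1) (fld σ wel) ∈ QS z
      rw [fld_wel, cj_dg_wel]
      exact mul_mem ((le_sup_left : zpowers (tor z) ≤ QS z) (mem_zpowers _))
        ((le_sup_right : zpowers wel ≤ QS z) (mem_zpowers _))
  exact h1 hg

omit [Finite F] in
theorem au_dg_pow {z : Fˣ} {m : ℕ} (hz : z ^ 2 ^ m = 1) (σ : F ≃+* F) (j : ℕ) :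
    ∃ c : Fˣ, c ^ 2 ^ m = 1 ∧ au (dg z 1) σ ^ j = au (dg c 1) (σ ^ j) := by
  induction j with
  | zero => exact ⟨1, one_pow _, by rw [pow_zero, pow_zero, dg_one, au_one]⟩
  | succ j ih =>
    obtain ⟨c, hc, hcj⟩ := ih
    refine ⟨c * Units.map ((σ ^ j : F ≃+* F) : F →* F) z, ?_, ?_⟩
    · rw [mul_pow, hc, one_mul, ← map_pow, hz, map_one]
    · rw [pow_succ, hcj, au_mul, gm_dg, dg_mul, map_one, one_mul, ← pow_succ]

omit [Finite F] in
theorem au_dg_one_pow (c : Fˣ) (n : ℕ) : au (dg c 1) 1 ^ n = (au (dg (c ^ n) 1) 1 : MulAut P2) := by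
  induction n with
  | zero => rw [pow_zero, pow_zero, dg_one, au_one]
  | succ n ih => rw [pow_succ, ih, au_mul, gm_one, dg_mul, one_mul, one_mul, ← pow_succ]

omit [Finite F] in
theorem au_two_pow {z : Fˣ} {m k : ℕ} (hz : z ^ 2 ^ m = 1) {σ : F ≃+* F} (hσ : σ ^ 2 ^ k = 1) :
    au (dg z 1) σ ^ 2 ^ (k + m) = 1 := by
  obtain ⟨c, hc, hcj⟩ := au_dg_pow hz σ (2 ^ k)
  rw [pow_add, pow_mul, hcj, hσ, au_dg_one_pow, hc, dg_one, au_one]

/-- the 2-group of automorphisms -/
def PS (z : Fˣ) (σ : F ≃+* F) : Subgroup (MulAut P2) := (QS z).map cpr ⊔ zpowers (au (dg z 1) σ)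

theorem norm_PS {z : Fˣ} {m : ℕ} (hz : orderOf z = 2 ^ m) (σ : F ≃+* F) :
    zpowers (au (dg z 1) σ) ≤ Subgroup.normalizer (((QS z).map cpr : Subgroup (MulAut P2)) : Set (MulAut P2)) := by
  rw [Subgroup.zpowers_le]
  apply Subgroup.mem_normalizer_fintype
  rintro _ ⟨g, hg, rfl⟩
  rw [au_conj_cpr]
  exact ⟨_, map_QS hz σ hg, rfl⟩

theorem isPGroup_PS {z : Fˣ} {m k : ℕ} (hz : orderOf z = 2 ^ m) {σ : F ≃+* F} (hσ : σ ^ 2 ^ k = 1) :
    IsPGroup 2 (PS z σ) := by
  have h2 : Fact (Nat.Prime 2) := ⟨Nat.prime_two⟩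
  refine IsPGroup.to_sup_of_normal_left' ((isPGroup_QS hz).map _) ?_ (norm_PS hz σ)
  rintro ⟨x, n, rfl⟩
  refine ⟨k + m, Subtype.ext ?_⟩
  change (au (dg z 1) σ ^ n) ^ 2 ^ (k + m) = 1
  rw [← zpow_natCast, ← _root_.zpow_mul, mul_comm, _root_.zpow_mul, zpow_natCast,
    au_two_pow (by rw [← hz, pow_orderOf_eq_one]) hσ, _root_.one_zpow]

omit [Finite F] in
theorem PS_le_closure (z : Fˣ) (σ : F ≃+* F) : PS z σ ≤ Subgroup.closure {cpr wel, au (dg z 1) σ} := by
  have hT : au (dg z 1) σ ∈ Subgroup.closure {cpr wel, au (dg z 1) σ} :=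
    Subgroup.subset_closure (Set.mem_insert_of_mem _ rfl)
  have hW : cpr wel ∈ Subgroup.closure {cpr wel, au (dg z 1) σ} :=
    Subgroup.subset_closure (Set.mem_insert _ _)
  refine sup_le ?_ ?_
  · rw [Subgroup.map_le_iff_le_comap]
    refine sup_le ?_ ?_
    · rw [Subgroup.zpowers_le]
      change cpr (tor z) ∈ Subgroup.closure {cpr wel, au (dg z 1) σ}
      have h1 := au_conj_cpr (dg z 1) σ (wel : S2)
      rw [MulAut.mul_apply, fld_wel, cj_dg_wel, map_mul] at h1
      rw [eq_mul_inv_of_mul_eq h1.symm]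
      exact mul_mem (mul_mem (mul_mem hT hW) (inv_mem hT)) (inv_mem hW)
    · rw [Subgroup.zpowers_le]
      exact hW
  · rw [Subgroup.zpowers_le]
    exact hT

theorem relIndex_PS {z : Fˣ} {m : ℕ} (hz : orderOf z = 2 ^ m) (hm : ¬ 2 ^ (m + 1) ∣ Nat.card F - 1)
    (h4 : Nat.card F % 4 = 1) (σ : F ≃+* F) : ¬ 2 ∣ (PS z σ).relIndex (AutExt (au (dg z 1) σ)) := by
  have hle : (QS z).map cpr ≤ (MulAut.conj : P2 →* MulAut P2).range := by
    rw [← range_cpr]
    rintro _ ⟨g, -, rfl⟩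
    exact ⟨g, rfl⟩
  refine relIndex_odd (MulAut.conj : P2 →* MulAut P2).range (PS z σ) ((QS z).map cpr) _ ?_ hle le_sup_left ?_
  · rw [PS, ← sup_assoc, sup_eq_left.2 hle]
    rfl
  · rw [← range_cpr, MonoidHom.range_eq_map, Subgroup.relIndex_map_map, top_sup_eq, Subgroup.relIndex_top_right]
    intro h
    exact index_QS hz hm h4 (h.trans (Subgroup.index_dvd_of_le le_sup_left))

theorem not_d3_dg {z : Fˣ} {m k : ℕ} (hz : orderOf z = 2 ^ m) (hm : ¬ 2 ^ (m + 1) ∣ Nat.card F - 1)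
    (h4 : Nat.card F % 4 = 1) {σ : F ≃+* F} (hσ : σ ^ 2 ^ k = 1) : ¬ D3 (AutExt (au (dg z 1) σ)) := by
  have hW : cpr wel ∈ PS z σ := le_sup_left (b := zpowers (au (dg z 1) σ))
    (⟨wel, (le_sup_right : zpowers (wel : S2) ≤ QS z) (mem_zpowers _), rfl⟩ : cpr wel ∈ (QS z).map cpr)
  have hT : au (dg z 1) σ ∈ PS z σ := le_sup_right (a := (QS z).map cpr) (mem_zpowers _)
  refine not_d3_of_closure (AutExt (au (dg z 1) σ)) (PS z σ) ?_ (isPGroup_PS hz hσ) (relIndex_PS hz hm h4 σ)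
    (cpr wel) (au (dg z 1) σ) hW hT (PS_le_closure z σ)
  refine sup_le ?_ ?_
  · rintro _ ⟨g, -, rfl⟩
    exact conj_mem _ _
  · rw [Subgroup.zpowers_le]
    exact self_mem _

/-! ### nonsquares -/

/-- the 2-part of the multiplicative group -/
theorem exists_z (h4 : Nat.card F % 4 = 1) : ∃ (z : Fˣ) (m : ℕ), orderOf z = 2 ^ m ∧ ¬ 2 ^ (m + 1) ∣ Nat.card F - 1 ∧
    ¬ IsSquare (z : F) := by
  have hc1 : 1 < Nat.card F := Finite.one_lt_card
  have h0 : Nat.card F - 1 ≠ 0 := by omega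
  have hcard : Nat.card Fˣ = Nat.card F - 1 := by rw [Nat.card_units]
  set m := (Nat.card F - 1).factorization 2 with hm
  have h1 : 2 ^ m ∣ Nat.card F - 1 := Nat.ordProj_dvd _ _
  have h2 : ¬ 2 ^ (m + 1) ∣ Nat.card F - 1 := Nat.pow_succ_factorization_not_dvd h0 Nat.prime_two
  obtain ⟨g, hg⟩ := IsCyclic.exists_ofOrder_eq_natCard (α := Fˣ)
  obtain ⟨r, hr⟩ := h1
  have hr0 : r ≠ 0 := by
    rintro rfl
    rw [mul_zero] at hr
    exact h0 hr
  have hz : orderOf (g ^ r) = 2 ^ m := by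
    rw [orderOf_pow_of_dvd hr0 (by rw [hg, hcard, hr]; exact dvd_mul_left _ _), hg, hcard, hr,
      Nat.mul_div_cancel _ (Nat.pos_of_ne_zero hr0)]
  refine ⟨g ^ r, m, hz, h2, ?_⟩
  rintro ⟨s, hs⟩
  have hs0 : s ≠ 0 := by
    rintro rfl
    rw [mul_zero] at hs
    exact (g ^ r).ne_zero hs
  set u : Fˣ := Units.mk0 s hs0 with hu
  have hu2 : u ^ 2 = g ^ r := by
    apply Units.ext
    rw [Units.val_pow_eq_pow_val, hu, Units.val_mk0, pow_two, ← hs]
  apply h2
  rw [← hcard]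
  have hm0 : m ≠ 0 := by
    intro h
    rw [h] at h2
    apply h2
    omega
  have h5 : orderOf u = 2 ^ (m + 1) := by
    have h2' : Fact (Nat.Prime 2) := ⟨Nat.prime_two⟩
    refine orderOf_eq_prime_pow ?_ ?_
    · intro h6
      have h7 : (g ^ r) ^ 2 ^ (m - 1) = 1 := by
        rw [← hu2, ← pow_mul, ← pow_succ']
        have : m - 1 + 1 = m := by omega
        rw [this]
        exact h6
      have h8 := orderOf_dvd_of_pow_eq_one h7
      rw [hz] at h8
      have := (Nat.pow_dvd_pow_iff_le_right (by norm_num)).1 h8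
      omega
    · rw [pow_succ', pow_mul, hu2, ← hz, pow_orderOf_eq_one]
  rw [← h5]
  exact orderOf_dvd_natCard u

/-- the quotient of two nonsquares is a square -/
theorem sq_of_nonsquare {c d : F} (hc : ¬ IsSquare c) (hd : ¬ IsSquare d) : ∃ e : F, c = d * (e * e) := by
  classical
  have := Fintype.ofFinite F
  have hc0 : c ≠ 0 := by rintro rfl; exact hc (IsSquare.zero)
  have hd0 : d ≠ 0 := by rintro rfl; exact hd (IsSquare.zero)
  have h1 : IsSquare (c * d⁻¹) := by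
    rw [← quadraticChar_one_iff_isSquare (mul_ne_zero hc0 (inv_ne_zero hd0)), map_mul]
    have hd' : ¬ IsSquare d⁻¹ := fun h => hd (by
      rw [← inv_inv d]; exact h.inv)
    rw [quadraticChar_neg_one_iff_not_isSquare.2 hc, quadraticChar_neg_one_iff_not_isSquare.2 hd']
    norm_num
  obtain ⟨e, he⟩ := h1
  refine ⟨e, ?_⟩
  rw [← he]
  field_simp

/-- **`q ≡ 1` modulo 4, outside `PΣL₂(q)`** -/
theorem not_d3_one (h4 : Nat.card F % 4 = 1) {A : GL (Fin 2) F} {σ : F ≃+* F} {k : ℕ} (hσ : σ ^ 2 ^ k = 1)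
    (hA : ¬ IsSquare (A : Matrix (Fin 2) (Fin 2) F).det) : ¬ D3 (AutExt (au A σ)) := by
  obtain ⟨z, m, hz, hm, hzs⟩ := exists_z h4
  obtain ⟨g, hg⟩ := exists_split A σ z (sq_of_nonsquare hA hzs)
  rw [hg, autExt_conj]
  exact not_d3_dg hz hm h4 hσ

end Cfsg.Agent.H984.K547.PslB
end

private theorem dce_d10482b32b02 : _root_.True := by
  try have : _root_.True := by simp only [_root_.Cfsg.Agent.H984.K547.PslB.PS.eq_1]
  try have : _root_.True := by simp only [_root_.Cfsg.Agent.H984.K547.PslAut.au.eq_1]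
  exact _root_.True.intro
end

-- part: H42/K547/EvenPlug2
section
prune_inst 0x40510082009e2100000000580812002001c0004201000000080800204020000080800804004001000022a810100000008130000800200000000000000000400001040820000410008c00080000000000000000000000000000000000000000004000000000
set_option linter.all false
open scoped Cfsg.Agent.FastGrp

-- part: H622/Levi/Ell
section
/-!
Number theory for the graph automorphism of `SL_3(q)`: a prime `ℓ ∣ q² + q + 1`, `ℓ ∤ q - 1`, such that `-1` is not of the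
form `p^j q^i` modulo `ℓ`.
-/

set_option autoImplicit false

namespace Cfsg.Agent.H622.Levi

/-- a prime divisor other than three of `x² + x + 1` -/
theorem exists_prime_dvd {x : ℕ} (hx : 2 ≤ x) : ∃ l : ℕ, l.Prime ∧ l ≠ 3 ∧ l ≠ 2 ∧ l ∣ x ^ 2 + x + 1 := by
  have hodd : ¬ 2 ∣ x ^ 2 + x + 1 := by
    intro h
    have h1 : (x ^ 2 + x + 1) % 2 = 0 := Nat.mod_eq_zero_of_dvd h
    rcases Nat.mod_two_eq_zero_or_one x with h0 | h0
    · rw [Nat.add_mod, Nat.add_mod (x ^ 2), Nat.pow_mod, h0] at h1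
      norm_num at h1
    · rw [Nat.add_mod, Nat.add_mod (x ^ 2), Nat.pow_mod, h0] at h1
      norm_num at h1
  have h9 : ¬ 9 ∣ x ^ 2 + x + 1 := by
    intro h
    have h1 : (x ^ 2 + x + 1) % 9 = 0 := Nat.mod_eq_zero_of_dvd h
    have h2 : x % 9 < 9 := Nat.mod_lt _ (by norm_num)
    rw [Nat.add_mod, Nat.add_mod (x ^ 2), Nat.pow_mod] at h1
    interval_cases x % 9 <;> norm_num at h1
  by_contra hno
  push Not at hno
  have hall : ∀ l : ℕ, l.Prime → l ∣ x ^ 2 + x + 1 → l = 3 := by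
    intro l hl hd
    by_contra h3
    have h2 : l ≠ 2 := by rintro rfl; exact hodd hd
    exact hno l hl h3 h2 hd
  have h1 : x ^ 2 + x + 1 = 3 ^ (x ^ 2 + x + 1).primeFactorsList.length := by
    refine Nat.eq_prime_pow_of_unique_prime_dvd (by positivity) ?_
    intro l hl hd
    exact hall l hl hd
  have h7 : 7 ≤ x ^ 2 + x + 1 := by nlinarith only [hx]
  set k := (x ^ 2 + x + 1).primeFactorsList.length
  have hk : 2 ≤ k := by
    by_contra hk
    have : k = 0 ∨ k = 1 := by omega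
    rcases this with h0 | h0 <;> rw [h0] at h1 <;> norm_num at h1 <;> omega
  apply h9
  rw [h1]
  exact pow_dvd_pow 3 hk

end Cfsg.Agent.H622.Levi
end

-- part: H967/K547/LemmaC
section
/-!
# S4547, `q` even: Lemma C (helper967, task QE2)

A Levi subgroup of type `A₂` whose nodes are fixed by the normalised automorphism `β` has an invariant cuspidal
character of odd degree.
-/

set_option autoImplicit false
set_option linter.unusedSectionVars false

open scoped ComplexConjugate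
open Cfsg

namespace Cfsg.Agent.H967.K547.LemmaC

open Cfsg.Agent.OddOrderCharacters.Clifford Cfsg.Agent.Characters Cfsg.Agent.H601.K4 Cfsg.Agent.H967.K4
open CoxeterSystem Cfsg.Agent.ChevalleyStructure.CoxeterGeom Cfsg.Agent.Tits.Roots Cfsg.Agent.Tits.Core
  Cfsg.Agent.Tits.Exchange Cfsg.Agent.Nodes.Reps Cfsg.Agent.Nodes.BNOf Cfsg.Agent.Nodes.StabComb
  Cfsg.Agent.Nodes.Bruhat Cfsg.Agent.Nodes.OppDec Cfsg.Agent.Nodes.LeviDec Cfsg.Agent.H53.HC
  Cfsg.Agent.H246.Dl Cfsg.Agent.KFacts.RgdAut Cfsg.Agent.KFacts.RgdDiag Cfsg.Agent.H307.QE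
open Cfsg.Agent.LieRecognition.BNCox (cA)
open Cfsg.Agent.TitsThree.KSideA (tv tv_of_ne tv_add tv_zero tv_neg tv_comm)
open Cfsg.Agent.H622.Levi (Co cr cr_neg cr_succ dirHom dirC dirHom_tv hom_ext_tv exists_ringEquiv tv_injective
  exists_chain exists_co exists_prime_dvd)
open Matrix
open scoped commutatorElement

/-! ### arithmetic -/

section arith

/-- the order of the Frobenius automorphism -/
theorem dvd_of_frob {F : Type*} [Field F] [Finite F] {f n : ℕ} (hf : Nat.card F = 2 ^ f)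
    (h : ∀ x : F, x ^ 2 ^ n = x) : f ∣ n := by
  obtain ⟨g, hg⟩ := IsCyclic.exists_ofOrder_eq_natCard (α := Fˣ)
  have h1 : g ^ (2 ^ n - 1) = 1 := by
    have h2 : g ^ 2 ^ n = g := Units.ext (by push_cast; exact h g)
    have h3 : 1 ≤ 2 ^ n := Nat.one_le_two_pow
    have h4 : g ^ (2 ^ n - 1) * g = 1 * g := by
      rw [← pow_succ, Nat.sub_add_cancel h3, h2, one_mul]
    exact mul_right_cancel h4
  have h5 := orderOf_dvd_of_pow_eq_one h1
  rw [hg, Nat.card_units, hf] at h5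
  have h6 : 2 ^ (Nat.gcd f n) - 1 = 2 ^ f - 1 := by
    rw [← Nat.pow_sub_one_gcd_pow_sub_one 2 f n]
    exact Nat.gcd_eq_left h5
  have h7 : 2 ^ (Nat.gcd f n) = 2 ^ f := by
    have h8 : 1 ≤ 2 ^ (Nat.gcd f n) := Nat.one_le_two_pow
    have h9 : 1 ≤ 2 ^ f := Nat.one_le_two_pow
    omega
  have h8 : Nat.gcd f n = f := Nat.pow_right_injective le_rfl h7
  rw [← h8]
  exact Nat.gcd_dvd_right _ _

/-- **The prime `d`.** -/
theorem exists_d {f j k : ℕ} (hf : f ≠ 0) (hj : f ∣ j * 2 ^ k) :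
    ∃ d : ℕ, d.Prime ∧ d ∣ (2 ^ f) ^ 2 + 2 ^ f + 1 ∧ ¬ d ∣ 2 ^ f - 1 ∧ ∃ i : ℕ, 2 ^ (j + f * i) ≡ 1 [MOD d] := by
  obtain ⟨b, m, hm, hfm⟩ := Nat.exists_eq_two_pow_mul_odd hf
  have hm0 : m ≠ 0 := by rintro rfl; exact absurd hm (by decide)
  have hmj : m ∣ j := by
    have h1 : m ∣ j * 2 ^ k := (Dvd.intro_left _ hfm.symm).trans hj
    exact (Nat.Coprime.pow_right k (Nat.coprime_two_right.2 hm)).dvd_of_dvd_mul_right h1
  obtain ⟨j', rfl⟩ := hmj
  have hx2 : 2 ≤ 2 ^ m := by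
    have := Nat.one_lt_pow hm0 one_lt_two
    omega
  obtain ⟨l, hl, h3, h2, hd⟩ := exists_prime_dvd hx2
  have : Fact l.Prime := ⟨hl⟩
  let x : ZMod l := ((2 ^ m : ℕ) : ZMod l)
  have hx1 : x ^ 2 + x + 1 = 0 := by
    have h4 : (((2 ^ m) ^ 2 + 2 ^ m + 1 : ℕ) : ZMod l) = 0 := (ZMod.natCast_eq_zero_iff _ _).2 hd
    push_cast at h4
    change ((2 ^ m : ℕ) : ZMod l) ^ 2 + ((2 ^ m : ℕ) : ZMod l) + 1 = 0
    push_cast
    exact h4
  have hx3 : x ^ 3 = 1 := by linear_combination (x - 1) * hx1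
  have hxne : x ≠ 1 := by
    intro h
    rw [h] at hx1
    have h5 : ((3 : ℕ) : ZMod l) = 0 := by push_cast; linear_combination hx1
    rw [ZMod.natCast_eq_zero_iff] at h5
    exact h3 ((Nat.prime_dvd_prime_iff_eq hl Nat.prime_three).1 h5)
  have hqx : ((2 ^ f : ℕ) : ZMod l) = x ^ 2 ^ b := by
    rw [hfm, mul_comm, pow_mul]
    push_cast
    change _ = ((2 ^ m : ℕ) : ZMod l) ^ 2 ^ b
    push_cast
    rfl
  have hb : ∀ b : ℕ, x ^ 2 ^ b = x ∨ x ^ 2 ^ b = x ^ 2 := by
    intro b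
    induction b with
    | zero => left; rw [pow_zero, pow_one]
    | succ b ih =>
      rw [pow_succ, pow_mul]
      rcases ih with h | h
      · right; rw [h]
      · left
        rw [h]
        linear_combination x * hx3
  have hq1 : ((2 ^ f : ℕ) : ZMod l) ^ 2 + ((2 ^ f : ℕ) : ZMod l) + 1 = 0 ∧ ((2 ^ f : ℕ) : ZMod l) ≠ 1 := by
    rw [hqx]
    rcases hb b with h | h
    · rw [h]; exact ⟨hx1, hxne⟩
    · rw [h]
      constructor
      · linear_combination hx1 + x * hx3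
      · intro h1
        apply hxne
        have : x = x ^ 3 := by rw [pow_succ, h1, one_mul]
        rw [this, hx3]
  refine ⟨l, hl, ?_, ?_, ?_⟩
  · rw [← ZMod.natCast_eq_zero_iff, Nat.cast_add, Nat.cast_add, Nat.cast_pow, Nat.cast_one]
    exact hq1.1
  · intro h
    rw [← ZMod.natCast_eq_zero_iff, Nat.cast_sub Nat.one_le_two_pow, Nat.cast_one, sub_eq_zero] at h
    exact hq1.2 h
  · -- `2 ^ j = x ^ j'` and `2 ^ f` generates the powers of `x`
    have hj : ((2 ^ (m * j') : ℕ) : ZMod l) = x ^ j' := by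
      rw [pow_mul]
      push_cast
      change _ = ((2 ^ m : ℕ) : ZMod l) ^ j'
      push_cast
      rfl
    obtain ⟨i, hi⟩ : ∃ i : ℕ, x ^ j' * (((2 ^ f : ℕ) : ZMod l)) ^ i = 1 := by
      rw [hqx]
      rcases hb b with h | h
      · refine ⟨2 * j', ?_⟩
        rw [h, ← pow_add, show j' + 2 * j' = 3 * j' by ring, pow_mul, hx3, one_pow]
      · refine ⟨j', ?_⟩
        rw [h, ← pow_mul, ← pow_add, show j' + 2 * j' = 3 * j' by ring, pow_mul, hx3, one_pow]
    refine ⟨i, ?_⟩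
    rw [← ZMod.natCast_eq_natCast_iff, pow_add, pow_mul 2 f i, Nat.cast_mul, hj, Nat.cast_pow, hi, Nat.cast_one]

end arith

/-! ### the character of `L` -/

section theta

variable {F L : Type} [Field F] [Finite F] [Field L] [Finite L] [Algebra F L]

open Cfsg.Agent.H139.Cusp (powTheta powTheta_algebraMap regular_powTheta_iff psi powTheta_apply Regular cuspMat)

theorem exists_theta_inv [CharP F 2] (hL : Module.finrank F L = 3) {f : ℕ} (hf : Nat.card F = 2 ^ f) {j k : ℕ}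
    (hj : f ∣ j * 2 ^ k) {τ : F ≃+* F} (hτ : ∀ x, τ x = x ^ 2 ^ j) :
    ∃ (θ : L →*₀ ℂ), Regular F 3 θ ∧ (∀ c : F, c ≠ 0 → θ (algebraMap F L c) = 1) ∧
      ∃ σ : L ≃+* L, (∀ c : F, σ (algebraMap F L c) = algebraMap F L (τ c)) ∧ ∀ x, θ (σ x) = θ x := by
  have hf0 : f ≠ 0 := by
    rintro rfl
    have : 1 < Nat.card F := Finite.one_lt_card
    rw [hf] at this
    norm_num at this
  obtain ⟨d, hd, hd1, hd2, i, hi⟩ := exists_d hf0 hj
  obtain ⟨θ₀, hθ₀⟩ := H139.Cusp.exists_theta L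
  obtain ⟨e, he⟩ := hd1
  set q := Nat.card F with hq
  rw [← hf] at he hd2
  have hq2 : 2 ≤ q := Finite.one_lt_card
  have he0 : e ≠ 0 := by rintro rfl; rw [mul_zero] at he; omega
  have ha : (q - 1) * e ≠ 0 := Nat.mul_ne_zero (by omega) he0
  have hq3 : q ^ 3 - 1 = ((q - 1) * e) * d := by
    have h1 : (q - 1) * (q ^ 2 + q + 1) = q ^ 3 - 1 := by
      obtain ⟨y, hy⟩ := Nat.exists_eq_add_of_le' (show 1 ≤ q by omega)
      rw [hy, Nat.add_sub_cancel]
      have : (y + 1) ^ 3 = y * ((y + 1) ^ 2 + (y + 1) + 1) + 1 := by ring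
      omega
    rw [← h1, he]; ring
  have hcardL : Nat.card Lˣ = q ^ 3 - 1 := by
    rw [Nat.card_units, Module.natCard_eq_pow_finrank (K := F), hL]
  have hpow : ∀ x : L, x ≠ 0 → (powTheta θ₀ ((q - 1) * e) ha x) ^ d = 1 := by
    intro x hx
    rw [powTheta_apply, ← pow_mul, ← hq3, ← hcardL, ← map_pow]
    have h1 : (Units.mk0 x hx) ^ Nat.card Lˣ = 1 := pow_card_eq_one'
    have h2 : x ^ Nat.card Lˣ = 1 := congrArg Units.val h1
    rw [h2, map_one]
  have : Fact (Nat.Prime 2) := ⟨Nat.prime_two⟩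
  have hτ' : ∀ x : F, τ x = x ^ 2 ^ (j + f * i) := by
    intro x
    have h1 : ∀ (i : ℕ) (y : F), y ^ 2 ^ (f * i) = y := by
      intro i y
      induction i with
      | zero => rw [mul_zero, pow_zero, pow_one]
      | succ i ih =>
        rw [mul_add, mul_one, pow_add, pow_mul, ih, ← hf]
        have : Fintype F := Fintype.ofFinite F
        rw [hq, Nat.card_eq_fintype_card]
        exact FiniteField.pow_card y
    rw [pow_add, pow_mul, h1, hτ]
  obtain ⟨σ, hσ1, hσ2⟩ := H53.HC.Gal.exists_ext (L := L) (p := 2) hτ'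
  refine ⟨powTheta θ₀ ((q - 1) * e) ha, ?_, fun c hc => powTheta_algebraMap ha (dvd_mul_right _ _) hc, σ, hσ2, ?_⟩
  · rw [regular_powTheta_iff hθ₀ ha hL]
    intro i hi0 hi3 hdvd
    rw [← hq, hq3] at hdvd
    have h1 : d ∣ q ^ i - 1 := Nat.dvd_of_mul_dvd_mul_left (Nat.pos_of_ne_zero ha) hdvd
    have h2 : d ∣ q ^ 2 + q + 1 := ⟨e, he⟩
    -- `d ∣ q - 1`
    apply hd2
    have : Fact d.Prime := ⟨hd⟩
    have hpos : 1 ≤ q ^ i := Nat.one_le_pow _ _ (by omega)
    rw [← ZMod.natCast_eq_zero_iff, Nat.cast_sub hpos, Nat.cast_pow, Nat.cast_one, sub_eq_zero] at h1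
    rw [← ZMod.natCast_eq_zero_iff] at h2
    push_cast at h2
    rw [← ZMod.natCast_eq_zero_iff, Nat.cast_sub (by omega), Nat.cast_one, sub_eq_zero]
    have h3 : i = 1 ∨ i = 2 := by omega
    rcases h3 with rfl | rfl
    · rwa [pow_one] at h1
    · have h4 : (q : ZMod d) = -2 := by linear_combination h2 - h1
      have h5 : (q : ZMod d) ^ 2 = 4 := by rw [h4]; ring
      rw [h1] at h5
      have h6 : (3 : ZMod d) = 0 := by linear_combination -h5
      linear_combination h4 - h6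
  · intro x
    rcases eq_or_ne x 0 with rfl | hx
    · rw [map_zero]
    · rw [hσ1, map_pow]
      obtain ⟨c, hc⟩ := (Nat.modEq_iff_dvd' Nat.one_le_two_pow).1 hi.symm
      have h1 : 2 ^ (j + f * i) = d * c + 1 := by
        have : 1 ≤ 2 ^ (j + f * i) := Nat.one_le_two_pow
        omega
      rw [h1, pow_succ, pow_mul, hpow x hx, one_pow, one_mul]

end theta

/-! ### the automorphism of `SL₃(F)` -/

section aut

variable {F : Type} [Field F] [Finite F] {Y : Type*} [Group Y] {φ : _root_.Matrix.SpecialLinearGroup (Fin 3) F →* Y}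

/-- **Automorphisms which fix the root groups.** -/
theorem exists_dir_aut (hinj : ∀ a b : Fin 3, a ≠ b → Function.Injective fun t : F => φ (tv a b t)) {β : MulAut Y}
    (hg : ∀ a b : Fin 3, a ≠ b → ∀ s : F, ∃ t : F, β (φ (tv a b s)) = φ (tv a b t)) :
    ∃ (τ : F ≃+* F) (d : Fin 3 → F) (hd : ∀ a, d a ≠ 0), ∀ x, β (φ x) = φ (dirHom (dirC d hd) τ x) := by
  choose! f hf using hg
  obtain ⟨τ, d, hd, hτ⟩ := exists_ringEquiv (f := fun a b s => f a b s) (by
      intro a b hab s t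
      have h1 := hf a b hab (s + t)
      rw [tv_add, map_mul, map_mul, hf a b hab, hf a b hab, ← map_mul, ← tv_add] at h1
      exact (hinj _ _ hab h1).symm) (by
      intro a b c hab hbc hac s t
      have h1 := hf a c hac (s * t)
      rw [← tv_comm hab hbc hac, map_commutatorElement, map_commutatorElement] at h1
      rw [hf a b hab, hf b c hbc, ← map_commutatorElement, tv_comm hab hbc hac] at h1
      exact (hinj _ _ hac h1).symm) (by
      intro a b hab h0
      have h1 := hf a b hab 1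
      rw [h0, tv_zero, map_one, EmbeddingLike.map_eq_one_iff, ← map_one φ, ← tv_zero a b] at h1
      exact one_ne_zero (hinj a b hab h1))
  refine ⟨τ, d, hd, fun x => ?_⟩
  have h1 : β.toMonoidHom.comp φ = φ.comp (dirHom (dirC d hd) τ) := by
    refine hom_ext_tv fun a b hab s => ?_
    rw [MonoidHom.comp_apply, MonoidHom.comp_apply, dirHom_tv d hd τ hab]
    change β (φ (tv a b s)) = _
    rw [hf a b hab, ← hτ a b hab s]
  exact DFunLike.congr_fun h1 x

theorem iter_tv (τ : F ≃+* F) (d : Fin 3 → F) (hd : ∀ a, d a ≠ 0) (n : ℕ) {a b : Fin 3} (hab : a ≠ b) :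
    ∃ c : F, ∀ s : F, ((dirHom (dirC d hd) τ : _root_.Matrix.SpecialLinearGroup (Fin 3) F → _root_.Matrix.SpecialLinearGroup (Fin 3) F)^[n])
      (tv a b s) = tv a b (c * (τ^[n]) s) := by
  induction n with
  | zero => exact ⟨1, fun s => by rw [Function.iterate_zero, Function.iterate_zero, id, id, one_mul]⟩
  | succ n ih =>
    obtain ⟨c, hc⟩ := ih
    refine ⟨d a * τ c * (d b)⁻¹, fun s => ?_⟩
    rw [Function.iterate_succ_apply', hc, dirHom_tv d hd τ hab, map_mul, Function.iterate_succ_apply']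
    congr 1
    ring

/-- the automorphism of `SL₃(F)` has 2-power order -/
theorem exists_mulAut (hinj : ∀ a b : Fin 3, a ≠ b → Function.Injective fun t : F => φ (tv a b t)) {β : MulAut Y}
    {n : ℕ} (hn : 0 < n) (hβ : β ^ n = 1) {τ : F ≃+* F} {d : Fin 3 → F} {hd : ∀ a, d a ≠ 0}
    (h : ∀ x, β (φ x) = φ (dirHom (dirC d hd) τ x)) :
    (∀ s : F, (τ^[n]) s = s) ∧ ∃ α : MulAut (_root_.Matrix.SpecialLinearGroup (Fin 3) F), α ^ n = 1 ∧
      ∀ x, α x = dirHom (dirC d hd) τ x := by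
  set A : _root_.Matrix.SpecialLinearGroup (Fin 3) F →* _root_.Matrix.SpecialLinearGroup (Fin 3) F := dirHom (dirC d hd) τ with hA
  have h1 : ∀ (m : ℕ) (x : _root_.Matrix.SpecialLinearGroup (Fin 3) F), (β ^ m) (φ x) = φ ((A^[m]) x) := by
    intro m
    induction m with
    | zero => intro x; rfl
    | succ m ih => intro x; rw [pow_succ', MulAut.mul_apply, ih, h, Function.iterate_succ_apply']
  have h2 : ∀ (a b : Fin 3), a ≠ b → ∀ s : F, (A^[n]) (tv a b s) = tv a b s ∧ (τ^[n]) s = s := by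
    intro a b hab
    obtain ⟨c, hc⟩ := iter_tv τ d hd n hab
    have h3 : ∀ s : F, c * (τ^[n]) s = s := by
      intro s
      have h4 := h1 n (tv a b s)
      rw [hβ, MulAut.one_apply, hA, hc] at h4
      exact (hinj a b hab h4).symm
    have h5 : (τ^[n]) (1 : F) = 1 := by
      clear hn h3 hc hβ
      induction n with
      | zero => rfl
      | succ n ih => rw [Function.iterate_succ_apply', ih, map_one]
    have h6 : c = 1 := by have := h3 1; rwa [h5, mul_one] at this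
    intro s
    have h7 := h3 s
    rw [h6, one_mul] at h7
    exact ⟨by rw [hA, hc, h6, one_mul, h7], h7⟩
  have h4 : ∀ x, (A^[n]) x = x := by
    intro x
    refine Cfsg.Agent.LieClassical.SLGen.transvection_induction (fun x => (A^[n]) x = x) ?_ ?_ x
    · intro a b hab s
      have := (h2 a b hab s).1
      rwa [tv_of_ne hab] at this
    · intro x y hx hy
      have e : (A^[n]) (x * y) = (A^[n]) x * (A^[n]) y := iterate_map_mul A n x y
      rw [e, hx, hy]
  have hbij : Function.Bijective A := by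
    obtain ⟨m, rfl⟩ := Nat.exists_eq_add_of_le' hn
    constructor
    · intro x y hxy
      rw [← h4 x, ← h4 y, Function.iterate_succ_apply, Function.iterate_succ_apply, hxy]
    · intro x
      refine ⟨(A^[m]) x, ?_⟩
      rw [← Function.iterate_succ_apply' (f := A)]
      exact h4 x
  refine ⟨fun s => (h2 0 1 (by decide) s).2, MulEquiv.ofBijective A hbij, ?_, fun x => rfl⟩
  ext x : 1
  have h5 : ∀ m : ℕ, ∀ x, ((MulEquiv.ofBijective A hbij : MulAut (_root_.Matrix.SpecialLinearGroup (Fin 3) F)) ^ m) x = (A^[m]) x := by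
    intro m
    induction m with
    | zero => intro x; rfl
    | succ m ih => intro x; rw [pow_succ', MulAut.mul_apply, ih, Function.iterate_succ_apply']; rfl
  rw [h5, h4]
  rfl

theorem iter_frob {τ : F ≃+* F} {j : ℕ} (hτ : ∀ x, τ x = x ^ 2 ^ j) (n : ℕ) (x : F) : (τ^[n]) x = x ^ 2 ^ (j * n) := by
  induction n with
  | zero => rw [mul_zero, pow_zero, pow_one]; rfl
  | succ n ih => rw [Function.iterate_succ_apply', ih, hτ, ← pow_mul, ← pow_add, mul_add, mul_one]

end aut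

section main

variable {I W Y : Type*} [Fintype I] [DecidableEq I] [Group W] [Group Y] {M : CoxeterMatrix I}
  {cs : CoxeterSystem M W} {A : I → I → ℤ} {h : IsCartan M A} {T : Subgroup Y} {n : I → Y}
  {X : (I → ℤ) → Subgroup Y} {F : Type} [Field F] [Finite F] {φ : _root_.Matrix.SpecialLinearGroup (Fin 3) F →* Y} {k : Fin 2 ↪ I}

/-- **Lemma C for a Levi subgroup with coordinates.** -/
theorem exists_ocs [Finite W] [Finite Y] [CharP F 2] (C : Co X k F φ) (hk : ∀ i j, M (k i) (k j) = cA 2 i j)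
    {β : MulAut Y} {m : ℕ} (hβ : β ^ 2 ^ m = 1)
    (hroot : ∀ a b : Fin 3, a ≠ b → ∀ s : F, ∃ t : F, β (φ (tv a b s)) = φ (tv a b t))
    (hM : _root_.Cfsg.Agent.KFacts.RgdAut.Fix β (MJ cs h X (Set.range k))) :
    ∃ θ : ↥(MJ cs h X (Set.range k)) → ℂ, Cusp cs h X (Set.range k) θ ∧ OS (rAut β hM) θ := by
  classical
  have : Fintype F := Fintype.ofFinite F
  have : Fact (Nat.Prime 2) := ⟨Nat.prime_two⟩
  have hinj : ∀ a b : Fin 3, a ≠ b → Function.Injective fun t : F => φ (tv a b t) :=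
    fun a b hab => tv_injective C.ker hab
  obtain ⟨τ, d, hd, hφ⟩ := exists_dir_aut hinj hroot
  obtain ⟨hτ1, α, hα, hαd⟩ := exists_mulAut hinj (by positivity) hβ hφ
  obtain ⟨j, hj⟩ := H53.HC.Gal.exists_frob_pow (p := 2) τ
  obtain ⟨f, hf⟩ : ∃ f : ℕ, Nat.card F = 2 ^ f := by
    obtain ⟨f, -, hf⟩ := FiniteField.card F 2
    exact ⟨f, by rw [Nat.card_eq_fintype_card, hf]⟩
  have hdvd : f ∣ j * 2 ^ m := dvd_of_frob hf fun x => by rw [← iter_frob hj]; exact hτ1 x
  obtain ⟨L, _, _, _, hL⟩ : ∃ (L : Type) (_ : Field L) (_ : Algebra F L) (_ : Finite L),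
      Module.finrank F L = 3 :=
    ⟨FiniteField.Extension F 2 3, inferInstance, inferInstance, inferInstance, FiniteField.finrank_extension F 2 3⟩
  obtain ⟨θ, hreg, h1, σ, hσ, hθσ⟩ := exists_theta_inv (L := L) hL hf hdvd hj
  have hirr := H139.Cusp.psi_isIrr θ hL hreg
  let g : _root_.Matrix.SpecialLinearGroup (Fin 3) F →* GL (Fin 3) F := SpecialLinearGroup.toGL
  have hΨ : IsCharacter _ (H139.Cusp.psi (n := 3) (F := F) L θ ∘ g) :=
    Core.isCharacter_comp g (Core.isIrr_isCharacter hirr)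
  have hone : (H139.Cusp.psi (n := 3) (F := F) L θ ∘ g) 1 = (H139.Cusp.degP (Nat.card F) 3 : ℂ) := by
    rw [Function.comp_apply, map_one, H139.Cusp.psi_one L θ (by omega)]
  have : Fintype (_root_.Matrix.SpecialLinearGroup (Fin 3) F) := Fintype.ofFinite _
  have heven : Even (Nat.card F) := by
    rw [Nat.card_eq_fintype_card, Nat.even_iff]
    exact FiniteField.even_card_iff_char_two.1 (ringChar.eq F 2)
  have hfix : ∀ x, (H139.Cusp.psi (n := 3) (F := F) L θ ∘ g) (α x) = (H139.Cusp.psi (n := 3) (F := F) L θ ∘ g) x := by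
    intro x
    rw [hαd, Function.comp_apply, Function.comp_apply]
    have hdet : ((x : Matrix (Fin 3) (Fin 3) F).map τ).det ≠ 0 := by
      have := RingHom.map_det (τ : F →+* F) (x : Matrix (Fin 3) (Fin 3) F)
      rw [x.2, map_one] at this
      exact ne_of_eq_of_ne this.symm one_ne_zero
    let y : GL (Fin 3) F := GeneralLinearGroup.mkOfDetNeZero ((x : Matrix (Fin 3) (Fin 3) F).map τ) hdet
    have e1 : H139.Cusp.psi (n := 3) (F := F) L θ (g (dirHom (dirC d hd) τ x)) =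
        H139.Cusp.cuspMat L θ ((dirC d hd * y * (dirC d hd)⁻¹ : GL (Fin 3) F) : Matrix (Fin 3) (Fin 3) F) := rfl
    rw [e1, H53.HC.Gal.cuspMat_conj]
    exact H53.HC.Gal.cuspMat_semilinear hL hσ hθσ (x : Matrix (Fin 3) (Fin 3) F)
  obtain ⟨η, hη, h5⟩ := exists_os_const hα hΨ hone (odd_degP Nat.card_pos heven 3) ((psi_sf L θ).comp g) hfix
  have h6 := isCharacter_sub_irr hΨ hη.odd.1 h5
  have hscal : ∀ c : Fˣ, H139.Cusp.psi (n := 3) (F := F) L θ (GeneralLinearGroup.scalar (Fin 3) c) =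
      H139.Cusp.psi (n := 3) (F := F) L θ 1 := fun c => by
    have := H139.Cusp.psi_scalar θ hL c 1
    rw [mul_one] at this
    rw [this, h1 c c.ne_zero, one_mul]
  obtain ⟨θ', h9, h10⟩ := H622.Levi.exists_descend (cs := cs) (h := h) C hk (by omega) hη.odd.1 (by
    intro z hz'
    refine H622.Levi.apply_eq_of_add (Core.isIrr_isCharacter hη.odd.1) h6 ?_
    rw [Pi.sub_apply, Pi.sub_apply, add_sub_cancel, add_sub_cancel, Function.comp_apply, Function.comp_apply, map_one]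
    rw [← SpecialLinearGroup.toGL_mem_center_iff, GeneralLinearGroup.center_eq_range_scalar] at hz'
    obtain ⟨c, hc'⟩ := hz'
    change H139.Cusp.psi L θ (SpecialLinearGroup.toGL z) = _
    rw [← hc', hscal]) (by
    intro i _
    refine H622.Levi.sum_eq_zero_of_add (Core.isIrr_isCharacter hη.odd.1) h6 (H622.Levi.UU F i) ?_
    rw [← H622.Levi.sum_UU (Core.isIrr_isClassFunction hirr) (H139.Cusp.psi_isCusp L θ) i]
    refine Finset.sum_congr rfl fun g _ => ?_
    rw [Pi.sub_apply, add_sub_cancel, Function.comp_apply])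
  have hran : φ.range = MJ cs h X (Set.range k) := C.range hk (by omega)
  let G : _root_.Matrix.SpecialLinearGroup (Fin 3) F →* ↥(MJ cs h X (Set.range k)) :=
    φ.codRestrict _ fun g => hran ▸ ⟨g, rfl⟩
  have hG : Function.Surjective G := by
    rintro ⟨y, hy⟩
    rw [← hran] at hy
    obtain ⟨x, rfl⟩ := hy
    exact ⟨x, rfl⟩
  refine ⟨θ', h9, ⟨h9.irr, ?_⟩, ?_, ?_⟩
  · have e : charDegree θ' = charDegree η := by
      unfold charDegree
      rw [h10 1 1 (map_one φ).symm]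
    rw [e]
    exact hη.odd.2
  · obtain ⟨c, hc⟩ := H967.K4.exists_cube (_root_.Matrix.SpecialLinearGroup (Fin 3) F)
    refine SF.of_pow (Cube.of_surjective G hG hc) fun y => ?_
    obtain ⟨x, rfl⟩ := hG y
    rw [← map_pow, h10 (x ^ c) (G (x ^ c)) rfl, h10 x (G x) rfl]
    exact hη.sf.apply_pow hc x
  · intro y
    obtain ⟨x, rfl⟩ := hG y
    have e : rAut β hM (G x) = G (α x) := by
      apply Subtype.ext
      rw [rAut_coe]
      exact (hφ x).trans (congrArg φ (hαd x).symm)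
    rw [e, h10 (α x) (G (α x)) rfl, h10 x (G x) rfl, hη.fix]

variable {p : ℕ}

/-- the root groups of the chain are fixed -/
theorem root_tv (C : Co X k F φ) {β : MulAut Y} (h1 : ∀ x, β x ∈ X (sr (k 0)) ↔ x ∈ X (sr (k 0)))
    (h2 : ∀ x, β x ∈ X (sr (k 1)) ↔ x ∈ X (sr (k 1))) (h3 : ∀ x, β x ∈ X (-sr (k 0)) ↔ x ∈ X (-sr (k 0)))
    (h4 : ∀ x, β x ∈ X (-sr (k 1)) ↔ x ∈ X (-sr (k 1))) (a b : Fin 3) (hab : a ≠ b)
    (s : F) : ∃ t : F, β (φ (tv a b s)) = φ (tv a b t) := by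
  have e01 : cr k 0 1 = sr (k 0) := cr_succ k 0
  have e12 : cr k 1 2 = sr (k 1) := cr_succ k 1
  have e10 : cr k 1 0 = -sr (k 0) := by rw [← e01, cr_neg]
  have e21 : cr k 2 1 = -sr (k 1) := by rw [← e12, cr_neg]
  have key : ∀ (a b : Fin 3) (hab : a ≠ b), (∀ x, β x ∈ X (cr k a b) ↔ x ∈ X (cr k a b)) →
      ∀ s : F, ∃ t : F, β (φ (tv a b s)) = φ (tv a b t) := by
    intro a b hab hX s
    have h5 : φ (tv a b s) ∈ X (cr k a b) := by
      have h0 : φ (tv a b s) ∈ (X (cr k a b) : Set Y) := by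
        rw [C.root a b hab, tv_of_ne hab]
        exact ⟨s, rfl⟩
      exact h0
    have h6 : β (φ (tv a b s)) ∈ (X (cr k a b) : Set Y) := (hX _).2 h5
    rw [C.root a b hab] at h6
    obtain ⟨t, ht⟩ := h6
    exact ⟨t, ht.symm.trans (by rw [tv_of_ne hab])⟩
  have comp : ∀ {a b c : Fin 3}, a ≠ b → b ≠ c → a ≠ c → (∀ s : F, ∃ t : F, β (φ (tv a b s)) = φ (tv a b t)) →
      (∀ s : F, ∃ t : F, β (φ (tv b c s)) = φ (tv b c t)) → ∀ s : F, ∃ t : F, β (φ (tv a c s)) = φ (tv a c t) := by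
    intro a b c hab hbc hac g1 g2 s
    obtain ⟨t, ht⟩ := g1 s
    obtain ⟨u, hu⟩ := g2 1
    refine ⟨t * u, ?_⟩
    have e1 : tv a c s = ⁅tv a b s, tv b c (1 : F)⁆ := by rw [tv_comm hab hbc hac, mul_one]
    rw [e1, map_commutatorElement, map_commutatorElement, ht, hu, ← map_commutatorElement, tv_comm hab hbc hac]
  have f01 := key 0 1 (by decide) (by rw [e01]; exact h1)
  have f12 := key 1 2 (by decide) (by rw [e12]; exact h2)
  have f10 := key 1 0 (by decide) (by rw [e10]; exact h3)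
  have f21 := key 2 1 (by decide) (by rw [e21]; exact h4)
  fin_cases a <;> fin_cases b
  · exact absurd rfl hab
  · exact f01 s
  · exact comp (by decide) (by decide) (by decide) f01 f12 s
  · exact f10 s
  · exact absurd rfl hab
  · exact f12 s
  · exact comp (by decide) (by decide) (by decide) f21 f10 s
  · exact f21 s
  · exact absurd rfl hab

/-- **Lemma C.** -/
theorem ocs_pair [Finite W] [Finite Y] (R : RGD cs h 2 T n X) (hG : GG cs h T X = ⊤) {β : MulAut Y}
    {σ : Equiv.Perm I} (hN : Nrm R β σ) {i j : I} (hij : M i j = 3) (hi : σ i = i) (hj : σ j = j)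
    (hK : σ '' {i, j} = {i, j}) : OCS R hG hN hK := by
  obtain ⟨k, rfl, rfl, hr, hk⟩ := exists_chain hij
  obtain ⟨F, _, _, φ, C⟩ := exists_co R le_rfl k hk
  obtain ⟨a, ha⟩ := card_X_sr R (k 0)
  have := charP_two_of_card ((C.card 0).symm.trans ha)
  obtain ⟨m, hm⟩ := hN.pow
  have hroot := root_tv C (β := β)
    (fun x => by have := hN.diag.pos (k 0) x; rwa [hi] at this)
    (fun x => by have := hN.diag.pos (k 1) x; rwa [hj] at this)
    (fun x => by have := hN.diag.neg (k 0) x; rwa [hi] at this)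
    (fun x => by have := hN.diag.neg (k 1) x; rwa [hj] at this)
  have key : ∀ (K : Set I) (hK : σ '' K = K), Set.range k = K → OCS R hG hN hK := by
    rintro K hK rfl
    exact exists_ocs C hk hm hroot _
  exact key _ hK hr

end main

end Cfsg.Agent.H967.K547.LemmaC
end

-- part: H269/K547/PslE
section
/-!
# S4547, `PSL₂(q)`, `q` even: field automorphisms, invariant characters of odd degree

`gInv3_fld` : if the fixed field of `σ` has at least four elements then `PSL₂(F)` has three good characters which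
are invariant under the field automorphism `σ`.
-/

set_option autoImplicit false
set_option linter.unusedSectionVars false

open Matrix Cfsg

namespace Cfsg.Agent.H269.K547.PslE

open Cfsg.Agent.ClassicalGeometry.AutPSL.Root Cfsg.Agent.ClassicalGeometry.AutPSL.Auto
open Cfsg.Agent.ClassicalGeometry.AutPSL.Main
open Cfsg.Agent.H821.K547 Cfsg.Agent.H967.K4 Cfsg.Agent.H601.K4 Cfsg.Agent.H307.QE

universe u

variable {F : Type u} [Field F]

/-- the field automorphism of `PSL₂(F)` -/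
noncomputable def fa (σ : F ≃+* F) : MulAut (ProjectiveSpecialLinearGroup (Fin 2) F) := lift (fld σ)

theorem fa_pr (σ : F ≃+* F) (x : Matrix.SpecialLinearGroup (Fin 2) F) : fa σ (pr x) = pr (fld σ x) := rfl

/-! ### the unipotent subgroup -/

/-- `!![1, t; 0, 1]` -/
def un (t : F) : Matrix.SpecialLinearGroup (Fin 2) F := ⟨!![1, t; 0, 1], by rw [det_fin_two_of]; ring⟩

theorem coe_un (t : F) : (un t : Matrix (Fin 2) (Fin 2) F) = !![1, t; 0, 1] := rfl

theorem un_mul (s t : F) : un s * un t = un (s + t) := by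
  refine Matrix.SpecialLinearGroup.ext _ _ fun i j => ?_
  rw [Matrix.SpecialLinearGroup.coe_mul, coe_un, coe_un, coe_un]
  (revert i j; simp only [Matrix.mul_apply, Fin.sum_univ_two, add_comm, _root_.Fin.forall_fin_succ, _root_.Matrix.of_apply, _root_.Matrix.cons_val', _root_.Matrix.cons_val_fin_one, Fin.isValue, _root_.Matrix.cons_val_zero, _root_.Matrix.cons_val_one, _root_.mul_one, _root_.MulZeroClass.mul_zero, _root_.zero_add, _root_.Matrix.cons_val_succ, _root_.forall_const, _root_.true_and, _root_.one_mul, _root_.MulZeroClass.zero_mul, _root_.implies_true, _root_.and_self])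

theorem un_injective : Function.Injective (un : F → Matrix.SpecialLinearGroup (Fin 2) F) := by
  intro s t h
  have := congrFun (congrFun (congrArg Subtype.val h) 0) 1
  simpa [un] using this

theorem un_zero : (un 0 : Matrix.SpecialLinearGroup (Fin 2) F) = 1 := by
  refine Matrix.SpecialLinearGroup.ext _ _ fun i j => ?_
  rw [coe_un, Matrix.SpecialLinearGroup.coe_one]
  (revert i j; simp only [_root_.Fin.forall_fin_succ, _root_.Matrix.of_apply, _root_.Matrix.cons_val', _root_.Matrix.cons_val_fin_one, Fin.isValue, _root_.Matrix.cons_val_zero, _root_.Matrix.cons_val_succ, _root_.IsEmpty.forall_iff, _root_.and_true, _root_.Matrix.one_apply_eq, Nat.reduceAdd, _root_.Fin.succ_zero_eq_one, _root_.ne_eq, _root_.zero_ne_one, _root_.not_false_eq_true, _root_.Matrix.one_apply_ne, _root_.and_self, _root_.Fin.succ_ne_zero, _root_.true_and])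

/-- the unipotent subgroup -/
def unH (F : Type u) [Field F] : Multiplicative F →* Matrix.SpecialLinearGroup (Fin 2) F where
  toFun t := un t.toAdd
  map_one' := un_zero
  map_mul' _ _ := (un_mul _ _).symm

theorem unH_injective : Function.Injective (unH F) := fun _ _ h => Multiplicative.toAdd.injective (un_injective h)

section char2

variable [CharP F 2]

/-- the centre of `SL₂(F)` is trivial -/
theorem center_eq {x : Matrix.SpecialLinearGroup (Fin 2) F} (hx : x ∈ Subgroup.center (Matrix.SpecialLinearGroup (Fin 2) F)) :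
    x = 1 := by
  obtain ⟨r, hr, hx⟩ := Matrix.SpecialLinearGroup.mem_center_iff.1 hx
  rw [Fintype.card_fin] at hr
  have h1 : r = 1 := by
    have h2 : (r - 1) * (r - 1) = 0 := by
      have h3 : (2 : F) = 0 := CharTwo.two_eq_zero
      linear_combination hr - (r - 1) * h3
    exact sub_eq_zero.1 (mul_self_eq_zero.1 h2)
  apply Subtype.ext
  rw [← hx, h1]
  simp

theorem pr_injective : Function.Injective (pr : Matrix.SpecialLinearGroup (Fin 2) F →* _) := by
  rw [injective_iff_map_eq_one]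
  intro x hx
  exact center_eq ((pr_eq_one_iff x).1 hx)

/-- `SL₂(F) ≃ PSL₂(F)` -/
noncomputable def prE : Matrix.SpecialLinearGroup (Fin 2) F ≃* ProjectiveSpecialLinearGroup (Fin 2) F :=
  MulEquiv.ofBijective pr ⟨pr_injective, pr_surjective⟩

/-! ### involutions -/

theorem trace_sq (x : Matrix.SpecialLinearGroup (Fin 2) F) :
    trace ((x ^ 2 : Matrix.SpecialLinearGroup (Fin 2) F) : Matrix (Fin 2) (Fin 2) F) =
      trace (x : Matrix (Fin 2) (Fin 2) F) ^ 2 := by
  have h1 := x.det_coe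
  rw [det_fin_two] at h1
  rw [pow_two, Matrix.SpecialLinearGroup.coe_mul, trace_fin_two, trace_fin_two, Matrix.mul_apply, Matrix.mul_apply,
    Fin.sum_univ_two, Fin.sum_univ_two]
  have h3 : (2 : F) = 0 := CharTwo.two_eq_zero
  linear_combination (x 0 1 * x 1 0 - x 0 0 * x 1 1) * h3

theorem sq_of_trace {x : Matrix.SpecialLinearGroup (Fin 2) F}
    (h5 : trace (x : Matrix (Fin 2) (Fin 2) F) = 0) : x ^ 2 = 1 := by
  have h3 : (2 : F) = 0 := CharTwo.two_eq_zero
  rw [trace_fin_two] at h5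
  have h6 := x.det_coe
  rw [det_fin_two] at h6
  refine Matrix.SpecialLinearGroup.ext _ _ fun i j => ?_
  rw [pow_two, Matrix.SpecialLinearGroup.coe_mul, Matrix.SpecialLinearGroup.coe_one]
  fin_cases i <;> fin_cases j
  · simp only [Fin.zero_eta, Matrix.mul_apply, Fin.sum_univ_two, one_apply_eq]
    linear_combination x 0 0 * h5 - h6 - h3
  · simp only [Fin.zero_eta, Fin.mk_one, Matrix.mul_apply, Fin.sum_univ_two]
    rw [one_apply_ne (by decide)]
    linear_combination x 0 1 * h5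
  · simp only [Fin.zero_eta, Fin.mk_one, Matrix.mul_apply, Fin.sum_univ_two]
    rw [one_apply_ne (by decide)]
    linear_combination x 1 0 * h5
  · simp only [Fin.mk_one, Matrix.mul_apply, Fin.sum_univ_two, one_apply_eq]
    linear_combination x 1 1 * h5 - h6 - h3

theorem sq_eq_one {x : Matrix.SpecialLinearGroup (Fin 2) F} {j : ℕ} (hx : x ^ 2 ^ j = 1) : x ^ 2 = 1 := by
  have h1 : ∀ j : ℕ, trace ((x ^ 2 ^ j : Matrix.SpecialLinearGroup (Fin 2) F) : Matrix (Fin 2) (Fin 2) F) =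
      trace (x : Matrix (Fin 2) (Fin 2) F) ^ 2 ^ j := by
    intro j
    induction j with
    | zero => simp
    | succ j ih => rw [pow_succ, pow_mul, trace_sq, ih, ← pow_mul, ← pow_succ]
  have h2 := h1 j
  rw [hx, Matrix.SpecialLinearGroup.coe_one, trace_one, Fintype.card_fin] at h2
  have h3 : (2 : F) = 0 := CharTwo.two_eq_zero
  have h4 : trace (x : Matrix (Fin 2) (Fin 2) F) ^ 2 ^ j = 0 := by rw [← h2]; exact_mod_cast h3
  exact sq_of_trace ((pow_eq_zero_iff (by positivity)).1 h4)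

/-- every function is `SF` -/
theorem sf (χ : ProjectiveSpecialLinearGroup (Fin 2) F → ℂ) : SF χ := by
  intro u s _ hu _
  obtain ⟨j, hj⟩ := hu
  obtain ⟨x, rfl⟩ := pr_surjective u
  have h1 : x ^ 2 ^ j = 1 := by
    apply pr_injective
    rw [map_pow, map_one, ← hj, pow_orderOf_eq_one]
  have h2 := sq_eq_one h1
  have h3 : (pr x) ^ 3 = pr x := by
    rw [← map_pow, pow_succ, h2, one_mul]
  rw [h3]

theorem mul_self_mult (s : Multiplicative F) : s * s = 1 := CharTwo.add_self_eq_zero s.toAdd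

theorem unH_sq (s : Multiplicative F) : unH F s ^ 2 = 1 := by
  rw [← map_pow, pow_two, mul_self_mult, map_one]

theorem sq_of_commute {g : Matrix.SpecialLinearGroup (Fin 2) F} (h : un (1 : F) * g = g * un 1) : g ^ 2 = 1 := by
  have h0 : (un (1 : F) : Matrix (Fin 2) (Fin 2) F) * g = g * (un (1 : F) : Matrix (Fin 2) (Fin 2) F) := by
    rw [← Matrix.SpecialLinearGroup.coe_mul, h, Matrix.SpecialLinearGroup.coe_mul]
  have h2 := congrFun (congrFun h0 0) 1
  rw [coe_un] at h2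
  simp only [Matrix.mul_apply, Fin.sum_univ_two, _root_.Fin.isValue, _root_.Matrix.of_apply, _root_.Matrix.cons_val', _root_.Matrix.cons_val_fin_one, _root_.Matrix.cons_val_zero, _root_.one_mul, _root_.Matrix.cons_val_one, _root_.mul_one] at h2
  apply sq_of_trace
  rw [trace_fin_two]
  have h3 : (2 : F) = 0 := CharTwo.two_eq_zero
  linear_combination h2 + g 0 0 * h3

theorem twoC [Finite F] : H601.OddDeg.TwoC (ProjectiveSpecialLinearGroup (Fin 2) F) := by
  refine H601.OddDeg.TwoC.of_cover pr pr_surjective (by rw [QuotientGroup.ker_mk']) (unH F).range ?_ ?_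
  · rintro ⟨_, t, rfl⟩
    exact ⟨1, Subtype.ext (unH_sq t)⟩
  · intro g hg
    refine ⟨1, ?_⟩
    rw [pow_one, sq_of_commute (hg (un 1) ⟨Multiplicative.ofAdd 1, rfl⟩)]
    exact one_mem _

/-! ### invariant classes -/

/-- the companion matrix of trace `a` -/
def cm (a : F) : Matrix.SpecialLinearGroup (Fin 2) F := ⟨!![0, -1; 1, a], by rw [det_fin_two_of]; ring⟩

omit [CharP F 2] in
theorem coe_cm (a : F) : (cm a : Matrix (Fin 2) (Fin 2) F) = !![0, -1; 1, a] := rfl

omit [CharP F 2] in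
theorem trace_cm (a : F) : trace (cm a : Matrix (Fin 2) (Fin 2) F) = a := by
  rw [trace_fin_two, coe_cm]
  simp

omit [CharP F 2] in
theorem fld_cm {σ : F ≃+* F} {a : F} (ha : σ a = a) : fld σ (cm a) = cm a := by
  refine Matrix.SpecialLinearGroup.ext _ _ fun i j => ?_
  rw [coe_fld_apply, coe_cm]
  (revert i j; simp only [ha, _root_.Fin.forall_fin_succ, _root_.Matrix.of_apply, _root_.Matrix.cons_val', _root_.Matrix.cons_val_fin_one, Fin.isValue, _root_.Matrix.cons_val_zero, _root_.Matrix.cons_val_succ, _root_.forall_const, _root_.map_zero, _root_.RingEquiv.map_neg_one, _root_.and_self, _root_.map_one, _root_.implies_true])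

theorem eq_of_conj {a b : F} (h : IsConj (pr (cm a)) (pr (cm b))) : a = b := by
  obtain ⟨c, hc⟩ := isConj_iff.1 h
  obtain ⟨g, rfl⟩ := pr_surjective c
  rw [← map_inv, ← map_mul, ← map_mul] at hc
  have h1 : g * cm a * g⁻¹ = cm b := pr_injective hc
  have h2 : trace ((g * cm a * g⁻¹ : Matrix.SpecialLinearGroup (Fin 2) F) : Matrix (Fin 2) (Fin 2) F) = b := by
    rw [h1, trace_cm]
  rw [Matrix.SpecialLinearGroup.coe_mul, trace_mul_comm, ← Matrix.SpecialLinearGroup.coe_mul, ← mul_assoc,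
    inv_mul_cancel, one_mul, trace_cm] at h2
  exact h2

theorem card_fixed_le [Finite F] (σ : F ≃+* F) : Nat.card {a : F // σ a = a} ≤
    Nat.card {C : ConjClasses (ProjectiveSpecialLinearGroup (Fin 2) F) // ConjClasses.map (fa σ).toMonoidHom C = C} := by
  have : Finite (ConjClasses (ProjectiveSpecialLinearGroup (Fin 2) F)) := inferInstance
  refine Nat.card_le_card_of_injective
    (fun a : {a : F // σ a = a} => (⟨ConjClasses.mk (pr (cm a.1)), ?_⟩ :
      {C : ConjClasses (ProjectiveSpecialLinearGroup (Fin 2) F) // ConjClasses.map (fa σ).toMonoidHom C = C})) ?_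
  · change ConjClasses.mk (fa σ (pr (cm a.1))) = _
    rw [fa_pr, fld_cm a.2]
  · intro a b hab
    have h1 : ConjClasses.mk (pr (cm a.1)) = ConjClasses.mk (pr (cm b.1)) := congrArg Subtype.val hab
    exact Subtype.ext (eq_of_conj (ConjClasses.mk_eq_mk_iff_isConj.1 h1))

/-! ### characters -/

section chars

variable [Fintype F]

theorem even_unique (hq : 4 ≤ Fintype.card F) {χ ψ : IrrCharacter (ProjectiveSpecialLinearGroup (Fin 2) F)}
    (hχ : 2 ∣ charDegree (χ : ProjectiveSpecialLinearGroup (Fin 2) F → ℂ))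
    (hψ : 2 ∣ charDegree (ψ : ProjectiveSpecialLinearGroup (Fin 2) F → ℂ)) : χ = ψ := by
  obtain ⟨h1, h2⟩ := S2300.result (F := F)
  obtain ⟨-, h3, -, -⟩ := h2 hq
  have heven : 2 ∣ Fintype.card F := by
    have h5 := FiniteField.even_card_iff_char_two (F := F)
    have h6 := h5.1 (ringChar.eq F 2)
    omega
  have key : ∀ χ : IrrCharacter (ProjectiveSpecialLinearGroup (Fin 2) F),
      2 ∣ charDegree (χ : ProjectiveSpecialLinearGroup (Fin 2) F → ℂ) →
      (Cfsg.Agent.H684.BlockTools.infl pr pr_surjective χ : Matrix.SpecialLinearGroup (Fin 2) F → ℂ) 1 =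
        (Fintype.card F : ℂ) := by
    intro χ h2
    have h4 : (Cfsg.Agent.H684.BlockTools.infl pr pr_surjective χ : Matrix.SpecialLinearGroup (Fin 2) F → ℂ) 1 =
        (charDegree (χ : ProjectiveSpecialLinearGroup (Fin 2) F → ℂ) : ℂ) := by
      change (χ : ProjectiveSpecialLinearGroup (Fin 2) F → ℂ) (pr 1) = _
      rw [map_one, Cfsg.Agent.Blocks.Basic.irr_one_eq_charDegree χ.2]
    rcases h1 _ (Cfsg.Agent.H684.BlockTools.infl pr pr_surjective χ).2 with h | h | h | h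
    · exfalso
      rw [h4] at h
      have h5 : charDegree (χ : ProjectiveSpecialLinearGroup (Fin 2) F → ℂ) = 1 := by exact_mod_cast h
      omega
    · exfalso
      rw [h4] at h
      have h5 : charDegree (χ : ProjectiveSpecialLinearGroup (Fin 2) F → ℂ) + 1 = Fintype.card F := by
        have : (charDegree (χ : ProjectiveSpecialLinearGroup (Fin 2) F → ℂ) : ℂ) + 1 = (Fintype.card F : ℂ) := by
          rw [h]; ring
        exact_mod_cast this
      omega
    · exact h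
    · exfalso
      rw [h4] at h
      have h5 : charDegree (χ : ProjectiveSpecialLinearGroup (Fin 2) F → ℂ) = Fintype.card F + 1 := by
        exact_mod_cast h
      omega
  have hs := (Nat.card_eq_one_iff_unique.1 h3).1
  have h4 := congrArg Subtype.val (hs.elim ⟨_, key χ hχ⟩ ⟨_, key ψ hψ⟩)
  exact Cfsg.Agent.H684.BlockTools.infl_injective pr pr_surjective h4

/-- **three invariant good characters** -/
theorem gInv3_fld {σ : F ≃+* F} (hr : 4 ≤ Nat.card {a : F // σ a = a}) : GInv3 (fa σ) := by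
  have hq : 4 ≤ Fintype.card F := by
    rw [← Nat.card_eq_fintype_card]
    exact hr.trans (Nat.card_le_card_of_injective _ Subtype.val_injective)
  have : Finite (IrrCharacter (ProjectiveSpecialLinearGroup (Fin 2) F)) := Characters.Core.finite_irr
  let X := {χ : IrrCharacter (ProjectiveSpecialLinearGroup (Fin 2) F) //
    (χ : ProjectiveSpecialLinearGroup (Fin 2) F → ℂ) ∘ (fa σ) = (χ : ProjectiveSpecialLinearGroup (Fin 2) F → ℂ)}
  have hX : 4 ≤ Nat.card X := by
    have := S0173.result (fa σ)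
    have h2 := card_fixed_le σ
    rw [this] at h2
    exact hr.trans h2
  let P : X → Prop := fun χ => ¬ 2 ∣ charDegree (χ.1 : ProjectiveSpecialLinearGroup (Fin 2) F → ℂ)
  classical
  have h1 : Nat.card {x : X // P x} + Nat.card {x : X // ¬ P x} = Nat.card X := by
    rw [← Nat.card_sum]
    exact Nat.card_congr (Equiv.sumCompl P)
  have h2 : Nat.card {x : X // ¬ P x} ≤ 1 := by
    have : Subsingleton {x : X // ¬ P x} :=
      ⟨fun a b => Subtype.ext (Subtype.ext (even_unique hq (not_not.1 a.2) (not_not.1 b.2)))⟩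
    exact Finite.card_le_one_iff_subsingleton.2 this
  have h3 : 3 ≤ Nat.card {x : X // P x} := by omega
  have : Fintype {x : X // P x} := Fintype.ofFinite _
  rw [Nat.card_eq_fintype_card] at h3
  obtain ⟨f⟩ := Function.Embedding.nonempty_of_card_le (α := Fin 3) (β := {x : X // P x}) (by
    rw [Fintype.card_fin]; exact h3)
  refine ⟨fun i => ((f i).1.1 : ProjectiveSpecialLinearGroup (Fin 2) F → ℂ), ?_, ?_⟩
  · intro i j hij
    exact f.injective (Subtype.ext (Subtype.ext (Subtype.ext hij)))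
  · intro i
    have ho : OddIrr ((f i).1.1 : ProjectiveSpecialLinearGroup (Fin 2) F → ℂ) := ⟨(f i).1.1.2, (f i).2⟩
    refine ⟨(sf _).good ho twoC, fun x => ?_⟩
    exact congrFun (f i).1.2 x

end chars

end char2

end Cfsg.Agent.H269.K547.PslE
end

-- part: H269/K547/PslEN
section
/-!
# S4547, `PSL₂(q)`, `q` even: normal form of the outer 2-automorphisms

`exists_normal` : `τ = conj g * fa σ` with `σ ^ 2 ^ k = 1`, `σ ≠ 1`; the invariant quotient of a Sylow 2-subgroup.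
-/

set_option autoImplicit false
set_option linter.unusedSectionVars false

open Matrix Cfsg

namespace Cfsg.Agent.H269.K547.PslE

open Cfsg.Agent.ClassicalGeometry.AutPSL.Root Cfsg.Agent.ClassicalGeometry.AutPSL.Auto
open Cfsg.Agent.ClassicalGeometry.AutPSL.Main
open Cfsg.Agent.H821.K547 Cfsg.Agent.H967.K4 Cfsg.Agent.H601.K4 Cfsg.Agent.H307.QE

universe u

variable {F : Type u} [Field F]

/-- `fa` is a homomorphism -/
theorem fa_pow (σ : F ≃+* F) (n : ℕ) : fa σ ^ n = fa (σ ^ n) := by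
  unfold fa
  rw [← map_pow, ← map_pow]

theorem fa_one : fa (1 : F ≃+* F) = 1 := by
  unfold fa
  rw [map_one, map_one]

/-- conjugation with an element of `SL₂(F)` -/
theorem conj_pr (s : Matrix.SpecialLinearGroup (Fin 2) F) :
    MulAut.conj (pr s) = lift (cj (s : GL (Fin 2) F)) := by
  ext x
  obtain ⟨x, rfl⟩ := pr_surjective x
  rw [lift_pr, MulAut.conj_apply, ← map_inv, ← map_mul, ← map_mul]
  congr 1

theorem pow_eq_one_of_inner {σ : F ≃+* F} {s : ProjectiveSpecialLinearGroup (Fin 2) F}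
    (h : fa σ = MulAut.conj s) : σ = 1 := by
  obtain ⟨s, rfl⟩ := pr_surjective s
  rw [conj_pr] at h
  have h1 : lift (cj (s : GL (Fin 2) F) * fld 1) = lift (fld σ) := by
    rw [map_one, mul_one]
    exact h.symm
  exact (injective_aux h1).2.symm

section char2

variable [CharP F 2] [Finite F]

/-- in characteristic 2 every element of `GL₂(F)` acts as an element of `SL₂(F)` -/
theorem exists_inner (A : GL (Fin 2) F) : ∃ g : ProjectiveSpecialLinearGroup (Fin 2) F, lift (cj A) = MulAut.conj g := by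
  obtain ⟨c, hc⟩ := FiniteField.isSquare_of_char_two (F := F) (ringChar.eq F 2) (det (A : Matrix (Fin 2) (Fin 2) F))
  have hd : det (A : Matrix (Fin 2) (Fin 2) F) ≠ 0 := (Matrix.isUnits_det_units A).ne_zero
  have hc0 : c ≠ 0 := by
    rintro rfl
    rw [mul_zero] at hc
    exact hd hc
  let B : Matrix.SpecialLinearGroup (Fin 2) F := ⟨c⁻¹ • (A : Matrix (Fin 2) (Fin 2) F), by
    rw [det_smul, Fintype.card_fin, hc]
    field_simp⟩
  refine ⟨pr B, ?_⟩
  ext x
  obtain ⟨x, rfl⟩ := pr_surjective x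
  rw [lift_pr, MulAut.conj_apply, ← map_inv, ← map_mul, ← map_mul]
  congr 1
  rw [eq_mul_inv_iff_mul_eq]
  apply Subtype.ext
  change (A : Matrix (Fin 2) (Fin 2) F) * x * ((A⁻¹ : GL (Fin 2) F) : Matrix (Fin 2) (Fin 2) F) *
    (c⁻¹ • (A : Matrix (Fin 2) (Fin 2) F)) = (c⁻¹ • (A : Matrix (Fin 2) (Fin 2) F)) * x
  rw [Matrix.mul_smul, Matrix.mul_assoc, ← Units.val_mul, inv_mul_cancel, Units.val_one, Matrix.mul_one,
    Matrix.smul_mul]

/-- **Normal form.** -/
theorem exists_fa (τ : MulAut (ProjectiveSpecialLinearGroup (Fin 2) F)) :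
    ∃ (g : ProjectiveSpecialLinearGroup (Fin 2) F) (σ : F ≃+* F), τ = MulAut.conj g * fa σ := by
  have : Fact (Nat.Prime 2) := ⟨Nat.prime_two⟩
  have := Fintype.ofFinite F
  obtain ⟨A, σ, rfl⟩ := surj_two 2 τ
  obtain ⟨g, hg⟩ := exists_inner A
  exact ⟨g, σ, by rw [map_mul, hg]; rfl⟩

theorem exists_normal {τ : MulAut (ProjectiveSpecialLinearGroup (Fin 2) F)} (hτ : TwoPow τ) (hi : ¬ IsInn τ) :
    ∃ (g : ProjectiveSpecialLinearGroup (Fin 2) F) (σ : F ≃+* F) (k : ℕ), τ = MulAut.conj g * fa σ ∧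
      σ ^ 2 ^ k = 1 ∧ σ ≠ 1 := by
  obtain ⟨g, σ, rfl⟩ := exists_fa τ
  have h1 : TwoPow (fa σ) := by
    have := TwoPow.conj_mul hτ g⁻¹
    rwa [← mul_assoc, ← map_mul, inv_mul_cancel, map_one, one_mul] at this
  obtain ⟨k, s, hs⟩ := h1
  refine ⟨g, σ, k, rfl, ?_, ?_⟩
  · apply pow_eq_one_of_inner (s := s)
    rw [← fa_pow]
    ext x
    rw [hs x, MulAut.conj_apply]
  · rintro rfl
    apply hi
    refine ⟨g, fun x => ?_⟩
    rw [fa_one, mul_one, MulAut.conj_apply]

end char2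

/-! ### the group `AutExt` -/

theorem autExt_conj {S : Type u} [Group S] (g : S) (τ : MulAut S) : AutExt (MulAut.conj g * τ) = AutExt τ := by
  have hg : ∀ g : S, MulAut.conj g ∈ (MulAut.conj : S →* MulAut S).range := fun g => ⟨g, rfl⟩
  apply le_antisymm
  · refine sup_le le_sup_left ?_
    rw [Subgroup.zpowers_le]
    exact mul_mem (Subgroup.mem_sup_left (hg g)) (Subgroup.mem_sup_right (Subgroup.mem_zpowers τ))
  · refine sup_le le_sup_left ?_
    rw [Subgroup.zpowers_le]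
    have h1 : τ = MulAut.conj g⁻¹ * (MulAut.conj g * τ) := by
      rw [← mul_assoc, ← map_mul, inv_mul_cancel, map_one, one_mul]
    have h2 : MulAut.conj g⁻¹ * (MulAut.conj g * τ) ∈ AutExt (MulAut.conj g * τ) :=
      mul_mem (Subgroup.mem_sup_left (hg _)) (Subgroup.mem_sup_right (Subgroup.mem_zpowers _))
    rwa [← h1] at h2

/-! ### the Sylow 2-subgroup and its invariant quotient -/

section sylow

variable [CharP F 2] [Finite F]

/-- the unipotent group of `PSL₂(F)` -/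
noncomputable def U (F : Type u) [Field F] : Subgroup (ProjectiveSpecialLinearGroup (Fin 2) F) := ((pr).comp (unH F)).range

theorem prun_injective : Function.Injective ((pr).comp (unH F)) := pr_injective.comp unH_injective

/-- `F ≃ U` -/
noncomputable def uE : Multiplicative F ≃* U F := MonoidHom.ofInjective prun_injective

theorem coe_uE (t : Multiplicative F) : ((uE t : U F) : ProjectiveSpecialLinearGroup (Fin 2) F) = pr (un t.toAdd) := rfl

theorem fld_un (σ : F ≃+* F) (t : F) : fld σ (un t) = un (σ t) := by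
  refine Matrix.SpecialLinearGroup.ext _ _ fun i j => ?_
  rw [coe_fld_apply, coe_un, coe_un]
  (revert i j; simp only [_root_.Fin.forall_fin_succ, _root_.Matrix.of_apply, _root_.Matrix.cons_val', _root_.Matrix.cons_val_fin_one, Fin.isValue, _root_.Matrix.cons_val_zero, _root_.Matrix.cons_val_succ, _root_.forall_const, _root_.map_one, _root_.and_self, _root_.map_zero, _root_.implies_true])

theorem fa_uE (σ : F ≃+* F) (t : F) : fa σ ((uE (Multiplicative.ofAdd t) : U F) : ProjectiveSpecialLinearGroup (Fin 2) F) =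
    ((uE (Multiplicative.ofAdd (σ t)) : U F) : ProjectiveSpecialLinearGroup (Fin 2) F) := by
  rw [coe_uE, coe_uE, fa_pr, fld_un]
  rfl

/-- `U` is a Sylow 2-subgroup -/
theorem exists_sylow : ∃ Q : Sylow 2 (ProjectiveSpecialLinearGroup (Fin 2) F), (Q : Subgroup _) = U F := by
  have : Fact (Nat.Prime 2) := ⟨Nat.prime_two⟩
  have := Fintype.ofFinite F
  have h1 : Nat.card (ProjectiveSpecialLinearGroup (Fin 2) F) = Fintype.card F * (Fintype.card F ^ 2 - 1) := by
    rw [← Nat.card_congr (prE (F := F)).toEquiv, Cfsg.Agent.ClassicalGeometry.PSL2Basic.card_SL2]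
  have h2 : Nat.card (U F) = Fintype.card F := by
    rw [← Nat.card_congr (uE (F := F)).toEquiv, ← Nat.card_eq_fintype_card]
    rfl
  have h3 : (U F).index = Fintype.card F ^ 2 - 1 := by
    have h4 := (U F).card_mul_index
    rw [h1, h2] at h4
    exact Nat.eq_of_mul_eq_mul_left Fintype.card_pos h4
  have heven : 2 ∣ Fintype.card F := by
    have h5 := FiniteField.even_card_iff_char_two (F := F)
    have h6 := h5.1 (ringChar.eq F 2)
    omega
  have h4 : ¬ 2 ∣ (U F).index := by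
    rw [h3]
    have h5 : 2 ∣ Fintype.card F ^ 2 := Dvd.dvd.pow heven two_ne_zero
    have h6 : 0 < Fintype.card F ^ 2 := pow_pos Fintype.card_pos 2
    omega
  have h5 : IsPGroup 2 (U F) := by
    rintro ⟨_, t, rfl⟩
    refine ⟨1, Subtype.ext ?_⟩
    change (pr (unH F t)) ^ 2 = 1
    rw [← map_pow, unH_sq, map_one]
  exact ⟨h5.toSylow h4, rfl⟩

/-- the `σ`-coinvariants of `F` map onto `C_2^2` -/
theorem exists_quot {σ : F ≃+* F} (hr : 4 ≤ Nat.card {a : F // σ a = a}) :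
    ∃ f : Multiplicative F →* Multiplicative (Fin 2 → ZMod 2), Function.Surjective f ∧
      ∀ t : F, f (Multiplicative.ofAdd (σ t)) = f (Multiplicative.ofAdd t) := by
  let d : F →+ F := (σ : F →+* F).toAddMonoidHom - AddMonoidHom.id F
  have hd : ∀ t, d t = σ t - t := fun _ => rfl
  have hker : Nat.card d.ker = Nat.card {a : F // σ a = a} := by
    refine Nat.card_congr (Equiv.subtypeEquivRight fun a => ?_)
    rw [AddMonoidHom.mem_ker, hd, sub_eq_zero]
  have hcard : Nat.card (F ⧸ d.range) = Nat.card d.ker := by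
    have h1 : Nat.card F = Nat.card (F ⧸ d.range) * Nat.card d.range := AddSubgroup.card_eq_card_quotient_mul_card_addSubgroup _
    have h2 : Nat.card F = Nat.card (F ⧸ d.ker) * Nat.card d.ker := AddSubgroup.card_eq_card_quotient_mul_card_addSubgroup _
    have h3 : Nat.card (F ⧸ d.ker) = Nat.card d.range := Nat.card_congr (QuotientAddGroup.quotientKerEquivRange d).toEquiv
    rw [h3, mul_comm] at h2
    have h4 : 0 < Nat.card d.range := Nat.card_pos
    exact Nat.eq_of_mul_eq_mul_right h4 (h1.symm.trans h2)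
  have hexp : ∀ x : Multiplicative (F ⧸ d.range), x ^ 2 = 1 := by
    intro x
    obtain ⟨t, ht⟩ := QuotientAddGroup.mk_surjective x.toAdd
    have h1 : (2 : ℕ) • x.toAdd = 0 := by
      rw [← ht, ← QuotientAddGroup.mk_nsmul, two_nsmul, CharTwo.add_self_eq_zero]
      rfl
    exact h1
  obtain ⟨g, hg⟩ := rk_of_exp (A := Multiplicative (F ⧸ d.range)) hexp (n := 2) (by
    have h1 : Nat.card (Multiplicative (F ⧸ d.range)) = Nat.card (F ⧸ d.range) := rfl
    rw [h1, hcard, hker]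
    exact hr)
  refine ⟨g.comp (AddMonoidHom.toMultiplicative (QuotientAddGroup.mk' d.range)), ?_, ?_⟩
  · exact hg.comp (QuotientAddGroup.mk'_surjective d.range)
  · intro t
    change g (Multiplicative.ofAdd (QuotientAddGroup.mk (σ t))) = g (Multiplicative.ofAdd (QuotientAddGroup.mk t))
    congr 2
    rw [QuotientAddGroup.eq]
    refine ⟨-t, ?_⟩
    rw [hd, map_neg]
    ring

end sylow

end Cfsg.Agent.H269.K547.PslE
end

-- part: H269/K547/PslEX
section
/-!
# S4547, `PSL₂(q)`, `q` even: the extension rows (task QE5e)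

* `d3_fa` : `D3 (AutExt (fa σ))` if the fixed field of `σ ≠ 1` has at least four elements;
* `extRow_fa` : `ExtRow (fa σ)` in this case;
* `extRow` : `ExtRow τ` for every outer 2-automorphism, given the rows of the field automorphisms with fixed field `F₂`.
-/

set_option autoImplicit false
set_option linter.unusedSectionVars false

open Matrix Cfsg

namespace Cfsg.Agent.H269.K547.PslE

open Cfsg.Agent.ClassicalGeometry.AutPSL.Root Cfsg.Agent.ClassicalGeometry.AutPSL.Auto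
open Cfsg.Agent.ClassicalGeometry.AutPSL.Main
open Cfsg.Agent.H821.K547 Cfsg.Agent.H967.K4 Cfsg.Agent.H601.K4 Cfsg.Agent.H307.QE

universe u

variable {F : Type u} [Field F]

theorem fa_zpow (σ : F ≃+* F) (n : ℤ) : fa σ ^ n = fa (σ ^ n) := by
  unfold fa
  rw [← map_zpow, ← map_zpow]

theorem twoPow_fa {σ : F ≃+* F} {k : ℕ} (hk : σ ^ 2 ^ k = 1) : TwoPow (fa σ) := by
  refine ⟨k, 1, fun x => ?_⟩
  rw [fa_pow, hk, fa_one]
  simp only [_root_.MulAut.one_apply, _root_.one_mul, _root_.inv_one, _root_.mul_one]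

theorem not_inn_fa {σ : F ≃+* F} (hσ : σ ≠ 1) : ¬ IsInn (fa σ) := by
  rintro ⟨s, hs⟩
  apply hσ
  apply pow_eq_one_of_inner (s := s)
  ext x
  rw [hs x, MulAut.conj_apply]

section

variable [CharP F 2] [Finite F]

theorem eq_one_of_conj {s : ProjectiveSpecialLinearGroup (Fin 2) F} (h : MulAut.conj s = 1) : s = 1 := by
  obtain ⟨x, rfl⟩ := pr_surjective s
  rw [pr_eq_one_iff, Subgroup.mem_center_iff]
  intro g
  apply pr_injective
  have h1 := DFunLike.congr_fun h (pr g)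
  rw [MulAut.conj_apply, MulAut.one_apply, mul_inv_eq_iff_eq_mul] at h1
  rw [map_mul, map_mul]
  exact h1.symm

theorem inner_pow {σ : F ≃+* F} {n : ℤ} {s : ProjectiveSpecialLinearGroup (Fin 2) F} (h : fa σ ^ n = MulAut.conj s) :
    s = 1 := by
  rw [fa_zpow] at h
  have h1 := pow_eq_one_of_inner h
  rw [h1, fa_one] at h
  exact eq_one_of_conj h.symm

theorem fa_mem_U (σ : F ≃+* F) (x : ProjectiveSpecialLinearGroup (Fin 2) F) (hx : x ∈ U F) : fa σ x ∈ U F := by
  obtain ⟨t, rfl⟩ := hx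
  refine ⟨Multiplicative.ofAdd (σ t.toAdd), ?_⟩
  exact (fa_uE σ t.toAdd).symm

/-- **`D3` of the extension** -/
theorem d3_fa {σ : F ≃+* F} {k : ℕ} (hk : σ ^ 2 ^ k = 1) (hσ : σ ≠ 1) (hr : 4 ≤ Nat.card {a : F // σ a = a}) :
    D3 (AutExt (fa σ)) := by
  obtain ⟨Q, hQ⟩ := exists_sylow (F := F)
  obtain ⟨f, hf, hfσ⟩ := exists_quot hr
  have hM : ¬ 2 ∣ (U F).index := by
    have : Fact (Nat.Prime 2) := ⟨Nat.prime_two⟩
    rw [← hQ]
    exact Q.not_dvd_index
  refine H581.K547.Direct.d3_autExt (A := Multiplicative (Fin 2 → ZMod 2)) (M := U F)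
    (f := f.comp (uE (F := F)).symm.toMonoidHom) ?_ ?_ hM (hf.comp (uE (F := F)).symm.surjective)
    (fun x hx => fa_mem_U σ x hx) ?_ ?_ (twoPow_fa hk) (not_inn_fa hσ)
  · intro a
    have h1 : a.toAdd + a.toAdd = 0 := by
      funext i
      exact CharTwo.add_self_eq_zero _
    rw [pow_two]
    exact h1
  · have h1 : Nat.card (Multiplicative (Fin 2 → ZMod 2)) = Nat.card (Fin 2 → ZMod 2) := rfl
    rw [h1, Nat.card_fun]
    simp
  · intro x hx
    obtain ⟨t, ht⟩ := (uE (F := F)).surjective ⟨x, hx⟩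
    have h1 : x = ((uE t : U F) : ProjectiveSpecialLinearGroup (Fin 2) F) := by rw [ht]
    have h2 : (⟨fa σ x, fa_mem_U σ x hx⟩ : U F) = uE (Multiplicative.ofAdd (σ t.toAdd)) := by
      apply Subtype.ext
      rw [← fa_uE]
      exact congrArg (fa σ) h1
    rw [h2, ← ht]
    change f ((uE (F := F)).symm (uE _)) = f ((uE (F := F)).symm (uE t))
    rw [MulEquiv.symm_apply_apply, MulEquiv.symm_apply_apply]
    exact hfσ t.toAdd
  · intro n s hs
    have h1 := inner_pow hs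
    subst h1
    exact ⟨one_mem _, map_one _⟩

end

section

variable [CharP F 2] [Fintype F]

theorem extRow_fa {σ : F ≃+* F} {k : ℕ} (hk : σ ^ 2 ^ k = 1) (hσ : σ ≠ 1) (hr : 4 ≤ Nat.card {a : F // σ a = a}) :
    ExtRow (ProjectiveSpecialLinearGroup (Fin 2) F) (fa σ) :=
  ⟨fun _ => d3_fa hk hσ hr, fun _ => gInv3_fld hr⟩

omit [CharP F 2] [Fintype F] in
theorem extRow_conj {S : Type u} [Group S] {g : S} {τ : MulAut S} (h : ExtRow S τ) : ExtRow S (MulAut.conj g * τ) := by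
  unfold ExtRow
  rw [autExt_conj]
  refine Iff.trans ⟨gInv3_conj g, fun h => ?_⟩ h
  apply gInv3_conj g⁻¹
  rwa [← mul_assoc, ← map_mul, inv_mul_cancel, map_one, one_mul]

/-- **The extension rows of `PSL₂(q)`, `q` even**, given the rows of the field automorphisms with fixed field `F₂`. -/
theorem extRow (hspec : ∀ (σ : F ≃+* F) (k : ℕ), σ ^ 2 ^ k = 1 → σ ≠ 1 → Nat.card {a : F // σ a = a} < 4 →
      ExtRow (ProjectiveSpecialLinearGroup (Fin 2) F) (fa σ))
    {τ : MulAut (ProjectiveSpecialLinearGroup (Fin 2) F)} (hτ : TwoPow τ) (hi : ¬ IsInn τ) :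
    ExtRow (ProjectiveSpecialLinearGroup (Fin 2) F) τ := by
  obtain ⟨g, σ, k, rfl, hk, hσ⟩ := exists_normal hτ hi
  apply extRow_conj
  by_cases hr : 4 ≤ Nat.card {a : F // σ a = a}
  · exact extRow_fa hk hσ hr
  · exact hspec σ k hk hσ (by omega)

end

end Cfsg.Agent.H269.K547.PslE
end

-- part: H269/K547/PslES
section
/-!
# S4547, `PSL₂(q)`, `q` even: the special rows (field automorphisms with fixed field `F₂`)

* `not_gInv3` : there are only two invariant characters of odd degree;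
* `not_d3` : the Sylow 2-subgroups of the extension are generated by two elements;
* `extAll` : `ExtRow τ` for all outer 2-automorphisms of `PSL₂(F)`, `F` of characteristic 2, `|F| ≥ 4`.
-/

set_option autoImplicit false
set_option linter.unusedSectionVars false

open Matrix Cfsg

namespace Cfsg.Agent.H269.K547.PslE

open Cfsg.Agent.ClassicalGeometry.AutPSL.Root Cfsg.Agent.ClassicalGeometry.AutPSL.Auto
open Cfsg.Agent.ClassicalGeometry.AutPSL.Main
open Cfsg.Agent.H821.K547 Cfsg.Agent.H967.K4 Cfsg.Agent.H601.K4 Cfsg.Agent.H307.QE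

universe u

variable {F : Type u} [Field F]

theorem fld_cm' (σ : F ≃+* F) (a : F) : fld σ (cm a) = cm (σ a) := by
  refine Matrix.SpecialLinearGroup.ext _ _ fun i j => ?_
  rw [coe_fld_apply, coe_cm, coe_cm]
  (revert i j; simp only [_root_.Fin.forall_fin_succ, _root_.Matrix.of_apply, _root_.Matrix.cons_val', _root_.Matrix.cons_val_fin_one, Fin.isValue, _root_.Matrix.cons_val_zero, _root_.Matrix.cons_val_succ, _root_.forall_const, _root_.map_zero, _root_.RingEquiv.map_neg_one, _root_.and_self, _root_.map_one, _root_.implies_true])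

section classes

variable [CharP F 2] [Finite F]

/-- a cyclic vector -/
theorem exists_cyclic {x : Matrix.SpecialLinearGroup (Fin 2) F} (hx : x ≠ 1) :
    ∃ v w : F, v * (x 1 0 * v + x 1 1 * w) - w * (x 0 0 * v + x 0 1 * w) ≠ 0 := by
  by_contra hno
  push Not at hno
  have h1 := hno 1 0
  have h2 := hno 0 1
  have h3 := hno 1 1
  have h4 := x.det_coe
  rw [det_fin_two] at h4
  have e1 : x 1 0 = 0 := by linear_combination h1
  have e2 : x 0 1 = 0 := by linear_combination -h2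
  have e3 : x 1 1 = x 0 0 := by linear_combination h3 - h1 - h2
  have h5 : (2 : F) = 0 := CharTwo.two_eq_zero
  have e4 : x 0 0 = 1 := by
    have h6 : (x 0 0 - 1) * (x 0 0 - 1) = 0 := by
      rw [e1, e3] at h4
      linear_combination h4 - (x 0 0 - 1) * h5
    exact sub_eq_zero.1 (mul_self_eq_zero.1 h6)
  apply hx
  refine Matrix.SpecialLinearGroup.ext _ _ fun i j => ?_
  rw [Matrix.SpecialLinearGroup.coe_one]
  fin_cases i <;> fin_cases j
  · simpa using e4
  · simpa using e2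
  · simpa using e1
  · simpa [e3] using e4

/-- every nontrivial element is conjugate to the companion matrix -/
theorem isConj_cm {x : Matrix.SpecialLinearGroup (Fin 2) F} (hx : x ≠ 1) :
    IsConj (pr (cm (trace (x : Matrix (Fin 2) (Fin 2) F)))) (pr x) := by
  obtain ⟨v, w, hd⟩ := exists_cyclic hx
  let A : GL (Fin 2) F := Matrix.GeneralLinearGroup.mkOfDetNeZero
    !![v, x 0 0 * v + x 0 1 * w; w, x 1 0 * v + x 1 1 * w] (by
      rw [det_fin_two_of]
      intro h
      apply hd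
      linear_combination h)
  have hA : (A : Matrix (Fin 2) (Fin 2) F) = !![v, x 0 0 * v + x 0 1 * w; w, x 1 0 * v + x 1 1 * w] := rfl
  obtain ⟨g, hg⟩ := exists_inner A
  have h4 := x.det_coe
  rw [det_fin_two] at h4
  have h1 : cj A (cm (trace (x : Matrix (Fin 2) (Fin 2) F))) = x := by
    apply Subtype.ext
    change (A : Matrix (Fin 2) (Fin 2) F) * (cm (trace (x : Matrix (Fin 2) (Fin 2) F)) : Matrix (Fin 2) (Fin 2) F) *
      ((A⁻¹ : GL (Fin 2) F) : Matrix (Fin 2) (Fin 2) F) = (x : Matrix (Fin 2) (Fin 2) F)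
    have h2 : (A : Matrix (Fin 2) (Fin 2) F) * (cm (trace (x : Matrix (Fin 2) (Fin 2) F)) : Matrix (Fin 2) (Fin 2) F) =
        (x : Matrix (Fin 2) (Fin 2) F) * (A : Matrix (Fin 2) (Fin 2) F) := by
      rw [hA, coe_cm, trace_fin_two]
      ext i j
      fin_cases i <;> fin_cases j
      · simp only [Matrix.mul_apply, Fin.sum_univ_two, _root_.Fin.isValue, _root_.Fin.zero_eta, _root_.Matrix.of_apply, _root_.Matrix.cons_val', _root_.Matrix.cons_val_fin_one, _root_.Matrix.cons_val_zero, _root_.MulZeroClass.mul_zero, _root_.Matrix.cons_val_one, _root_.mul_one, _root_.zero_add]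
      · simp only [Matrix.mul_apply, Fin.sum_univ_two, _root_.Fin.isValue, _root_.Fin.zero_eta, _root_.Fin.mk_one, _root_.Matrix.of_apply, _root_.Matrix.cons_val', _root_.Matrix.cons_val_fin_one, _root_.Matrix.cons_val_zero, _root_.Matrix.cons_val_one, _root_.mul_neg, _root_.mul_one]
        linear_combination v * h4
      · simp only [Matrix.mul_apply, Fin.sum_univ_two, _root_.Fin.isValue, _root_.Fin.mk_one, _root_.Fin.zero_eta, _root_.Matrix.of_apply, _root_.Matrix.cons_val', _root_.Matrix.cons_val_fin_one, _root_.Matrix.cons_val_one, _root_.Matrix.cons_val_zero, _root_.MulZeroClass.mul_zero, _root_.mul_one, _root_.zero_add]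
      · simp only [Matrix.mul_apply, Fin.sum_univ_two, _root_.Fin.isValue, _root_.Fin.mk_one, _root_.Matrix.of_apply, _root_.Matrix.cons_val', _root_.Matrix.cons_val_fin_one, _root_.Matrix.cons_val_one, _root_.Matrix.cons_val_zero, _root_.mul_neg, _root_.mul_one]
        linear_combination w * h4
    rw [h2, Matrix.mul_assoc, ← Units.val_mul, mul_inv_cancel, Units.val_one, Matrix.mul_one]
  have h2 : pr x = g * pr (cm (trace (x : Matrix (Fin 2) (Fin 2) F))) * g⁻¹ := by
    have h3 : lift (cj A) (pr (cm (trace (x : Matrix (Fin 2) (Fin 2) F)))) = pr x := by rw [lift_pr, h1]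
    rw [← h3, hg, MulAut.conj_apply]
  rw [h2]
  exact isConj_iff.2 ⟨g, rfl⟩

theorem card_fixed_ge (σ : F ≃+* F) :
    Nat.card {C : ConjClasses (ProjectiveSpecialLinearGroup (Fin 2) F) //
      ConjClasses.map (fa σ).toMonoidHom C = C} ≤ Nat.card {a : F // σ a = a} + 1 := by
  rw [← Finite.card_option]
  refine Nat.card_le_card_of_surjective
    (fun a : Option {a : F // σ a = a} => match a with
      | none => (⟨ConjClasses.mk 1, by
          change ConjClasses.mk (fa σ 1) = _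
          rw [map_one]⟩ : {C : ConjClasses (ProjectiveSpecialLinearGroup (Fin 2) F) //
            ConjClasses.map (fa σ).toMonoidHom C = C})
      | some a => ⟨ConjClasses.mk (pr (cm a.1)), by
          change ConjClasses.mk (fa σ (pr (cm a.1))) = _
          rw [fa_pr, fld_cm a.2]⟩) ?_
  rintro ⟨C, hC⟩
  obtain ⟨y, rfl⟩ := ConjClasses.exists_rep C
  obtain ⟨x, rfl⟩ := pr_surjective y
  by_cases hx : x = 1
  · subst hx
    exact ⟨none, Subtype.ext (congrArg ConjClasses.mk (map_one pr).symm)⟩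
  · have h1 : ConjClasses.mk (pr (cm (trace (x : Matrix (Fin 2) (Fin 2) F)))) = ConjClasses.mk (pr x) :=
      ConjClasses.mk_eq_mk_iff_isConj.2 (isConj_cm hx)
    have h2 : σ (trace (x : Matrix (Fin 2) (Fin 2) F)) = trace (x : Matrix (Fin 2) (Fin 2) F) := by
      rw [← h1] at hC
      have h3 : ConjClasses.mk (fa σ (pr (cm (trace (x : Matrix (Fin 2) (Fin 2) F))))) =
        ConjClasses.mk (pr (cm (trace (x : Matrix (Fin 2) (Fin 2) F)))) := hC
      rw [fa_pr, fld_cm'] at h3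
      exact eq_of_conj (ConjClasses.mk_eq_mk_iff_isConj.1 h3)
    exact ⟨some ⟨_, h2⟩, Subtype.ext h1⟩

end classes

section special

variable [CharP F 2] [Fintype F]

/-- the fixed field has 2-power order -/
theorem card_fix_le {σ : F ≃+* F} (h : Nat.card {a : F // σ a = a} < 4) : Nat.card {a : F // σ a = a} ≤ 2 := by
  let d : F →+ F := (σ : F →+* F).toAddMonoidHom - AddMonoidHom.id F
  have hd : ∀ t, d t = σ t - t := fun _ => rfl
  have hker : Nat.card d.ker = Nat.card {a : F // σ a = a} := by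
    refine Nat.card_congr (Equiv.subtypeEquivRight fun a => ?_)
    rw [AddMonoidHom.mem_ker, hd, sub_eq_zero]
  obtain ⟨n, -, hn⟩ := FiniteField.card F 2
  have h1 : Nat.card d.ker ∣ 2 ^ (n : ℕ) := by
    rw [← hn, ← Nat.card_eq_fintype_card]
    exact AddSubgroup.card_addSubgroup_dvd_card _
  obtain ⟨k, -, hk⟩ := (Nat.dvd_prime_pow Nat.prime_two).1 h1
  rw [hker] at hk
  rw [hk] at h ⊢
  have h2 : k < 2 := by
    by_contra h3
    have : 2 ^ 2 ≤ 2 ^ k := Nat.pow_le_pow_right (by norm_num) (by omega)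
    omega
  interval_cases k <;> norm_num

/-- **only two invariant characters of odd degree** -/
theorem not_gInv3 (hq : 4 ≤ Fintype.card F) {σ : F ≃+* F} (h : Nat.card {a : F // σ a = a} < 4) : ¬ GInv3 (fa σ) := by
  rintro ⟨χ, hinj, hχ⟩
  have hfin : Finite (IrrCharacter (ProjectiveSpecialLinearGroup (Fin 2) F)) := Characters.Core.finite_irr
  have hX : Nat.card {χ : IrrCharacter (ProjectiveSpecialLinearGroup (Fin 2) F) //
    (χ : ProjectiveSpecialLinearGroup (Fin 2) F → ℂ) ∘ (fa σ) = (χ : ProjectiveSpecialLinearGroup (Fin 2) F → ℂ)} ≤ 3 := by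
    have h1 := S0173.result (fa σ)
    have h2 := card_fixed_ge σ
    rw [h1] at h2
    have h3 := card_fix_le h
    omega
  -- the Steinberg character
  obtain ⟨-, h2⟩ := S2300.result (F := F)
  obtain ⟨-, h3, -, -⟩ := h2 hq
  obtain ⟨⟨ψ, hψ⟩⟩ := (Nat.card_eq_one_iff_unique.1 h3).2
  have heven : 2 ∣ Fintype.card F := by
    have h5 := FiniteField.even_card_iff_char_two (F := F)
    have h6 := h5.1 (ringChar.eq F 2)
    omega
  let St : IrrCharacter (ProjectiveSpecialLinearGroup (Fin 2) F) :=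
    Cfsg.Agent.H684.BlockTools.infl (prE (F := F)).symm.toMonoidHom (prE (F := F)).symm.surjective ψ
  have hSt : 2 ∣ charDegree (St : ProjectiveSpecialLinearGroup (Fin 2) F → ℂ) := by
    have h4 : (St : ProjectiveSpecialLinearGroup (Fin 2) F → ℂ) 1 = (Fintype.card F : ℂ) := by
      change (ψ : Matrix.SpecialLinearGroup (Fin 2) F → ℂ) ((prE (F := F)).symm 1) = _
      rw [map_one, hψ]
    rw [Cfsg.Agent.Blocks.Basic.irr_one_eq_charDegree St.2] at h4
    have h5 : charDegree (St : ProjectiveSpecialLinearGroup (Fin 2) F → ℂ) = Fintype.card F := by exact_mod_cast h4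
    rw [h5]
    exact heven
  have hStσ : (St : ProjectiveSpecialLinearGroup (Fin 2) F → ℂ) ∘ (fa σ) = St := by
    have h4 : Cfsg.Agent.H684.BlockTools.infl (fa σ).toMonoidHom (fa σ).surjective St = St := by
      apply even_unique hq _ hSt
      have h5 : ((Cfsg.Agent.H684.BlockTools.infl (fa σ).toMonoidHom (fa σ).surjective St :
          IrrCharacter (ProjectiveSpecialLinearGroup (Fin 2) F)) : ProjectiveSpecialLinearGroup (Fin 2) F → ℂ) 1 =
          (charDegree (St : ProjectiveSpecialLinearGroup (Fin 2) F → ℂ) : ℂ) := by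
        change (St : ProjectiveSpecialLinearGroup (Fin 2) F → ℂ) (fa σ 1) = _
        rw [map_one, Cfsg.Agent.Blocks.Basic.irr_one_eq_charDegree St.2]
      rw [Cfsg.Agent.Blocks.Basic.irr_one_eq_charDegree (Subtype.property _)] at h5
      have h6 : charDegree ((Cfsg.Agent.H684.BlockTools.infl (fa σ).toMonoidHom (fa σ).surjective St :
          IrrCharacter (ProjectiveSpecialLinearGroup (Fin 2) F)) : ProjectiveSpecialLinearGroup (Fin 2) F → ℂ) =
          charDegree (St : ProjectiveSpecialLinearGroup (Fin 2) F → ℂ) := by exact_mod_cast h5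
      rw [h6]
      exact hSt
    exact congrArg Subtype.val h4
  have hle : Nat.card (Option (Fin 3)) ≤ Nat.card {χ : IrrCharacter (ProjectiveSpecialLinearGroup (Fin 2) F) //
    (χ : ProjectiveSpecialLinearGroup (Fin 2) F → ℂ) ∘ (fa σ) = (χ : ProjectiveSpecialLinearGroup (Fin 2) F → ℂ)} := by
    refine Nat.card_le_card_of_injective (fun a => match a with
      | none => ⟨St, hStσ⟩
      | some i => ⟨⟨χ i, (hχ i).1.odd.1⟩, funext (hχ i).2⟩) ?_
    have key : ∀ i : Fin 3, (St : ProjectiveSpecialLinearGroup (Fin 2) F → ℂ) ≠ χ i := by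
      intro i hi
      apply (hχ i).1.odd.2
      rw [← hi]
      exact hSt
    rintro (_ | i) (_ | j) hij
    · rfl
    · exact absurd (congrArg (fun a => (a.1 : ProjectiveSpecialLinearGroup (Fin 2) F → ℂ)) hij) (key j)
    · exact absurd (congrArg (fun a => (a.1 : ProjectiveSpecialLinearGroup (Fin 2) F → ℂ)) hij).symm (key i)
    · have := hinj (congrArg (fun a => (a.1 : ProjectiveSpecialLinearGroup (Fin 2) F → ℂ)) hij)
      rw [this]
  rw [Finite.card_option, Nat.card_fin] at hle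
  omega

theorem mul_self_rk {n : ℕ} (a : Multiplicative (Fin n → ZMod 2)) : a * a = 1 := by
  have h1 : a.toAdd + a.toAdd = 0 := by
    funext i
    exact CharTwo.add_self_eq_zero _
  exact h1

theorem zpow_rk {n : ℕ} (a : Multiplicative (Fin n → ZMod 2)) (m : ℤ) : a ^ m = 1 ∨ a ^ m = a := by
  rcases Int.even_or_odd' m with ⟨l, rfl | rfl⟩
  · left
    rw [two_mul, _root_.zpow_add, ← mul_zpow, mul_self_rk, _root_.one_zpow]
  · right
    rw [_root_.zpow_add, _root_.zpow_one, two_mul, _root_.zpow_add, ← mul_zpow, mul_self_rk, _root_.one_zpow, one_mul]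

/-- a `σ`-invariant homomorphism of `F` has small image -/
theorem card_range_le {σ : F ≃+* F} {n : ℕ} (g : Multiplicative F →* Multiplicative (Fin n → ZMod 2))
    (hg : ∀ t : F, g (Multiplicative.ofAdd (σ t)) = g (Multiplicative.ofAdd t)) :
    Nat.card g.range ≤ Nat.card {a : F // σ a = a} := by
  let d : F →+ F := (σ : F →+* F).toAddMonoidHom - AddMonoidHom.id F
  have hd : ∀ t, d t = σ t - t := fun _ => rfl
  have hker : Nat.card d.ker = Nat.card {a : F // σ a = a} := by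
    refine Nat.card_congr (Equiv.subtypeEquivRight fun a => ?_)
    rw [AddMonoidHom.mem_ker, hd, sub_eq_zero]
  have hcard : d.range.index = Nat.card d.ker := by
    have h1 : Nat.card F = Nat.card d.range * d.range.index := (AddSubgroup.card_mul_index _).symm
    have h2 : Nat.card F = Nat.card d.ker * d.ker.index := (AddSubgroup.card_mul_index _).symm
    rw [AddSubgroup.index_ker, mul_comm] at h2
    have h4 : 0 < Nat.card d.range := Nat.card_pos
    exact Nat.eq_of_mul_eq_mul_left h4 (h1.symm.trans h2)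
  let g' : F →+ (Fin n → ZMod 2) := AddMonoidHom.toMultiplicative.symm g
  have hg' : ∀ t, g' t = (g (Multiplicative.ofAdd t)).toAdd := fun _ => rfl
  have hle : d.range ≤ g'.ker := by
    rintro _ ⟨t, rfl⟩
    rw [AddMonoidHom.mem_ker, hd, map_sub, hg', hg', hg, sub_self]
  have h1 : Nat.card g.range = Nat.card g'.range := rfl
  rw [h1, ← AddSubgroup.index_ker, ← hker, ← hcard]
  exact Nat.le_of_dvd (Nat.pos_of_ne_zero AddSubgroup.index_ne_zero_of_finite) (AddSubgroup.index_dvd_of_le hle)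

theorem not_d3 {σ : F ≃+* F} {k : ℕ} (hk : σ ^ 2 ^ k = 1) (h : Nat.card {a : F // σ a = a} < 4) :
    ¬ D3 (AutExt (fa σ)) := by
  intro hD
  have hp : Fact (Nat.Prime 2) := ⟨Nat.prime_two⟩
  obtain ⟨QS, hQS⟩ := exists_sylow (F := F)
  have hfin : Finite (MulAut (ProjectiveSpecialLinearGroup (Fin 2) F)) :=
    Finite.of_injective (fun f : MulAut (ProjectiveSpecialLinearGroup (Fin 2) F) =>
      (f : ProjectiveSpecialLinearGroup (Fin 2) F → ProjectiveSpecialLinearGroup (Fin 2) F)) DFunLike.coe_injective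
  have hinj : Function.Injective (MulAut.conj : ProjectiveSpecialLinearGroup (Fin 2) F →* _) := by
    rw [injective_iff_map_eq_one]
    intro a ha
    exact eq_one_of_conj ha
  have hconj : ∀ s, fa σ * MulAut.conj s * (fa σ)⁻¹ = MulAut.conj (fa σ s) := by
    intro s
    ext y
    simp only [MulAut.mul_apply, MulAut.conj_apply, _root_.MulAut.inv_apply, _root_.map_mul, _root_.MulEquiv.apply_symm_apply, _root_.map_inv]
  let V : Subgroup (MulAut (ProjectiveSpecialLinearGroup (Fin 2) F)) := (U F).map MulAut.conj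
  have hV : IsPGroup 2 V := by
    have : IsPGroup 2 (U F) := by rw [← hQS]; exact QS.2
    exact this.map _
  have hβ : IsPGroup 2 (Subgroup.zpowers (fa σ)) := by
    rintro ⟨_, n, rfl⟩
    refine ⟨k, Subtype.ext ?_⟩
    change ((fa σ) ^ n) ^ 2 ^ k = 1
    rw [← zpow_natCast, ← _root_.zpow_mul, mul_comm, _root_.zpow_mul, zpow_natCast, fa_pow, hk, fa_one, _root_.one_zpow]
  have hn : Subgroup.zpowers (fa σ) ≤ Subgroup.normalizer (V : Set (MulAut (ProjectiveSpecialLinearGroup (Fin 2) F))) := by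
    rw [Subgroup.zpowers_le]
    have h1 : ∀ (v : MulAut (ProjectiveSpecialLinearGroup (Fin 2) F)), v ∈ V → fa σ * v * (fa σ)⁻¹ ∈ V := by
      rintro _ ⟨s, hs, rfl⟩
      rw [hconj]
      exact ⟨_, fa_mem_U σ s hs, rfl⟩
    have h2 : V.map (MulAut.conj (fa σ)).toMonoidHom = V := by
      apply Subgroup.eq_of_le_of_card_ge
      · rintro _ ⟨v, hv, rfl⟩
        exact h1 v hv
      · exact (Nat.card_congr (V.equivMapOfInjective (MulAut.conj (fa σ)).toMonoidHom
          (MulAut.conj (fa σ)).injective).toEquiv).le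
    rw [Subgroup.mem_normalizer_iff]
    intro v
    constructor
    · exact h1 v
    · intro hv
      have h3 : fa σ * v * (fa σ)⁻¹ ∈ V.map (MulAut.conj (fa σ)).toMonoidHom := by rw [h2]; exact hv
      obtain ⟨w, hw, hwv⟩ := h3
      have h4 : fa σ * w * (fa σ)⁻¹ = fa σ * v * (fa σ)⁻¹ := hwv
      have h5 : w = v := mul_left_cancel (mul_right_cancel h4)
      rw [← h5]
      exact hw
  have hP0 : IsPGroup 2 ↥(Subgroup.zpowers (fa σ) ⊔ V) := hβ.to_sup_of_normal_right' hV hn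
  have hVle : V ≤ AutExt (fa σ) := by
    rintro _ ⟨s, -, rfl⟩
    exact Subgroup.mem_sup_left ⟨s, rfl⟩
  have hβle : Subgroup.zpowers (fa σ) ≤ AutExt (fa σ) := le_sup_right
  obtain ⟨Q, hQ⟩ := (hP0.comap_of_injective (AutExt (fa σ)).subtype Subtype.val_injective).exists_le_sylow
  obtain ⟨f, hf⟩ := hD Q
  have hβE : fa σ ∈ AutExt (fa σ) := hβle (Subgroup.mem_zpowers _)
  have hβQ : (⟨fa σ, hβE⟩ : AutExt (fa σ)) ∈ Q := hQ (Subgroup.mem_sup_left (Subgroup.mem_zpowers (fa σ)))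
  have hUQ : ∀ s ∈ U F, ∀ hs : MulAut.conj s ∈ AutExt (fa σ), (⟨MulAut.conj s, hs⟩ : AutExt (fa σ)) ∈ Q := by
    intro s hs _
    exact hQ (Subgroup.mem_sup_right (⟨s, hs, rfl⟩ : MulAut.conj s ∈ V))
  have hsE : ∀ s : ProjectiveSpecialLinearGroup (Fin 2) F, MulAut.conj s ∈ AutExt (fa σ) :=
    fun s => Subgroup.mem_sup_left ⟨s, rfl⟩
  -- `U` is the preimage of `Q`
  let ce : ProjectiveSpecialLinearGroup (Fin 2) F →* AutExt (fa σ) :=
    (MulAut.conj : ProjectiveSpecialLinearGroup (Fin 2) F →* _).codRestrict _ hsE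
  have hce : Function.Injective ce := fun a b hab => hinj (congrArg Subtype.val hab)
  have hV' : (Q : Subgroup (AutExt (fa σ))).comap ce = U F := by
    have h1 : IsPGroup 2 ((Q : Subgroup (AutExt (fa σ))).comap ce) := Q.2.comap_of_injective ce hce
    rw [← hQS]
    refine QS.3 h1 ?_
    intro s hs
    rw [hQS] at hs
    exact hUQ s hs (hsE s)
  -- decomposition
  have hdec : ∀ x : Q, ∃ (u : U F) (n : ℤ), (x : AutExt (fa σ)) = ce u * (⟨fa σ, hβE⟩ : AutExt (fa σ)) ^ n := by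
    intro x
    have h1 : ((x : AutExt (fa σ)) : MulAut _) ∈ (MulAut.conj : ProjectiveSpecialLinearGroup (Fin 2) F →* _).range ⊔
      Subgroup.zpowers (fa σ) := (x : AutExt (fa σ)).2
    have hnr : (MulAut.conj : ProjectiveSpecialLinearGroup (Fin 2) F →* _).range.Normal := by
      constructor
      rintro _ ⟨s, rfl⟩ φ
      refine ⟨φ s, ?_⟩
      ext y
      simp only [MulAut.mul_apply, MulAut.conj_apply, _root_.MulAut.inv_apply, _root_.map_mul, _root_.MulEquiv.apply_symm_apply, _root_.map_inv]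
    rw [← SetLike.mem_coe, Subgroup.normal_mul, Set.mem_mul] at h1
    obtain ⟨_, ⟨s, rfl⟩, _, ⟨n, rfl⟩, h2⟩ := h1
    have h3 : (x : AutExt (fa σ)) = ce s * (⟨fa σ, hβE⟩ : AutExt (fa σ)) ^ n := Subtype.ext h2.symm
    have h4 : s ∈ U F := by
      rw [← hV', Subgroup.mem_comap]
      have h5 : ce s = (x : AutExt (fa σ)) * ((⟨fa σ, hβE⟩ : AutExt (fa σ)) ^ n)⁻¹ := by rw [h3]; group
      rw [h5]
      exact mul_mem x.2 (inv_mem (zpow_mem hβQ n))
    exact ⟨⟨s, h4⟩, n, h3⟩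
  -- the restriction to `U`
  let ι : U F →* Q := (ce.comp (U F).subtype).codRestrict (Q : Subgroup (AutExt (fa σ))) (fun s => hUQ s s.2 _)
  let g : Multiplicative F →* Multiplicative (Fin 3 → ZMod 2) := (f.comp ι).comp (uE (F := F)).toMonoidHom
  let b : Q := ⟨⟨fa σ, hβE⟩, hβQ⟩
  have hg : ∀ t : F, g (Multiplicative.ofAdd (σ t)) = g (Multiplicative.ofAdd t) := by
    intro t
    have h1 : ι (uE (Multiplicative.ofAdd (σ t))) = b * ι (uE (Multiplicative.ofAdd t)) * b⁻¹ := by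
      apply Subtype.ext
      apply Subtype.ext
      change MulAut.conj ((uE (Multiplicative.ofAdd (σ t)) : U F) : ProjectiveSpecialLinearGroup (Fin 2) F) =
        fa σ * MulAut.conj ((uE (Multiplicative.ofAdd t) : U F) : ProjectiveSpecialLinearGroup (Fin 2) F) * (fa σ)⁻¹
      rw [hconj, fa_uE]
    change f (ι (uE (Multiplicative.ofAdd (σ t)))) = f (ι (uE (Multiplicative.ofAdd t)))
    rw [h1, map_mul, map_mul, map_inv, mul_comm (f b), mul_inv_cancel_right]
  have hr := card_range_le g hg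
  have hsur : Function.Surjective (fun a : g.range × Fin 2 => (a.1 : Multiplicative (Fin 3 → ZMod 2)) * (f b) ^ (a.2 : ℕ)) := by
    intro y
    obtain ⟨x, rfl⟩ := hf y
    obtain ⟨u, n, hx⟩ := hdec x
    have h1 : x = ι u * b ^ n := Subtype.ext hx
    obtain ⟨t, rfl⟩ := (uE (F := F)).surjective u
    have h2 : f x = g t * (f b) ^ n := by rw [h1, map_mul, map_zpow]; rfl
    rcases zpow_rk (f b) n with h3 | h3
    · refine ⟨(⟨g t, ⟨t, rfl⟩⟩, 0), ?_⟩
      simp [h2, h3]
    · refine ⟨(⟨g t, ⟨t, rfl⟩⟩, 1), ?_⟩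
      simp [h2, h3]
  have h8 := Nat.card_le_card_of_surjective _ hsur
  rw [Nat.card_prod, Nat.card_fin] at h8
  have h9 : Nat.card (Multiplicative (Fin 3 → ZMod 2)) = 8 := by
    have h1 : Nat.card (Multiplicative (Fin 3 → ZMod 2)) = Nat.card (Fin 3 → ZMod 2) := rfl
    rw [h1, Nat.card_fun]
    simp
  rw [h9] at h8
  omega

/-- the special rows -/
theorem extRow_special (hq : 4 ≤ Fintype.card F) {σ : F ≃+* F} {k : ℕ} (hk : σ ^ 2 ^ k = 1)
    (h : Nat.card {a : F // σ a = a} < 4) : ExtRow (ProjectiveSpecialLinearGroup (Fin 2) F) (fa σ) :=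
  ⟨fun h1 => absurd h1 (not_gInv3 hq h), fun h1 => absurd h1 (not_d3 hk h)⟩

/-- **QE5e**: all extension rows of `PSL₂(q)`, `q ≥ 4` even -/
theorem extAll (hq : 4 ≤ Fintype.card F) {τ : MulAut (ProjectiveSpecialLinearGroup (Fin 2) F)} (hτ : TwoPow τ)
    (hi : ¬ IsInn τ) : ExtRow (ProjectiveSpecialLinearGroup (Fin 2) F) τ :=
  extRow (fun _ _ hk _ h => extRow_special hq hk h) hτ hi

end special

end Cfsg.Agent.H269.K547.PslE
end

-- part: H839/K547/SLTwo
section
/-!
# S4547, `q = 2`: the groups `SL_n(2)`, `n ≥ 4`, with a graph automorphism (task QE9, helper839)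

* `cusp_fix` : root groups of order two, orthogonal nodes: the cuspidal characters are invariant;
* `perm_A`, `not_assoc_orth`, `gInv3_rev`, `psl_swap_two`, `gInv3_two`, `psl42`
-/

set_option autoImplicit false
set_option linter.unusedSectionVars false
set_option linter.unusedVariables false

open scoped ComplexConjugate
open Cfsg

namespace Cfsg.Agent.H839.K547

open Cfsg.Agent.Characters Cfsg.Agent.H601.K4 Cfsg.Agent.H967.K4 Cfsg.Agent.H821.K547 Cfsg.Agent.H307.QE
open CoxeterSystem Cfsg.Agent.ChevalleyStructure.CoxeterGeom Cfsg.Agent.Tits.Roots Cfsg.Agent.Tits.Core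
  Cfsg.Agent.Tits.Exchange Cfsg.Agent.Nodes.Reps Cfsg.Agent.Nodes.BNOf Cfsg.Agent.Nodes.StabComb
  Cfsg.Agent.Nodes.Bruhat Cfsg.Agent.Nodes.OppDec Cfsg.Agent.Nodes.LeviDec Cfsg.Agent.H53.HC
  Cfsg.Agent.H246.Dl Cfsg.Agent.KFacts.RgdAut Cfsg.Agent.KFacts.RgdDiag
open Cfsg.Agent.LieRecognition.BNCox (cA cA_apply)

universe u

section rgd

variable {I W : Type*} {Y : Type u} [Fintype I] [DecidableEq I] [Group W] [Group Y] {M : CoxeterMatrix I}
  {cs : CoxeterSystem M W} {A : I → I → ℤ} {h : IsCartan M A} {T : Subgroup Y} {n : I → Y}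
  {X : (I → ℤ) → Subgroup Y}

/-- the root groups `X (±α_i)` have order two -/
structure Two (X : (I → ℤ) → Subgroup Y) : Prop where
  pos : ∀ i, ∀ u ∈ X (sr i), ∀ v ∈ X (sr i), u ≠ 1 → v ≠ 1 → u = v
  neg : ∀ i, ∀ u ∈ X (-sr i), ∀ v ∈ X (-sr i), u ≠ 1 → v ≠ 1 → u = v

/-- the group generated by `X (±α_i)`, `i ∈ K` -/
def CK (X : (I → ℤ) → Subgroup Y) (K : Set I) : Subgroup Y :=
  Subgroup.closure {s | ∃ i ∈ K, s ∈ X (sr i) ∨ s ∈ X (-sr i)}

theorem MJ_single_le_CK {K : Set I} {i : I} (hi : i ∈ K) : MJ cs h X {i} ≤ CK X K := by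
  rw [Cfsg.Agent.H619.Gow.MJ_single]
  exact sup_le (fun s hs => Subgroup.subset_closure ⟨i, hi, Or.inl hs⟩)
    (fun s hs => Subgroup.subset_closure ⟨i, hi, Or.inr hs⟩)

theorem MJ_le_CK [Finite W] (R : RGD cs h 2 T n X) (K : Set I) : MJ cs h X K ≤ CK X K := by
  have hw : ∀ w ∈ WJ cs K, ∃ g ∈ CK X K, Rp cs R.nsys w g := by
    intro w hw
    unfold WJ at hw
    induction hw using Subgroup.closure_induction with
    | mem w hw =>
      obtain ⟨i, hi, rfl⟩ := hw
      obtain ⟨t, -, h1, h2⟩ := H687.FourK.exists_rp_MJ R i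
      exact ⟨_, MJ_single_le_CK hi h1, h2⟩
    | one => exact ⟨1, one_mem _, rp_one⟩
    | mul a b _ _ iha ihb =>
      obtain ⟨g, hg, hg'⟩ := iha
      obtain ⟨k, hk, hk'⟩ := ihb
      exact ⟨g * k, mul_mem hg hk, hg'.mul hk'⟩
    | inv a _ iha =>
      obtain ⟨g, hg, hg'⟩ := iha
      exact ⟨g⁻¹, inv_mem hg, hg'.inv⟩
  refine RGD.Sup_le fun x hx => ?_
  obtain ⟨w, hwK, j, hj, rfl⟩ := exists_of_mem_RootsJ hx
  obtain ⟨g, hg, hgw⟩ := hw w hwK
  intro z hz
  have h1 : g⁻¹ * z * g ∈ X (sr j) := by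
    have := R.conj_mem' hgw ((isRoot_sr cs h j).act w) hz
    rwa [rep_inv_apply] at this
  have h2 : g⁻¹ * z * g ∈ CK X K := Subgroup.subset_closure ⟨j, hj, Or.inl h1⟩
  have h3 : z = g * (g⁻¹ * z * g) * g⁻¹ := by group
  rw [h3]
  exact mul_mem (mul_mem hg h2) (inv_mem hg)

theorem rad_single (i : I) : rad cs h X {i} i = X (sr i) := by
  refine le_antisymm ((rad_le_UJ _ _).trans (UJ_singleton i).le) ?_
  refine RGD.le_Sup ⟨sr_mem_PosJ rfl, ?_⟩
  rw [sr_self]
  exact one_pos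

theorem sum_two {G : Type*} [Group G] {B : Subgroup G} [Fintype B] {s : G} (hs : s ∈ B) (h1 : s ≠ 1)
    (hB : ∀ u ∈ B, u ≠ 1 → u = s) (f : G → ℂ) : ∑ b : B, f b = f 1 + f s := by
  classical
  have h2 : (Finset.univ : Finset B) = {1, ⟨s, hs⟩} := by
    ext ⟨u, hu⟩
    simp only [Finset.mem_univ, Finset.mem_insert, Finset.mem_singleton, true_iff]
    by_cases hu1 : u = 1
    · left; exact Subtype.ext hu1
    · right; exact Subtype.ext (hB u hu hu1)
  rw [h2, Finset.sum_pair (fun e => h1 (congrArg Subtype.val e).symm)]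
  rfl

/-- the sign rule for positive root groups -/
theorem neg_pos [Finite Y] {K : Set I} {i : I} (hi : i ∈ K) (hr : rad cs h X K i = X (sr i)) (h2 : Two X)
    {θ : ↥(MJ cs h X K) → ℂ} (hθ : Cusp cs h X K θ) {s : Y} (hs : s ∈ X (sr i)) (h1 : s ≠ 1)
    (hsK : s ∈ MJ cs h X K) (g : ↥(MJ cs h X K)) : θ (g * ⟨s, hsK⟩) = -θ g := by
  classical
  have : Fintype (rad cs h X K i) := Fintype.ofFinite _
  let B : Subgroup ↥(MJ cs h X K) := (rad cs h X K i).subgroupOf (MJ cs h X K)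
  have : Fintype B := Fintype.ofFinite _
  have hv := hθ.van i hi
  have h3 : ∑ b : B, θ b = 0 := by
    rw [← hv]
    exact Fintype.sum_equiv (Subgroup.subgroupOfEquivOfLe (rad_le_MJ K i)).toEquiv _ _ fun v => rfl
  have h4 := Cfsg.Agent.H969.TT.TopAbs.sum_mul_eq_zero B hθ.irr h3 g
  have hsB : (⟨s, hsK⟩ : ↥(MJ cs h X K)) ∈ B := by
    rw [Subgroup.mem_subgroupOf, hr]
    exact hs
  rw [sum_two hsB (fun e => h1 (congrArg Subtype.val e)) (fun u hu hu1 => by
    rw [Subgroup.mem_subgroupOf, hr] at hu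
    exact Subtype.ext (h2.pos i _ hu _ hs (fun e => hu1 (Subtype.ext e)) h1)) (fun b => θ (g * b)), mul_one] at h4
  exact (neg_eq_of_add_eq_zero_right h4).symm

/-- the sign rule for negative root groups -/
theorem neg_neg' [Finite Y] (R : RGD cs h 2 T n X) {K : Set I} {i : I} (hi : i ∈ K)
    (hr : rad cs h X K i = X (sr i)) (h2 : Two X)
    {θ : ↥(MJ cs h X K) → ℂ} (hθ : Cusp cs h X K θ) {s : Y} (hs : s ∈ X (-sr i)) (h1 : s ≠ 1)
    (hsK : s ∈ MJ cs h X K) (g : ↥(MJ cs h X K)) : θ (g * ⟨s, hsK⟩) = -θ g := by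
  obtain ⟨t, -, hm, hm2⟩ := H687.FourK.exists_rp_MJ R i
  set m := t * n i with hmdef
  have hmK : m ∈ MJ cs h X K := by
    refine (RGD.Sup_mono fun x hx => ?_) hm
    exact ⟨hx.1, fun k hk => hx.2 k fun e => hk (by rw [Set.mem_singleton_iff.1 e]; exact hi)⟩
  have hs2 : m * s * m⁻¹ ∈ X (sr i) := by
    have := R.conj_mem hm2 (isRoot_sr cs h i).neg hs
    rwa [map_neg, rep_simple_sr, neg_neg] at this
  have hne : m * s * m⁻¹ ≠ 1 := by
    intro e
    apply h1
    have : s = m⁻¹ * (m * s * m⁻¹) * m := by group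
    rw [this, e]; group
  have hcl := Core.isIrr_isClassFunction hθ.irr
  let m' : ↥(MJ cs h X K) := ⟨m, hmK⟩
  have e1 := neg_pos hi hr h2 hθ hs2 hne (mul_mem (mul_mem hmK hsK) (inv_mem hmK)) (m' * g * m'⁻¹)
  have e2 : m' * g * m'⁻¹ * ⟨m * s * m⁻¹, mul_mem (mul_mem hmK hsK) (inv_mem hmK)⟩ =
      m' * (g * ⟨s, hsK⟩) * m'⁻¹ := by
    apply Subtype.ext
    show m * (g : Y) * m⁻¹ * (m * s * m⁻¹) = m * ((g : Y) * s) * m⁻¹
    group
  rw [e2, hcl, hcl] at e1
  exact e1

/-- **Invariance of a cuspidal character, root groups of order two, orthogonal nodes.** -/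
theorem cusp_fix [Finite W] [Finite Y] {R : RGD cs h 2 T n X} (h2 : Two X) {K : Set I}
    (hr : ∀ i ∈ K, rad cs h X K i = X (sr i)) {β : MulAut Y} {σ : Equiv.Perm I} (hN : Nrm R β σ)
    (hK : σ '' K = K) (hH : _root_.Cfsg.Agent.KFacts.RgdAut.Fix β (MJ cs h X K)) {θ : ↥(MJ cs h X K) → ℂ} (hθ : Cusp cs h X K θ)
    (x : ↥(MJ cs h X K)) : θ (rAut β hH x) = θ x := by
  have hσ : ∀ i ∈ K, σ i ∈ K := fun i hi => by
    rw [← hK]
    exact ⟨i, hi, rfl⟩
  have hneg : ∀ i ∈ K, ∀ s, (s ∈ X (sr i) ∨ s ∈ X (-sr i)) → s ≠ 1 → ∀ (hsK : s ∈ MJ cs h X K)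
      (g : ↥(MJ cs h X K)), θ (g * ⟨s, hsK⟩) = -θ g := by
    rintro i hi s (hs | hs) h1 hsK g
    · exact neg_pos hi (hr i hi) h2 hθ hs h1 hsK g
    · exact neg_neg' R hi (hr i hi) h2 hθ hs h1 hsK g
  have hmem : ∀ i ∈ K, ∀ s, (s ∈ X (sr i) ∨ s ∈ X (-sr i)) → s ∈ MJ cs h X K := by
    rintro i hi s (hs | hs)
    · exact RGD.le_Sup (S := RootsJ cs h K) (PosJ_subset _ (sr_mem_PosJ hi)) hs
    · exact RGD.le_Sup (S := RootsJ cs h K) (RootsJ.neg (PosJ_subset _ (sr_mem_PosJ hi))) hs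
  have key : ∀ i ∈ K, ∀ s, (s ∈ X (sr i) ∨ s ∈ X (-sr i)) → ∀ (hsK : s ∈ MJ cs h X K)
      (g : ↥(MJ cs h X K)), θ (rAut β hH g) = θ g → θ (rAut β hH (g * ⟨s, hsK⟩)) = θ (g * ⟨s, hsK⟩) := by
    intro i hi s hs hsK g hg
    by_cases h1 : s = 1
    · have e : g * ⟨s, hsK⟩ = g := by
        apply Subtype.ext
        show (g : Y) * s = g
        rw [h1, mul_one]
      rw [e, hg]
    · have hs' : β s ∈ X (sr (σ i)) ∨ β s ∈ X (-sr (σ i)) :=
        hs.imp (fun h => (hN.diag.pos i s).2 h) (fun h => (hN.diag.neg i s).2 h)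
      have h1' : β s ≠ 1 := by rwa [Ne, EmbeddingLike.map_eq_one_iff]
      have e1 := hneg _ (hσ i hi) _ hs' h1' ((hH s).2 hsK) (rAut β hH g)
      have e2 : rAut β hH (g * ⟨s, hsK⟩) = rAut β hH g * ⟨β s, (hH s).2 hsK⟩ := by
        rw [map_mul]; rfl
      rw [e2, e1, hneg i hi s hs h1 hsK g, hg]
  have main : ∀ y ∈ CK X K, ∀ hy : y ∈ MJ cs h X K, θ (rAut β hH ⟨y, hy⟩) = θ ⟨y, hy⟩ := by
    have hle : CK X K ≤ MJ cs h X K := by
      refine (Subgroup.closure_le _).2 ?_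
      rintro s ⟨i, hi, hs⟩
      exact hmem i hi s hs
    intro y hy
    refine Subgroup.closure_induction_right (p := fun y _ => ∀ hy : y ∈ MJ cs h X K,
      θ (rAut β hH ⟨y, hy⟩) = θ ⟨y, hy⟩) ?_ ?_ ?_ hy
    · intro h1
      have e : (⟨1, h1⟩ : ↥(MJ cs h X K)) = 1 := rfl
      rw [e, map_one]
    · rintro x hx s ⟨i, hi, hs⟩ ih hxs
      exact key i hi s hs (hmem i hi s hs) ⟨x, hle hx⟩ (ih _)
    · rintro x hx s ⟨i, hi, hs⟩ ih hxs
      have hs' : s⁻¹ ∈ X (sr i) ∨ s⁻¹ ∈ X (-sr i) := hs.imp (fun h => inv_mem h) (fun h => inv_mem h)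
      exact key i hi s⁻¹ hs' (hmem i hi _ hs') ⟨x, hle hx⟩ (ih _)
  exact main x (MJ_le_CK R K x.2) x.2

/-- **An invariant cuspidal character for two orthogonal nodes.** -/
theorem exists_os_orth [Finite W] [Finite Y] {R : RGD cs h 2 T n X} (hG : GG cs h T X = ⊤) (h2 : Two X)
    {a c b d : I} (hac : M a c = 2) (hab : M a b = 3) (hcd : M c d = 3) {β : MulAut Y} {σ : Equiv.Perm I}
    (hN : Nrm R β σ) (hK : σ '' ({a, c} : Set I) = {a, c}) :
    ∃ θ : ↥(MJ cs h X {a, c}) → ℂ, OS (rAut β (hN.fixMJ hG hK)) θ ∧ Cusp cs h X {a, c} θ := by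
  obtain ⟨θ, h3, h4, h5⟩ := oc_orth R (oc_node R a b hab) (oc_node R c d hcd) hac
  refine ⟨θ, ⟨⟨h3.irr, h4⟩, h5, fun x => ?_⟩, h3⟩
  refine cusp_fix h2 ?_ hN hK _ h3 x
  have n3 : a ≠ c := ne_of_M (M := M) (by rw [hac]; decide)
  have hz := _root_.Cfsg.Agent.H967.K4.cartan_zero n3 hac h
  have ho : Orth A {a} {c} := by
    rintro i rfl j rfl
    exact ⟨n3, hz⟩
  rintro i (rfl | hi)
  · exact (ho.rad_eq (cs := cs) (h := h) (X := X) (i := i) rfl).trans (rad_single i)
  · rw [Set.mem_singleton_iff] at hi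
    subst hi
    have h6 := ho.symm.rad_eq (cs := cs) (h := h) (X := X) (i := i) rfl
    rw [Set.union_comm] at h6
    exact h6.trans (rad_single i)

end rgd

/-! ### the symmetries of the path -/

/-- the adjacency of a path -/
def Adj {n : ℕ} (a b : Fin n) : Prop := (a : ℕ) + 1 = b ∨ (b : ℕ) + 1 = a

theorem adj_A {n : ℕ} {a b : Fin n} : cA n a b = 3 ↔ Adj a b := by
  rw [LieRecognition.BNCox.cA_apply]
  unfold LieRecognition.CoxClass.mA Adj
  split_ifs <;> omega

theorem path_one {n : ℕ} {σ : Equiv.Perm (Fin n)} (hσ : ∀ a b : Fin n, Adj a b → Adj (σ a) (σ b))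
    (h0 : ∀ i : Fin n, (i : ℕ) = 0 → (σ i : ℕ) = 0) : σ = 1 := by
  have key : ∀ k (hk : k < n), (σ ⟨k, hk⟩ : ℕ) = k := by
    intro k
    induction k using Nat.strong_induction_on with
    | _ k ih =>
      intro hk
      match k, ih, hk with
      | 0, _, hk => exact h0 _ rfl
      | 1, ih, hk =>
        have h1 := ih 0 (by omega) (by omega)
        have h2 := hσ ⟨0, by omega⟩ ⟨1, hk⟩ (Or.inl rfl)
        unfold Adj at h2
        rw [h1] at h2
        omega
      | k + 2, ih, hk =>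
        have h1 := ih (k + 1) (by omega) (by omega)
        have h3 := ih k (by omega) (by omega)
        have h2 := hσ ⟨k + 1, by omega⟩ ⟨k + 2, hk⟩ (Or.inl rfl)
        unfold Adj at h2
        rw [h1] at h2
        rcases h2 with h2 | h2
        · omega
        · exfalso
          have h4 : (σ ⟨k + 2, hk⟩ : ℕ) = σ ⟨k, by omega⟩ := by omega
          have h5 := congrArg Fin.val (σ.injective (Fin.ext h4))
          simp at h5
  ext i
  exact key i i.2

/-- **The symmetries of type `A_n`.** -/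
theorem perm_A {n : ℕ} (hn : 3 ≤ n) {σ : Equiv.Perm (Fin n)} (hσ : ∀ i j, cA n (σ i) (σ j) = cA n i j) :
    σ = 1 ∨ σ = Fin.revPerm := by
  have hadj : ∀ a b : Fin n, Adj a b → Adj (σ a) (σ b) := by
    intro a b hab
    rw [← adj_A, hσ, adj_A]
    exact hab
  have hend : ∀ i : Fin n, (i : ℕ) = 0 → (σ i : ℕ) = 0 ∨ (σ i : ℕ) = n - 1 := by
    intro i hi
    by_contra hcon
    have h1 : σ i ∈ {i : Fin n | ¬ ((i : ℕ) = 0 ∨ (i : ℕ) = n - 1)} := hcon
    rw [← H612.Sym.sym_A σ hσ] at h1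
    obtain ⟨j, hj, hji⟩ := h1
    rw [σ.injective hji] at hj
    exact hj (Or.inl hi)
  rcases hend ⟨0, by omega⟩ rfl with h1 | h1
  · left
    refine path_one hadj fun i hi => ?_
    have : i = ⟨0, by omega⟩ := Fin.ext hi
    rw [this]
    exact h1
  · right
    have h2 : Fin.revPerm * σ = 1 := by
      refine path_one (fun a b hab => ?_) fun i hi => ?_
      · have h3 := hadj a b hab
        have h4 := (σ a).2
        have h5 := (σ b).2
        change Adj (Fin.rev (σ a)) (Fin.rev (σ b))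
        unfold Adj at h3 ⊢
        rw [Fin.val_rev, Fin.val_rev]
        omega
      · have : i = ⟨0, by omega⟩ := Fin.ext hi
        rw [this]
        change (Fin.rev (σ ⟨0, _⟩) : ℕ) = 0
        rw [Fin.val_rev]
        omega
    ext i
    have h3 := congrArg (fun f : Equiv.Perm (Fin n) => f i) h2
    change Fin.rev (σ i) = i at h3
    have h4 := congrArg Fin.rev h3
    rw [Fin.rev_rev] at h4
    rw [h4]
    rfl

section assoc

variable {I W : Type*} [Fintype I] [DecidableEq I] [Group W] {M : CoxeterMatrix I}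
  {cs : CoxeterSystem M W} {A : I → I → ℤ} {h : IsCartan M A}

/-- an orthogonal pair is not associated to a connected pair (or to a single node) -/
theorem not_assoc_orth [Finite W] {a c d e : I} (hac : a ≠ c) (h0 : A a c = 0)
    (hde : d ≠ e → A d e ≠ 0 ∧ A e d ≠ 0) : ¬ Assoc cs h ({a, c} : Set I) {d, e} := by
  rintro ⟨w, hw⟩
  obtain ⟨k, hk, e1⟩ := hw a (Or.inl rfl)
  obtain ⟨l, hl, e2⟩ := hw c (Or.inr rfl)
  have h4 := cartan_rep e1 e2
  have hkl : k ≠ l := by
    rintro rfl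
    have h5 : (sr a : I → ℤ) = sr c := by
      have := congrArg (rep cs h w⁻¹) (e1.trans e2.symm)
      rwa [rep_inv_apply, rep_inv_apply] at this
    exact hac (sr_injective h5)
  rcases hk with rfl | hk <;> rcases hl with rfl | hl
  · exact hkl rfl
  · rw [Set.mem_singleton_iff] at hl
    subst hl
    exact (hde hkl).1 (h4.trans h0)
  · rw [Set.mem_singleton_iff] at hk
    subst hk
    exact (hde hkl.symm).2 (h4.trans h0)
  · rw [Set.mem_singleton_iff] at hk hl
    exact hkl (hk.trans hl.symm)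

end assoc

theorem mA_three {l : ℕ} (i j : Fin l) (hij : (i : ℕ) + 1 = j) : cA l i j = 3 := adj_A.2 (Or.inl hij)

theorem mA_two {l : ℕ} (i j : Fin l) (hij : (i : ℕ) + 2 ≤ j) : cA l i j = 2 := by
  rw [cA_apply]
  unfold LieRecognition.CoxClass.mA
  split_ifs <;> omega

/-- **Root groups of order two, type `A_l`, `l ≥ 3`: the automorphisms reversing the diagram.** -/
theorem gInv3_rev {l : ℕ} (hl : 3 ≤ l) {S : Type u} [Group S] [Finite S] [Finite (cA l).Group]
    {A : Fin l → Fin l → ℤ} {h : IsCartan (cA l) A} {T : Subgroup S} {n : Fin l → S}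
    {X : (Fin l → ℤ) → Subgroup S} (R : RGD (cA l).toCoxeterSystem h 2 T n X)
    (hG : GG (cA l).toCoxeterSystem h T X = ⊤) (h2 : Two X) (hT : H601.OddDeg.TwoC S) {β : MulAut S}
    (hN : Nrm R β Fin.revPerm) : GInv3 β := by
  let a : Fin l := ⟨0, by omega⟩
  let b : Fin l := ⟨1, by omega⟩
  let c : Fin l := ⟨l - 1, by omega⟩
  let d : Fin l := ⟨l - 2, by omega⟩
  let m : Fin l := ⟨(l - 1) / 2, by omega⟩
  have hac : cA l a c = 2 := mA_two a c (by simp only [a, c]; omega)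
  have hab : cA l a b = 3 := mA_three a b rfl
  have hcd : cA l c d = 3 := by
    rw [CoxeterMatrix.symmetric]
    exact mA_three d c (by simp only [c, d]; omega)
  have hra : Fin.rev a = c := Fin.ext (by rw [Fin.val_rev])
  have hK : (Fin.revPerm : Equiv.Perm (Fin l)) '' ({a, c} : Set (Fin l)) = {a, c} := by
    rw [Set.image_pair]
    show ({Fin.rev a, Fin.rev c} : Set (Fin l)) = {a, c}
    rw [hra, ← hra, Fin.rev_rev, hra, Set.pair_comm]
  have hK' : (Fin.revPerm : Equiv.Perm (Fin l)) '' ({m, Fin.rev m} : Set (Fin l)) = {m, Fin.rev m} := by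
    rw [Set.image_pair]
    show ({Fin.rev m, Fin.rev (Fin.rev m)} : Set (Fin l)) = {m, Fin.rev m}
    rw [Fin.rev_rev, Set.pair_comm]
  obtain ⟨θ, hθ, hθc⟩ := exists_os_orth hG h2 hac hab hcd hN hK
  refine gInv3_of_types R hG hT hN hK hK' ⟨m, Or.inl rfl⟩ ⟨θ, hθc, hθ⟩ ?_
  refine not_assoc_orth (a := a) (c := c) (d := m) (e := Fin.rev m) ?_ ?_ ?_
  · intro h5
    have := congrArg Fin.val h5
    simp only [a, c] at this
    omega
  · exact (_root_.Cfsg.Agent.H967.K4.cartan_zero (ne_of_M (M := cA l) (by rw [hac]; decide)) hac h).1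
  · intro h5
    have h6 : cA l m (Fin.rev m) = 3 := by
      refine mA_three _ _ ?_
      rw [Fin.val_rev]
      have h7 : (m : ℕ) ≠ (Fin.rev m : Fin l) := fun e => h5 (Fin.ext e)
      rw [Fin.val_rev] at h7
      simp only [m] at h7 ⊢
      omega
    have h7 := cartan_three h5 h6 h
    rw [h7.1, h7.2]
    decide

/-! ### the standard datum -/

section std

variable {F : Type} [Field F] [Finite F] [CharP F 2]

theorem two_std (hF : Nat.card F = 2) {l : ℕ} :
    Two (fun x : Fin l → ℤ => (Nodes.RGDTypeA.X F x).map (Nodes.RGDTypeA.pr l F)) := by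
  have key : ∀ a b : Fin (l + 1), ∀ u ∈ (Nodes.RGDTypeA.XX F a b).map (Nodes.RGDTypeA.pr l F),
      ∀ v ∈ (Nodes.RGDTypeA.XX F a b).map (Nodes.RGDTypeA.pr l F), u ≠ 1 → v ≠ 1 → u = v := by
    rintro a b _ ⟨_, ⟨s, rfl⟩, rfl⟩ _ ⟨_, ⟨t, rfl⟩, rfl⟩ hu hv
    have hs : s ≠ 0 := by
      rintro rfl
      rw [TitsThree.KSideA.tv_zero, map_one] at hu
      exact hu rfl
    have ht : t ≠ 0 := by
      rintro rfl
      rw [TitsThree.KSideA.tv_zero, map_one] at hv
      exact hv rfl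
    have hst : s = t := by
      have : Fintype F := Fintype.ofFinite F
      classical
      by_contra hne
      have h3 : ({0, s, t} : Finset F).card = 3 := by
        rw [Finset.card_insert_of_notMem (by simp [hs.symm, ht.symm]), Finset.card_pair hne]
      have h4 := Finset.card_le_univ ({0, s, t} : Finset F)
      rw [h3, ← Nat.card_eq_fintype_card, hF] at h4
      omega
    rw [hst]
  refine ⟨fun i u hu v hv => ?_, fun i u hu v hv => ?_⟩
  · rw [Nodes.RGDTypeA.X_sr] at hu hv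
    exact key _ _ u hu v hv
  · rw [Nodes.RGDTypeA.X_neg_sr] at hu hv
    exact key _ _ u hu v hv

theorem twoC_psl {l : ℕ} (hl : 2 ≤ l) :
    H601.OddDeg.TwoC (Matrix.ProjectiveSpecialLinearGroup (Fin (l + 1)) F) := by
  have : Fintype F := Fintype.ofFinite F
  have : IsSimpleGroup (Matrix.ProjectiveSpecialLinearGroup (Fin (l + 1)) F) := Cfsg.Agent.S0249.result (l + 1) (by omega)
  exact H742.TwoC.twoC_charTwo (Or.inl ⟨F, inferInstance, inferInstance, inferInstance, l + 1, by omega,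
    fun h => absurd h (by omega), ⟨MulEquiv.refl _⟩⟩)

/-- **QE9**: `PSL_(l+1)(2)`, `l ≥ 3`, the automorphisms reversing the diagram. -/
theorem psl_swap_two (hF : Nat.card F = 2) {l : ℕ} (hl : 3 ≤ l)
    {β : MulAut (Matrix.ProjectiveSpecialLinearGroup (Fin (l + 1)) F)} {σ : Equiv.Perm (Fin l)}
    (hN : Nrm (H42.K547.Even.rA l F) β σ) (hσ : σ ≠ 1) : GInv3 β := by
  have := H42.K547.Even.finite_A l
  have hrev : σ = Fin.revPerm := (perm_A hl (fun i j => hN.sym i j)).resolve_left hσ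
  subst hrev
  exact gInv3_rev hl _ (H42.K547.Even.gA l F) (two_std hF) (twoC_psl (by omega)) hN

end std

end Cfsg.Agent.H839.K547
end

-- part: H433/K547/TwoLin
section
/-!
# S4547, QE13: two linear characters of order three of the torus in rank two (helper433)

`L2 R i j f g` : `f`, `g` linear characters of order three of `T`, `f^{s_i} = f⁻¹`, `f^{s_j} = f`, `g^{s_j} = g⁻¹`,
`g^{s_i} = g f`, trivial on the centralizers of the root groups (`3 ∣ q - 1` for `G₂(q)` and `³D₄(q)`).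

* `L2.of_nd` : from the rank one subgroups;
* `L2.sigma` : a normalised automorphism fixes the nodes;
* `L2.stable_f`, `L2.stable_g`, `L2.not_conj` : `f` and `g` are stable under the automorphism up to the Weyl group, and not
  conjugate under the Weyl group.
-/

set_option autoImplicit false
set_option linter.unusedSectionVars false

open scoped ComplexConjugate
open Cfsg

namespace Cfsg.Agent.H433.K547

open CoxeterSystem Cfsg.Agent.ChevalleyStructure.CoxeterGeom Cfsg.Agent.Tits.Roots Cfsg.Agent.Tits.Core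
  Cfsg.Agent.Tits.Exchange Cfsg.Agent.Nodes.Reps Cfsg.Agent.Nodes.BNOf Cfsg.Agent.Nodes.StabComb
  Cfsg.Agent.Nodes.Bruhat Cfsg.Agent.Nodes.OppDec Cfsg.Agent.Nodes.LeviDec Cfsg.Agent.H53.HC
  Cfsg.Agent.KFacts.RgdAut Cfsg.Agent.H246.Dl Cfsg.Agent.KFacts.RgdDiag
open Cfsg.Agent.H619.Gow (cv coe_cv comp_cv_mul comp_cv_rp Nd exists_chi chi_unique cv_simple unit_cube_sq hS_up)
open Cfsg.Agent.ChevalleyStructure.SL2Hom (up lo)
open Cfsg.Agent.Nodes.RGDFoldSL (wS hS coe_wS coe_hS)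
open Cfsg.Agent.H307.QE

local notation "SL2 " F => Matrix.SpecialLinearGroup (Fin 2) F

universe u

/-- cube roots of one -/
theorem cube_cases {x y : ℂˣ} (hx : x ^ 3 = 1) (hx1 : x ≠ 1) (hy : y ^ 3 = 1) (hy1 : y ≠ 1) : y = x ∨ y = x⁻¹ := by
  have key : ∀ {z : ℂˣ}, z ^ 3 = 1 → z ≠ 1 → ((z : ℂ) * z + z + 1 = 0) := by
    intro z hz hz1
    have h1 : ((z : ℂ) - 1) * ((z : ℂ) * z + z + 1) = 0 := by
      have h2 : ((z : ℂ)) ^ 3 = 1 := by
        have := congrArg (fun w : ℂˣ => (w : ℂ)) hz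
        simpa only [_root_.Units.val_pow_eq_pow_val, _root_.Units.val_one] using this
      linear_combination h2
    rcases mul_eq_zero.1 h1 with h | h
    · exact absurd (Units.ext (sub_eq_zero.1 h)) hz1
    · exact h
  have hx' := key hx hx1
  have hy' := key hy hy1
  have h1 : ((y : ℂ) - x) * ((y : ℂ) + x + 1) = 0 := by linear_combination hy' - hx'
  rcases mul_eq_zero.1 h1 with h | h
  · exact Or.inl (Units.ext (sub_eq_zero.1 h))
  · right
    rw [eq_inv_iff_mul_eq_one]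
    apply Units.ext
    push_cast
    have h2 : (y : ℂ) = -(x : ℂ) - 1 := by linear_combination h
    rw [h2]
    linear_combination -hx'

/-- characters of order three with a cyclic quotient -/
theorem eq_or_inv {T : Type*} [Group T] {f g : T → ℂˣ} (hf : ∀ t, f t ^ 3 = 1) (hg : ∀ t, g t ^ 3 = 1)
    (hf1 : ∃ t, f t ≠ 1) (hg1 : ∃ t, g t ≠ 1) {t₀ : T} (h : ∀ t, ∃ k : ℕ, f t = f t₀ ^ k ∧ g t = g t₀ ^ k) :
    (∀ t, g t = f t) ∨ ∀ t, g t = (f t)⁻¹ := by
  have h1 : f t₀ ≠ 1 := by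
    intro h1
    obtain ⟨t, ht⟩ := hf1
    obtain ⟨k, hk, -⟩ := h t
    exact ht (by rw [hk, h1, one_pow])
  have h2 : g t₀ ≠ 1 := by
    intro h1
    obtain ⟨t, ht⟩ := hg1
    obtain ⟨k, -, hk⟩ := h t
    exact ht (by rw [hk, h1, one_pow])
  rcases cube_cases (hf t₀) h1 (hg t₀) h2 with h3 | h3
  · left
    intro t
    obtain ⟨k, hk, hk'⟩ := h t
    rw [hk', hk, h3]
  · right
    intro t
    obtain ⟨k, hk, hk'⟩ := h t
    rw [hk', hk, h3, inv_pow]

variable {I W : Type*} {Y : Type u} [Fintype I] [DecidableEq I] [Group W] [Group Y] {M : CoxeterMatrix I}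
  {cs : CoxeterSystem M W} {A : I → I → ℤ} {h : IsCartan M A} {T : Subgroup Y} {n : I → Y}
  {X : (I → ℤ) → Subgroup Y}

/-- `t` centralizes the root group of the node `i` -/
def Cz (X : (I → ℤ) → Subgroup Y) (i : I) (t : Y) : Prop := ∀ x ∈ X (sr i), t * x = x * t

/-- the two linear characters -/
structure L2 (R : RGD cs h 2 T n X) (i j : I) (f g : T →* ℂˣ) : Prop where
  f3 : ∀ t, f t ^ 3 = 1
  g3 : ∀ t, g t ^ 3 = 1
  f1 : ∃ t, f t ≠ 1
  g1 : ∃ t, g t ≠ 1
  fi : ∀ t, f (cv T (R.nsys.norm i) t) = (f t)⁻¹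
  fj : ∀ t, f (cv T (R.nsys.norm j) t) = f t
  gj : ∀ t, g (cv T (R.nsys.norm j) t) = (g t)⁻¹
  gi : ∀ t, g (cv T (R.nsys.norm i) t) = g t * f t
  kf : ∀ t : T, Cz X i (t : Y) → f t = 1
  kg : ∀ t : T, Cz X j (t : Y) → g t = 1
  ci : ∃ t₀ : T, ∀ t : T, ∃ k : ℕ, Cz X i ((t * (t₀ ^ k)⁻¹ : T) : Y)
  cj : ∃ t₀ : T, ∀ t : T, ∃ k : ℕ, Cz X j ((t * (t₀ ^ k)⁻¹ : T) : Y)

section of_nd

/-- the centralizer of the root group from the character of the torus -/
theorem cz_iff {R : RGD cs h 2 T n X} {i : I} {F : Type*} [Field F] {φ : (SL2 F) →* Y} (N : Nd cs h T n X i φ)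
    {χ : T →* Fˣ} (hχ : ∀ (t : T) (a : F), (t : Y) * φ (up a) * (t : Y)⁻¹ = φ (up ((χ t : F) * a))) (t : T) :
    Cz X i (t : Y) ↔ χ t = 1 := by
  constructor
  · intro h1
    refine chi_unique (R := R) (i := i) N hχ ?_
    rw [h1 _ ((N.mem_X _).2 ⟨1, rfl⟩), mul_inv_cancel_right, Units.val_one, one_mul]
  · intro h1 x hx
    obtain ⟨a, rfl⟩ := (N.mem_X _).1 hx
    have h2 := hχ t a
    rw [h1, Units.val_one, one_mul] at h2
    exact mul_inv_eq_iff_eq_mul.1 h2

theorem exists_gen {R : RGD cs h 2 T n X} {i : I} {F : Type*} [Field F] [Finite F] {φ : (SL2 F) →* Y}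
    (N : Nd cs h T n X i φ) {χ : T →* Fˣ}
    (hχ : ∀ (t : T) (a : F), (t : Y) * φ (up a) * (t : Y)⁻¹ = φ (up ((χ t : F) * a))) :
    ∃ t₀ : T, ∀ t : T, ∃ k : ℕ, Cz X i ((t * (t₀ ^ k)⁻¹ : T) : Y) := by
  obtain ⟨⟨c, t₀, rfl⟩, hc⟩ := IsCyclic.exists_generator (α := χ.range)
  refine ⟨t₀, fun t => ?_⟩
  obtain ⟨k, hk⟩ := mem_powers_iff_mem_zpowers.2 (hc ⟨χ t, t, rfl⟩)
  have hk' : χ t₀ ^ k = χ t := congrArg Subtype.val hk
  refine ⟨k, (cz_iff (R := R) N hχ _).2 ?_⟩
  rw [map_mul, map_inv, map_pow, hk', mul_inv_cancel]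

/-- **from the rank one subgroups** (the data of `ratOdd_two_lin`) -/
theorem L2.of_nd (R : RGD cs h 2 T n X) (hT : ∀ x ∈ T, ∀ y ∈ T, x * y = y * x) {i j : I}
    {Fi : Type*} [Field Fi] [Finite Fi] [CharP Fi 2] {φi : (SL2 Fi) →* Y} (Ni : Nd cs h T n X i φi)
    {Fj : Type*} [Field Fj] [Finite Fj] [CharP Fj 2] {φj : (SL2 Fj) →* Y} (Nj : Nd cs h T n X j φj)
    (μi : Fiˣ →* ℂˣ) (μj : Fjˣ →* ℂˣ) (h3i : ∀ u, μi u ^ 3 = 1) (h3j : ∀ u, μj u ^ 3 = 1) (hi1 : ∃ u, μi u ≠ 1)
    (eij : Fjˣ → Fiˣ) (heij : ∀ s : Fjˣ, φj (hS (s : Fj)) * φi (up 1) * (φj (hS (s : Fj)))⁻¹ =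
      φi (up ((eij s : Fi) * 1)))
    (eji : Fiˣ → Fjˣ) (heji : ∀ s : Fiˣ, φi (hS (s : Fi)) * φj (up 1) * (φi (hS (s : Fi)))⁻¹ =
      φj (up ((eji s : Fj) * 1)))
    (hb : ∀ s, μi (eij s) = 1) (hd : ∀ s, μj (eji s) = (μi s)⁻¹) : ∃ f g : T →* ℂˣ, L2 R i j f g := by
  obtain ⟨χi, hχi⟩ := exists_chi Ni R hT
  obtain ⟨χj, hχj⟩ := exists_chi Nj R hT
  have hii : ∀ s : Fiˣ, χi ⟨φi (hS (s : Fi)), Ni.h1 _ s.ne_zero⟩ = s * s := by
    intro s
    refine chi_unique Ni R hχi ?_
    have h2 := congrArg φi (hS_up s.ne_zero 1)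
    rw [map_mul, map_mul] at h2
    rw [mul_inv_eq_iff_eq_mul, h2]
    rfl
  have hjj : ∀ s : Fjˣ, χj ⟨φj (hS (s : Fj)), Nj.h1 _ s.ne_zero⟩ = s * s := by
    intro s
    refine chi_unique Nj R hχj ?_
    have h2 := congrArg φj (hS_up s.ne_zero 1)
    rw [map_mul, map_mul] at h2
    rw [mul_inv_eq_iff_eq_mul, h2]
    rfl
  have hij' : ∀ s : Fjˣ, χi ⟨φj (hS (s : Fj)), Nj.h1 _ s.ne_zero⟩ = eij s := fun s =>
    chi_unique Ni R hχi (heij s)
  have hji' : ∀ s : Fiˣ, χj ⟨φi (hS (s : Fi)), Ni.h1 _ s.ne_zero⟩ = eji s := fun s =>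
    chi_unique Nj R hχj (heji s)
  have hsq : ∀ x : ℂˣ, x ^ 3 = 1 → x * (x * x)⁻¹ = x⁻¹ := fun x _ => by
    rw [mul_inv, ← mul_assoc, mul_inv_cancel, one_mul]
  refine ⟨μi.comp χi, μj.comp χj, fun t => h3i _, fun t => h3j _, ?_, ?_, ?_, ?_, ?_, ?_, ?_, ?_,
    exists_gen (R := R) Ni hχi, exists_gen (R := R) Nj hχj⟩
  · obtain ⟨u, hu⟩ := hi1
    refine ⟨⟨φi (hS (u : Fi)), Ni.h1 _ u.ne_zero⟩, fun h2 => ?_⟩
    rw [MonoidHom.comp_apply, hii, map_mul] at h2
    exact hu (unit_cube_sq (h3i u) h2)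
  · obtain ⟨u, hu⟩ := hi1
    refine ⟨⟨φi (hS (u : Fi)), Ni.h1 _ u.ne_zero⟩, fun h2 => ?_⟩
    rw [MonoidHom.comp_apply, hji', hd, inv_eq_one] at h2
    exact hu h2
  · intro t
    rw [MonoidHom.comp_apply, cv_simple Ni R hT hχi t, map_mul, map_inv, hii, map_mul, map_inv,
      map_mul, MonoidHom.comp_apply]
    exact hsq _ (h3i _)
  · intro t
    rw [MonoidHom.comp_apply, cv_simple Nj R hT hχj t, map_mul, map_inv, hij', map_mul, map_inv,
      hb, inv_one, mul_one]
    rfl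
  · intro t
    rw [MonoidHom.comp_apply, cv_simple Nj R hT hχj t, map_mul, map_inv, hjj, map_mul, map_inv,
      map_mul, MonoidHom.comp_apply]
    exact hsq _ (h3j _)
  · intro t
    rw [MonoidHom.comp_apply, cv_simple Ni R hT hχi t, map_mul, map_inv, hji', map_mul, map_inv,
      hd, inv_inv]
    rfl
  · intro t ht
    rw [MonoidHom.comp_apply, (cz_iff (R := R) Ni hχi t).1 ht, map_one]
  · intro t ht
    rw [MonoidHom.comp_apply, (cz_iff (R := R) Nj hχj t).1 ht, map_one]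

end of_nd

variable {R : RGD cs h 2 T n X} {i j : I} {f g : T →* ℂˣ} {β : MulAut Y} {σ : Equiv.Perm I}

/-- `β` and the centralizers of the root groups -/
theorem cz_map (hD : Diag T X β σ) {k : I} {t : Y} (ht : Cz X k t) : Cz X (σ k) (β t) := by
  intro x hx
  have h1 : β⁻¹ x ∈ X (sr k) := by
    rw [← hD.pos, MulAut.apply_inv_self]
    exact hx
  have h2 := congrArg β (ht _ h1)
  rwa [map_mul, map_mul, MulAut.apply_inv_self] at h2

/-- the torus and `β n_k` -/
theorem beta_cv [Finite W] (hN : Nrm R β σ) (hT : ∀ x ∈ T, ∀ y ∈ T, x * y = y * x) (k : I) (t : T) :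
    rAut β hN.fixT (cv T (R.nsys.norm k) t) = cv T (R.nsys.norm (σ k)) (rAut β hN.fixT t) := by
  apply Subtype.ext
  rw [rAut_coe, coe_cv, coe_cv, rAut_coe, map_mul, map_mul, map_inv]
  have h1 := Rp.unique (hN.diag.rp (R := R) k) (rp_simple cs R.nsys (σ k))
  have h2 : (β (n k))⁻¹ * β t * β (n k) ∈ T := by
    have h3 : β ((cv T (R.nsys.norm k) t : T) : Y) ∈ T := (hN.fixT _).2 (cv T (R.nsys.norm k) t).2
    rwa [coe_cv, map_mul, map_mul, map_inv] at h3
  have h3 := hT _ h1 _ h2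
  have h4 : (n (σ k))⁻¹ * β t * n (σ k) =
      ((β (n k))⁻¹ * n (σ k))⁻¹ * (((β (n k))⁻¹ * β t * β (n k)) * ((β (n k))⁻¹ * n (σ k))) := by group
  rw [h4, ← h3]
  group

namespace L2

theorem f_pow (L : L2 R i j f g) : ∃ t₀ : T, ∀ t : T, ∃ k : ℕ, f t = f t₀ ^ k ∧ Cz X i ((t * (t₀ ^ k)⁻¹ : T) : Y) := by
  obtain ⟨t₀, ht₀⟩ := L.ci
  refine ⟨t₀, fun t => ?_⟩
  obtain ⟨k, hk⟩ := ht₀ t
  refine ⟨k, ?_, hk⟩
  have h1 := L.kf _ hk
  rw [map_mul, map_inv, map_pow] at h1
  exact mul_inv_eq_one.1 h1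

theorem g_pow (L : L2 R i j f g) : ∃ t₀ : T, ∀ t : T, ∃ k : ℕ, g t = g t₀ ^ k ∧ Cz X j ((t * (t₀ ^ k)⁻¹ : T) : Y) := by
  obtain ⟨t₀, ht₀⟩ := L.cj
  refine ⟨t₀, fun t => ?_⟩
  obtain ⟨k, hk⟩ := ht₀ t
  refine ⟨k, ?_, hk⟩
  have h1 := L.kg _ hk
  rw [map_mul, map_inv, map_pow] at h1
  exact mul_inv_eq_one.1 h1

/-- **The nodes are fixed.** -/
theorem sigma [Finite W] (L : L2 R i j f g) (hT : ∀ x ∈ T, ∀ y ∈ T, x * y = y * x) (hI : ∀ k, k = i ∨ k = j)
    (hN : Nrm R β σ) : σ = 1 := by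
  rcases hI (σ i) with hi | hi
  · ext k
    rw [Equiv.Perm.one_apply]
    rcases hI k with rfl | rfl
    · exact hi
    · rcases hI (σ k) with hk | hk
      · have h1 : k = i := σ.injective (hk.trans hi.symm)
        rw [h1]
        exact hi
      · exact hk
  · exfalso
    by_cases hij : i = j
    · subst hij
      -- impossible: `f (cv i) = f⁻¹ = f`
      obtain ⟨t, ht⟩ := L.f1
      have h1 := (L.fi t).symm.trans (L.fj t)
      have h2 : f t * f t = 1 := inv_eq_iff_mul_eq_one.1 h1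
      exact ht (unit_cube_sq (L.f3 t) h2)
    have hj : σ j = i := by
      rcases hI (σ j) with hj | hj
      · exact hj
      · exact absurd (σ.injective (hi.trans hj.symm)) hij
    -- `g ∘ β = f ^ ± 1`
    let g' : T → ℂˣ := fun t => g (rAut β hN.fixT t)
    obtain ⟨t₀, ht₀⟩ := L.f_pow
    have hg1 : ∃ t, g' t ≠ 1 := by
      obtain ⟨t, ht⟩ := L.g1
      refine ⟨(rAut β hN.fixT).symm t, ?_⟩
      show g (rAut β hN.fixT ((rAut β hN.fixT).symm t)) ≠ 1
      rw [MulEquiv.apply_symm_apply]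
      exact ht
    have h1 : (∀ t, g' t = f t) ∨ ∀ t, g' t = (f t)⁻¹ := by
      refine eq_or_inv L.f3 (fun t => L.g3 _) L.f1 hg1 (t₀ := t₀) fun t => ?_
      obtain ⟨k, hk, hc⟩ := ht₀ t
      refine ⟨k, hk, ?_⟩
      have h2 : Cz X j ((rAut β hN.fixT (t * (t₀ ^ k)⁻¹) : T) : Y) := by
        rw [rAut_coe, ← hi]
        exact cz_map hN.diag hc
      have h3 := L.kg _ h2
      rw [map_mul, map_inv, map_pow, map_mul, map_inv, map_pow] at h3
      exact mul_inv_eq_one.1 h3
    -- `f ∘ cv j = f`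
    have h2 : ∀ t, g' (cv T (R.nsys.norm j) t) = g' t := by
      intro t
      rcases h1 with h1 | h1 <;> rw [h1, h1, L.fj]
    obtain ⟨t, ht⟩ := L.f1
    apply ht
    have h3 := h2 ((rAut β hN.fixT).symm t)
    have h4 : g' (cv T (R.nsys.norm j) ((rAut β hN.fixT).symm t)) = g (cv T (R.nsys.norm i) t) := by
      show g (rAut β hN.fixT _) = _
      rw [beta_cv hN hT, MulEquiv.apply_symm_apply]
      have h5 : ∀ {k : I}, k = i → g (cv T (R.nsys.norm k) t) = g (cv T (R.nsys.norm i) t) := by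
        rintro k rfl; rfl
      exact h5 hj
    have h5 : g' ((rAut β hN.fixT).symm t) = g t := by
      show g (rAut β hN.fixT _) = _
      rw [MulEquiv.apply_symm_apply]
    rw [h4, h5, L.gi, mul_eq_left] at h3
    exact h3

theorem beta_f [Finite W] (L : L2 R i j f g) (hN : Nrm R β 1) :
    (∀ t, f (rAut β hN.fixT t) = f t) ∨ ∀ t, f (rAut β hN.fixT t) = (f t)⁻¹ := by
  obtain ⟨t₀, ht₀⟩ := L.f_pow
  refine eq_or_inv (g := fun t => f (rAut β hN.fixT t)) L.f3 (fun t => L.f3 _) L.f1 ?_ (t₀ := t₀) fun t => ?_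
  · obtain ⟨t, ht⟩ := L.f1
    refine ⟨(rAut β hN.fixT).symm t, ?_⟩
    show f (rAut β hN.fixT ((rAut β hN.fixT).symm t)) ≠ 1
    rw [MulEquiv.apply_symm_apply]
    exact ht
  · obtain ⟨k, hk, hc⟩ := ht₀ t
    refine ⟨k, hk, ?_⟩
    have h2 : Cz X i ((rAut β hN.fixT (t * (t₀ ^ k)⁻¹) : T) : Y) := by
      rw [rAut_coe]
      exact cz_map hN.diag hc
    have h3 := L.kf _ h2
    rw [map_mul, map_inv, map_pow, map_mul, map_inv, map_pow] at h3
    exact mul_inv_eq_one.1 h3

theorem beta_g [Finite W] (L : L2 R i j f g) (hN : Nrm R β 1) :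
    (∀ t, g (rAut β hN.fixT t) = g t) ∨ ∀ t, g (rAut β hN.fixT t) = (g t)⁻¹ := by
  obtain ⟨t₀, ht₀⟩ := L.g_pow
  refine eq_or_inv (g := fun t => g (rAut β hN.fixT t)) L.g3 (fun t => L.g3 _) L.g1 ?_ (t₀ := t₀) fun t => ?_
  · obtain ⟨t, ht⟩ := L.g1
    refine ⟨(rAut β hN.fixT).symm t, ?_⟩
    show g (rAut β hN.fixT ((rAut β hN.fixT).symm t)) ≠ 1
    rw [MulEquiv.apply_symm_apply]
    exact ht
  · obtain ⟨k, hk, hc⟩ := ht₀ t
    refine ⟨k, hk, ?_⟩
    have h2 : Cz X j ((rAut β hN.fixT (t * (t₀ ^ k)⁻¹) : T) : Y) := by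
      rw [rAut_coe]
      exact cz_map hN.diag hc
    have h3 := L.kg _ h2
    rw [map_mul, map_inv, map_pow, map_mul, map_inv, map_pow] at h3
    exact mul_inv_eq_one.1 h3

/-- **`f` is stable up to the Weyl group.** -/
theorem stable_f [Finite W] (L : L2 R i j f g) (hN : Nrm R β 1) : ∃ (w : W) (y : Y) (hy : Rp cs R.nsys w y),
    f.comp (rAut β hN.fixT).toMonoidHom = f.comp (cv T hy.mem_normalizer) := by
  rcases L.beta_f hN with h1 | h1
  · refine ⟨1, 1, rp_one, ?_⟩
    ext t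
    congr 1
    show f (rAut β hN.fixT t) = f (cv T _ t)
    rw [h1]
    congr 1
    apply Subtype.ext
    rw [coe_cv]
    simp
  · refine ⟨cs.simple i, n i, rp_simple cs R.nsys i, ?_⟩
    ext t
    congr 1
    show f (rAut β hN.fixT t) = f (cv T _ t)
    rw [h1]
    exact (L.fi t).symm

/-- **`g` is stable up to the Weyl group.** -/
theorem stable_g [Finite W] (L : L2 R i j f g) (hN : Nrm R β 1) : ∃ (w : W) (y : Y) (hy : Rp cs R.nsys w y),
    g.comp (rAut β hN.fixT).toMonoidHom = g.comp (cv T hy.mem_normalizer) := by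
  rcases L.beta_g hN with h1 | h1
  · refine ⟨1, 1, rp_one, ?_⟩
    ext t
    congr 1
    show g (rAut β hN.fixT t) = g (cv T _ t)
    rw [h1]
    congr 1
    apply Subtype.ext
    rw [coe_cv]
    simp
  · refine ⟨cs.simple j, n j, rp_simple cs R.nsys j, ?_⟩
    ext t
    congr 1
    show g (rAut β hN.fixT t) = g (cv T _ t)
    rw [h1]
    exact (L.gj t).symm

theorem f_ne (L : L2 R i j f g) : f ≠ 1 := by
  rintro rfl
  obtain ⟨t, ht⟩ := L.f1
  exact ht rfl

theorem g_ne (L : L2 R i j f g) : g ≠ 1 := by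
  rintro rfl
  obtain ⟨t, ht⟩ := L.g1
  exact ht rfl

/-- **`f` and `g` are not conjugate.** -/
theorem not_conj [Finite W] (L : L2 R i j f g) (hT : ∀ x ∈ T, ∀ y ∈ T, x * y = y * x) (hI : ∀ k, k = i ∨ k = j)
    (w : W) (y : Y) (hy : Rp cs R.nsys w y) : f.comp (cv T hy.mem_normalizer) ≠ g := by
  intro he
  have h1 : f.comp (cv T hy.mem_normalizer) ∈ ({f, f⁻¹} : Set (T →* ℂˣ)) := by
    refine H687.FourK.comp_mem_of_closed R hT {f, f⁻¹} ?_ w f (Or.inl rfl) y hy
    intro k e he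
    have hcase : ∀ {u : T →* ℂˣ}, (u = f ∨ u = f⁻¹) → u ∈ ({f, f⁻¹} : Set (T →* ℂˣ)) := fun h => h
    rcases he with rfl | he
    · rcases hI k with rfl | rfl
      · refine hcase (Or.inr ?_)
        ext t
        congr 1
        exact L.fi t
      · refine hcase (Or.inl ?_)
        ext t
        congr 1
        exact L.fj t
    · rw [Set.mem_singleton_iff] at he
      subst he
      rcases hI k with rfl | rfl
      · refine hcase (Or.inl ?_)
        ext t
        congr 1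
        show (f (cv T _ t))⁻¹ = f t
        rw [L.fi, inv_inv]
      · refine hcase (Or.inr ?_)
        ext t
        congr 1
        show (f (cv T _ t))⁻¹ = (f t)⁻¹
        rw [L.fj]
  rw [he] at h1
  obtain ⟨t, ht⟩ := L.g1
  apply ht
  have h2 : g (cv T (R.nsys.norm j) t) = g t := by
    rcases h1 with h1 | h1
    · rw [h1]; exact L.fj t
    · rw [Set.mem_singleton_iff] at h1
      rw [h1]
      show (f (cv T _ t))⁻¹ = (f t)⁻¹
      rw [L.fj]
  rw [L.gj] at h2
  exact unit_cube_sq (L.g3 t) (inv_eq_iff_mul_eq_one.1 h2)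

end L2

end Cfsg.Agent.H433.K547
end

-- part: H433/K547/GRows
section
/-!
# S4547, QE13: `G₂(q)` and `³D₄(q)`, `q` even (helper433)

* `isInn_of_odd` : if `|Out S|` is odd then an automorphism of `2`-power order modulo inner ones is inner;
* `row_G2`, `row_3D4` : `GInv3 τ` for `τ` not inner.
-/

set_option autoImplicit false
set_option linter.unusedSectionVars false

open scoped ComplexConjugate
open Cfsg

namespace Cfsg.Agent.H433.K547

open Cfsg.Agent.H821.K547 Cfsg.Agent.H307.QE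
open CoxeterSystem Cfsg.Agent.ChevalleyStructure.CoxeterGeom Cfsg.Agent.Tits.Roots Cfsg.Agent.Tits.Core
  Cfsg.Agent.Tits.Exchange Cfsg.Agent.Nodes.Reps Cfsg.Agent.Nodes.BNOf Cfsg.Agent.Nodes.StabComb
  Cfsg.Agent.Nodes.Bruhat Cfsg.Agent.Nodes.OppDec Cfsg.Agent.Nodes.LeviDec Cfsg.Agent.H53.HC
  Cfsg.Agent.KFacts.RgdAut Cfsg.Agent.H246.Dl Cfsg.Agent.KFacts.RgdDiag

universe u v

section out

variable {S : Type u} [Group S]

theorem isInn_of_odd [Finite S] (ho : Odd (Nat.card (Cfsg.Out S))) {τ : MulAut S} (hτ : TwoPow τ) : IsInn τ := by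
  obtain ⟨k, s, hs⟩ := hτ
  have h1 : (QuotientGroup.mk τ : Cfsg.Out S) ^ 2 ^ k = 1 := by
    rw [← QuotientGroup.mk_pow, QuotientGroup.eq_one_iff]
    exact ⟨s, by ext x; exact (hs x).symm⟩
  have h2 : orderOf (QuotientGroup.mk τ : Cfsg.Out S) ∣ 2 ^ k := orderOf_dvd_of_pow_eq_one h1
  have h3 : orderOf (QuotientGroup.mk τ : Cfsg.Out S) ∣ Nat.card (Cfsg.Out S) := orderOf_dvd_natCard _
  have h4 : orderOf (QuotientGroup.mk τ : Cfsg.Out S) = 1 :=
    Nat.eq_one_of_dvd_coprimes ((Nat.coprime_two_right.2 ho).pow_right k) h3 h2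
  rw [orderOf_eq_one_iff, QuotientGroup.eq_one_iff] at h4
  obtain ⟨g, hg⟩ := h4
  exact ⟨g, fun x => by rw [← hg]; rfl⟩

end out

/-- `3 ∣ q - 1` for an even power -/
theorem three_dvd {f : ℕ} (hf : Even f) : 3 ∣ 2 ^ f - 1 := by
  obtain ⟨k, rfl⟩ := hf
  rw [← two_mul, pow_mul]
  have h1 : (2 ^ 2 - 1) ∣ (2 ^ 2) ^ k - 1 ^ k := Nat.sub_dvd_pow_sub_pow _ _ _
  rwa [one_pow] at h1

section core

variable {I W : Type*} {Y : Type u} [Fintype I] [DecidableEq I] [Group W] [Group Y] {M : CoxeterMatrix I}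
  {cs : CoxeterSystem M W} {A : I → I → ℤ} {h : IsCartan M A} {T : Subgroup Y} {n : I → Y}
  {X : (I → ℤ) → Subgroup Y}

/-- **`GInv3` from the two linear characters.** -/
theorem gInv3_of_L2 (R : RGD cs h 2 T n X) [Finite W] [Finite Y] (hG : GG cs h T X = ⊤)
    (hT : ∀ x ∈ T, ∀ y ∈ T, x * y = y * x) {i j : I} (hI : ∀ k, k = i ∨ k = j) {f g : T →* ℂˣ}
    (L : L2 R i j f g) (hC : H601.OddDeg.TwoC Y) {τ : MulAut Y} (hτ : TwoPow τ) : GInv3 τ := by
  obtain ⟨s, σ, hN⟩ := exists_nrm R hG hτ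
  obtain rfl := L.sigma hT hI hN
  refine gInv3_conj s ?_
  refine H118.K547.gInv3_of_homs hN hG hC g f L.g_ne L.f_ne ?_ ?_ ?_
  · intro x hx
    by_contra hcon
    push Not at hcon
    obtain ⟨w, hw⟩ := id hx
    refine L.not_conj hT hI w x hw ?_
    ext t
    congr 1
    exact (hcon t).symm
  · obtain ⟨w, y, hy, e⟩ := L.stable_g hN
    exact ⟨y, ⟨w, hy⟩, fun t => DFunLike.congr_fun e t⟩
  · obtain ⟨w, y, hy, e⟩ := L.stable_f hN
    exact ⟨y, ⟨w, hy⟩, fun t => DFunLike.congr_fun e t⟩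

end core

section rows

open Cfsg.Agent.H619.Gow (Nd nh nh_act nd_chev isTypeG2 cartan01 cartan10 diag_comm two_nodes Pd ln nd_tw act01 act10
  mem_Fx3 fx1 nm nm_surj)
open Cfsg.Agent.H650.GowLin (exists_lam)
open Cfsg.Agent.ChevalleyStructure.SL2Hom (up lo)
open Cfsg.Agent.Nodes.RGDFoldSL (wS hS coe_wS coe_hS Fx mem_Fx)
open Cfsg.Lie Cfsg.Agent.ChevalleyStructure Cfsg.Agent.ChevalleyStructure.Elts Cfsg.Agent.ChevalleyStructure.NPerm
  Cfsg.Agent.Nodes.RGDChev

/-- **`G₂(q)`** -/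
theorem model_G2 {F : Type u} [Field F] [Fintype F] [CharP F 2] (hF : 3 ≤ Fintype.card F)
    (hC : H601.OddDeg.TwoC (Lie.chevG2.group F)) {τ : MulAut (Lie.chevG2.group F)} (hτ : TwoPow τ) (hni : ¬ IsInn τ) :
    GInv3 τ := by
  have : Fact (Nat.Prime 2) := ⟨Nat.prime_two⟩
  have : Finite CoxeterMatrix.G₂.Group := finite_W isTypeG2 CoxeterMatrix.G₂.toCoxeterSystem
  have R := Cfsg.Agent.Nodes.RGDChev.rgd (K := F) isTypeG2 CoxeterMatrix.G₂.toCoxeterSystem 2
  have hG : GG CoxeterMatrix.G₂.toCoxeterSystem isTypeG2.isCartan ((chevG2.diagonalSubgroup F).subgroupOf (chevG2.group F))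
      (fun x => (XV chevG2 2 F x).subgroupOf (chevG2.group F)) = ⊤ :=
    Cfsg.Agent.KFacts.RgdFilt.GG_eq_top (Cfsg.Agent.Nodes.RGDChev.G1_eq_top isTypeG2 _)
  have hT : ∀ x ∈ (chevG2.diagonalSubgroup F).subgroupOf (chevG2.group F),
      ∀ y ∈ (chevG2.diagonalSubgroup F).subgroupOf (chevG2.group F), x * y = y * x := by
    intro x hx y hy
    exact Subtype.ext (diag_comm isTypeG2.inList (Subgroup.mem_subgroupOf.1 hx) (Subgroup.mem_subgroupOf.1 hy))
  have N0 := nd_chev (K := F) isTypeG2 CoxeterMatrix.G₂.toCoxeterSystem 0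
  have N1 := nd_chev (K := F) isTypeG2 CoxeterMatrix.G₂.toCoxeterSystem 1
  have h3 : 3 ∣ Nat.card F - 1 := by
    obtain ⟨f, hp, hf⟩ := FiniteField.card F 2
    rw [Nat.card_eq_fintype_card, hf]
    refine three_dvd ?_
    by_contra ho
    rw [Nat.not_even_iff_odd] at ho
    have h1 := Cfsg.Agent.S2121.result (F := F) 2 f hf (by rw [← hf]; exact hF)
    rw [if_neg (by decide)] at h1
    exact hni (isInn_of_odd (by rw [h1]; exact ho) hτ)
  obtain ⟨lam, hl3, hl1⟩ := exists_lam (F := F) (by rwa [Nat.card_units])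
  obtain ⟨f, g, L⟩ := L2.of_nd R hT N1 N0 lam lam hl3 hl3 hl1 (fun s => s⁻¹ ^ 3) (by
      intro s
      rw [nh_act isTypeG2 0 1 s.ne_zero 1, cartan01]
      congr 3
      rw [Units.val_pow_eq_pow_val, Units.val_inv_eq_inv_val, zpow_neg, inv_pow]
      congr 1
      exact zpow_natCast (s : F) 3)
    (fun s => s⁻¹) (by
      intro s
      rw [nh_act isTypeG2 1 0 s.ne_zero 1, cartan10]
      congr 3
      rw [Units.val_inv_eq_inv_val, zpow_neg, zpow_one])
    (fun s => by rw [map_pow, hl3]) (fun s => by rw [map_inv])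
  exact gInv3_of_L2 R hG hT (two_nodes (by decide)) L hC hτ

/-- **`³D₄(q)`** -/
theorem model_3D4 {K : Type u} [Field K] [Fintype K] [CharP K 2] {q : ℕ} (hq : IsPrimePow q)
    (hK : Fintype.card K = q ^ 3) (hC : H601.OddDeg.TwoC (Lie.twistedD4 K q)) {τ : MulAut (Lie.twistedD4 K q)}
    (hτ : TwoPow τ) (hni : ¬ IsInn τ) : GInv3 τ := by
  have : Fact (Nat.Prime 2) := ⟨Nat.prime_two⟩
  obtain ⟨φ, hφ⟩ := D4Fixed.exists_frob hq hK
  have hle := D4Fixed.twisted_le_fix hK hφ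
  have h3 := fun t => mem_Fx3 (φ := φ) hK hφ t
  have : Finite CoxeterMatrix.G₂.Group := finite_W isTypeG2 CoxeterMatrix.G₂.toCoxeterSystem
  have R := Nodes.RGDTwD4.rgd (K := K) CoxeterMatrix.G₂.toCoxeterSystem hK hφ 2
  have hG : GG CoxeterMatrix.G₂.toCoxeterSystem Nodes.RGDTwD4.isCartan (Nodes.RGDTwD4.T K q)
      (Nodes.RGDTwD4.X φ q) = ⊤ :=
    Cfsg.Agent.KFacts.RgdFilt.GG_eq_top (Nodes.RGDTwD4.G1_eq_top CoxeterMatrix.G₂.toCoxeterSystem hK hφ)
  have hT : ∀ x ∈ Nodes.RGDTwD4.T K q, ∀ y ∈ Nodes.RGDTwD4.T K q, x * y = y * x := by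
    intro x hx y hy
    exact Subtype.ext (diag_comm Nodes.RGDTwD4.hp.inList (Subgroup.mem_inf.1 (Subgroup.mem_subgroupOf.1 hx)).1
      (Subgroup.mem_inf.1 (Subgroup.mem_subgroupOf.1 hy)).1)
  have N0 := nd_tw hφ hle CoxeterMatrix.G₂.toCoxeterSystem 0
  have N1 := nd_tw hφ hle CoxeterMatrix.G₂.toCoxeterSystem 1
  have c0 : CharP (Fx φ (ln 0)) 2 := (RingHom.charP_iff _ (Fx φ (ln 0)).subtype.injective 2).2 inferInstance
  have c1 : CharP (Fx φ (ln 1)) 2 := (RingHom.charP_iff _ (Fx φ (ln 1)).subtype.injective 2).2 inferInstance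
  have f0 : Finite (Fx φ (ln 0)) := inferInstance
  have f1 : Finite (Fx φ (ln 1)) := inferInstance
  -- `q` is a square
  obtain ⟨f, hf1, hf⟩ : ∃ f : ℕ, 1 ≤ f ∧ q = 2 ^ f := by
    obtain ⟨m, -, hm⟩ := FiniteField.card K 2
    have h1 : q ∣ 2 ^ (m : ℕ) := by
      rw [← hm, hK]
      exact dvd_pow_self q (by norm_num)
    obtain ⟨f, -, hf⟩ := (Nat.dvd_prime_pow Nat.prime_two).1 h1
    refine ⟨f, ?_, hf⟩
    rcases Nat.eq_zero_or_pos f with h0 | h0
    · have := hq.two_le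
      rw [hf, h0] at this
      norm_num at this
    · exact h0
  have hev : Even f := by
    by_contra ho
    rw [Nat.not_even_iff_odd] at ho
    have h1 := Cfsg.Agent.S2129.result (K := K) 2 f (by rw [hK, hf, ← pow_mul, mul_comm]) hf1
    rw [← hf] at h1
    exact hni (isInn_of_odd (by rw [h1]; exact Odd.mul (by decide) ho) hτ)
  have hd : 3 ∣ Nat.card (Fx φ (ln 0)) - 1 := by
    have hq3 : 3 ∣ q - 1 := by rw [hf]; exact three_dvd hev
    have hk3 : 3 ∣ Nat.card Kˣ := by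
      rw [Nat.card_units, Nat.card_eq_fintype_card, hK]
      have h1 : (q - 1) ∣ q ^ 3 - 1 ^ 3 := Nat.sub_dvd_pow_sub_pow _ _ _
      rw [one_pow] at h1
      exact hq3.trans h1
    have : Fact (Nat.Prime 3) := ⟨Nat.prime_three⟩
    obtain ⟨u, hu⟩ := exists_prime_orderOf_dvd_card' 3 hk3
    have huq : ((u : Kˣ) : K) ^ q = (u : K) := by
      obtain ⟨c, hc⟩ := hq3
      have h2 : q = 3 * c + 1 := by
        have := hq.two_le
        omega
      rw [h2, pow_succ, pow_mul, ← Units.val_pow_eq_pow_val, ← hu, pow_orderOf_eq_one, Units.val_one, one_pow, one_mul]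
    have hmem : ((u : Kˣ) : K) ∈ Fx φ (ln 0) := mem_Fx.2 ((hφ _).trans huq)
    let v : (Fx φ (ln 0))ˣ := Units.mk0 ⟨(u : K), hmem⟩ fun h => u.ne_zero (congrArg Subtype.val h)
    have hv : orderOf v = 3 := by
      refine orderOf_eq_prime ?_ fun h1 => ?_
      · apply Units.ext
        apply Subtype.ext
        show ((u : Kˣ) : K) ^ 3 = 1
        rw [← Units.val_pow_eq_pow_val, ← hu, pow_orderOf_eq_one, Units.val_one]
      · have h2 : u = 1 := Units.ext (congrArg (fun w : (Fx φ (ln 0))ˣ => ((w : Fx φ (ln 0)) : K)) h1)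
        rw [h2, orderOf_one] at hu
        omega
    rw [← Nat.card_units, ← hv]
    exact orderOf_dvd_natCard v
  obtain ⟨lam, hl3, u, hl1⟩ := exists_lam (F := Fx φ (ln 0)) (by rwa [Nat.card_units])
  -- the inclusion of the fixed field
  let ic : (Fx φ (ln 0))ˣ → (Fx φ (ln 1))ˣ := fun s =>
    Units.mk0 ⟨((s⁻¹ : (Fx φ (ln 0))ˣ) : Fx φ (ln 0)), mem_Fx.2 (h3 _)⟩
      fun h => (s⁻¹).ne_zero (Subtype.ext (congrArg (fun x : Fx φ (ln 1) => (x : K)) h))
  obtain ⟨f', g, L⟩ := L2.of_nd R hT N1 N0 (lam.comp (Units.map (nm h3))) lam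
    (fun t => hl3 _) hl3 (by
      obtain ⟨t, ht⟩ := nm_surj hq.one_lt hK hφ h3 u
      exact ⟨t, by rw [MonoidHom.comp_apply, ht]; exact hl1⟩) ic (by
      intro s
      refine act01 hφ hle _ s.ne_zero (fx1 _) _ _ ?_
      show (((s⁻¹ : (Fx φ (ln 0))ˣ) : Fx φ (ln 0)) : K) * 1 = ((s : Fx φ (ln 0)) : K)⁻¹ * 1
      rw [Units.val_inv_eq_inv_val]
      rfl) (fun s => (Units.map (nm h3) s)⁻¹) (by
      intro s
      refine act10 hφ hle _ s.ne_zero _ _ ?_
      show ((((Units.map (nm h3) s)⁻¹ : (Fx φ (ln 0))ˣ) : Fx φ (ln 0)) : K) * 1 = _ * 1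
      rw [Units.val_inv_eq_inv_val]
      rfl) (by
      intro s
      have e : Units.map (nm h3) (ic s) = s⁻¹ ^ 3 := by
        apply Units.ext
        apply Subtype.ext
        have e1 : φ (((s⁻¹ : (Fx φ (ln 0))ˣ) : Fx φ (ln 0)) : K) = (((s⁻¹ : (Fx φ (ln 0))ˣ) : Fx φ (ln 0)) : K) := fx1 _
        show (((s⁻¹ : (Fx φ (ln 0))ˣ) : Fx φ (ln 0)) : K) * φ (((s⁻¹ : (Fx φ (ln 0))ˣ) : Fx φ (ln 0)) : K) *
          φ (φ (((s⁻¹ : (Fx φ (ln 0))ˣ) : Fx φ (ln 0)) : K)) = (((s⁻¹ ^ 3 : (Fx φ (ln 0))ˣ) : Fx φ (ln 0)) : K)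
        rw [e1, e1, Units.val_pow_eq_pow_val]
        show _ = (((s⁻¹ : (Fx φ (ln 0))ˣ) : Fx φ (ln 0)) : K) ^ 3
        ring
      rw [MonoidHom.comp_apply, e, map_pow, hl3]) (by
      intro s
      rw [map_inv]
      rfl)
  exact gInv3_of_L2 R hG hT (two_nodes (by decide)) L hC hτ

variable {S : Type u} [Group S] [Finite S] [IsSimpleGroup S]

end rows

end Cfsg.Agent.H433.K547
end

-- part: H42/K547/EvenPlug2
section
/-!
# S4547, groups of Lie type of characteristic two: the landed inputs (helper42)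

`edgeE` (helper307, helper967), `psl2` (helper269), `psl_swap_of` (helper680, helper839; `PSL₃(q)` as hypothesis),
`g2`, `d4` (helper433).
-/

set_option autoImplicit false

open Cfsg

namespace Cfsg.Agent.H42.K547.Even

open CoxeterSystem Cfsg.Agent.ChevalleyStructure.CoxeterGeom Cfsg.Agent.Tits.Roots Cfsg.Agent.Tits.Core
  Cfsg.Agent.Nodes.BNOf Cfsg.Agent.Nodes.Bruhat Cfsg.Agent.H821.K547 Cfsg.Agent.H307.QE Cfsg.Agent.H671.K547
open Cfsg.Agent.LieRecognition.BNCox (cA)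

universe u v

/-- **Theorem E** -/
theorem edgeE : EdgeE.{u} := by
  intro S _ _ l M _ A h T n X R hG hT β σ hN i j hij hi hj
  have hK : σ '' {i, j} = {i, j} := by rw [Set.image_pair, hi, hj]
  have hne : i ≠ j := by
    rintro rfl
    rw [M.diagonal] at hij
    omega
  exact gInv3_edge R hG hT hN hne hi hK (H967.K547.LemmaC.ocs_pair R hG hN hij hi hj hK)

theorem psl2 {F : Type} [Field F] [Fintype F] [CharP F 2] (hq : 4 ≤ Fintype.card F) :
    GE (Matrix.ProjectiveSpecialLinearGroup (Fin 2) F) :=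
  fun _ h1 h2 => Or.inr (H269.K547.PslE.extAll hq h1 h2)

/-- the swaps, given `PSL₃(q)` -/
theorem psl_swap_of
    (h3 : ∀ {F : Type} [Field F] [Fintype F] [CharP F 2], 4 ≤ Fintype.card F →
      ∀ {β : MulAut (Matrix.ProjectiveSpecialLinearGroup (Fin 3) F)} {σ : Equiv.Perm (Fin 2)},
        Nrm (rA 2 F) β σ → σ ≠ 1 → GInv3 β)
    {F : Type} [Field F] [Fintype F] [CharP F 2] {n : ℕ} (hn : 2 ≤ n) (h4 : n ≤ 3 → 4 ≤ Fintype.card F)
    {β : MulAut (Matrix.ProjectiveSpecialLinearGroup (Fin (n + 1)) F)} {σ : Equiv.Perm (Fin n)}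
    (hN : Nrm (rA n F) β σ) (hσ : σ ≠ 1) : GInv3 β := by
  obtain rfl | hn3 : n = 2 ∨ 3 ≤ n := by omega
  · exact h3 (h4 (by norm_num)) hN hσ
  · rcases Nat.lt_or_ge (Fintype.card F) 4 with hF | hF
    · have h2 : Nat.card F = 2 := by
        rw [Nat.card_eq_fintype_card]
        obtain ⟨m, hm, hm'⟩ := FiniteField.card F 2
        have h5 := m.pos
        have h1 : (m : ℕ) < 2 := by
          by_contra hlt
          have h2 : 2 ^ 2 ≤ 2 ^ (m : ℕ) := Nat.pow_le_pow_right (by norm_num) (by omega)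
          omega
        have h6 : (m : ℕ) = 1 := by omega
        rw [hm', h6]
        norm_num
      exact H839.K547.psl_swap_two h2 hn3 hN hσ
    · exact H680.K547.PslGraph.gInv3_nrm hn3 hF β hN.pow

theorem g2 {F : Type} [Field F] [Fintype F] [CharP F 2] (hF : 4 ≤ Fintype.card F)
    (h : Nice ↥(Lie.chevG2.group F)) : GE ↥(Lie.chevG2.group F) :=
  GE.of_gInv3 fun _ h1 h2 => H433.K547.model_G2 (by omega) h.twoC h1 h2

theorem d4 {K : Type} [Field K] [Fintype K] [CharP K 2] {q : ℕ} (hq : IsPrimePow q) (hK : Fintype.card K = q ^ 3)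
    (h : Nice ↥(Lie.twistedD4 K q)) : GE ↥(Lie.twistedD4 K q) :=
  GE.of_gInv3 fun _ h1 h2 => H433.K547.model_3D4 hq hK h.twoC h1 h2

end Cfsg.Agent.H42.K547.Even
end

private theorem dce_ed0005588999 : _root_.True := by
  try have : _root_.True := by simp only [_root_.Cfsg.Agent.H726.Four.cT.congr_simp]
  try have : _root_.True := by simp only [_root_.Cfsg.Agent.H269.K547.PslE.un.eq_1]
  try have : _root_.True := by simp only [_root_.Cfsg.Agent.H684.BlockTools.infl.congr_simp]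
  exact _root_.True.intro
end

-- part: H174/K547/RankOne_mg
section
prune_inst 0x404002a241a8010000000000080001e168000000010080800080102040600280005008060000000034020010000040000000000a00000000000000000000000001040800400010000800000000000000000000000000000000000000000000000000000000
set_option linter.all false
open scoped Cfsg.Agent.FastGrp

-- part: H174/K547/RankOne
section
/-!
# S4547: `D3` for the groups of rank one in characteristic two (helper174, task 5041)

* `D3_psl2` : `PSL₂(q)`, `q ≥ 8` even; `D3_sz` : `Sz(q)`; `D3_psu3` : `PSU₃(q)`, `q ≥ 4` even;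
* `xcond_psl24`, `xcond_psl32` : `XCond` for `PSL₂(4)`, `PSL₃(2)`.
-/

set_option autoImplicit false
set_option linter.unusedSectionVars false

namespace Cfsg.Agent.H174.K547

open Cfsg Cfsg.Agent.H821.K547 Matrix

universe u v

theorem Rk.congr {n : ℕ} {P : Type u} {Q : Type v} [Group P] [Group Q] (e : P ≃* Q) (h : Rk n Q) : Rk n P := by
  obtain ⟨f, hf⟩ := h
  exact ⟨f.comp e.toMonoidHom, hf.comp e.surjective⟩

/-- a homomorphism onto an elementary abelian group of order at least eight -/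
theorem rk_of_hom {P : Type u} [Group P] {A : Type v} [AddCommGroup A] [Finite A] (f : P →* Multiplicative A)
    (hf : Function.Surjective f) (h2 : ∀ a : A, a + a = 0) (hA : 8 ≤ Nat.card A) : Rk 3 P := by
  let _ : Module (ZMod 2) A := AddCommGroup.zmodModule (n := 2) fun a => by rw [two_nsmul]; exact h2 a
  have hfd : Module.Finite (ZMod 2) A := Module.Finite.of_finite
  have hcard : Nat.card A = 2 ^ Module.finrank (ZMod 2) A := by
    have := Module.natCard_eq_pow_finrank (K := ZMod 2) (V := A)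
    rw [this, Nat.card_zmod]
  have hd : 3 ≤ Module.finrank (ZMod 2) A := by
    by_contra hlt
    have h3 : Module.finrank (ZMod 2) A ≤ 2 := by omega
    have h4 : Nat.card A ≤ 2 ^ 2 := by rw [hcard]; exact Nat.pow_le_pow_right (by norm_num) h3
    omega
  let b := Module.finBasis (ZMod 2) A
  let g : A →+ (Fin 3 → ZMod 2) :=
    { toFun := fun a i => b.repr a (Fin.castLE hd i)
      map_zero' := by ext i; simp
      map_add' := fun x y => by ext i; simp }
  have hg : Function.Surjective g := by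
    intro y
    refine ⟨b.repr.symm (Finsupp.equivFunOnFinite.symm fun j => if h : (j : ℕ) < 3 then y ⟨j, h⟩ else 0), ?_⟩
    funext i
    show b.repr (b.repr.symm _) (Fin.castLE hd i) = y i
    rw [LinearEquiv.apply_symm_apply]
    simp
  exact ⟨(AddMonoidHom.toMultiplicative g).comp f, (hg : Function.Surjective (AddMonoidHom.toMultiplicative g)).comp hf⟩

theorem D3.congr {G : Type u} {H : Type v} [Group G] [Group H] [Finite G] (e : G ≃* H) (h : D3 H) : D3 G := by
  intro Q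
  have hs : Function.Surjective e.toMonoidHom := e.surjective
  have : Finite H := Finite.of_equiv _ e.toEquiv
  have : Fact (Nat.Prime 2) := ⟨Nat.prime_two⟩
  have h1 := h (Q.mapSurjective hs)
  refine Rk.congr ?_ h1
  have hcoe : ((Q.mapSurjective hs : Sylow 2 H) : Subgroup H) = (Q : Subgroup G).map e.toMonoidHom :=
    Sylow.coe_mapSurjective hs Q
  exact ((Q : Subgroup G).equivMapOfInjective e.toMonoidHom e.injective).trans (MulEquiv.subgroupCongr hcoe.symm)

/-- a Sylow 2-subgroup with the property -/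
theorem D3_of_hom {G : Type u} [Group G] [Finite G] {U : Type v} [Group U] (f : U →* G) (hf : Function.Injective f)
    {n : ℕ} (hU : Nat.card U = 2 ^ n) (hidx : ¬ 2 ^ (n + 1) ∣ Nat.card G) (h : Rk 3 U) : D3 G := by
  have : Fact (Nat.Prime 2) := ⟨Nat.prime_two⟩
  let e : U ≃* f.range := MonoidHom.ofInjective hf
  have hcard : Nat.card f.range = 2 ^ n := by rw [← Nat.card_congr e.toEquiv, hU]
  have hp : IsPGroup 2 f.range := IsPGroup.of_card hcard
  have hi : ¬ 2 ∣ f.range.index := by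
    intro hd
    apply hidx
    rw [← Subgroup.card_mul_index f.range, hcard, pow_succ]
    exact Nat.mul_dvd_mul_left _ hd
  intro Q
  exact Rk.congr ((Sylow.equiv Q (hp.toSylow hi)).trans e.symm) h

/-! ### `PSL₂(q)` -/

theorem add_self {F : Type*} [Field F] [CharP F 2] (x : F) : x + x = 0 := CharTwo.add_self_eq_zero x

theorem D3_psl2 {F : Type u} [Field F] [Fintype F] [CharP F 2] (h : 8 ≤ Fintype.card F) :
    D3 (ProjectiveSpecialLinearGroup (Fin 2) F) := by
  obtain ⟨n, _, hn⟩ := FiniteField.card F 2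
  refine D3_of_hom (U := Multiplicative F) Classification.PSLTwoEvenSylow.uniP
    Classification.PSLTwoEvenSylow.uniP_injective (n := n) ?_ ?_ ?_
  · rw [← hn, ← Nat.card_eq_fintype_card]
    exact Nat.card_congr Multiplicative.toAdd
  · rw [Classification.PSLTwoEvenSylow.card_psl, hn, pow_succ]
    intro hd
    have h1 := Nat.dvd_of_mul_dvd_mul_left (by positivity) hd
    have h2 : 2 ∣ (2 ^ (n : ℕ)) ^ 2 := by
      rw [← pow_mul]; exact dvd_pow_self 2 (by have := n.pos; positivity)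
    have h3 : 1 ≤ (2 ^ (n : ℕ)) ^ 2 := Nat.one_le_iff_ne_zero.mpr (by positivity)
    omega
  · exact rk_of_hom (MonoidHom.id _) Function.surjective_id add_self (by rw [Nat.card_eq_fintype_card]; exact h)

/-! ### `Sz(q)` -/

open Cfsg.Agent.LieRecognition.SzMatrix in
theorem rk_unip {F : Type u} [Field F] [Fintype F] {m : ℕ} (hm : 1 ≤ m)
    (hF : Fintype.card F = 2 ^ (2 * m + 1)) : Rk 3 ↥(good hF).unip := by
  have H := good hF
  have h2 : (2 : F) = 0 := two_eq_zero hF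
  have hcF : Nat.card F = 2 ^ (2 * m + 1) := by rw [Nat.card_eq_fintype_card, hF]
  let f : ↥(good hF).unip →* Multiplicative F := MonoidHom.mk' (fun x => Multiplicative.ofAdd ((good hF).unipEquiv.symm x).1)
    (by
      intro x y
      obtain ⟨⟨a, b⟩, rfl⟩ := (good hF).unipEquiv.surjective x
      obtain ⟨⟨c, d⟩, rfl⟩ := (good hF).unipEquiv.surjective y
      have e : (good hF).unipEquiv (a, b) * (good hF).unipEquiv (c, d) =
          (good hF).unipEquiv (a + c, b + d + a * (theta hF) c) := Subtype.ext ((good hF).u_mul a b c d)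
      rw [e, Equiv.symm_apply_apply, Equiv.symm_apply_apply, Equiv.symm_apply_apply]
      rfl)
  refine rk_of_hom f (fun y => ⟨(good hF).unipEquiv (Multiplicative.toAdd y, 0), ?_⟩) (fun a => by
    rw [← two_mul, h2, zero_mul]) ?_
  · show Multiplicative.ofAdd ((good hF).unipEquiv.symm _).1 = y
    rw [Equiv.symm_apply_apply]
    rfl
  · rw [hcF]
    calc 8 = 2 ^ 3 := by norm_num
      _ ≤ _ := Nat.pow_le_pow_right (by norm_num) (by omega)

theorem D3_sz {G : Type u} [Group G] (h : Lie.IsoSuzuki G) : D3 G := by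
  obtain ⟨F, _, _, m, hm, hF, ⟨e⟩⟩ := h
  have hfin : Finite (Cfsg.Lie.Sz F (2 ^ (m + 1))) := inferInstance
  have : Finite G := Finite.of_equiv _ e.symm.toEquiv
  refine D3.congr e ?_
  obtain ⟨hcard, -⟩ := Cfsg.Agent.S1163.result hm hF
  have hcF : Nat.card F = 2 ^ (2 * m + 1) := by rw [Nat.card_eq_fintype_card, hF]
  refine D3_of_hom (n := (2 * m + 1) * 2) (Cfsg.Agent.LieRecognition.SzMatrix.good hF).unip.subtype
    (Subgroup.subtype_injective _) ?_ ?_ (rk_unip hm hF)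
  · rw [(Cfsg.Agent.LieRecognition.SzMatrix.good hF).card_unip, hcF, pow_mul]
  · rw [hcard, pow_succ, mul_assoc, pow_mul]
    intro hd
    have h1 := Nat.dvd_of_mul_dvd_mul_left (by positivity) hd
    rcases (Nat.Prime.dvd_mul Nat.prime_two).mp h1 with h | h
    · have h1 : 1 ≤ 2 ^ (2 * m + 1) := Nat.one_le_two_pow
      have h2 : 2 ∣ 2 ^ (2 * m + 1) := dvd_pow_self 2 (by omega)
      omega
    · have h2 : 2 ∣ (2 ^ (2 * m + 1)) ^ 2 := dvd_pow (dvd_pow_self 2 (by omega)) (by omega)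
      omega

/-! ### `PSU₃(q)` -/

open Cfsg.Agent.LieRecognition in
theorem D3_psu3 {F : Type u} [Field F] [Fintype F] [CharP F 2] {q : ℕ} (hF : Fintype.card F = q ^ 2) (hq : q ≠ 2) :
    D3 (PSU 3 F q) := by
  obtain ⟨k, hk, hkF⟩ := FiniteField.card F 2
  have hq2 : q ∣ 2 ^ (k : ℕ) := by rw [← hkF, hF]; exact dvd_pow_self q (by norm_num)
  obtain ⟨n, -, rfl⟩ := (Nat.dvd_prime_pow Nat.prime_two).1 hq2
  have h1F : 1 < Fintype.card F := Fintype.one_lt_card
  have hn1 : 1 ≤ n := by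
    by_contra h0
    have : n = 0 := by omega
    subst this
    rw [hF] at h1F
    norm_num at h1F
  have hn2 : 2 ≤ n := by
    by_contra h0
    have : n = 1 := by omega
    subst this
    exact hq (by norm_num)
  have hcF : Nat.card F = (2 ^ n) ^ 2 := by rw [Nat.card_eq_fintype_card, hF]
  obtain ⟨hch, σ, hσ, hs, -, h3⟩ := PSUThreeSylow.exists_heis_equiv F hn1 hcF
  have hq1 : 1 < 2 ^ n := Nat.one_lt_two_pow (by omega)
  intro Q
  obtain ⟨e⟩ := h3 Q
  refine Rk.congr e.symm ?_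
  let f : HermHeis.Heis σ →* Multiplicative F := MonoidHom.mk' (fun x => Multiplicative.ofAdd x.a) (fun x y => rfl)
  refine rk_of_hom f (fun y => ?_) add_self ?_
  · obtain ⟨x, hx⟩ := HermHeis.exists_heis_a (σ := σ) hq1 hs hcF (Multiplicative.toAdd y)
    exact ⟨x, by show Multiplicative.ofAdd x.a = y; rw [hx]; rfl⟩
  · rw [hcF, ← pow_mul]
    calc 8 = 2 ^ 3 := by norm_num
      _ ≤ _ := Nat.pow_le_pow_right (by norm_num) (by omega)

/-! ### `XCond` -/

theorem xcond_of_card {G : Type u} [Group G] [Finite G] {x : G} {n : ℕ} (hx : orderOf x = 2 ^ n)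
    (h : ¬ 2 ^ (n + 2) ∣ Nat.card G) : XCond G :=
  ⟨x, n, hx, fun hd => h (hd.trans (Subgroup.card_subgroup_dvd_card _))⟩

theorem XCond.congr {G : Type u} {H : Type v} [Group G] [Group H] (e : G ≃* H) (h : XCond H) : XCond G := by
  obtain ⟨x, n, hx, hn⟩ := h
  refine ⟨e.symm x, n, by rw [MulEquiv.orderOf_eq, hx], fun hd => hn ?_⟩
  have hmap : (Subgroup.normalizer (Subgroup.zpowers (e.symm x) : Set G)).map e.toMonoidHom =
      Subgroup.normalizer (Subgroup.zpowers x : Set H) := by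
    have e1 : (Subgroup.zpowers x : Set H) = (((Subgroup.zpowers (e.symm x)).map e.toMonoidHom : Subgroup H) : Set H) := by
      rw [MonoidHom.map_zpowers]
      simp
    rw [e1]
    exact (Subgroup.map_equiv_normalizer_eq _ e)
  rw [← hmap]
  have hc : Nat.card ↥((Subgroup.normalizer (Subgroup.zpowers (e.symm x) : Set G)).map e.toMonoidHom) =
      Nat.card ↥(Subgroup.normalizer (Subgroup.zpowers (e.symm x) : Set G)) :=
    Nat.card_congr (Subgroup.equivMapOfInjective _ _ e.injective).symm.toEquiv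
  rw [hc]
  exact hd

/-- `PSL₂(4)` -/
theorem xcond_psl24 {F : Type u} [Field F] [Fintype F] (hF : Fintype.card F = 4) :
    XCond (ProjectiveSpecialLinearGroup (Fin 2) F) := by
  have hcard : Nat.card (ProjectiveSpecialLinearGroup (Fin 2) F) = 60 := by
    have h := Cfsg.Agent.H277.CS.card_psl hF (n := 2) le_rfl
    norm_num [Finset.prod_range_succ] at h
    omega
  obtain ⟨x, hx⟩ := exists_prime_orderOf_dvd_card' (G := ProjectiveSpecialLinearGroup (Fin 2) F) 2 (by
    rw [hcard]; norm_num)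
  exact xcond_of_card (n := 1) (by rw [hx]; norm_num) (by rw [hcard]; norm_num)

/-- `PSL₃(2)` -/
theorem xcond_psl32 {F : Type u} [Field F] [Fintype F] (hF : Fintype.card F = 2) :
    XCond (ProjectiveSpecialLinearGroup (Fin 3) F) := by
  have hcard : Nat.card (ProjectiveSpecialLinearGroup (Fin 3) F) = 168 := by
    have h := Cfsg.Agent.H277.CS.card_psl hF (n := 3) (by norm_num)
    norm_num [Finset.prod_range_succ] at h
    omega
  have h2 : (2 : F) = 0 := by
    have := Nat.cast_card_eq_zero F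
    rw [hF] at this
    exact_mod_cast this
  let A : _root_.Matrix.SpecialLinearGroup (Fin 3) F := ⟨!![1, 1, 0; 0, 1, 1; 0, 0, 1], by simp [Matrix.det_fin_three]⟩
  have hA2 : (A ^ 2 : _root_.Matrix.SpecialLinearGroup (Fin 3) F).1 = !![1, 0, 1; 0, 1, 0; 0, 0, 1] := by
    have e : (A ^ 2 : _root_.Matrix.SpecialLinearGroup (Fin 3) F).1 = A.1 * A.1 := by rw [pow_two]; rfl
    rw [e]
    have h11 : (1 : F) + 1 = 0 := by rw [← h2]; norm_num
    ext i j
    (revert i j; simp only [A, Matrix.mul_apply, Fin.sum_univ_three, h11, _root_.Fin.forall_fin_succ, _root_.Matrix.of_apply, _root_.Matrix.cons_val', _root_.Matrix.cons_val_fin_one, Fin.isValue, _root_.Matrix.cons_val_zero, _root_.Matrix.cons_val_one, _root_.Matrix.cons_val, _root_.mul_one, _root_.MulZeroClass.mul_zero, _root_.add_zero, _root_.Matrix.cons_val_succ, _root_.zero_add, _root_.forall_const, _root_.true_and, _root_.and_self, _root_.add_eq_right, _root_.implies_true])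
  have hA4 : A ^ 4 = 1 := by
    apply Subtype.ext
    have e : (A ^ 4 : _root_.Matrix.SpecialLinearGroup (Fin 3) F).1 = (A ^ 2).1 * (A ^ 2).1 := by
      have : A ^ 4 = A ^ 2 * A ^ 2 := by rw [← pow_add]
      rw [this]; rfl
    rw [e, hA2]
    have h11 : (1 : F) + 1 = 0 := by rw [← h2]; norm_num
    ext i j
    (revert i j; simp only [Matrix.mul_apply, Fin.sum_univ_three, h11, _root_.Fin.forall_fin_succ, _root_.Matrix.of_apply, _root_.Matrix.cons_val', _root_.Matrix.cons_val_fin_one, Fin.isValue, _root_.Matrix.cons_val_zero, _root_.Matrix.cons_val_one, _root_.Matrix.cons_val, _root_.Matrix.SpecialLinearGroup.coe_one, _root_.mul_one, _root_.MulZeroClass.mul_zero, _root_.add_zero, _root_.Matrix.cons_val_succ, _root_.zero_add, _root_.IsEmpty.forall_iff, _root_.and_true, _root_.Matrix.one_apply_eq, Nat.reduceAdd, _root_.Fin.succ_zero_eq_one, _root_.ne_eq, _root_.zero_ne_one, _root_.not_false_eq_true, _root_.Matrix.one_apply_ne, _root_.Fin.succ_one_eq_two,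 Fin.reduceEq, _root_.and_self, _root_.Fin.succ_ne_zero, _root_.true_and])
  let x : ProjectiveSpecialLinearGroup (Fin 3) F := QuotientGroup.mk A
  have hx4 : x ^ (2 ^ 2) = 1 := by
    show (QuotientGroup.mk (A ^ 4) : ProjectiveSpecialLinearGroup (Fin 3) F) = 1
    rw [hA4]; rfl
  have hx2 : ¬ x ^ (2 ^ 1) = 1 := by
    intro h
    have h3 : A ^ 2 ∈ Subgroup.center (_root_.Matrix.SpecialLinearGroup (Fin 3) F) := (QuotientGroup.eq_one_iff _).1 h
    rw [Matrix.SpecialLinearGroup.mem_center_iff] at h3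
    obtain ⟨r, -, hr⟩ := h3
    have h4 := congrFun (congrFun hr 0) 2
    rw [show ((A ^ 2 : _root_.Matrix.SpecialLinearGroup (Fin 3) F) : Matrix (Fin 3) (Fin 3) F) = (A ^ 2).1 from rfl, hA2] at h4
    simp [Matrix.scalar_apply] at h4
  have hx : orderOf x = 2 ^ 2 := orderOf_eq_prime_pow (p := 2) (n := 1) hx2 hx4
  exact xcond_of_card (n := 2) hx (by rw [hcard]; norm_num)

end Cfsg.Agent.H174.K547
end

-- part: H151/K547/ExtAlt
section
/-!
# S4547: `D3 (AutExt τ)` by counting, and by the leaves of the diagram (helper151)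

* `OutExp S N` : the order of an automorphism of 2-power order which meets `Inn S` trivially divides `N`;
* `RkS d S` : the Sylow 2-subgroups have rank at least `d`;
* `alt` : `OutExp S N`, `RkS d S`, `N < 2 d` give `D3 (AutExt τ)` or (`d ≤ N` and) `Spec τ N`;
* `ext_of_leaf` : a diagram with a leaf and a node which is not a leaf.
-/

set_option autoImplicit false
set_option linter.unusedSectionVars false

open Cfsg

namespace Cfsg.Agent.H151.K547

open Cfsg.Agent.H821.K547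

universe u v

section out

variable {S : Type u} [Group S]

/-- an exponent for the outer 2-automorphisms -/
def OutExp (S : Type u) [Group S] (N : ℕ) : Prop :=
  ∀ g : MulAut S, (∃ m : ℕ, g ^ 2 ^ m = 1) → (∀ (k : ℤ) (s : S), g ^ k = MulAut.conj s → g ^ k = 1) → orderOf g ∣ N

/-- the Sylow 2-subgroups have rank at least `d` -/
def RkS (d : ℕ) (S : Type u) [Group S] : Prop := ∀ Q : Sylow 2 S, Rk d Q

/-- the class of `τ` has order `N = 2 ^ b` -/
def Spec (τ : MulAut S) (N : ℕ) : Prop := (∃ b : ℕ, N = 2 ^ b) ∧ ∀ j : ℕ, IsInn (τ ^ j) → N ∣ j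

theorem outExp_of_hom [Finite S] {H : Type*} [Group H] (φ : Out S →* H) {N : ℕ} (hH : ∀ x : H, x ^ N = 1)
    (hker : Odd (Nat.card φ.ker)) : OutExp S N := by
  rintro g ⟨m, hm⟩ hdisj
  have hfin : Finite (MulAut S) := inferInstance
  set c := Nat.card φ.ker with hc
  have h1 : (QuotientGroup.mk' (Inn S) g) ^ N ∈ φ.ker := by
    rw [MonoidHom.mem_ker, map_pow, hH]
  have h2 : ((QuotientGroup.mk' (Inn S) g) ^ N) ^ c = 1 := by
    have := pow_card_eq_one' (x := (⟨_, h1⟩ : φ.ker))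
    exact congrArg Subtype.val this
  have h3 : g ^ (N * c) ∈ Inn S := by
    rw [← pow_mul, ← map_pow] at h2
    exact (QuotientGroup.eq_one_iff _).1 h2
  obtain ⟨s, hs⟩ := h3
  have h4 : g ^ (N * c) = 1 := by
    have := hdisj ((N * c : ℕ) : ℤ) s (by rw [zpow_natCast]; exact hs.symm)
    rwa [zpow_natCast] at this
  have h5 : orderOf g ∣ N * c := orderOf_dvd_of_pow_eq_one h4
  have h6 : Nat.Coprime (orderOf g) c := by
    refine Nat.Coprime.coprime_dvd_left (orderOf_dvd_of_pow_eq_one hm) ?_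
    exact Nat.Coprime.pow_left m (Nat.coprime_two_left.2 hker)
  exact h6.dvd_of_dvd_mul_right h5

theorem outExp_of_card [Finite S] {N : ℕ} (h : Nat.card (Out S) = N) : OutExp S N := by
  refine outExp_of_hom (MonoidHom.id _) (fun x => ?_) ?_
  · rw [← h]
    exact pow_card_eq_one'
  · rw [MonoidHom.ker_id, Subgroup.card_bot]
    exact odd_one

variable {S' : Type v} [Group S']

/-- transport -/
def cg (e : S ≃* S') (τ : MulAut S) : MulAut S' := MulAut.congr e τ

theorem cg_apply (e : S ≃* S') (τ : MulAut S) (x : S') : cg e τ x = e (τ (e.symm x)) := rfl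

theorem cg_conj (e : S ≃* S') (s : S) : cg e (MulAut.conj s) = MulAut.conj (e s) := by
  ext x
  rw [cg_apply, MulAut.conj_apply, MulAut.conj_apply, map_mul, map_mul, map_inv, MulEquiv.apply_symm_apply]

theorem cg_pow (e : S ≃* S') (τ : MulAut S) (n : ℕ) : cg e (τ ^ n) = (cg e τ) ^ n := map_pow (MulAut.congr e) τ n

theorem cg_zpow (e : S ≃* S') (τ : MulAut S) (n : ℤ) : cg e (τ ^ n) = (cg e τ) ^ n := map_zpow (MulAut.congr e) τ n

theorem isInn_cg {e : S ≃* S'} {τ : MulAut S} : IsInn (cg e τ) ↔ IsInn τ := by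
  rw [isInn_iff, isInn_iff]
  constructor
  · rintro ⟨s, hs⟩
    refine ⟨e.symm s, ?_⟩
    apply (MulAut.congr e).injective
    change cg e τ = cg e (MulAut.conj (e.symm s))
    rw [hs, cg_conj, MulEquiv.apply_symm_apply]
  · rintro ⟨s, rfl⟩
    exact ⟨e s, cg_conj e s⟩

theorem twoPow_iff {τ : MulAut S} : TwoPow τ ↔ ∃ k : ℕ, IsInn (τ ^ 2 ^ k) := Iff.rfl

theorem twoPow_cg {e : S ≃* S'} {τ : MulAut S} : TwoPow (cg e τ) ↔ TwoPow τ := by
  rw [twoPow_iff, twoPow_iff]
  refine exists_congr fun k => ?_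
  rw [← cg_pow, isInn_cg]

theorem outExp_congr (e : S ≃* S') {N : ℕ} (h : OutExp S' N) : OutExp S N := by
  rintro g ⟨m, hm⟩ hdisj
  have h1 : orderOf (cg e g) = orderOf g := MulEquiv.orderOf_eq (MulAut.congr e) g
  rw [← h1]
  refine h (cg e g) ⟨m, by rw [← cg_pow, hm]; exact map_one (MulAut.congr e)⟩ ?_
  intro k s hk
  have h2 : g ^ k = MulAut.conj (e.symm s) := by
    apply (MulAut.congr e).injective
    change cg e (g ^ k) = cg e (MulAut.conj (e.symm s))
    rw [cg_zpow, hk, cg_conj, MulEquiv.apply_symm_apply]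
  rw [← cg_zpow, hdisj k _ h2]
  exact map_one (MulAut.congr e)

theorem rkS_congr [Finite S] (e : S ≃* S') {d : ℕ} (h : RkS d S') : RkS d S := by
  intro P
  have h1 := h (P.mapSurjective (f := e.toMonoidHom) e.surjective)
  refine rk_congr ?_ h1
  exact (P : Subgroup S).equivMapOfInjective e.toMonoidHom e.injective

theorem rkS_of_subgroup [Finite S] {U : Subgroup S} (hU : IsPGroup 2 U) (hi : ¬ 2 ∣ U.index) {d : ℕ} (h : Rk d U) :
    RkS d S := by
  have : Fact (Nat.Prime 2) := ⟨Nat.prime_two⟩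
  intro Q
  let P : Sylow 2 S := hU.toSylow hi
  exact rk_congr (Sylow.equiv Q P) h

/-- a 2-group of the right order which embeds -/
theorem rkS_of_hom [Finite S] {U : Type*} [Group U] (f : U →* S) (hf : Function.Injective f)
    {n : ℕ} (hU : Nat.card U = 2 ^ n) (hidx : ¬ 2 ^ (n + 1) ∣ Nat.card S) {d : ℕ} (h : Rk d U) : RkS d S := by
  have : Fact (Nat.Prime 2) := ⟨Nat.prime_two⟩
  have e : U ≃* f.range := MonoidHom.ofInjective hf
  have hcard : Nat.card f.range = 2 ^ n := by rw [← Nat.card_congr e.toEquiv, hU]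
  refine rkS_of_subgroup (U := f.range) (IsPGroup.of_card hcard) ?_ (rk_congr e.symm h)
  rintro ⟨c, hc⟩
  apply hidx
  have h1 := f.range.card_mul_index
  rw [hcard, hc] at h1
  exact ⟨c, by rw [← h1, pow_succ]; ring⟩

/-- an outer automorphism group of odd order -/
theorem isInn_of_odd [Finite S] (h : Odd (Nat.card (Out S))) {τ : MulAut S} (hτ : TwoPow τ) : IsInn τ := by
  obtain ⟨k, hk⟩ := twoPow_iff.1 hτ
  have hfin : Finite (MulAut S) := inferInstance
  have h1 : (QuotientGroup.mk' (Inn S) τ) ^ 2 ^ k = 1 := by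
    rw [← map_pow]
    obtain ⟨s, hs⟩ := isInn_iff.1 hk
    exact (QuotientGroup.eq_one_iff _).2 ⟨s, hs.symm⟩
  have h2 : orderOf (QuotientGroup.mk' (Inn S) τ) ∣ 1 := by
    rw [← Nat.Coprime.gcd_eq_one (Nat.Coprime.pow_left k (Nat.coprime_two_left.2 h) : Nat.Coprime (2 ^ k) (Nat.card (Out S)))]
    exact Nat.dvd_gcd (orderOf_dvd_of_pow_eq_one h1) (orderOf_dvd_natCard _)
  have h3 : QuotientGroup.mk' (Inn S) τ = 1 := orderOf_eq_one_iff.1 (Nat.dvd_one.1 h2)
  obtain ⟨s, hs⟩ := (QuotientGroup.eq_one_iff _).1 h3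
  exact isInn_iff.2 ⟨s, hs.symm⟩

theorem isInn_of_odd' [Finite S'] (e : S ≃* S') (h : Odd (Nat.card (Out S'))) {τ : MulAut S} (hτ : TwoPow τ) : IsInn τ :=
  isInn_cg.1 (isInn_of_odd h (twoPow_cg.2 hτ : TwoPow (cg e τ)))

/-- the class of `τ` -/
theorem orderOf_dvd_of_isInn {τ g : MulAut S} {U : Subgroup S} (G : GoodRep τ g U) {j : ℕ} (hj : IsInn (τ ^ j)) :
    orderOf g ∣ j := by
  have h1 : g ∈ AutExt τ := by rw [← G.ext]; exact self_mem_autExt g
  -- `g = conj s * τ ^ i`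
  obtain ⟨s, i, hg⟩ : ∃ (s : S) (i : ℤ), g = MulAut.conj s * τ ^ i := by
    rw [AutExt, Subgroup.mem_sup_of_normal_left] at h1
    obtain ⟨_, ⟨s, rfl⟩, _, ⟨i, rfl⟩, e⟩ := h1
    exact ⟨s, i, e.symm⟩
  have hq : ∀ x : MulAut S, (QuotientGroup.mk' (Inn S) x = 1 ↔ IsInn x) := by
    intro x
    rw [isInn_iff]
    constructor
    · intro h
      obtain ⟨s, hs⟩ := (QuotientGroup.eq_one_iff _).1 h
      exact ⟨s, hs.symm⟩
    · rintro ⟨s, rfl⟩
      exact (QuotientGroup.eq_one_iff _).2 ⟨s, rfl⟩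
  have h2 : IsInn (g ^ j) := by
    rw [← hq, map_pow, hg, map_mul, (hq _).2 (isInn_iff.2 ⟨s, rfl⟩), one_mul, map_zpow, ← zpow_natCast, ← zpow_mul,
      mul_comm i, zpow_mul, zpow_natCast, ← map_pow, (hq _).2 hj, one_zpow]
  obtain ⟨x, hx⟩ := isInn_iff.1 h2
  have h3 := G.disj (j : ℤ) x (by rw [zpow_natCast]; exact hx)
  rw [zpow_natCast] at h3
  exact orderOf_dvd_of_pow_eq_one h3

end out

section alt

open CoxeterSystem Cfsg.Agent.ChevalleyStructure.CoxeterGeom Cfsg.Agent.Tits.Roots Cfsg.Agent.Tits.Core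
  Cfsg.Agent.Nodes.Reps Cfsg.Agent.Nodes.BNOf Cfsg.Agent.Nodes.Bruhat
open Cfsg.Agent.KFacts.RgdDiag

variable {S : Type u} [Group S] [Finite S]

/-- **Counting.** -/
theorem alt [IsSimpleGroup S] {l : ℕ} (hl : 0 < l) {M : CoxeterMatrix (Fin l)} (hS : Omega.ML.Ex.Typ.HasRGDT 2 M S)
    {d N : ℕ} (hd : RkS d S) (hN : OutExp S N) (hN0 : 0 < N) (hNd : N < 2 * d) {τ : MulAut S} (hτ : TwoPow τ)
    (hn : ¬ IsInn τ) : D3 (AutExt τ) ∨ (d ≤ N ∧ Spec τ N) := by
  have : Fact (Nat.Prime 2) := ⟨Nat.prime_two⟩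
  obtain ⟨A, h, T, n, X, hW, R, hX⟩ := hS
  have : Finite M.Group := hW
  have : Nonempty (Fin l) := ⟨⟨0, hl⟩⟩
  have hG := H967.K4.gg_of_g1 (T := T) hX
  have hZ := center_eq_bot R
  obtain ⟨g, σ, G, D, -, -⟩ := exists_rep R hG hZ hτ hn
  have hdU : Rk d (RGD.Sup X (RGD.Pos M.toCoxeterSystem h)) := hd (R.isPGroup_Upos.toSylow (index_U' R hG))
  have h1 := hN g G.pow G.disj
  rcases Nat.lt_or_ge (orderOf g) d with h2 | h2
  · exact Or.inl (D3_of_rk hZ G R.isPGroup_Upos (index_U' R hG) hdU h2)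
  · right
    have h3 : N = orderOf g := by
      obtain ⟨c, hc⟩ := h1
      have h4 : c < 2 := by
        by_contra h5
        push Not at h5
        have : orderOf g * 2 ≤ orderOf g * c := Nat.mul_le_mul_left _ h5
        omega
      have h5 : c ≠ 0 := by
        rintro rfl
        omega
      have h6 : c = 1 := by omega
      rw [hc, h6, mul_one]
    refine ⟨by rw [h3]; exact h2, ?_, fun j hj => ?_⟩
    · obtain ⟨m, hm⟩ := G.pow
      obtain ⟨k, -, hk⟩ := (Nat.dvd_prime_pow Nat.prime_two).1 (orderOf_dvd_of_pow_eq_one hm)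
      exact ⟨k, h3.trans hk⟩
    · rw [h3]
      exact orderOf_dvd_of_isInn G hj

/-- a leaf of the diagram -/
def Leaf {l : ℕ} (M : CoxeterMatrix (Fin l)) (i : Fin l) : Prop :=
  ∀ j k, j ≠ i → k ≠ i → M i j ≠ 2 → M i k ≠ 2 → j = k

theorem leaf_iff {l : ℕ} {M : CoxeterMatrix (Fin l)} {σ : Equiv.Perm (Fin l)} (hσ : ∀ i j, M (σ i) (σ j) = M i j)
    (i : Fin l) : Leaf M (σ i) ↔ Leaf M i := by
  constructor
  · intro h j k hj hk h1 h2
    apply σ.injective
    exact h (σ j) (σ k) (fun e => hj (σ.injective e)) (fun e => hk (σ.injective e)) (by rwa [hσ]) (by rwa [hσ])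
  · intro h j k hj hk h1 h2
    obtain ⟨j, rfl⟩ := σ.surjective j
    obtain ⟨k, rfl⟩ := σ.surjective k
    rw [hσ] at h1 h2
    rw [h j k (fun e => hj (by rw [e])) (fun e => hk (by rw [e])) h1 h2]

/-- **A leaf and a node which is not a leaf.** -/
theorem ext_of_leaf [IsSimpleGroup S] {l : ℕ} {M : CoxeterMatrix (Fin l)} (hS : Omega.ML.Ex.Typ.HasRGDT 2 M S)
    {i j : Fin l} (hi : Leaf M i) (hj : ¬ Leaf M j) {τ : MulAut S} (hτ : TwoPow τ) (hn : ¬ IsInn τ) :
    D3 (AutExt τ) := by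
  have : Fact (Nat.Prime 2) := ⟨Nat.prime_two⟩
  obtain ⟨A, h, T, n, X, hW, R, hX⟩ := hS
  have : Finite M.Group := hW
  have : Nonempty (Fin l) := ⟨i⟩
  have hG := H967.K4.gg_of_g1 (T := T) hX
  refine D3_of_orbits R hG (center_eq_bot R) (J := {i | Leaf M i}) hi hj (fun g σ D i => ?_) hτ hn
  exact leaf_iff (fun i j => D.matrix R i j) i

end alt

end Cfsg.Agent.H151.K547
end

-- part: H984/K547/PslInv
section
/-!
# Automorphisms of `PSL₂(q)`, `q` odd, outside `PΣL₂(q)`: at most two invariant characters of odd degree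
(S4547, row PSL2(q), helper984)
-/

set_option autoImplicit false

open Cfsg

namespace Cfsg.Agent.H984.K547.PslInv

open Matrix Cfsg.Agent.ClassicalGeometry.AutPSL.Root Cfsg.Agent.ClassicalGeometry.AutPSL.Auto
open Cfsg.Agent.H821.K547 Cfsg.Agent.H601.K4 Cfsg.Agent.H984.K547.PslAut Cfsg.Agent.H670.SL2
open Cfsg.Agent.Characters.Core
open Cfsg.Agent.H670.RankOne (psi)

universe u

variable {F : Type u} [Field F]

local notation "S2" => SpecialLinearGroup (Fin 2) F
local notation "P2" => ProjectiveSpecialLinearGroup (Fin 2) F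

theorem cj_dg_x (d : Fˣ) (s : F) : cj (dg d 1) (x s) = x (d * s) := by
  apply Subtype.ext
  rw [coe_cj, dg_inv]
  change !![(d : F), 0; 0, ((1 : Fˣ) : F)] * !![1, s; 0, 1] * !![((d⁻¹ : Fˣ) : F), 0; 0, (((1 : Fˣ)⁻¹ : Fˣ) : F)] =
    !![1, d * s; 0, 1]
  have := d.ne_zero
  ext i j
  (revert i j; simp only [Matrix.mul_apply, Fin.sum_univ_two, _root_.Fin.forall_fin_succ, _root_.Units.val_one, _root_.Matrix.cons_mul, _root_.Nat.succ_eq_add_one, Nat.reduceAdd, _root_.Matrix.vecMul_cons, _root_.Matrix.head_cons, _root_.Matrix.smul_cons, _root_.smul_eq_mul, _root_.mul_one, _root_.Matrix.smul_empty, _root_.Matrix.tail_cons, _root_.zero_smul, _root_.Matrix.empty_vecMul, _root_.add_zero, _root_.one_smul, _root_.zero_add, _root_.Matrix.empty_mul, _root_.Equiv.symm_apply_apply, _root_.Units.val_inv_eq_inv_val, _root_.inv_one, _root_.Matrix.of_apply, _root_.Matrix.cons_val', _root_.Matrix.cons_val_fin_one, Fin.isValue, _root_.Matrix.cons_val_zero,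 _root_.Matrix.cons_val_one, _root_.MulZeroClass.mul_zero, _root_.Matrix.cons_val_succ, _root_.implies_true, _root_.and_true, _root_.ne_eq, _root_.Units.ne_zero, _root_.not_false_eq_true, _root_.mul_inv_cancel₀, _root_.MulZeroClass.zero_mul, _root_.and_self])

theorem fld_x (σ : F ≃+* F) : fld σ (x (1 : F)) = x 1 := by
  apply Subtype.ext
  ext i j
  rw [coe_fld_apply]
  change σ ((!![1, 1; 0, 1] : Matrix (Fin 2) (Fin 2) F) i j) = (!![1, 1; 0, 1] : Matrix (Fin 2) (Fin 2) F) i j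
  (revert i j; simp only [_root_.Fin.forall_fin_succ, _root_.Matrix.of_apply, _root_.Matrix.cons_val', _root_.Matrix.cons_val_fin_one, Fin.isValue, _root_.Matrix.cons_val_zero, _root_.Matrix.cons_val_succ, _root_.forall_const, _root_.map_one, _root_.and_self, _root_.map_zero, _root_.implies_true])

variable [Fintype F] [DecidableEq F]

theorem gs_ne_zero (hF : ringChar F ≠ 2) : gs F ≠ 0 := by
  intro h
  have h1 := gs_sq (F := F) hF
  rw [h, zero_pow two_ne_zero] at h1
  have h2 : ((-1 : ℂ) ^ ((Fintype.card F - 1) / 2) * (Fintype.card F : ℂ)) ≠ 0 :=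
    mul_ne_zero (pow_ne_zero _ (by norm_num)) (by exact_mod_cast Fintype.card_ne_zero)
  exact h2 h1.symm

theorem sum_sg_psi (d : Fˣ) : ∑ c : F, sg F c * psi F (d * c) = sg F ((d⁻¹ : Fˣ) : F) * gs F := by
  rw [gs_eq, Finset.mul_sum]
  refine Fintype.sum_equiv (Units.mulLeft d) _ _ fun c => ?_
  rw [Units.mulLeft_apply, ← mul_assoc, ← map_mul, ← mul_assoc, ← Units.val_mul, inv_mul_cancel, Units.val_one,
    one_mul]

/-- equal values on the two classes: the type is symmetric -/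
theorem n_eq {d : Fˣ} (hd : ¬ IsSquare (d : F)) (χ : IrrCharacter S2)
    (h : (χ : S2 → ℂ) (x (d : F)) = (χ : S2 → ℂ) (x 1)) : (data F).n χ 1 = (data F).n χ d := by
  rw [apply_x hd, apply_x hd, if_neg d.ne_zero, if_neg one_ne_zero, sum_sg_psi] at h
  have h1 : ∑ c : F, sg F c * psi F (1 * c) = gs F := by
    rw [gs_eq]
    simp only [one_mul]
  have h2 : sg F ((d⁻¹ : Fˣ) : F) = -1 := by
    apply sg_of_not_square
    intro h3
    apply hd
    have h4 := h3.inv
    rwa [Units.val_inv_eq_inv_val, inv_inv] at h4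
  rw [h1, h2] at h
  have h3 : ((data F).n χ 1 - (data F).n χ d : ℂ) * gs F = 0 := by linear_combination -h
  rcases mul_eq_zero.1 h3 with h4 | h4
  · exact_mod_cast sub_eq_zero.1 h4
  · exact absurd h4 (gs_ne_zero (char_ne_two hd))

/-- symmetric types of odd degree -/
theorem ty_cases {d : Fˣ} (hd : ¬ IsSquare (d : F)) (χ : IrrCharacter S2) (ho : ¬ 2 ∣ charDegree (χ : S2 → ℂ))
    (h : (data F).n χ 1 = (data F).n χ d) : ty (d : F) χ = (1, 0, 0) ∨ ty (d : F) χ = (1, 1, 1) := by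
  have h1 := ty_mem hd χ
  have hodd : Fintype.card F % 2 = 1 := FiniteField.odd_card_of_char_ne_two (char_ne_two hd)
  obtain ⟨m, hm⟩ : ∃ m, Fintype.card F = 2 * m + 1 := ⟨Fintype.card F / 2, by omega⟩
  have h2 := degree_eq_ty hd χ hm
  have h3 : (charDegree (χ : S2 → ℂ) : ℂ) = (χ : S2 → ℂ) 1 :=
    Cfsg.Agent.H601.K4.charDegree_eq (Cfsg.Agent.Characters.Core.isIrr_isCharacter χ.2)
  rw [h2] at h3
  have h4 : charDegree (χ : S2 → ℂ) = (ty (d : F) χ).1 + m * ((ty (d : F) χ).2.1 + (ty (d : F) χ).2.2) := by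
    exact_mod_cast h3
  have h5 : (ty (d : F) χ).2.1 = (ty (d : F) χ).2.2 := h
  rw [h4] at ho
  simp only [tys, Finset.mem_insert, Finset.mem_singleton] at h1
  rcases h1 with h1 | h1 | h1 | h1 | h1 | h1 | h1 | h1 <;> rw [h1] at ho h5
  · exact absurd ⟨1 + m, by ring⟩ ho
  · exact Or.inl h1
  · exact absurd h5 (by norm_num)
  · exact absurd h5 (by norm_num)
  · exact Or.inr h1
  · exact absurd ⟨m, by ring⟩ ho
  · exact absurd h5 (by norm_num)
  · exact absurd h5 (by norm_num)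

/-- two characters of the same symmetric type are equal -/
theorem eq_of_ty {d : Fˣ} (hd : ¬ IsSquare (d : F)) {χ χ' : IrrCharacter S2}
    (h : (ty (d : F) χ = (1, 0, 0) ∧ ty (d : F) χ' = (1, 0, 0)) ∨
      (ty (d : F) χ = (1, 1, 1) ∧ ty (d : F) χ' = (1, 1, 1))) : χ = χ' := by
  classical
  have := finite_irr (G := S2)
  have : Fintype (IrrCharacter S2) := Fintype.ofFinite _
  have hodd : Fintype.card F % 2 = 1 := FiniteField.odd_card_of_char_ne_two (char_ne_two hd)
  obtain ⟨m, hm⟩ : ∃ m, Fintype.card F = 2 * m + 1 := ⟨Fintype.card F / 2, by omega⟩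
  obtain ⟨-, c1, -, -, c2, -, -, -⟩ := counts hd hm
  have key : ∀ p, N (d : F) p = 1 → ty (d : F) χ = p → ty (d : F) χ' = p → χ = χ' := by
    intro p hp h1 h2
    obtain ⟨a, ha⟩ := Finset.card_eq_one.1 hp
    have m1 : χ ∈ ({a} : Finset (IrrCharacter S2)) := by
      rw [← ha, Finset.mem_filter]
      exact ⟨Finset.mem_univ _, h1⟩
    have m2 : χ' ∈ ({a} : Finset (IrrCharacter S2)) := by
      rw [← ha, Finset.mem_filter]
      exact ⟨Finset.mem_univ _, h2⟩
    rw [Finset.mem_singleton] at m1 m2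
    rw [m1, m2]
  rcases h with ⟨h1, h2⟩ | ⟨h1, h2⟩
  · exact key _ c1 h1 h2
  · exact key _ c2 h1 h2

/-- **At most two invariant characters.** -/
theorem not_gInv3 {A : GL (Fin 2) F} {σ : F ≃+* F} (hA : ¬ IsSquare (A : Matrix (Fin 2) (Fin 2) F).det) :
    ¬ GInv3 (au A σ) := by
  classical
  rintro ⟨χ, hinj, hχ⟩
  have h0 : (A : Matrix (Fin 2) (Fin 2) F).det ≠ 0 := by
    intro h
    rw [h] at hA
    exact hA IsSquare.zero
  set d : Fˣ := Units.mk0 _ h0 with hd'
  have hd : ¬ IsSquare (d : F) := hA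
  obtain ⟨g, hg⟩ := exists_split A σ d ⟨1, by rw [hd', Units.val_mk0]; ring⟩
  have hpull : ∀ i, IsIrrCharacter S2 (fun y => χ i (pr y)) := fun i =>
    isIrr_comp (pr : S2 →* P2) pr_surjective (hχ i).1.odd.1
  let θ : Fin 3 → IrrCharacter S2 := fun i => ⟨fun y => χ i (pr y), hpull i⟩
  have hθ : ∀ i (y : S2), (θ i : S2 → ℂ) y = χ i (pr y) := fun i y => rfl
  have hθinj : Function.Injective θ := by
    intro i j hij
    apply hinj
    funext y
    obtain ⟨y, rfl⟩ := pr_surjective y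
    rw [← hθ, ← hθ, hij]
  have hty : ∀ i, ty (d : F) (θ i) = (1, 0, 0) ∨ ty (d : F) (θ i) = (1, 1, 1) := by
    intro i
    refine ty_cases hd (θ i) ?_ (n_eq hd (θ i) ?_)
    · intro h2
      apply (hχ i).1.odd.2
      have h3 : (charDegree (θ i : S2 → ℂ) : ℂ) = (charDegree (χ i) : ℂ) := by
        rw [Cfsg.Agent.H601.K4.charDegree_eq (isIrr_isCharacter (θ i).2),
          Cfsg.Agent.H601.K4.charDegree_eq (isIrr_isCharacter (hχ i).1.odd.1), hθ, map_one]
      have h4 : charDegree (θ i : S2 → ℂ) = charDegree (χ i) := by exact_mod_cast h3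
      rw [← h4]
      exact h2
    · rw [hθ, hθ]
      have h3 := (hχ i).2 (pr (x 1))
      rw [hg, MulAut.mul_apply, au_pr, fld_x, cj_dg_x, mul_one, MulAut.conj_apply] at h3
      rw [← h3]
      exact (isIrr_isClassFunction (hχ i).1.odd.1 (pr (x (d : F))) (pr g)).symm
  have h01 : θ 0 ≠ θ 1 := fun h => absurd (hθinj h) (by decide)
  have h02 : θ 0 ≠ θ 2 := fun h => absurd (hθinj h) (by decide)
  have h12 : θ 1 ≠ θ 2 := fun h => absurd (hθinj h) (by decide)
  rcases hty 0 with a | a <;> rcases hty 1 with b | b <;> rcases hty 2 with c | c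
  · exact h01 (eq_of_ty hd (Or.inl ⟨a, b⟩))
  · exact h01 (eq_of_ty hd (Or.inl ⟨a, b⟩))
  · exact h02 (eq_of_ty hd (Or.inl ⟨a, c⟩))
  · exact h12 (eq_of_ty hd (Or.inr ⟨b, c⟩))
  · exact h12 (eq_of_ty hd (Or.inl ⟨b, c⟩))
  · exact h02 (eq_of_ty hd (Or.inr ⟨a, c⟩))
  · exact h01 (eq_of_ty hd (Or.inr ⟨a, b⟩))
  · exact h01 (eq_of_ty hd (Or.inr ⟨a, b⟩))

end Cfsg.Agent.H984.K547.PslInv
end

-- part: H984/K547/PslInvA
section
/-!
# `PΣL₂(q)`: three invariant good characters (S4547, row PSL2(q), helper984)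
-/

set_option autoImplicit false
set_option linter.unusedSectionVars false

open scoped ComplexConjugate Classical
open Cfsg

namespace Cfsg.Agent.H984.K547.PslInvA

section engine

open CoxeterSystem Cfsg.Agent.ChevalleyStructure.CoxeterGeom Cfsg.Agent.Tits.Roots Cfsg.Agent.Tits.Core
  Cfsg.Agent.Tits.RootComb Cfsg.Agent.Nodes.Comb Cfsg.Agent.Nodes.Reps Cfsg.Agent.Nodes.BNOf Cfsg.Agent.FixBN
  Cfsg.Agent.Nodes.StabComb Cfsg.Agent.Characters Cfsg.Agent.Characters.Core
  Cfsg.Agent.OddOrderCharacters.Clifford Cfsg.Agent.H618.Sigma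
open Cfsg.Agent.Omega.ML.Ex.Typ Cfsg.Agent.Tits.OppRes Cfsg.Agent.H612.BNCosets Cfsg.Agent.H612.BNAut
open Cfsg.Agent.H601.K4

universe u

variable {G : Type u} [Group G] [Fintype G] {l : ℕ} {M : CoxeterMatrix (Fin l)} {p : ℕ} {P : Cfsg.BNPair G}
  {U : Subgroup G} {e : Fin l ≃ P.S} [Fintype U] [Fintype P.B] {θ : U →* ℂˣ} {St : G → ℂ}

/-- three invariant good characters for one automorphism which stabilises a class of `p`-elements -/
theorem inv3_single [Fact p.Prime] (D : DatP M p P U e θ St) {x : G} (hxp : ∃ m : ℕ, x ^ p ^ m = 1)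
    (hx1 : x ≠ 1) (τ : MulAut G) (hτ : ∃ (k : ℕ) (s : G), ∀ x, (τ ^ 2 ^ k) x = s * x * s⁻¹)
    (hcl : ∃ g : G, τ x = g * x * g⁻¹) :
    ∃ χ : Fin 3 → G → ℂ, Function.Injective χ ∧ ∀ i, _root_.Cfsg.Agent.H601.K4.Good (χ i) ∧ ∀ x, χ i (τ x) = χ i x := by
  classical
  obtain ⟨k, hk⟩ := H740.K4.exists_cube G
  obtain ⟨Q, hQ⟩ := H612.CharTwo.exists_sylow D.split
  have hpx : IsPGroup p (Subgroup.zpowers x) := by
    obtain ⟨m, hm⟩ := hxp
    rintro ⟨_, n, rfl⟩
    refine ⟨m, Subtype.ext ?_⟩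
    show (x ^ n) ^ p ^ m = 1
    rw [← zpow_natCast, ← zpow_mul, mul_comm, zpow_mul, zpow_natCast, hm, one_zpow]
  obtain ⟨Q', hQ'⟩ := hpx.exists_le_sylow
  obtain ⟨a, ha⟩ := MulAction.exists_smul_eq G Q' Q
  have hmem : ∀ y ∈ Subgroup.zpowers x, a * y * a⁻¹ ∈ U := by
    intro y hy
    rw [← hQ, ← ha]
    exact ⟨y, hQ' hy, rfl⟩
  have gst : _root_.Cfsg.Agent.H601.K4.Good St := H740.K4.good_of hk D.odd.1
    ⟨D.real, odd_iff.2 D.odd.2, st_pow D.dat hk D.odd.1 D.stθ D.stB⟩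
  have h0 : ∀ y ∈ Subgroup.zpowers x, y ≠ 1 → St y = 0 := by
    intro y hy hy1
    have h1 := isIrr_isClassFunction D.odd.1 y a
    rw [← h1, D.stU _ (hmem y hy), if_neg]
    intro h2
    apply hy1
    have h3 : y = a⁻¹ * (a * y * a⁻¹) * a := by group
    rw [h3, h2]
    group
  have hodd : Odd (orderOf x) := by
    have h1 := hmem x (Subgroup.mem_zpowers x)
    have h2 : orderOf (a * x * a⁻¹) = orderOf x := by
      have := orderOf_injective (MulAut.conj a).toMonoidHom (MulAut.conj a).injective x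
      simpa using this
    have h3 : orderOf (⟨a * x * a⁻¹, h1⟩ : U) = orderOf (a * x * a⁻¹) := by rw [Subgroup.orderOf_mk]
    rw [← h2, ← h3]
    exact D.dat.odd.of_dvd_nat (orderOf_dvd_natCard _)
  obtain ⟨g, hg⟩ := hcl
  have hev : Even (Nat.card G) := by
    rw [← Subgroup.card_mul_index P.B]
    exact (even_iff_two_dvd.2 D.dat.even).mul_left _
  exact inv3_of_elt hev gst τ hτ (D.st_aut τ) hx1 hodd hg h0

/-- **The family version.** -/
theorem gInv3_of_class {S : Type u} [Group S] [Finite S] [IsSimpleGroup S] {p : ℕ} (hp : p.Prime) (hp2 : p ≠ 2) {l : ℕ}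
    {M : CoxeterMatrix (Fin l)} (j : Fin l) (h : HasRGDT p M S) {x : S} (hxp : ∃ m : ℕ, x ^ p ^ m = 1) (hx1 : x ≠ 1)
    (τ : MulAut S) (hτ : H821.K547.TwoPow τ) (hcl : ∃ g : S, τ x = g * x * g⁻¹) : H821.K547.GInv3 τ := by
  classical
  have := Fintype.ofFinite S
  have : Fact p.Prime := ⟨hp⟩
  obtain ⟨A, h, T, n, X, hW, R, hX⟩ := h
  have hgen : RGD.B M.toCoxeterSystem h T X ⊔ NN M.toCoxeterSystem R.nsys = ⊤ := by
    rw [eq_top_iff, ← hX]
    exact Nodes.RGDLib.rgd_G1_le R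
  obtain ⟨U, _, _, θ, St, D⟩ := exists_datP_gen hp hp2 R hX hgen j
  exact inv3_single D hxp hx1 τ hτ hcl

end engine

open Matrix Cfsg.Agent.ClassicalGeometry.AutPSL.Root Cfsg.Agent.ClassicalGeometry.AutPSL.Auto
open Cfsg.Agent.H821.K547 Cfsg.Agent.H984.K547.PslAut Cfsg.Agent.H670.SL2 Cfsg.Agent.H984.K547.PslInv
open Cfsg.Agent.Omega.ML.Ex.Typ

universe u

variable {F : Type u} [Field F] [Finite F]

local notation "S2" => SpecialLinearGroup (Fin 2) F
local notation "P2" => ProjectiveSpecialLinearGroup (Fin 2) F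

theorem x_pow (s : F) (n : ℕ) : x s ^ n = x (n * s) := by
  induction n with
  | zero =>
    rw [pow_zero, Nat.cast_zero, zero_mul]
    apply Subtype.ext
    change (1 : Matrix (Fin 2) (Fin 2) F) = !![1, 0; 0, 1]
    ext i j
    (revert i j; simp only [_root_.Fin.forall_fin_succ, _root_.Matrix.of_apply, _root_.Matrix.cons_val', _root_.Matrix.cons_val_fin_one, Fin.isValue, _root_.Matrix.cons_val_zero, _root_.Matrix.cons_val_succ, _root_.IsEmpty.forall_iff, _root_.and_true, _root_.Matrix.one_apply_eq, Nat.reduceAdd, _root_.Fin.succ_zero_eq_one, _root_.ne_eq, _root_.zero_ne_one, _root_.not_false_eq_true, _root_.Matrix.one_apply_ne, _root_.and_self, _root_.Fin.succ_ne_zero, _root_.true_and])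
  | succ n ih =>
    rw [pow_succ, ih]
    apply Subtype.ext
    change !![1, (n : F) * s; 0, 1] * !![1, s; 0, 1] = !![1, ((n + 1 : ℕ) : F) * s; 0, 1]
    ext i j
    (revert i j; simp only [Matrix.mul_apply, Fin.sum_univ_two, _root_.Fin.forall_fin_succ, _root_.Matrix.of_apply, _root_.Matrix.cons_val', _root_.Matrix.cons_val_fin_one, Fin.isValue, _root_.Matrix.cons_val_zero, _root_.Matrix.cons_val_one, _root_.Nat.cast_add, _root_.Nat.cast_one, _root_.mul_one, _root_.MulZeroClass.mul_zero, _root_.add_zero, _root_.Matrix.cons_val_succ, _root_.forall_const, _root_.one_mul, _root_.MulZeroClass.zero_mul, _root_.zero_add, _root_.implies_true, _root_.and_true, _root_.true_and]) <;> (repeat' with_reducible apply And.intro)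
    ring

theorem pr_x_ne_one : (pr (x (1 : F)) : P2) ≠ 1 := by
  intro h
  have h1 : (x (1 : F)) ∈ Subgroup.center S2 := (QuotientGroup.eq_one_iff _).1 h
  rw [Matrix.SpecialLinearGroup.mem_center_iff] at h1
  obtain ⟨r, -, hr⟩ := h1
  have h2 := congrFun (congrFun hr 0) 1
  simp [coe_x] at h2

/-- **Three invariant characters for `PΣL₂(q)`** -/
theorem gInv3_of_sq (ho : Odd (Nat.card F)) (h3 : 3 < Nat.card F) {A : GL (Fin 2) F} {σ : F ≃+* F}
    (hτ : TwoPow (au A σ)) (hA : IsSquare (A : Matrix (Fin 2) (Fin 2) F).det) : GInv3 (au A σ) := by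
  obtain ⟨p, hpc⟩ := CharP.exists F
  have hp : p.Prime := CharP.char_is_prime F p
  have hpf : Fact p.Prime := ⟨hp⟩
  have hp2 : p ≠ 2 := by
    rintro rfl
    have := Fintype.ofFinite F
    have h1 : 2 ∣ Nat.card F := by
      rw [Nat.card_eq_fintype_card]
      exact (CharP.cast_eq_zero_iff F 2 _).1 (by simp)
    exact (Nat.not_even_iff_odd.2 ho) (even_iff_two_dvd.2 h1)
  have hsim : IsSimpleGroup P2 := Matrix.ProjectiveSpecialLinearGroup.rank_two_simple h3
  refine gInv3_of_class hp hp2 (0 : Fin 1) (typ_PSL 1 (p := p)) (x := pr (x (1 : F))) ⟨1, ?_⟩ pr_x_ne_one _ hτ ?_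
  · rw [pow_one, ← map_pow, x_pow, CharP.cast_eq_zero, zero_mul]
    have h1 : (x (0 : F)) = 1 := by
      have := x_pow (0 : F) 0
      rw [pow_zero, Nat.cast_zero, zero_mul] at this
      exact this.symm
    rw [h1, map_one]
  · obtain ⟨g, hg⟩ := inner_of_sq hA σ
    refine ⟨pr g, ?_⟩
    rw [hg, au_pr, fld_x, cj_tg, MulAut.conj_apply, map_mul, map_mul, map_inv]

end Cfsg.Agent.H984.K547.PslInvA
end

-- part: H984/K547/Split
section
/-!
# `D3` for split cyclic extensions (S4547, helper984)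

`d3_split`: `Γ = N ⟨t⟩`, `⟨t⟩ ∩ N = 1`, `t` of even order, `M ≤ N` of odd index normalised by `t`, `K ≤ M` containing the
squares of `M` and `[t, M]`, `|M : K| ≥ 4`: then `D3 Γ`.
-/

set_option autoImplicit false

namespace Cfsg.Agent.H984.K547.Split

open Subgroup Cfsg.Agent.H821.K547 Cfsg.Agent.H984.K547.Tool

universe u

theorem d3_target : D3 (Multiplicative (Fin 3 → ZMod 2)) := by
  have h2 : Fact (Nat.Prime 2) := ⟨Nat.prime_two⟩
  intro Q
  have hsq : ∀ v : Multiplicative (Fin 3 → ZMod 2), v ^ 2 = 1 := by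
    intro v
    rw [pow_two]
    apply Multiplicative.toAdd.injective
    funext i
    exact CharTwo.add_self_eq_zero _
  have hP : IsPGroup 2 (⊤ : Subgroup (Multiplicative (Fin 3 → ZMod 2))) := by
    rintro ⟨v, hv⟩
    exact ⟨1, Subtype.ext (by rw [pow_one]; exact hsq v)⟩
  have hQ : (⊤ : Subgroup (Multiplicative (Fin 3 → ZMod 2))) = Q := Q.is_maximal' hP le_top
  refine ⟨(Q : Subgroup (Multiplicative (Fin 3 → ZMod 2))).subtype, fun v => ?_⟩
  exact ⟨⟨v, hQ ▸ mem_top v⟩, rfl⟩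

variable {G : Type u} [Group G] [Finite G]

/-- the split lemma -/
theorem d3_split (N : Subgroup G) [N.Normal] (t : G) (M : Subgroup G) (hMN : M ≤ N) (hodd : ¬ 2 ∣ M.relIndex N)
    (hdisj : ∀ j : ℤ, t ^ j ∈ N → t ^ j = 1) (h2 : 2 ∣ orderOf t) (K : Subgroup G) (hKM : K ≤ M)
    (hKsq : ∀ x ∈ M, x ^ 2 ∈ K) (hKt : ∀ x ∈ M, t * x * t⁻¹ * x⁻¹ ∈ K) (hidx : 4 ≤ K.relIndex M) :
    D3 (N ⊔ zpowers t : Subgroup G) := by
  have htM : ∀ x ∈ M, t * x * t⁻¹ ∈ M := by
    intro x hx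
    have h1 := mul_mem (hKM (hKt x hx)) hx
    rwa [inv_mul_cancel_right] at h1
  have htK : ∀ x ∈ K, t * x * t⁻¹ ∈ K := by
    intro x hx
    have h1 := mul_mem (hKt x (hKM hx)) hx
    rwa [inv_mul_cancel_right] at h1
  -- conjugation by powers of `t`
  have hpow : ∀ (n : ℕ) (x : G), x ∈ M → t ^ n * x * (t ^ n)⁻¹ * x⁻¹ ∈ K := by
    intro n
    induction n with
    | zero =>
      intro x _
      rw [pow_zero, one_mul, inv_one, mul_one, mul_inv_cancel]
      exact one_mem K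
    | succ n ih =>
      intro x hx
      have h1 := ih x hx
      have h3 : t ^ (n + 1) * x * (t ^ (n + 1))⁻¹ * x⁻¹ =
          (t * (t ^ n * x * (t ^ n)⁻¹ * x⁻¹) * t⁻¹) * (t * x * t⁻¹ * x⁻¹) := by
        rw [pow_succ']
        group
      rw [h3]
      exact mul_mem (htK _ h1) (hKt x hx)
  have hz : ∀ (g : G), g ∈ zpowers t → ∃ n : ℕ, g = t ^ n := by
    intro g hg
    obtain ⟨n, hn⟩ := (mem_powers_iff_mem_zpowers).2 hg
    exact ⟨n, hn.symm⟩
  have hnormM : zpowers t ≤ normalizer (M : Set G) := by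
    rw [zpowers_le]
    apply mem_normalizer_fintype
    exact htM
  have hnormK : zpowers (t ^ 2) ≤ normalizer (K : Set G) := by
    rw [zpowers_le]
    apply pow_mem
    apply mem_normalizer_fintype
    exact htK
  set P := M ⊔ zpowers t with hPdef
  set L := K ⊔ zpowers (t ^ 2) with hLdef
  have hLP : L ≤ P := sup_le_sup hKM (by rw [zpowers_le]; exact pow_mem (mem_zpowers t) 2)
  have hPmem : ∀ y ∈ P, ∃ x ∈ M, ∃ n : ℕ, y = x * t ^ n := by
    intro y hy
    have h1 : (y : G) ∈ ((M ⊔ zpowers t : Subgroup G) : Set G) := hy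
    rw [coe_mul_of_right_le_normalizer_left M (zpowers t) hnormM] at h1
    obtain ⟨x, hx, s, hs, rfl⟩ := h1
    obtain ⟨n, rfl⟩ := hz s hs
    exact ⟨x, hx, n, rfl⟩
  -- squares
  have hsq : ∀ y ∈ P, y ^ 2 ∈ L := by
    intro y hy
    obtain ⟨x, hx, n, rfl⟩ := hPmem y hy
    have h1 := hpow n x hx
    have h3 : (x * t ^ n) ^ 2 = (x * (t ^ n * x * (t ^ n)⁻¹ * x⁻¹) * x⁻¹) * x ^ 2 * (t ^ 2) ^ n := by
      rw [← pow_mul, mul_comm 2 n, pow_mul, pow_two (t ^ n), pow_two, pow_two]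
      group
    have h4 : x * (t ^ n * x * (t ^ n)⁻¹ * x⁻¹) * x⁻¹ ∈ K := by
      -- `K` is normal in `M`
      have hk := hKM h1
      set k := t ^ n * x * (t ^ n)⁻¹ * x⁻¹ with hkdef
      have h5 : x * k * x⁻¹ = (x * k) ^ 2 * (k ^ 2 * (k⁻¹ * (x ^ 2) * k))⁻¹ * k := by
        rw [pow_two, pow_two, pow_two]
        group
      have h6 : k⁻¹ * x ^ 2 * k ∈ K := mul_mem (mul_mem (inv_mem h1) (hKsq x hx)) h1
      rw [h5]
      refine mul_mem (mul_mem (hKsq _ (mul_mem hx hk)) (inv_mem (mul_mem (pow_mem h1 2) h6))) h1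
    rw [h3]
    exact mul_mem (le_sup_left (b := zpowers (t ^ 2)) (mul_mem h4 (hKsq x hx)))
      (le_sup_right (a := K) (pow_mem (mem_zpowers (t ^ 2)) n))
  -- the index
  have hinf : ∀ x ∈ M, ∀ s ∈ zpowers t, x = s → s = 1 := by
    rintro x hx _ ⟨j, rfl⟩ e
    have e' : x = t ^ j := e
    rw [e'] at hx
    exact hdisj j (hMN hx)
  have hcP : Nat.card M * Nat.card (zpowers t) ≤ Nat.card P := by
    rw [← Nat.card_prod]
    refine Nat.card_le_card_of_injective (fun a : M × zpowers t =>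
      (⟨(a.1 : G) * a.2, mul_mem (le_sup_left (b := zpowers t) a.1.2) (le_sup_right (a := M) a.2.2)⟩ : P)) ?_
    rintro ⟨a, b⟩ ⟨a', b'⟩ hab
    have h1 : (a : G) * b = a' * b' := congrArg Subtype.val hab
    have h3 : (a' : G)⁻¹ * a = b' * (b : G)⁻¹ := by
      rw [inv_mul_eq_iff_eq_mul, ← mul_assoc, ← h1, mul_assoc, mul_inv_cancel, mul_one]
    have h4 := hinf _ (mul_mem (inv_mem a'.2) a.2) _ (mul_mem b'.2 (inv_mem b.2)) h3
    have h5 : (b' : G) = b := mul_inv_eq_one.1 h4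
    rw [h4] at h3
    have h6 : (a' : G) = a := inv_mul_eq_one.1 h3
    exact Prod.ext (Subtype.ext h6.symm) (Subtype.ext h5.symm)
  have hcL : Nat.card L ≤ Nat.card K * Nat.card (zpowers (t ^ 2)) := by
    rw [← Nat.card_prod]
    refine Nat.card_le_card_of_surjective (fun a : K × zpowers (t ^ 2) =>
      (⟨(a.1 : G) * a.2, mul_mem (le_sup_left (b := zpowers (t ^ 2)) a.1.2) (le_sup_right (a := K) a.2.2)⟩ : L)) ?_
    rintro ⟨y, hy⟩
    have h1 : (y : G) ∈ ((K ⊔ zpowers (t ^ 2) : Subgroup G) : Set G) := hy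
    rw [coe_mul_of_right_le_normalizer_left K (zpowers (t ^ 2)) hnormK] at h1
    obtain ⟨x, hx, s, hs, rfl⟩ := h1
    exact ⟨(⟨x, hx⟩, ⟨s, hs⟩), rfl⟩
  have hct : Nat.card (zpowers (t ^ 2)) * 2 = Nat.card (zpowers t) := by
    rw [Nat.card_zpowers, Nat.card_zpowers, orderOf_pow, Nat.gcd_eq_right h2, Nat.div_mul_cancel h2]
  have hcM : Nat.card K * K.relIndex M = Nat.card M := by
    rw [← relIndex_bot_left, ← relIndex_bot_left]
    exact relIndex_mul_relIndex ⊥ K M bot_le hKM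
  have hcLP : Nat.card L * L.relIndex P = Nat.card P := by
    rw [← relIndex_bot_left, ← relIndex_bot_left]
    exact relIndex_mul_relIndex ⊥ L P bot_le hLP
  have h8 : 8 ≤ L.relIndex P := by
    by_contra hcon
    have hpos : 0 < Nat.card L := Nat.card_pos
    have h9 : Nat.card L * L.relIndex P < Nat.card L * 8 := Nat.mul_lt_mul_of_pos_left (by omega) hpos
    have h10 : Nat.card L * 8 ≤ Nat.card M * Nat.card (zpowers t) := by
      calc Nat.card L * 8 ≤ Nat.card K * Nat.card (zpowers (t ^ 2)) * 8 := Nat.mul_le_mul_right _ hcL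
        _ = Nat.card K * 4 * (Nat.card (zpowers (t ^ 2)) * 2) := by ring
        _ ≤ Nat.card K * K.relIndex M * (Nat.card (zpowers (t ^ 2)) * 2) :=
          Nat.mul_le_mul_right _ (Nat.mul_le_mul_left _ hidx)
        _ = _ := by rw [hct, hcM]
    omega
  have hRk : Rk 3 P := by
    refine Rk.of_sq (N := L.subgroupOf P) (fun x => ?_) ?_
    · exact hsq x x.2
    · change 2 ^ 3 ≤ L.relIndex P
      exact h8
  obtain ⟨f, hf⟩ := hRk
  have hPΓ : P ≤ N ⊔ zpowers t := sup_le_sup_right hMN _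
  have hPi : ¬ 2 ∣ P.relIndex (N ⊔ zpowers t) := by
    refine relIndex_odd N P M _ ?_ hMN le_sup_left hodd
    rw [hPdef, ← sup_assoc, sup_eq_left.2 hMN]
  refine D3.of_map (P.subgroupOf (N ⊔ zpowers t)) hPi (f.comp (subgroupOfEquivOfLe hPΓ).toMonoidHom)
    (hf.comp (subgroupOfEquivOfLe hPΓ).surjective) d3_target

end Cfsg.Agent.H984.K547.Split
end

-- part: H984/K547/PslA
section
/-!
# `PΣL₂(q)`: three generators (S4547, row PSL2(q), helper984)
-/

set_option autoImplicit false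
set_option linter.unusedSectionVars false

open Cfsg

namespace Cfsg.Agent.H984.K547.PslA

open Matrix Cfsg.Agent.ClassicalGeometry.AutPSL.Root Cfsg.Agent.ClassicalGeometry.AutPSL.Auto
open Cfsg.Agent.H821.K547 Cfsg.Agent.H984.K547.PslAut Cfsg.Agent.H670.SL2 Cfsg.Agent.H984.K547.Tool
open Cfsg.Agent.H984.K547.PslB
open Subgroup (zpowers mem_zpowers)

universe u

variable {F : Type u} [Field F]

local notation "S2" => SpecialLinearGroup (Fin 2) F
local notation "P2" => ProjectiveSpecialLinearGroup (Fin 2) F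

theorem wel_mul_tor (u : Fˣ) : wel * tor u = tor u⁻¹ * (wel : S2) := by
  have := wel_tor u
  rwa [mul_inv_eq_iff_eq_mul] at this

theorem wel_inv : (wel : S2)⁻¹ = tor (-1) * wel := by
  rw [inv_eq_iff_mul_eq_one, ← mul_assoc, wel_mul_tor, mul_assoc, ← pow_two, wel_sq, ← map_mul]
  simp only [_root_.inv_neg, _root_.inv_one, _root_.mul_neg, _root_.mul_one, _root_.neg_neg, _root_.map_one]

/-- the monomial group -/
def MS (F : Type u) [Field F] : Subgroup (_root_.Matrix.SpecialLinearGroup (Fin 2) F) where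
  carrier := {g | ∃ u, g = tor u ∨ g = tor u * wel}
  one_mem' := ⟨1, Or.inl (map_one _).symm⟩
  mul_mem' := by
    rintro _ _ ⟨u, rfl | rfl⟩ ⟨v, rfl | rfl⟩
    · exact ⟨u * v, Or.inl (map_mul _ _ _).symm⟩
    · exact ⟨u * v, Or.inr (by rw [← mul_assoc, map_mul])⟩
    · exact ⟨u * v⁻¹, Or.inr (by rw [mul_assoc, wel_mul_tor, ← mul_assoc, map_mul])⟩
    · refine ⟨u * v⁻¹ * (-1), Or.inl ?_⟩
      rw [mul_assoc (tor u), ← mul_assoc wel, wel_mul_tor, mul_assoc (tor v⁻¹), ← pow_two, wel_sq, map_mul, map_mul,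
        mul_assoc]
  inv_mem' := by
    rintro _ ⟨u, rfl | rfl⟩
    · exact ⟨u⁻¹, Or.inl (map_inv _ _).symm⟩
    · refine ⟨-1 * u, Or.inr ?_⟩
      rw [_root_.mul_inv_rev, ← map_inv, wel_inv, mul_assoc, wel_mul_tor, inv_inv, ← mul_assoc, ← map_mul]

/-- the squares in the torus -/
def KS (F : Type u) [Field F] : Subgroup (_root_.Matrix.SpecialLinearGroup (Fin 2) F) where
  carrier := {g | ∃ u : Fˣ, g = tor (u * u)}
  one_mem' := ⟨1, by rw [mul_one, map_one]⟩
  mul_mem' := by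
    rintro _ _ ⟨u, rfl⟩ ⟨v, rfl⟩
    exact ⟨u * v, by rw [← map_mul]; congr 1; exact mul_mul_mul_comm u u v v⟩
  inv_mem' := by
    rintro _ ⟨u, rfl⟩
    exact ⟨u⁻¹, by rw [← map_inv, _root_.mul_inv_rev]⟩

theorem mem_KS {u : Fˣ} (h : IsSquare (u : F)) : tor u ∈ KS F := by
  obtain ⟨s, hs⟩ := h
  have hs0 : s ≠ 0 := by
    rintro rfl
    rw [mul_zero] at hs
    exact u.ne_zero hs
  refine ⟨Units.mk0 s hs0, ?_⟩
  congr 1
  exact Units.ext hs

theorem KS_le : KS F ≤ MS F := by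
  rintro _ ⟨u, rfl⟩
  exact ⟨_, Or.inl rfl⟩

theorem QS_le (z : Fˣ) : QS z ≤ MS F := by
  refine sup_le ?_ ?_
  · rw [Subgroup.zpowers_le]
    exact ⟨z, Or.inl rfl⟩
  · rw [Subgroup.zpowers_le]
    exact ⟨1, Or.inr (by rw [map_one, one_mul])⟩

/-- squares of the monomial group -/
theorem sq_mem_KS (h1 : IsSquare (-1 : F)) {g : S2} (hg : g ∈ MS F) : g ^ 2 ∈ KS F := by
  obtain ⟨u, rfl | rfl⟩ := hg
  · exact ⟨u, by rw [pow_two, map_mul]⟩
  · have e : (tor u * wel) ^ 2 = (tor (-1) : S2) := by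
      rw [pow_two, mul_assoc, ← mul_assoc wel, wel_mul_tor, mul_assoc (tor u⁻¹), ← pow_two, wel_sq, ← mul_assoc,
        ← map_mul, mul_inv_cancel, map_one, one_mul]
    rw [e]
    exact mem_KS (by rw [Units.val_neg, Units.val_one]; exact h1)

variable [Finite F]

/-- the ratio of `σ u` and `u` is a square -/
theorem sq_ratio (σ : F ≃+* F) (u : Fˣ) : IsSquare ((Units.map (σ : F →* F) u * u⁻¹ : Fˣ) : F) := by
  rw [Units.val_mul, Units.coe_map, Units.val_inv_eq_inv_val]
  change IsSquare (σ (u : F) * (u : F)⁻¹)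
  by_cases h : IsSquare (u : F)
  · have h1 : IsSquare (σ (u : F)) := h.map σ
    exact h1.mul h.inv
  · have h1 : ¬ IsSquare (σ (u : F)) := by
      intro h2
      apply h
      have h3 := h2.map σ.symm
      rwa [RingEquiv.symm_apply_apply] at h3
    obtain ⟨e, he⟩ := sq_of_nonsquare h1 h
    refine ⟨e, ?_⟩
    rw [he]
    have := u.ne_zero
    field_simp

theorem comm_mem_KS (σ : F ≃+* F) {g : S2} (hg : g ∈ MS F) : fld σ g * g⁻¹ ∈ KS F := by
  obtain ⟨u, rfl | rfl⟩ := hg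
  · rw [fld_tor, ← map_inv, ← map_mul]
    exact mem_KS (sq_ratio σ u)
  · rw [map_mul, fld_tor, fld_wel, _root_.mul_inv_rev, ← mul_assoc, mul_inv_cancel_right, ← map_inv, ← map_mul]
    exact mem_KS (sq_ratio σ u)

/-- the index -/
theorem four_le (hF : ∃ a : F, ¬ IsSquare a) : 4 ≤ (KS F).relIndex (MS F) := by
  have h1 : KS F ≤ (tor : Fˣ →* S2).range := by
    rintro _ ⟨u, rfl⟩
    exact ⟨_, rfl⟩
  have h2 : (tor : Fˣ →* S2).range ≤ MS F := by
    rintro _ ⟨u, rfl⟩
    exact ⟨_, Or.inl rfl⟩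
  have h3 := Subgroup.relIndex_mul_relIndex _ _ _ h1 h2
  have h4 : (KS F).relIndex (tor : Fˣ →* S2).range ≠ 1 := by
    rw [Ne, Subgroup.relIndex_eq_one]
    intro h
    obtain ⟨a, ha⟩ := hF
    have ha0 : a ≠ 0 := by rintro rfl; exact ha IsSquare.zero
    obtain ⟨v, hv⟩ := h ⟨Units.mk0 a ha0, rfl⟩
    have h5 := congrArg Units.val (PslB.tor_inj hv)
    apply ha
    exact ⟨v, h5⟩
  have h5 : ((tor : Fˣ →* S2).range).relIndex (MS F) ≠ 1 := by
    rw [Ne, Subgroup.relIndex_eq_one]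
    intro h
    obtain ⟨u, hu⟩ := h (⟨1, Or.inr (by rw [map_one, one_mul])⟩ : (wel : S2) ∈ MS F)
    exact tor_ne_wel u hu
  have h6 : (KS F).relIndex (tor : Fˣ →* S2).range ≠ 0 := Subgroup.index_ne_zero_of_finite
  have h7 : ((tor : Fˣ →* S2).range).relIndex (MS F) ≠ 0 := Subgroup.index_ne_zero_of_finite
  rw [← h3]
  have h8 : 2 ≤ (KS F).relIndex (tor : Fˣ →* S2).range := by omega
  have h9 : 2 ≤ ((tor : Fˣ →* S2).range).relIndex (MS F) := by omega
  exact Nat.mul_le_mul h8 h9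

/-- the kernel of `cpr` -/
theorem ker_le (h1 : IsSquare (-1 : F)) : (cpr : S2 →* MulAut P2).ker ≤ KS F := by
  intro g hg
  have h2 : au (tg g) 1 = (1 : MulAut P2) := by
    rw [← conj_pr]
    exact hg
  obtain ⟨⟨r, hr⟩, -⟩ := eq_one_of_au h2
  have hd : r * r = 1 := by
    have h3 := congrArg Matrix.det hr
    rw [coe_tg, g.2] at h3
    rw [← h3]
    simp [pow_two]
  have hr0 : r ≠ 0 := by
    rintro rfl
    rw [mul_zero] at hd
    exact zero_ne_one hd
  have hg' : g = tor (Units.mk0 r hr0) := by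
    apply Subtype.ext
    rw [coe_tg] at hr
    rw [← hr, coe_tor]
    have h4 : r⁻¹ = r := inv_eq_of_mul_eq_one_left hd
    ext i j
    (revert i j; simp only [h4, _root_.Fin.forall_fin_succ, _root_.Matrix.scalar_apply, _root_.Units.val_mk0, _root_.Units.val_inv_eq_inv_val, _root_.Matrix.of_apply, _root_.Matrix.cons_val', _root_.Matrix.cons_val_fin_one, Fin.isValue, _root_.Matrix.cons_val_zero, _root_.Matrix.cons_val_succ, _root_.Fin.succ_zero_eq_one, _root_.IsEmpty.forall_iff, _root_.and_true, _root_.Matrix.diagonal_apply_eq, _root_.ne_eq, _root_.zero_ne_one, _root_.not_false_eq_true, _root_.Matrix.diagonal_apply_ne, _root_.and_self, _root_.Fin.succ_ne_zero, _root_.true_and])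
  rw [hg']
  apply mem_KS
  rw [Units.val_mk0]
  rcases mul_self_eq_one_iff.1 hd with h | h
  · rw [h]; exact ⟨1, by ring⟩
  · rw [h]; exact h1

theorem au_one_pow (σ : F ≃+* F) (n : ℕ) : au 1 σ ^ n = (au 1 (σ ^ n) : MulAut P2) := by
  induction n with
  | zero => rw [pow_zero, pow_zero, au_one]
  | succ n ih => rw [pow_succ, ih, au_mul, map_one, one_mul, ← pow_succ]

/-- **`D3` for `PΣL₂(q)`** -/
theorem d3_fld (h4 : Nat.card F % 4 = 1) {σ : F ≃+* F} {k : ℕ} (hσ1 : σ ≠ 1) (hσ : σ ^ 2 ^ k = 1) :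
    D3 (AutExt (au 1 σ : MulAut P2)) := by
  have hm1 : IsSquare (-1 : F) := by
    have := Fintype.ofFinite F
    rw [FiniteField.isSquare_neg_one_iff, ← Nat.card_eq_fintype_card, h4]
    norm_num
  obtain ⟨z, m, hz, hm, hzs⟩ := exists_z h4
  have hMN : (MS F).map cpr ≤ (MulAut.conj : P2 →* MulAut P2).range := by
    rw [← range_cpr]
    rintro _ ⟨g, -, rfl⟩
    exact ⟨g, rfl⟩
  have hpow : (au 1 σ : MulAut P2) ^ 2 ^ k = 1 := by rw [au_one_pow, hσ, au_one]
  refine Split.d3_split (MulAut.conj : P2 →* MulAut P2).range (au 1 σ) ((MS F).map cpr) hMN ?_ ?_ ?_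
    ((KS F).map cpr) (Subgroup.map_mono KS_le) ?_ ?_ ?_
  · rw [← range_cpr, MonoidHom.range_eq_map, Subgroup.relIndex_map_map, top_sup_eq, Subgroup.relIndex_top_right]
    intro h
    exact index_QS hz hm h4 ((h.trans (Subgroup.index_dvd_of_le le_sup_left)).trans
      (Subgroup.index_dvd_of_le (QS_le z)))
  · intro j hj
    obtain ⟨n, hn⟩ := (mem_powers_iff_mem_zpowers).2 (⟨j, rfl⟩ : (au 1 σ : MulAut P2) ^ j ∈ zpowers (au 1 σ))
    have hn' : (au 1 σ : MulAut P2) ^ n = au 1 σ ^ j := hn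
    rw [← hn', au_one_pow] at hj ⊢
    obtain ⟨s, hs⟩ := hj
    have h1 := (isInn_au (A := 1) (σ := σ ^ n) ⟨s, fun x => by rw [← hs]; rfl⟩).1
    rw [h1, au_one]
  · have h1 := orderOf_dvd_of_pow_eq_one hpow
    obtain ⟨j, -, hj⟩ := (Nat.dvd_prime_pow Nat.prime_two).1 h1
    rw [hj]
    apply dvd_pow_self
    rintro rfl
    rw [pow_zero, orderOf_eq_one_iff] at hj
    apply hσ1
    exact (isInn_au (A := 1) (σ := σ) ⟨1, fun x => by rw [hj]; simp only [_root_.MulAut.one_apply, _root_.one_mul, _root_.inv_one, _root_.mul_one]⟩).1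
  · rintro _ ⟨g, hg, rfl⟩
    rw [← map_pow]
    exact ⟨_, sq_mem_KS hm1 hg, rfl⟩
  · rintro _ ⟨g, hg, rfl⟩
    have h1 := au_conj_cpr 1 σ g
    rw [map_one, one_mul] at h1
    rw [h1, ← map_inv, ← map_mul]
    exact ⟨_, comm_mem_KS σ hg, rfl⟩
  · rw [Subgroup.relIndex_map_map, sup_eq_left.2 (ker_le hm1), sup_eq_left.2 ((ker_le hm1).trans KS_le)]
    exact four_le ⟨z, hzs⟩

/-- **`D3`, inside `PΣL₂(q)`** -/
theorem d3_of_sq (h4 : Nat.card F % 4 = 1) {A : GL (Fin 2) F} {σ : F ≃+* F} {k : ℕ} (hσ1 : σ ≠ 1)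
    (hσ : σ ^ 2 ^ k = 1) (hA : IsSquare (A : Matrix (Fin 2) (Fin 2) F).det) : D3 (AutExt (au A σ)) := by
  obtain ⟨g, hg⟩ := inner_of_sq hA σ
  have h1 : au A σ = MulAut.conj (pr g) * au 1 σ := by
    rw [hg, conj_pr, au_mul, gm_one, one_mul, mul_one]
  rw [h1, autExt_conj]
  exact d3_fld h4 hσ1 hσ

end Cfsg.Agent.H984.K547.PslA
end

-- part: H393/K547/XTool
section
/-!
# S4547: `XCond` from an element with three eigenvectors (helper393)
-/

set_option autoImplicit false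

namespace Cfsg.Agent.H393.K547

open Subgroup Cfsg.Agent.H821.K547

universe u

/-- cyclic subgroup of index at most 2 in a Sylow 2-subgroup -/
theorem xcond_of_card {G : Type u} [Group G] (x : G) (n : ℕ) (hx : orderOf x = 2 ^ n)
    (h : ¬ 2 ^ (n + 2) ∣ Nat.card G) : XCond G :=
  ⟨x, n, hx, fun hd => h (hd.trans (card_subgroup_dvd_card _))⟩

theorem mem_normalizer_zpowers {G : Type u} [Group G] [Finite G] {x g : G} :
    g ∈ normalizer (zpowers x : Set G) ↔ ∃ j : ℕ, g * x * g⁻¹ = x ^ j := by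
  constructor
  · intro h
    have h1 : g * x * g⁻¹ ∈ zpowers x := (mem_normalizer_iff.1 h x).1 (mem_zpowers x)
    obtain ⟨j, hj⟩ := (mem_powers_iff_mem_zpowers).2 h1
    exact ⟨j, hj.symm⟩
  · rintro ⟨j, hj⟩
    have h1 : ∀ y ∈ zpowers x, g * y * g⁻¹ ∈ zpowers x := by
      intro y hy
      obtain ⟨k, rfl⟩ := mem_zpowers_iff.1 hy
      rw [← conj_zpow, hj]
      exact zpow_mem (pow_mem (mem_zpowers x) j) k
    have h2 : (zpowers x).map (MulAut.conj g).toMonoidHom = zpowers x := by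
      refine Subgroup.eq_of_le_of_card_ge ?_ ?_
      · rintro _ ⟨y, hy, rfl⟩
        exact h1 y hy
      · rw [Nat.card_congr ((zpowers x).equivMapOfInjective (MulAut.conj g).toMonoidHom (MulAut.conj g).injective).toEquiv]
    rw [mem_normalizer_iff]
    intro y
    refine ⟨fun hy => h1 y hy, fun hy => ?_⟩
    have h3 : g * y * g⁻¹ ∈ (zpowers x).map (MulAut.conj g).toMonoidHom := by rw [h2]; exact hy
    obtain ⟨z, hz, hzy⟩ := h3
    have : z = y := by
      have h4 : g * z * g⁻¹ = g * y * g⁻¹ := hzy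
      simpa only [_root_.mul_left_inj, _root_.mul_right_inj] using h4
    exact this ▸ hz

/-- if all elements of `N(⟨x⟩)` outside `C(x)` act in the same way on `x` -/
theorem not_dvd_of_two {G : Type u} [Group G] [Finite G] {x : G} {m : ℕ}
    (h1 : ∀ g h : G, g ∈ normalizer (zpowers x : Set G) → h ∈ normalizer (zpowers x : Set G) →
      g * x * g⁻¹ ≠ x → h * x * h⁻¹ ≠ x → g * x * g⁻¹ = h * x * h⁻¹)
    (h2 : ¬ 2 ^ m ∣ Nat.card (centralizer ({x} : Set G))) :
    ¬ 2 ^ (m + 1) ∣ Nat.card ↥(normalizer (zpowers x : Set G)) := by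
  have hle : centralizer ({x} : Set G) ≤ normalizer (zpowers x : Set G) := by
    intro c hc
    rw [mem_normalizer_zpowers]
    refine ⟨1, ?_⟩
    rw [mem_centralizer_singleton_iff] at hc
    rw [pow_one, hc, mul_inv_cancel_right]
  have hmem : ∀ c : G, c ∈ centralizer ({x} : Set G) ↔ c * x * c⁻¹ = x := by
    intro c
    rw [mem_centralizer_singleton_iff, mul_inv_eq_iff_eq_mul]
  have hcard : (centralizer ({x} : Set G)).relIndex (normalizer (zpowers x : Set G)) *
      Nat.card (centralizer ({x} : Set G)) = Nat.card ↥(normalizer (zpowers x : Set G)) := by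
    rw [relIndex, ← Nat.card_congr (subgroupOfEquivOfLe hle).toEquiv, mul_comm]
    exact card_mul_index _
  have hidx : (centralizer ({x} : Set G)).relIndex (normalizer (zpowers x : Set G)) ∣ 2 := by
    by_cases hall : ∀ g ∈ normalizer (zpowers x : Set G), g * x * g⁻¹ = x
    · have : (centralizer ({x} : Set G)).relIndex (normalizer (zpowers x : Set G)) = 1 := by
        rw [relIndex_eq_one]
        intro g hg
        exact (hmem g).2 (hall g hg)
      rw [this]
      exact one_dvd _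
    · push Not at hall
      obtain ⟨a, ha, hax⟩ := hall
      have : (centralizer ({x} : Set G)).relIndex (normalizer (zpowers x : Set G)) = 2 := by
        rw [relIndex, index_eq_two_iff]
        refine ⟨⟨a⁻¹, inv_mem ha⟩, fun b => ?_⟩
        rw [xor_iff_iff_not]
        rw [mem_subgroupOf, mem_subgroupOf, hmem, hmem]
        change (b : G) * a⁻¹ * x * ((b : G) * a⁻¹)⁻¹ = x ↔ ¬ ((b : G) * x * (b : G)⁻¹ = x)
        have key : ((b : G) * a⁻¹ * x * ((b : G) * a⁻¹)⁻¹ = x) ↔ a⁻¹ * x * a = (b : G)⁻¹ * x * b := by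
          constructor
          · intro h
            calc a⁻¹ * x * a = (b : G)⁻¹ * ((b : G) * a⁻¹ * x * ((b : G) * a⁻¹)⁻¹) * b := by group
              _ = (b : G)⁻¹ * x * b := by rw [h]
          · intro h
            calc (b : G) * a⁻¹ * x * ((b : G) * a⁻¹)⁻¹ = (b : G) * (a⁻¹ * x * a) * (b : G)⁻¹ := by group
              _ = x := by rw [h]; group
        rw [key]
        have ha' : a⁻¹ * x * a ≠ x := by
          intro h
          apply hax
          calc a * x * a⁻¹ = a * (a⁻¹ * x * a) * a⁻¹ := by rw [h]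
            _ = x := by group
        constructor
        · intro h hb
          apply ha'
          rw [h]
          calc (b : G)⁻¹ * x * b = (b : G)⁻¹ * ((b : G) * x * (b : G)⁻¹) * b := by rw [hb]
            _ = x := by group
        · intro hb
          have hb' : (b : G)⁻¹ * x * b ≠ x := by
            intro h
            apply hb
            calc (b : G) * x * (b : G)⁻¹ = b * ((b : G)⁻¹ * x * b) * (b : G)⁻¹ := by rw [h]
              _ = x := by group
          have := h1 a⁻¹ (b : G)⁻¹ (inv_mem ha) (inv_mem b.2) (by rwa [inv_inv]) (by rwa [inv_inv])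
          rwa [inv_inv, inv_inv] at this
      rw [this]
  intro hd
  rw [← hcard] at hd
  apply h2
  rcases (Nat.dvd_prime Nat.prime_two).1 hidx with h | h
  · rw [h, one_mul] at hd
    exact (pow_dvd_pow 2 (Nat.le_succ m)).trans hd
  · rw [h, pow_succ, mul_comm] at hd
    exact Nat.dvd_of_mul_dvd_mul_left (by norm_num) hd

/-- `XCond` passes to the quotient by a central subgroup of odd order -/
theorem xcond_quot {G : Type u} [Group G] [Finite G] (Z : Subgroup G) [Z.Normal] (hZ : Z ≤ center G)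
    (hodd : ¬ 2 ∣ Nat.card Z) (h : XCond G) : XCond (G ⧸ Z) := by
  obtain ⟨x, n, hx, hN⟩ := h
  have htriv : ∀ z ∈ Z, ∀ k : ℕ, z ^ 2 ^ k = 1 → z = 1 := by
    intro z hz k hk
    have h1 : orderOf (⟨z, hz⟩ : Z) ∣ 2 ^ k := orderOf_dvd_of_pow_eq_one (Subtype.ext hk)
    have h2 : orderOf (⟨z, hz⟩ : Z) ∣ Nat.card Z := _root_.orderOf_dvd_natCard _
    obtain ⟨j, -, hj⟩ := (Nat.dvd_prime_pow Nat.prime_two).1 h1
    have h3 : j = 0 := by
      by_contra h0
      exact hodd ((dvd_pow_self 2 h0).trans (hj ▸ h2))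
    rw [h3, pow_zero, orderOf_eq_one_iff] at hj
    exact congrArg Subtype.val hj
  refine ⟨(x : G ⧸ Z), n, ?_, ?_⟩
  · refine Nat.dvd_antisymm ?_ ?_
    · rw [← hx]
      exact orderOf_map_dvd (QuotientGroup.mk' Z) x
    · rw [← hx]
      refine orderOf_dvd_of_pow_eq_one (htriv _ ?_ n ?_)
      · have h1 : ((x ^ orderOf (x : G ⧸ Z) : G) : G ⧸ Z) = 1 := by
          rw [QuotientGroup.mk_pow, pow_orderOf_eq_one]
        exact (QuotientGroup.eq_one_iff _).1 h1
      · rw [← pow_mul, mul_comm, pow_mul, ← hx, pow_orderOf_eq_one, one_pow]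
  · intro hd
    apply hN
    refine hd.trans ?_
    have h1 : (normalizer (zpowers (x : G ⧸ Z) : Set (G ⧸ Z))).comap (QuotientGroup.mk' Z) =
        normalizer (zpowers x : Set G) := by
      ext g
      rw [mem_comap, mem_normalizer_zpowers, mem_normalizer_zpowers]
      constructor
      · rintro ⟨j, hj⟩
        refine ⟨j, ?_⟩
        have h2 : ((g * x * g⁻¹ * (x ^ j)⁻¹ : G) : G ⧸ Z) = 1 := by
          rw [QuotientGroup.mk_mul, QuotientGroup.mk_inv, QuotientGroup.mk_pow, mul_inv_eq_one]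
          exact hj
        have h3 := (QuotientGroup.eq_one_iff _).1 h2
        have h4 := htriv _ h3 n ?_
        · rwa [mul_inv_eq_one] at h4
        · have h5 : (g * x * g⁻¹ * (x ^ j)⁻¹) * (x ^ j) = g * x * g⁻¹ := by group
          have hc : Commute (g * x * g⁻¹ * (x ^ j)⁻¹) (x ^ j) := ((mem_center_iff.1 (hZ h3)) (x ^ j)).symm
          have h6 : (g * x * g⁻¹) ^ 2 ^ n = 1 := by
            rw [conj_pow, ← hx, pow_orderOf_eq_one]
            group
          rw [← h5, hc.mul_pow, ← pow_mul, mul_comm j, pow_mul, ← hx, pow_orderOf_eq_one, one_pow, mul_one] at h6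
          rwa [hx] at h6
      · rintro ⟨j, hj⟩
        refine ⟨j, ?_⟩
        have := congrArg (QuotientGroup.mk' Z) hj
        simpa only [_root_.QuotientGroup.mk'_apply, _root_.QuotientGroup.mk_mul, _root_.QuotientGroup.mk_inv, _root_.QuotientGroup.mk_pow] using this
    rw [← h1]
    have h7 := map_comap_eq_self_of_surjective (QuotientGroup.mk'_surjective Z)
      (normalizer (zpowers (x : G ⧸ Z) : Set (G ⧸ Z)))
    calc Nat.card ↥(normalizer (zpowers (x : G ⧸ Z) : Set (G ⧸ Z)))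
        = Nat.card (((normalizer (zpowers (x : G ⧸ Z) : Set (G ⧸ Z))).comap (QuotientGroup.mk' Z)).map
          (QuotientGroup.mk' Z)) := by rw [h7]
      _ ∣ _ := card_map_dvd _ _

section eig

variable {K V : Type*} [Field K] [AddCommGroup V] [Module K V]

/-- the eigenvectors of an endomorphism which is diagonal with distinct eigenvalues -/
theorem eigen_eq {ι : Type*} [Finite ι] (b : Module.Basis ι K V) (l : ι → K) (hl : Function.Injective l)
    (T : Module.End K V) (hT : ∀ i, T (b i) = l i • b i) {u : V} {i : ι} (hu : T u = l i • u) : ∃ a : K, u = a • b i := by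
  classical
  have := Fintype.ofFinite ι
  refine ⟨b.repr u i, ?_⟩
  have h1 : ∀ j, b.repr (T u) j = l j * b.repr u j := by
    intro j
    conv_lhs => rw [← b.sum_repr u]
    simp only [map_sum, map_smul, hT]
    rw [Finsupp.finsetSum_apply, Finset.sum_eq_single j]
    · simp [mul_comm]
    · intro k _ hk
      simp [hk]
    · intro h
      exact absurd (Finset.mem_univ _) h
  have h2 : ∀ j, j ≠ i → b.repr u j = 0 := by
    intro j hj
    have h3 := h1 j
    rw [hu, map_smul, Finsupp.smul_apply, smul_eq_mul] at h3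
    have h4 : (l i - l j) * b.repr u j = 0 := by rw [sub_mul, h3, sub_self]
    rcases mul_eq_zero.1 h4 with h | h
    · exact absurd (hl (sub_eq_zero.1 h)).symm hj
    · exact h
  conv_lhs => rw [← b.sum_repr u]
  rw [Finset.sum_eq_single i]
  · intro j _ hj
    rw [h2 j hj, zero_smul]
  · intro h
    exact absurd (Finset.mem_univ _) h

/-- the eigenvalues of an endomorphism which is diagonal -/
theorem exists_eig {ι : Type*} [Finite ι] (b : Module.Basis ι K V) (l : ι → K)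
    (T : Module.End K V) (hT : ∀ i, T (b i) = l i • b i) {u : V} (hu0 : u ≠ 0) {c : K} (hu : T u = c • u) :
    ∃ i, l i = c := by
  classical
  have := Fintype.ofFinite ι
  have h1 : ∀ j, b.repr (T u) j = l j * b.repr u j := by
    intro j
    conv_lhs => rw [← b.sum_repr u]
    simp only [map_sum, map_smul, hT]
    rw [Finsupp.finsetSum_apply, Finset.sum_eq_single j]
    · simp [mul_comm]
    · intro k _ hk
      simp [hk]
    · intro h
      exact absurd (Finset.mem_univ _) h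
  by_contra hcon
  push Not at hcon
  apply hu0
  have h2 : ∀ j, b.repr u j = 0 := by
    intro j
    have h3 := h1 j
    rw [hu, map_smul, Finsupp.smul_apply, smul_eq_mul] at h3
    have h4 : (c - l j) * b.repr u j = 0 := by rw [sub_mul, h3, sub_self]
    rcases mul_eq_zero.1 h4 with h | h
    · exact absurd (sub_eq_zero.1 h).symm (hcon j)
    · exact h
  apply b.repr.map_eq_zero_iff.1
  ext j
  rw [h2 j]
  rfl

/-- `XCond` from an element with three eigenvectors -/
theorem xcond_of_eigen {H : Type u} [Group H] [Finite H] [Finite K] (ρ : H →* Module.End K V) (x : H) {n : ℕ}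
    (hn : 1 ≤ n) (b : Module.Basis (Fin 3) K V) (l : Fin 3 → K) (hl : Function.Injective l)
    (hx : ∀ i, ρ x (b i) = l i • b i) (h0 : orderOf (l 0) = 2 ^ n) (k : ℕ) (h1 : l 1 = l 0 ^ k)
    (h2 : l 2 ^ 2 ^ (n - 1) = 1)
    (hinj : ∀ (c : H) (a : Fin 3 → K), (∀ i, ρ c (b i) = a i • b i) → a 0 = 1 → c = 1)
    (hK : ¬ 2 ^ (n + 1) ∣ Nat.card Kˣ) : XCond H := by
  have hpow : ∀ m : ℕ, ∀ i, ρ (x ^ m) (b i) = l i ^ m • b i := by
    intro m i
    induction m with
    | zero => simp only [_root_.pow_zero, _root_.map_one, _root_.Module.End.one_apply, _root_.one_smul]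
    | succ m ih => rw [pow_succ, map_mul, Module.End.mul_apply, hx, map_smul, ih, smul_smul, ← pow_succ']
  have hb0 : b 0 ≠ 0 := b.ne_zero 0
  -- the order of x
  have hord : ∀ m : ℕ, x ^ m = 1 ↔ l 0 ^ m = 1 := by
    intro m
    constructor
    · intro h
      have h3 := hpow m 0
      rw [h, map_one, Module.End.one_apply] at h3
      by_contra hne
      apply hne
      have h4 : (l 0 ^ m - 1) • b 0 = 0 := by rw [sub_smul, ← h3, one_smul, sub_self]
      rcases smul_eq_zero.1 h4 with h5 | h5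
      · exact sub_eq_zero.1 h5
      · exact absurd h5 hb0
    · intro h
      exact hinj _ (fun i => l i ^ m) (hpow m) h
  have hox : orderOf x = 2 ^ n := by
    rw [← h0]
    refine Nat.dvd_antisymm (orderOf_dvd_of_pow_eq_one ((hord _).2 (pow_orderOf_eq_one _)))
      (orderOf_dvd_of_pow_eq_one ((hord _).1 (pow_orderOf_eq_one _)))
  have hpe : ∀ i j : ℕ, l 0 ^ i = l 0 ^ j → x ^ i = x ^ j := by
    have hl0 : l 0 ≠ 0 := by
      intro h
      rw [h, orderOf_zero] at h0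
      exact absurd h0 (by positivity)
    have key : ∀ i j : ℕ, i ≤ j → l 0 ^ i = l 0 ^ j → x ^ i = x ^ j := by
      intro i j hij h
      obtain ⟨d, rfl⟩ := Nat.exists_eq_add_of_le hij
      rw [pow_add] at h ⊢
      have h3 : l 0 ^ d = 1 := by
        have h4 : l 0 ^ i * 1 = l 0 ^ i * l 0 ^ d := by rw [mul_one]; exact h
        exact (mul_left_cancel₀ (pow_ne_zero _ hl0) h4).symm
      rw [(hord d).2 h3, mul_one]
    intro i j h
    rcases le_total i j with hij | hij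
    · exact key i j hij h
    · exact (key j i hij h.symm).symm
  refine ⟨x, n, hox, ?_⟩
  refine not_dvd_of_two (m := n + 1) ?_ ?_
  · have key : ∀ g : H, g ∈ normalizer (zpowers x : Set H) → g * x * g⁻¹ ≠ x →
        ∃ j : ℕ, g * x * g⁻¹ = x ^ j ∧ l 0 ^ (k * j) = l 0 := by
      intro g hg hgx
      obtain ⟨j, hj⟩ := mem_normalizer_zpowers.1 hg
      refine ⟨j, hj, ?_⟩
      have hg0 : ρ g (b 0) ≠ 0 := by
        intro h
        have h3 : ρ g⁻¹ (ρ g (b 0)) = b 0 := by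
          rw [← Module.End.mul_apply, ← map_mul, inv_mul_cancel, map_one, Module.End.one_apply]
        rw [h, map_zero] at h3
        exact hb0 h3.symm
      have hge : ρ (x ^ j) (ρ g (b 0)) = l 0 • ρ g (b 0) := by
        rw [← Module.End.mul_apply, ← map_mul, ← hj, inv_mul_cancel_right, map_mul, Module.End.mul_apply, hx, map_smul]
      obtain ⟨i, hi⟩ := exists_eig b (fun i => l i ^ j) (ρ (x ^ j)) (hpow j) hg0 hge
      fin_cases i
      · exfalso
        apply hgx
        rw [hj]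
        have := hpe j 1 (by rw [pow_one]; exact hi)
        rwa [pow_one] at this
      · change l 1 ^ j = l 0 at hi
        rw [h1, ← pow_mul] at hi
        exact hi
      · exfalso
        change l 2 ^ j = l 0 at hi
        have h4 : l 0 ^ 2 ^ (n - 1) = 1 := by
          rw [← hi, ← pow_mul, mul_comm, pow_mul, h2, one_pow]
        have h5 := orderOf_dvd_of_pow_eq_one h4
        rw [h0] at h5
        have h6 := (Nat.pow_dvd_pow_iff_le_right (by norm_num)).1 h5
        omega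
    intro g h hg hh hgx hhx
    obtain ⟨j, hj, hj'⟩ := key g hg hgx
    obtain ⟨i, hi, hi'⟩ := key h hh hhx
    rw [hj, hi]
    apply hpe
    calc l 0 ^ j = (l 0 ^ (k * i)) ^ j := by rw [hi']
      _ = (l 0 ^ (k * j)) ^ i := by rw [← pow_mul, ← pow_mul]; congr 1; ring
      _ = l 0 ^ i := by rw [hj']
  · intro hd
    apply hK
    refine hd.trans ?_
    -- the centraliser embeds in the multiplicative group
    have hc : ∀ c : centralizer ({x} : Set H), ∀ i, ∃ a : K, ρ c (b i) = a • b i := by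
      intro c i
      refine eigen_eq b l hl (ρ x) hx ?_
      have := mem_centralizer_singleton_iff.1 c.2
      rw [← Module.End.mul_apply, ← map_mul, ← this, map_mul, Module.End.mul_apply, hx, map_smul]
    choose a ha using hc
    have hmul : ∀ c d : centralizer ({x} : Set H), a (c * d) 0 = a c 0 * a d 0 := by
      intro c d
      have h3 : ρ ((c * d : centralizer ({x} : Set H)) : H) (b 0) = (a c 0 * a d 0) • b 0 := by
        rw [coe_mul, map_mul, Module.End.mul_apply, ha, map_smul, ha, smul_smul, mul_comm]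
      rw [ha] at h3
      have h4 : (a (c * d) 0 - a c 0 * a d 0) • b 0 = 0 := by rw [sub_smul, h3, sub_self]
      rcases smul_eq_zero.1 h4 with h5 | h5
      · exact sub_eq_zero.1 h5
      · exact absurd h5 hb0
    have hone : a 1 0 = 1 := by
      have h3 := ha 1 0
      rw [coe_one, map_one, Module.End.one_apply] at h3
      have h4 : (a 1 0 - 1) • b 0 = 0 := by rw [sub_smul, ← h3, one_smul, sub_self]
      rcases smul_eq_zero.1 h4 with h5 | h5
      · exact sub_eq_zero.1 h5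
      · exact absurd h5 hb0
    let φ : centralizer ({x} : Set H) →* K := ⟨⟨fun c => a c 0, hone⟩, hmul⟩
    have hφ : Function.Injective φ.toHomUnits := by
      rw [injective_iff_map_eq_one]
      intro c hc
      have h3 : a c 0 = 1 := congrArg Units.val hc
      exact Subtype.ext (hinj c (a c) (ha c) h3)
    exact card_dvd_of_injective _ hφ

end eig

end Cfsg.Agent.H393.K547
end

-- part: H393/K547/XRows
section
/-!
# S4547: `XCond` for `PSL2(q)`, `PSL3(q)`, `PSU3(q)`, `q` odd (helper393)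
-/

set_option autoImplicit false

namespace Cfsg.Agent.H393.K547

open Subgroup Cfsg Cfsg.Agent.H821.K547 Matrix

universe u

/-! ### arithmetic -/

/-- the 2-part of `q ^ 2 - 1` -/
theorem exists_two_part {q : ℕ} (hq : q % 2 = 1) (hq3 : 3 ≤ q) :
    ∃ n : ℕ, 3 ≤ n ∧ 2 ^ n ∣ q ^ 2 - 1 ∧ ¬ 2 ^ (n + 1) ∣ q ^ 2 - 1 ∧ ¬ 2 ^ n ∣ q - 1 ∧ ¬ 2 ^ n ∣ q + 1 := by
  have h0 : q ^ 2 - 1 ≠ 0 := by
    have : 3 ^ 2 ≤ q ^ 2 := Nat.pow_le_pow_left hq3 2
    omega
  have hfac : q ^ 2 - 1 = (q + 1) * (q - 1) := by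
    have := Nat.sq_sub_sq q 1
    rwa [one_pow] at this
  obtain ⟨n, hn⟩ : ∃ n, n = (q ^ 2 - 1).factorization 2 := ⟨_, rfl⟩
  have h1 : 2 ^ n ∣ q ^ 2 - 1 := hn ▸ Nat.ordProj_dvd _ _
  have h2 : ¬ 2 ^ (n + 1) ∣ q ^ 2 - 1 := hn ▸ Nat.pow_succ_factorization_not_dvd h0 Nat.prime_two
  have h3 : 3 ≤ n := by
    rw [hn]
    refine (Nat.prime_two.pow_dvd_iff_le_factorization h0).1 ?_
    obtain ⟨k, rfl⟩ : ∃ k, q = 2 * k + 1 := ⟨q / 2, by omega⟩
    rw [hfac]
    have h1 : (2 * k + 1 + 1) * (2 * k + 1 - 1) = 4 * (k * (k + 1)) := by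
      rw [Nat.add_sub_cancel]
      ring
    rw [h1]
    have h2 : 2 ∣ k * (k + 1) := (Nat.even_mul_succ_self k).two_dvd
    obtain ⟨m, hm⟩ := h2
    exact ⟨m, by rw [hm]; ring⟩
  refine ⟨n, h3, h1, h2, ?_, ?_⟩
  · intro h
    apply h2
    rw [hfac, pow_succ']
    exact mul_dvd_mul (by omega) h
  · intro h
    apply h2
    rw [hfac, pow_succ]
    exact mul_dvd_mul h (by omega)

theorem exists_order {K : Type*} [Field K] [Finite K] {d : ℕ} (hd : d ∣ Nat.card Kˣ) : ∃ μ : K, orderOf μ = d := by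
  obtain ⟨g, hg⟩ := IsCyclic.exists_ofOrder_eq_natCard (α := Kˣ)
  obtain ⟨m, hm⟩ := hd
  have hpos : 0 < Nat.card Kˣ := Nat.card_pos
  have hm0 : m ≠ 0 := by
    rintro rfl
    rw [mul_zero] at hm
    omega
  refine ⟨((g ^ m : Kˣ) : K), ?_⟩
  rw [orderOf_units, orderOf_pow_of_dvd hm0 (by rw [hg, hm]; exact dvd_mul_left _ _), hg, hm,
    Nat.mul_div_cancel _ (Nat.pos_of_ne_zero hm0)]

theorem card_units' {K : Type*} [Field K] [Finite K] {q : ℕ} (hK : Nat.card K = q ^ 2) : Nat.card Kˣ = q ^ 2 - 1 := by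
  rw [Nat.card_units, hK]

theorem odd_of_two_ne {F : Type*} [Field F] [Fintype F] (h2 : (2 : F) ≠ 0) : Fintype.card F % 2 = 1 := by
  refine FiniteField.odd_card_of_char_ne_two (F := F) fun h => h2 ?_
  have := CharP.cast_eq_zero F (ringChar F)
  rw [h] at this
  exact_mod_cast this

/-- the quadratic extension -/
theorem exists_quad (F : Type*) [Field F] [Finite F] :
    ∃ (K : Type) (_ : Field K) (_ : Finite K) (_ : Algebra F K), Nat.card K = Nat.card F ^ 2 := by
  obtain ⟨p, hp⟩ := CharP.exists F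
  have hf : Fact p.Prime := ⟨CharP.char_is_prime F p⟩
  exact ⟨FiniteField.Extension F p 2, inferInstance, inferInstance, inferInstance, FiniteField.natCard_extension F p 2⟩

theorem mem_range_of_pow {F K : Type*} [Field F] [Fintype F] [Field K] [Algebra F K] {x : K}
    (hx : x ^ Fintype.card F = x) : ∃ a : F, algebraMap F K a = x := by
  classical
  have hq := Fintype.one_lt_card (α := F)
  have hne : (Polynomial.X ^ Fintype.card F - Polynomial.X : Polynomial K) ≠ 0 :=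
    FiniteField.X_pow_card_sub_X_ne_zero K hq
  have hs : (Finset.univ.image fun a : F => algebraMap F K a) ⊆
      (Polynomial.X ^ Fintype.card F - Polynomial.X : Polynomial K).roots.toFinset := by
    intro y hy
    obtain ⟨a, -, rfl⟩ := Finset.mem_image.1 hy
    rw [Multiset.mem_toFinset, Polynomial.mem_roots hne, Polynomial.IsRoot.def]
    simp only [Polynomial.eval_sub, Polynomial.eval_pow, Polynomial.eval_X]
    rw [← map_pow, FiniteField.pow_card, sub_self]
  have hc : (Polynomial.X ^ Fintype.card F - Polynomial.X : Polynomial K).roots.toFinset.card ≤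
      (Finset.univ.image fun a : F => algebraMap F K a).card := by
    rw [Finset.card_image_of_injective _ (algebraMap F K).injective, Finset.card_univ]
    refine (Multiset.toFinset_card_le _).trans ((Polynomial.card_roots' _).trans ?_)
    rw [FiniteField.X_pow_card_sub_X_natDegree_eq K hq]
  have he := Finset.eq_of_subset_of_card_le hs hc
  have : x ∈ (Polynomial.X ^ Fintype.card F - Polynomial.X : Polynomial K).roots.toFinset := by
    rw [Multiset.mem_toFinset, Polynomial.mem_roots hne, Polynomial.IsRoot.def]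
    simp only [Polynomial.eval_sub, Polynomial.eval_pow, Polynomial.eval_X]
    rw [hx, sub_self]
  rw [← he] at this
  obtain ⟨a, -, ha⟩ := Finset.mem_image.1 this
  exact ⟨a, ha⟩

/-- a basis of `K ^ 3` from an invertible matrix of rows -/
theorem exists_basis {K : Type*} [Field K] (A : Matrix (Fin 3) (Fin 3) K) (hA : A.det ≠ 0) :
    ∃ b : Module.Basis (Fin 3) K (Fin 3 → K), ∀ i, b i = A i := by
  have h1 : LinearIndependent K A.row :=
    Matrix.linearIndependent_rows_iff_isUnit.2 ((Matrix.isUnit_iff_isUnit_det A).2 (isUnit_iff_ne_zero.2 hA))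
  refine ⟨basisOfLinearIndependentOfCardEqFinrank h1 (by simp), fun i => ?_⟩
  rw [coe_basisOfLinearIndependentOfCardEqFinrank]
  rfl

/-! ### `SL3(q)` -/

/-- the action of `SL_m(F)` on `K ^ m` -/
noncomputable def rep (F : Type u) [Field F] (K : Type*) [Field K] [Algebra F K] (m : ℕ) :
    _root_.Matrix.SpecialLinearGroup (Fin m) F →* Module.End K (Fin m → K) where
  toFun g := Matrix.mulVecLin (g.1.map (algebraMap F K))
  map_one' := by
    change Matrix.mulVecLin ((1 : Matrix (Fin m) (Fin m) F).map (algebraMap F K)) = _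
    rw [Matrix.map_one _ (map_zero _) (map_one _), Matrix.mulVecLin_one]
    rfl
  map_mul' g h := by
    change Matrix.mulVecLin ((g.1 * h.1).map (algebraMap F K)) = _
    rw [Matrix.map_mul, Matrix.mulVecLin_mul]
    rfl

theorem rep_apply {F : Type u} [Field F] {K : Type*} [Field K] [Algebra F K] {m : ℕ}
    (g : _root_.Matrix.SpecialLinearGroup (Fin m) F) (v : Fin m → K) (i : Fin m) :
    rep F K m g v i = ∑ j, algebraMap F K (g.1 i j) * v j := rfl

/-- the numbers of the torus of order `q ^ 2 - 1` -/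
structure Tor (F K : Type*) [Field F] [Fintype F] [Field K] [Algebra F K] (n : ℕ) (μ ν : K) (t d : F) : Prop where
  hn : 3 ≤ n
  ho : orderOf μ = 2 ^ n
  hν : ν = μ ^ Fintype.card F
  hνq : ν ^ Fintype.card F = μ
  hne : ν ≠ μ
  ht : algebraMap F K t = μ + ν
  hd : algebraMap F K d = μ * ν
  hdo : (μ * ν) ^ 2 ^ (n - 1) = 1
  hμ0 : μ ≠ 0
  hν0 : ν ≠ 0
  hdt : ¬ 2 ^ (n + 1) ∣ Fintype.card F ^ 2 - 1
  hq : Fintype.card F % 2 = 1

theorem exists_tor (F : Type u) [Field F] [Fintype F] (h2 : (2 : F) ≠ 0) :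
    ∃ (K : Type) (_ : Field K) (_ : Finite K) (_ : Algebra F K) (n : ℕ) (μ ν : K) (t d : F),
      Nat.card K = Fintype.card F ^ 2 ∧ Tor F K n μ ν t d := by
  obtain ⟨K, iK, fK, aK, hK⟩ := exists_quad F
  rw [Nat.card_eq_fintype_card (α := F)] at hK
  have hq := odd_of_two_ne h2
  have hq3 : 3 ≤ Fintype.card F := by
    have := Fintype.one_lt_card (α := F)
    omega
  obtain ⟨n, hn, h3, h4, h5, h6⟩ := exists_two_part hq hq3
  obtain ⟨μ, hμ⟩ := exists_order (K := K) (d := 2 ^ n) (by rw [card_units' hK]; exact h3)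
  have hμ0 : μ ≠ 0 := by
    rintro rfl
    rw [orderOf_zero] at hμ
    exact absurd hμ (by positivity)
  have hq2 : μ ^ (Fintype.card F ^ 2 - 1) = 1 := by
    rw [← orderOf_dvd_iff_pow_eq_one, hμ]
    exact h3
  have hfr : (μ ^ Fintype.card F) ^ Fintype.card F = μ := by
    rw [← pow_mul, ← sq]
    have h7 : Fintype.card F ^ 2 = (Fintype.card F ^ 2 - 1) + 1 := by
      have : 0 < Fintype.card F ^ 2 := by positivity
      omega
    rw [h7, pow_succ, hq2, one_mul]
  have hadd : ∀ x y : K, (x + y) ^ Fintype.card F = x ^ Fintype.card F + y ^ Fintype.card F := by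
    intro x y
    exact map_add (FiniteField.frobeniusAlgHom F K) x y
  obtain ⟨t, ht⟩ := mem_range_of_pow (F := F) (x := μ + μ ^ Fintype.card F) (by rw [hadd, hfr, add_comm])
  obtain ⟨d, hd⟩ := mem_range_of_pow (F := F) (x := μ * μ ^ Fintype.card F) (by rw [mul_pow, hfr, mul_comm])
  refine ⟨K, iK, fK, aK, n, μ, μ ^ Fintype.card F, t, d, hK, hn, hμ, rfl, hfr, ?_, ht, hd, ?_, hμ0, pow_ne_zero _ hμ0,
    h4, hq⟩
  · intro h
    apply h5
    rw [← hμ]
    apply orderOf_dvd_of_pow_eq_one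
    have h7 : μ ^ (Fintype.card F - 1) * μ = 1 * μ := by
      rw [← pow_succ, Nat.sub_add_cancel (by omega), h, one_mul]
    exact mul_right_cancel₀ hμ0 h7
  · rw [← pow_succ', ← pow_mul, ← orderOf_dvd_iff_pow_eq_one, hμ]
    obtain ⟨m, hm⟩ : ∃ m, Fintype.card F + 1 = 2 * m := ⟨(Fintype.card F + 1) / 2, by omega⟩
    obtain ⟨k, rfl⟩ : ∃ k, n = k + 1 := ⟨n - 1, by omega⟩
    rw [hm, Nat.add_sub_cancel, pow_succ]
    exact ⟨m, by ring⟩

section

variable {F : Type u} [Field F] [Fintype F] {K : Type} [Field K] [Algebra F K] {n : ℕ} {μ ν : K} {t d : F}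

theorem Tor.half (T : Tor F K n μ ν t d) : μ ^ 2 ^ (n - 1) ≠ 1 := by
  intro h
  have h1 := orderOf_dvd_of_pow_eq_one h
  rw [T.ho] at h1
  have h2 := (Nat.pow_dvd_pow_iff_le_right (by norm_num)).1 h1
  have := T.hn
  omega

theorem Tor.half' (T : Tor F K n μ ν t d) : ν ^ 2 ^ (n - 1) ≠ 1 := by
  intro h
  apply T.half
  rw [← T.hνq, ← pow_mul, mul_comm, pow_mul, h, one_pow]

theorem Tor.d_ne (T : Tor F K n μ ν t d) : d ≠ 0 := by
  intro h
  have h1 := T.hd
  rw [h, map_zero] at h1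
  exact mul_ne_zero T.hμ0 T.hν0 h1.symm

theorem Tor.indep (T : Tor F K n μ ν t d) {x y : F} (h : algebraMap F K x + algebraMap F K y * ν = 0) :
    x = 0 ∧ y = 0 := by
  have h1 : (algebraMap F K x + algebraMap F K y * ν) ^ Fintype.card F = 0 := by
    rw [h, zero_pow Fintype.card_ne_zero]
  have hadd : ∀ x y : K, (x + y) ^ Fintype.card F = x ^ Fintype.card F + y ^ Fintype.card F := by
    intro x y
    exact map_add (FiniteField.frobeniusAlgHom F K) x y
  rw [hadd, mul_pow, T.hνq, ← map_pow, ← map_pow, FiniteField.pow_card, FiniteField.pow_card] at h1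
  have h2 : algebraMap F K y * (ν - μ) = 0 := by linear_combination h - h1
  rcases mul_eq_zero.1 h2 with h3 | h3
  · rw [h3, zero_mul, add_zero] at h
    exact ⟨(map_eq_zero _).1 h, (map_eq_zero _).1 h3⟩
  · exact absurd (sub_eq_zero.1 h3) T.hne

end

theorem xcond_sl3 {F : Type u} [Field F] [Fintype F] (h2 : (2 : F) ≠ 0) : XCond (_root_.Matrix.SpecialLinearGroup (Fin 3) F) := by
  obtain ⟨K, _, _, _, n, μ, ν, t, d, hK, T⟩ := exists_tor F h2
  obtain ⟨b, hb⟩ := exists_basis !![-ν, 1, 0; -μ, 1, 0; 0, 0, (1 : K)] (by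
    rw [Matrix.det_fin_three]
    simp only [_root_.Fin.isValue, _root_.Matrix.of_apply, _root_.Matrix.cons_val', _root_.Matrix.cons_val_zero, _root_.Matrix.cons_val_fin_one, _root_.Matrix.cons_val_one, _root_.mul_one, _root_.Matrix.cons_val, _root_.MulZeroClass.mul_zero, _root_.sub_zero, _root_.mul_neg, _root_.one_mul, _root_.sub_neg_eq_add, _root_.add_zero, _root_.MulZeroClass.zero_mul, _root_.neg_zero, _root_.ne_eq]
    intro h
    exact T.hne (by linear_combination -h))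
  have hd0 := T.d_ne
  have hdK : algebraMap F K d ≠ 0 := by rwa [Ne, map_eq_zero]
  let x : _root_.Matrix.SpecialLinearGroup (Fin 3) F := ⟨!![0, -d, 0; 1, t, 0; 0, 0, d⁻¹], by
    rw [Matrix.det_fin_three]
    simp only [_root_.Fin.isValue, _root_.Matrix.of_apply, _root_.Matrix.cons_val', _root_.Matrix.cons_val_zero, _root_.Matrix.cons_val_fin_one, _root_.Matrix.cons_val_one, _root_.MulZeroClass.zero_mul, _root_.Matrix.cons_val, _root_.MulZeroClass.mul_zero, _root_.sub_self, _root_.mul_one, _root_.neg_mul, _root_.sub_neg_eq_add, _root_.zero_add, _root_.add_zero, _root_.sub_zero]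
    field_simp⟩
  refine xcond_of_eigen (rep F K 3) x (n := n) (by have := T.hn; omega) b ![μ, ν, (μ * ν)⁻¹] ?_ ?_ T.ho
    (Fintype.card F) T.hν ?_ ?_ (by rw [card_units' hK]; exact T.hdt)
  · have h3 : (μ * ν)⁻¹ ^ 2 ^ (n - 1) = 1 := by rw [inv_pow, T.hdo, inv_one]
    intro i j hij
    fin_cases i <;> fin_cases j
    · rfl
    · exact absurd hij.symm T.hne
    · exact absurd (by change μ = (μ * ν)⁻¹ at hij; rw [hij]; exact h3) T.half
    · exact absurd hij T.hne
    · rfl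
    · exact absurd (by change ν = (μ * ν)⁻¹ at hij; rw [hij]; exact h3) T.half'
    · exact absurd (by change (μ * ν)⁻¹ = μ at hij; rw [← hij]; exact h3) T.half
    · exact absurd (by change (μ * ν)⁻¹ = ν at hij; rw [← hij]; exact h3) T.half'
    · rfl
  · intro i
    ext j
    rw [rep_apply, Fin.sum_univ_three, hb]
    have ht := T.ht
    have hd := T.hd
    (revert i j; simp only [x, ht, hd, mul_comm, _root_.Fin.forall_fin_succ, Fin.isValue, _root_.Matrix.of_apply, _root_.Matrix.cons_val', _root_.Matrix.cons_val_zero, _root_.Matrix.cons_val_fin_one, _root_.Matrix.cons_val_one, _root_.Matrix.cons_val, _root_.mul_inv_rev, _root_.Pi.smul_apply, _root_.smul_eq_mul, _root_.map_zero, _root_.MulZeroClass.zero_mul, _root_.map_neg, _root_.neg_mul, _root_.zero_add, _root_.add_zero, _root_.Matrix.cons_val_succ, _root_.map_one, _root_.one_mul, _root_.map_inv₀, _root_.mul_eq_mul_right_iff, _root_.forall_const, _root_.mul_one, _root_.mul_neg, _root_.neg_add_cancel_comm_assoc,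 _root_.or_true, _root_.and_self, _root_.neg_add_cancel_left, _root_.MulZeroClass.mul_zero, _root_.neg_zero, _root_.one_ne_zero, _root_.or_false, _root_.implies_true])
  · change (μ * ν)⁻¹ ^ 2 ^ (n - 1) = 1
    rw [inv_pow, T.hdo, inv_one]
  · intro c a hc ha
    have h0 : ∀ j, rep F K 3 c (b 0) j = (a 0 • b 0) j := fun j => by rw [hc]
    have h3 : ∀ j, rep F K 3 c (b 2) j = (a 2 • b 2) j := fun j => by rw [hc]
    simp only [rep_apply, Fin.sum_univ_three, hb, ha, one_smul] at h0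
    simp only [rep_apply, Fin.sum_univ_three, hb] at h3
    have h00 := h0 0
    have h01 := h0 1
    have h02 := h0 2
    have h30 := h3 0
    have h31 := h3 1
    simp only [_root_.Fin.isValue, _root_.Matrix.of_apply, _root_.Matrix.cons_val', _root_.Matrix.cons_val_zero, _root_.Matrix.cons_val_fin_one, _root_.mul_neg, _root_.Matrix.cons_val_one, _root_.mul_one, _root_.Matrix.cons_val, _root_.MulZeroClass.mul_zero, _root_.add_zero, _root_.zero_add, _root_.Pi.smul_apply, _root_.smul_eq_mul, _root_.map_eq_zero] at h00 h01 h02 h30 h31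
    obtain ⟨e1, e2⟩ := T.indep (x := c.1 0 1) (y := 1 - c.1 0 0) (by rw [map_sub, map_one]; linear_combination h00)
    obtain ⟨e3, e4⟩ := T.indep (x := c.1 1 1 - 1) (y := - c.1 1 0) (by rw [map_sub, map_one, map_neg]; linear_combination h01)
    obtain ⟨e5, e6⟩ := T.indep (x := c.1 2 1) (y := - c.1 2 0) (by rw [map_neg]; linear_combination h02)
    have hdet := c.2
    rw [Matrix.det_fin_three] at hdet
    have e0 : c.1 0 0 = 1 := by linear_combination -e2
    have e1' : c.1 1 1 = 1 := by linear_combination e3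
    have e4' : c.1 1 0 = 0 := by linear_combination -e4
    have e6' : c.1 2 0 = 0 := by linear_combination -e6
    rw [e0, e1, e1', e4', e5, e6', h30, h31] at hdet
    have e7 : c.1 2 2 = 1 := by linear_combination hdet
    ext i j
    fin_cases i <;> fin_cases j
    · exact e0
    · exact e1
    · exact h30
    · exact e4'
    · exact e1'
    · exact h31
    · exact e6'
    · exact e5
    · exact e7

/-- **`XCond` for `PSL3(q)`, `q` odd** -/
theorem xcond_psl3 {F : Type u} [Field F] [Fintype F] (h2 : (2 : F) ≠ 0) :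
    XCond (Matrix.ProjectiveSpecialLinearGroup (Fin 3) F) := by
  refine xcond_quot _ le_rfl ?_ (xcond_sl3 h2)
  intro hd
  obtain ⟨z, hz⟩ := exists_prime_orderOf_dvd_card' (G := center (_root_.Matrix.SpecialLinearGroup (Fin 3) F)) 2 hd
  obtain ⟨r, hr, hrz⟩ := Matrix.SpecialLinearGroup.mem_center_iff.1 z.2
  have hz2 : ((z : _root_.Matrix.SpecialLinearGroup (Fin 3) F)) ^ 2 = 1 := by
    have := pow_orderOf_eq_one z
    rw [hz] at this
    exact congrArg Subtype.val this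
  have h1 : r ^ 2 = 1 := by
    have h3 := congrArg (fun g : _root_.Matrix.SpecialLinearGroup (Fin 3) F => (g : Matrix (Fin 3) (Fin 3) F) 0 0) hz2
    simp only [Matrix.SpecialLinearGroup.coe_pow, Matrix.SpecialLinearGroup.coe_one, Matrix.one_apply_eq] at h3
    rw [← hrz, ← map_pow] at h3
    simpa only [_root_.sq_eq_one_iff, _root_.Fin.isValue, _root_.Matrix.scalar_apply, _root_.Matrix.diagonal_apply_eq] using h3
  rw [Fintype.card_fin] at hr
  have h4 : r = 1 := by
    calc r = r ^ 3 * (r ^ 2)⁻¹ := by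
          have : r ≠ 0 := by
            rintro rfl
            norm_num at h1
          field_simp
      _ = 1 := by rw [hr, h1, inv_one, mul_one]
  have h5 : (z : _root_.Matrix.SpecialLinearGroup (Fin 3) F) = 1 := by
    apply Subtype.ext
    rw [← hrz, h4, map_one]
    rfl
  have h6 : z = 1 := Subtype.ext h5
  rw [h6, orderOf_one] at hz
  norm_num at hz

/-! ### `PSL2(q)` -/

/-- **`XCond` for `PSL2(q)`, `q` odd** -/
theorem xcond_psl2 {F : Type u} [Field F] [Fintype F] (h2 : (2 : F) ≠ 0) :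
    XCond (Matrix.ProjectiveSpecialLinearGroup (Fin 2) F) := by
  obtain ⟨K, _, _, _, n, μ, ν, t, d, hK, T⟩ := exists_tor F h2
  have hn := T.hn
  have hq := T.hq
  -- the trace
  obtain ⟨t', ht'⟩ : ∃ t' : F, algebraMap F K t' = μ ^ 2 + (μ ^ 2)⁻¹ := by
    have hadd : ∀ x y : K, (x + y) ^ Fintype.card F = x ^ Fintype.card F + y ^ Fintype.card F := by
      intro x y
      exact map_add (FiniteField.frobeniusAlgHom F K) x y
    refine mem_range_of_pow ?_
    rw [hadd, inv_pow, ← pow_mul]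
    have h3 : 2 ^ n ∣ (Fintype.card F + 1) * (Fintype.card F - 1) := by
      have h4 : (Fintype.card F + 1) * (Fintype.card F - 1) = Fintype.card F ^ 2 - 1 := by
        have := Nat.sq_sub_sq (Fintype.card F) 1
        rw [one_pow] at this
        exact this.symm
      rw [h4, ← T.ho]
      apply orderOf_dvd_of_pow_eq_one
      have h5 : μ ^ (Fintype.card F ^ 2 - 1) * μ = 1 * μ := by
        rw [← pow_succ, Nat.sub_add_cancel (Nat.one_le_pow _ _ Fintype.card_pos), one_mul]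
        have h6 := T.hνq
        rw [T.hν, ← pow_mul, ← sq] at h6
        exact h6
      exact mul_right_cancel₀ T.hμ0 h5
    have hq1 : Fintype.card F % 4 = 1 ∨ Fintype.card F % 4 = 3 := by omega
    rcases hq1 with h4 | h4
    · -- 2 (q - 1) is divisible by 2 ^ n
      have h5 : 2 ^ n ∣ 2 * (Fintype.card F - 1) := by
        obtain ⟨m, hm⟩ : ∃ m, Fintype.card F + 1 = 2 * m ∧ m % 2 = 1 := ⟨(Fintype.card F + 1) / 2, by omega, by (clear * - h4; omega)⟩
        rw [hm.1, mul_comm 2 m, mul_assoc] at h3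
        exact (Nat.Coprime.dvd_of_dvd_mul_left (Nat.Coprime.pow_left _ (by
          rw [Nat.coprime_two_left, Nat.odd_iff]; exact hm.2)) h3)
      rw [← T.ho] at h5
      have h6 : μ ^ (2 * Fintype.card F) = μ ^ 2 := by
        have h7 : 2 * Fintype.card F = 2 * (Fintype.card F - 1) + 2 := by (clear * - h4; omega)
        rw [h7, pow_add, orderOf_dvd_iff_pow_eq_one.1 h5, one_mul]
      rw [h6]
    · have h5 : 2 ^ n ∣ 2 * (Fintype.card F + 1) := by
        obtain ⟨m, hm⟩ : ∃ m, Fintype.card F - 1 = 2 * m ∧ m % 2 = 1 := ⟨(Fintype.card F - 1) / 2, by (clear * - h4; omega), by (clear * - h4; omega)⟩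
        rw [hm.1, mul_comm, mul_comm 2 m, mul_assoc] at h3
        exact (Nat.Coprime.dvd_of_dvd_mul_left (Nat.Coprime.pow_left _ (by
          rw [Nat.coprime_two_left, Nat.odd_iff]; exact hm.2)) h3)
      rw [← T.ho] at h5
      have h6 : μ ^ (2 * Fintype.card F) = (μ ^ 2)⁻¹ := by
        have h7 : 2 * (Fintype.card F + 1) = 2 * Fintype.card F + 2 := by omega
        rw [h7] at h5
        have h8 := orderOf_dvd_iff_pow_eq_one.1 h5
        rw [pow_add] at h8
        exact eq_inv_of_mul_eq_one_left h8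
      rw [h6, inv_inv, add_comm]
  let y : _root_.Matrix.SpecialLinearGroup (Fin 2) F := ⟨!![0, -1; 1, t'], by simp [Matrix.det_fin_two]⟩
  have hy : ∀ k : ℕ, rep F K 2 (y ^ k) ![-(μ ^ 2)⁻¹, 1] = (μ ^ 2) ^ k • ![-(μ ^ 2)⁻¹, 1] := by
    have h1 : rep F K 2 y ![-(μ ^ 2)⁻¹, 1] = μ ^ 2 • ![-(μ ^ 2)⁻¹, 1] := by
      have h00 : μ ≠ 0 := T.hμ0
      ext j
      rw [rep_apply, Fin.sum_univ_two]
      fin_cases j
      · simp only [y, _root_.Fin.zero_eta, _root_.Fin.isValue, _root_.Matrix.of_apply, _root_.Matrix.cons_val', _root_.Matrix.cons_val_zero, _root_.Matrix.cons_val_fin_one, _root_.map_zero, _root_.mul_neg, _root_.MulZeroClass.zero_mul, _root_.neg_zero, _root_.Matrix.cons_val_one, _root_.map_neg, _root_.map_one, _root_.mul_one, _root_.zero_add, _root_.Nat.succ_eq_add_one, _root_.Nat.reduceAdd, _root_.Pi.smul_apply, _root_.smul_eq_mul, _root_.neg_inj]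
        field_simp
      · simp [y, ht']
    intro k
    induction k with
    | zero => simp only [_root_.pow_zero, _root_.map_one, _root_.Module.End.one_apply, _root_.Nat.succ_eq_add_one, _root_.Nat.reduceAdd, _root_.one_smul]
    | succ k ih => rw [pow_succ, map_mul, Module.End.mul_apply, h1, map_smul, ih, smul_smul, ← pow_succ']
  obtain ⟨m, rfl⟩ : ∃ m, n = m + 2 := ⟨n - 2, by omega⟩
  -- the order of the image of y
  have hord : 2 ^ m ∣ orderOf (y : Matrix.ProjectiveSpecialLinearGroup (Fin 2) F) := by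
    have h1 : y ^ orderOf (y : Matrix.ProjectiveSpecialLinearGroup (Fin 2) F) ∈ center (_root_.Matrix.SpecialLinearGroup (Fin 2) F) := by
      rw [← QuotientGroup.eq_one_iff, QuotientGroup.mk_pow, pow_orderOf_eq_one]
    have h3 : ((μ ^ 2) ^ orderOf (y : Matrix.ProjectiveSpecialLinearGroup (Fin 2) F)) ^ 2 = 1 := by
      have h4 : (y ^ orderOf (y : Matrix.ProjectiveSpecialLinearGroup (Fin 2) F)) ^ 2 = 1 := by
        rcases ClassicalGeometry.PSL2Basic.mem_center_SL2_iff.1 h1 with h | h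
        · rw [h, one_pow]
        · rw [h, neg_sq, one_pow]
      rw [← pow_mul] at h4
      have h5 := congrFun (hy (orderOf (y : Matrix.ProjectiveSpecialLinearGroup (Fin 2) F) * 2)) 1
      rw [h4, map_one, pow_mul] at h5
      simpa only [_root_.sq_eq_one_iff, _root_.Nat.succ_eq_add_one, _root_.Nat.reduceAdd, _root_.Fin.isValue, _root_.Pi.smul_apply, _root_.Matrix.cons_val_one, _root_.Matrix.cons_val_fin_one, _root_.smul_eq_mul, _root_.mul_one, _root_.Module.End.one_apply] using h5.symm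
    rw [← pow_mul, ← pow_mul, ← orderOf_dvd_iff_pow_eq_one, T.ho, pow_add] at h3
    obtain ⟨c, hc⟩ := h3
    exact ⟨c, by linarith only [hc]⟩
  obtain ⟨c, hc⟩ := hord
  have hpos : 0 < orderOf (y : Matrix.ProjectiveSpecialLinearGroup (Fin 2) F) := orderOf_pos _
  have hc0 : c ≠ 0 := by
    rintro rfl
    rw [mul_zero] at hc
    omega
  refine xcond_of_card ((y : Matrix.ProjectiveSpecialLinearGroup (Fin 2) F) ^ c) m ?_ ?_
  · rw [orderOf_pow_of_dvd hc0 ⟨2 ^ m, by rw [hc, mul_comm]⟩, hc, Nat.mul_div_cancel _ (Nat.pos_of_ne_zero hc0)]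
  · intro hd
    have h1 := card_eq_card_quotient_mul_card_subgroup (center (_root_.Matrix.SpecialLinearGroup (Fin 2) F))
    rw [ClassicalGeometry.PSL2Basic.card_SL2, ClassicalGeometry.PSL2Basic.card_center_SL2_odd h2] at h1
    have h3 : 2 ^ (m + 2 + 1) ∣ Fintype.card F * (Fintype.card F ^ 2 - 1) := by
      rw [h1, pow_succ]
      exact mul_dvd_mul_right hd 2
    exact T.hdt ((Nat.Coprime.dvd_of_dvd_mul_left (Nat.Coprime.pow_left _ (by
          rw [Nat.coprime_two_left, Nat.odd_iff]; exact hq)) h3))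

/-! ### `PSU3(q)` -/

theorem add_pow_q {F : Type*} [Field F] [Fintype F] {q : ℕ} (hF : Fintype.card F = q ^ 2) (x y : F) :
    (x + y) ^ q = x ^ q + y ^ q := by
  obtain ⟨p, hp⟩ := CharP.exists F
  have hpp : p.Prime := CharP.char_is_prime F p
  have hf : Fact p.Prime := ⟨hpp⟩
  obtain ⟨k, -, hk⟩ := FiniteField.card F p
  have h1 : q ∣ p ^ (k : ℕ) := by
    rw [← hk, hF]
    exact dvd_pow_self q (by norm_num)
  obtain ⟨j, -, hj⟩ := (Nat.dvd_prime_pow hpp).1 h1
  rw [hj]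
  exact add_pow_char_pow x y p j

/-- the standard representation of `SU_3` -/
noncomputable def repU (F : Type u) [Field F] (q : ℕ) : SU 3 F q →* Module.End F (Fin 3 → F) where
  toFun g := Matrix.mulVecLin g.1.1
  map_one' := by
    change Matrix.mulVecLin (1 : Matrix (Fin 3) (Fin 3) F) = _
    rw [Matrix.mulVecLin_one]
    rfl
  map_mul' g h := by
    change Matrix.mulVecLin (g.1.1 * h.1.1) = _
    rw [Matrix.mulVecLin_mul]
    rfl

theorem repU_apply {F : Type u} [Field F] {q : ℕ} (g : SU 3 F q) (v : Fin 3 → F) (i : Fin 3) :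
    repU F q g v i = ∑ j, g.1.1 i j * v j := rfl

theorem xcond_su3 {F : Type u} [Field F] [Fintype F] {q : ℕ} (hF : Fintype.card F = q ^ 2) (h2 : (2 : F) ≠ 0) :
    XCond (SU 3 F q) := by
  have hqo : q % 2 = 1 := by
    have h1 := odd_of_two_ne h2
    rw [hF] at h1
    rcases Nat.mod_two_eq_zero_or_one q with h | h
    · rw [Nat.pow_mod, h] at h1
      norm_num at h1
    · exact h
  have hq3 : 3 ≤ q := by
    have h1 := Fintype.one_lt_card (α := F)
    rw [hF] at h1
    have h3 : q ≠ 1 := by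
      rintro rfl
      norm_num at h1
    omega
  obtain ⟨n, hn, h3, h4, h5, h6⟩ := exists_two_part hqo hq3
  have hcF : Nat.card F = q ^ 2 := by rw [Nat.card_eq_fintype_card, hF]
  obtain ⟨μ, hμ⟩ := exists_order (K := F) (d := 2 ^ n) (by rw [card_units' hcF]; exact h3)
  have hμ0 : μ ≠ 0 := by
    rintro rfl
    rw [orderOf_zero] at hμ
    exact absurd hμ (by positivity)
  have hfr : ∀ z : F, (z ^ q) ^ q = z := by
    intro z
    rw [← pow_mul, ← sq, ← hF, FiniteField.pow_card]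
  -- a square root of `-1` for the norm
  obtain ⟨α, hα⟩ : ∃ α : F, α * α ^ q = -1 := by
    obtain ⟨g, hg⟩ := exists_order (K := F) (d := q ^ 2 - 1) (by rw [card_units' hcF])
    refine ⟨g ^ ((q - 1) / 2), ?_⟩
    have h7 : g ^ ((q - 1) / 2) * (g ^ ((q - 1) / 2)) ^ q = g ^ ((q - 1) / 2 * (q + 1)) := by
      rw [pow_mul, pow_succ']
    rw [h7]
    have h8 : 2 * ((q - 1) / 2 * (q + 1)) = q ^ 2 - 1 := by
      have := Nat.sq_sub_sq q 1
      rw [one_pow] at this
      rw [this, ← mul_assoc, Nat.mul_div_cancel' (by omega), mul_comm]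
    have h9 : (g ^ ((q - 1) / 2 * (q + 1))) ^ 2 = 1 := by
      rw [← pow_mul, mul_comm _ 2, h8, ← hg, pow_orderOf_eq_one]
    have h10 : (g ^ ((q - 1) / 2 * (q + 1)) - 1) * (g ^ ((q - 1) / 2 * (q + 1)) + 1) = 0 := by
      linear_combination h9
    rcases mul_eq_zero.1 h10 with h | h
    · exfalso
      have h11 := orderOf_dvd_of_pow_eq_one (sub_eq_zero.1 h)
      rw [hg, ← h8] at h11
      have h12 : 0 < (q - 1) / 2 * (q + 1) := Nat.mul_pos (by omega) (by omega)
      have := Nat.le_of_dvd h12 h11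
      omega
    · exact eq_neg_of_add_eq_zero_left h
  have hα0 : α ≠ 0 := by
    rintro rfl
    rw [zero_mul] at hα
    exact one_ne_zero (neg_eq_zero.1 hα.symm)
  have hαi : (α⁻¹) ^ q = -α := by
    rw [inv_pow]
    have : α ^ q = -α⁻¹ := by
      field_simp
      linear_combination hα
    rw [this, inv_neg, inv_inv]
  -- the eigenvalues
  obtain ⟨κ, hκ⟩ : ∃ κ : F, κ = (μ ^ q)⁻¹ := ⟨_, rfl⟩
  have hκ0 : κ ≠ 0 := by rw [hκ]; exact inv_ne_zero (pow_ne_zero _ hμ0)
  have hκq : κ ^ q = μ⁻¹ := by rw [hκ, inv_pow, hfr]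
  have hμq : μ ^ q = κ⁻¹ := by rw [hκ, inv_inv]
  obtain ⟨γ, hγ⟩ : ∃ γ : F, γ = μ ^ (q - 1) := ⟨_, rfl⟩
  have hγμ : γ * μ = μ ^ q := by rw [hγ, ← pow_succ, Nat.sub_add_cancel (by omega)]
  have hγ1 : μ * κ * γ = 1 := by
    have : μ * κ * γ = (γ * μ) * κ := by ring
    rw [this, hγμ, hμq, inv_mul_cancel₀ hκ0]
  have hγγ : γ * γ ^ q = 1 := by
    have h7 : (μ * κ * γ) ^ q = 1 := by rw [hγ1, one_pow]
    rw [mul_pow, mul_pow, hμq, hκq] at h7
    have h8 : μ * κ ≠ 0 := mul_ne_zero hμ0 hκ0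
    field_simp at h7
    calc γ * γ ^ q = γ * (μ * κ) := by rw [h7, mul_comm κ μ]
      _ = 1 := by rw [mul_comm]; exact hγ1
  have half : μ ^ 2 ^ (n - 1) ≠ 1 := by
    intro h
    have h1 := orderOf_dvd_of_pow_eq_one h
    rw [hμ] at h1
    have h2 := (Nat.pow_dvd_pow_iff_le_right (by norm_num)).1 h1
    omega
  have half' : κ ^ 2 ^ (n - 1) ≠ 1 := by
    intro h
    apply half
    have h1 : μ = (κ ^ q)⁻¹ := by rw [hκq, inv_inv]
    rw [h1, inv_pow, ← pow_mul, mul_comm, pow_mul, h, one_pow, inv_one]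
  have hγh : γ ^ 2 ^ (n - 1) = 1 := by
    rw [hγ, ← pow_mul, ← orderOf_dvd_iff_pow_eq_one, hμ]
    obtain ⟨m, hm⟩ : ∃ m, q - 1 = 2 * m := ⟨(q - 1) / 2, by omega⟩
    obtain ⟨k, rfl⟩ : ∃ k, n = k + 1 := ⟨n - 1, by omega⟩
    rw [hm, Nat.add_sub_cancel, pow_succ]
    exact ⟨m, by ring⟩
  have hne : μ ≠ κ := by
    intro h
    apply h6
    rw [← hμ]
    apply orderOf_dvd_of_pow_eq_one
    rw [pow_succ, hμq, ← h, inv_mul_cancel₀ hμ0]
  have h4' : (4 : F) ≠ 0 := by
    have : (4 : F) = 2 * 2 := by norm_num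
    rw [this]
    exact mul_ne_zero h2 h2
  -- the element
  obtain ⟨s, hs⟩ : ∃ s : F, s = (μ + κ) / 2 := ⟨_, rfl⟩
  obtain ⟨t, ht⟩ : ∃ t : F, t = (μ - κ) / 2 := ⟨_, rfl⟩
  have h2q : (2 : F) ^ q = 2 := by
    have : (2 : F) = 1 + 1 := by norm_num
    rw [this, add_pow_q hF, one_pow]
  have hneg : ∀ z : F, (-z) ^ q = -z ^ q := by
    intro z
    rw [Odd.neg_pow (Nat.odd_iff.2 hqo)]
  have hsq : s ^ q = (κ⁻¹ + μ⁻¹) / 2 := by rw [hs, div_pow, add_pow_q hF, hμq, hκq, h2q]
  have htq : t ^ q = (κ⁻¹ - μ⁻¹) / 2 := by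
    rw [ht, div_pow, sub_eq_add_neg, add_pow_q hF, hneg, hμq, hκq, h2q, sub_eq_add_neg]
  have hst : s ^ 2 - t ^ 2 = μ * κ := by
    rw [hs, ht]
    field_simp
    ring
  have e1 : s * s ^ q - t * t ^ q = 1 := by
    rw [hsq, htq, hs, ht]
    field_simp
    ring
  have e2 : t * s ^ q = s * t ^ q := by
    rw [hsq, htq, hs, ht]
    field_simp
  let x₀ : Matrix.SpecialLinearGroup (Fin 3) F := ⟨!![s, t * α⁻¹, 0; α * t, s, 0; 0, 0, γ], by
    rw [Matrix.det_fin_three]
    simp only [_root_.Fin.isValue, _root_.Matrix.of_apply, _root_.Matrix.cons_val', _root_.Matrix.cons_val_zero, _root_.Matrix.cons_val_fin_one, _root_.Matrix.cons_val_one, _root_.Matrix.cons_val, _root_.MulZeroClass.mul_zero, _root_.sub_zero, _root_.add_zero, _root_.MulZeroClass.zero_mul]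
    have : s * s * γ - t * α⁻¹ * (α * t) * γ = (s ^ 2 - t ^ 2) * γ := by
      field_simp
    rw [this, hst, hγ1]⟩
  have hx₀ : x₀ ∈ SU 3 F q := by
    rw [LieClassical.SUBasic.mem_SU_iff]
    intro u v
    simp only [LieClassical.SUBasic.hermForm_apply, Fin.sum_univ_three, Matrix.mulVec, dotProduct, x₀]
    simp only [_root_.Fin.isValue, _root_.Matrix.of_apply, _root_.Matrix.cons_val', _root_.Matrix.cons_val_zero, _root_.Matrix.cons_val_fin_one, _root_.Matrix.cons_val_one, _root_.Matrix.cons_val, _root_.MulZeroClass.zero_mul, _root_.add_zero, _root_.zero_add]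
    have a1 : (s * v 0 + t * α⁻¹ * v 1) ^ q = s ^ q * v 0 ^ q - t ^ q * α * v 1 ^ q := by
      rw [add_pow_q hF, mul_pow, mul_pow, mul_pow, hαi]
      ring
    have a2 : (α * t * v 0 + s * v 1) ^ q = α ^ q * t ^ q * v 0 ^ q + s ^ q * v 1 ^ q := by
      rw [add_pow_q hF, mul_pow, mul_pow, mul_pow]
    rw [a1, a2, mul_pow]
    have hαinv : α⁻¹ * α = 1 := inv_mul_cancel₀ hα0
    have hA : α ^ q = -α⁻¹ := by
      field_simp
      linear_combination hα
    rw [hA]
    linear_combination (u 0 * v 0 ^ q + u 1 * v 1 ^ q) * e1 + (α * u 0 * v 1 ^ q + α⁻¹ * u 1 * v 0 ^ q) * e2 -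
      (u 0 * v 0 ^ q + u 1 * v 1 ^ q) * t * t ^ q * hαinv + u 2 * v 2 ^ q * hγγ
  obtain ⟨b, hb⟩ := exists_basis !![1, α, 0; 1, -α, 0; 0, 0, (1 : F)] (by
    rw [Matrix.det_fin_three]
    simp
    intro h
    have : 2 * α = 0 := by linear_combination -h
    rcases mul_eq_zero.1 this with h | h
    · exact h2 h
    · exact hα0 h)
  have hsum : s + t = μ := by
    rw [hs, ht]
    field_simp
    ring
  have hdif : s - t = κ := by
    rw [hs, ht]
    field_simp
    ring
  refine xcond_of_eigen (repU F q) ⟨x₀, hx₀⟩ (n := n) (by omega) b ![μ, κ, γ] ?_ ?_ hμ ((2 ^ n - 1) * q) ?_ hγh ?_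
    (by rw [card_units' hcF]; exact h4)
  · intro i j hij
    fin_cases i <;> fin_cases j
    · rfl
    · exact absurd hij hne
    · exact absurd (by change μ = γ at hij; rw [hij]; exact hγh) half
    · exact absurd hij.symm hne
    · rfl
    · exact absurd (by change κ = γ at hij; rw [hij]; exact hγh) half'
    · exact absurd (by change γ = μ at hij; rw [← hij]; exact hγh) half
    · exact absurd (by change γ = κ at hij; rw [← hij]; exact hγh) half'
    · rfl
  · intro i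
    ext j
    rw [repU_apply, Fin.sum_univ_three, hb]
    fin_cases i <;> fin_cases j
    · simp only [x₀, _root_.Fin.zero_eta, _root_.Fin.isValue, _root_.Matrix.of_apply, _root_.Matrix.cons_val', _root_.Matrix.cons_val_zero, _root_.Matrix.cons_val_fin_one, _root_.mul_one, _root_.Matrix.cons_val_one, _root_.Matrix.cons_val, _root_.MulZeroClass.mul_zero, _root_.add_zero, _root_.Pi.smul_apply, _root_.smul_eq_mul]
      rw [mul_assoc, inv_mul_cancel₀ hα0, mul_one, hsum]
    · simp only [x₀, _root_.Fin.mk_one, _root_.Fin.isValue, _root_.Matrix.of_apply, _root_.Matrix.cons_val', _root_.Matrix.cons_val_zero, _root_.Matrix.cons_val_fin_one, _root_.Matrix.cons_val_one, _root_.Fin.zero_eta, _root_.mul_one, _root_.Matrix.cons_val, _root_.MulZeroClass.mul_zero, _root_.add_zero, _root_.Pi.smul_apply, _root_.smul_eq_mul]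
      rw [← hsum]
      ring
    · simp [x₀]
    · simp only [x₀, _root_.Fin.zero_eta, _root_.Fin.isValue, _root_.Matrix.of_apply, _root_.Matrix.cons_val', _root_.Matrix.cons_val_zero, _root_.Matrix.cons_val_fin_one, _root_.Fin.mk_one, _root_.Matrix.cons_val_one, _root_.mul_one, _root_.mul_neg, _root_.Matrix.cons_val, _root_.MulZeroClass.mul_zero, _root_.add_zero, _root_.Pi.smul_apply, _root_.smul_eq_mul]
      rw [← sub_eq_add_neg, mul_assoc, inv_mul_cancel₀ hα0, mul_one, hdif]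
    · simp only [x₀, _root_.Fin.mk_one, _root_.Fin.isValue, _root_.Matrix.of_apply, _root_.Matrix.cons_val', _root_.Matrix.cons_val_zero, _root_.Matrix.cons_val_fin_one, _root_.Matrix.cons_val_one, _root_.mul_one, _root_.mul_neg, _root_.Matrix.cons_val, _root_.MulZeroClass.mul_zero, _root_.add_zero, _root_.Pi.smul_apply, _root_.smul_eq_mul]
      rw [← hdif]
      ring
    · simp [x₀]
    · simp [x₀]
    · simp [x₀]
    · simp [x₀]
  · change κ = μ ^ ((2 ^ n - 1) * q)
    rw [hκ]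
    refine inv_eq_of_mul_eq_one_left ?_
    rw [← pow_add, ← Nat.succ_mul, Nat.succ_eq_add_one, Nat.sub_add_cancel (Nat.one_le_pow _ _ (by norm_num)), pow_mul,
      ← hμ, pow_orderOf_eq_one, one_pow]
  · intro c a hc ha
    -- a 1 = 1
    have hherm := (LieClassical.SUBasic.mem_SU_iff c.1).1 c.2 (b 0) (b 1)
    have hc0 : c.1.1 *ᵥ b 0 = a 0 • b 0 := hc 0
    have hc1 : c.1.1 *ᵥ b 1 = a 1 • b 1 := hc 1
    have hc2 : c.1.1 *ᵥ b 2 = a 2 • b 2 := hc 2
    rw [hc0, hc1, ha, one_smul] at hherm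
    simp only [LieClassical.SUBasic.hermForm_apply, Fin.sum_univ_three, hb] at hherm
    simp only [zero_pow (show q ≠ 0 by omega), _root_.Fin.isValue, _root_.Matrix.of_apply, _root_.Matrix.cons_val', _root_.Matrix.cons_val_zero, _root_.Matrix.cons_val_fin_one, _root_.Pi.smul_apply, _root_.Matrix.cons_val_one, _root_.smul_eq_mul, _root_.mul_one, _root_.one_mul, _root_.mul_neg, _root_.Matrix.cons_val, _root_.MulZeroClass.mul_zero, _root_.add_zero, _root_.one_pow] at hherm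
    rw [hneg, hneg, mul_pow] at hherm
    have h7 : 2 * (a 1 ^ q - 1) = 0 := by linear_combination hherm + (a 1 ^ q - 1) * hα
    have h8 : a 1 ^ q = 1 := by
      rcases mul_eq_zero.1 h7 with h | h
      · exact absurd h h2
      · exact sub_eq_zero.1 h
    have h9 : a 1 = 1 := by rw [← hfr (a 1), h8, one_pow]
    rw [ha, one_smul] at hc0
    rw [h9, one_smul] at hc1
    have r0 : ∀ j, c.1.1 j 0 * 1 + c.1.1 j 1 * α + c.1.1 j 2 * 0 = b 0 j := by
      intro j
      have := congrFun hc0 j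
      simp only [Matrix.mulVec, dotProduct, Fin.sum_univ_three] at this
      rw [← this, hb]
      simp
    have r1 : ∀ j, c.1.1 j 0 * 1 + c.1.1 j 1 * -α + c.1.1 j 2 * 0 = b 1 j := by
      intro j
      have := congrFun hc1 j
      simp only [Matrix.mulVec, dotProduct, Fin.sum_univ_three] at this
      rw [← this, hb]
      simp
    have r2 : ∀ j, c.1.1 j 2 = a 2 * b 2 j := by
      intro j
      have := congrFun hc2 j
      simp only [Matrix.mulVec, dotProduct, Fin.sum_univ_three, Pi.smul_apply, smul_eq_mul] at this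
      rw [← this, hb]
      simp
    have key : ∀ x y z w : F, x * 1 + y * α + w * 0 = z → x * 1 + y * -α + w * 0 = z → x = z ∧ y = 0 := by
      intro x y z w h h'
      have e1 : 2 * (y * α) = 0 := by linear_combination h - h'
      have e2 : y = 0 := by
        rcases mul_eq_zero.1 e1 with h | h
        · exact absurd h h2
        · rcases mul_eq_zero.1 h with h | h
          · exact h
          · exact absurd h hα0
      exact ⟨by rw [e2] at h; linear_combination h, e2⟩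
    have key' : ∀ x y z w : F, x * 1 + y * α + w * 0 = z → x * 1 + y * -α + w * 0 = -z → x = 0 ∧ y * α = z := by
      intro x y z w h h'
      have e1 : 2 * x = 0 := by linear_combination h + h'
      have e2 : x = 0 := by
        rcases mul_eq_zero.1 e1 with h | h
        · exact absurd h h2
        · exact h
      exact ⟨e2, by rw [e2] at h; linear_combination h⟩
    obtain ⟨c00, c01⟩ := key _ _ 1 _ (by rw [r0 0, hb]; rfl) (by rw [r1 0, hb]; rfl)
    obtain ⟨c10, c11⟩ := key' _ _ α _ (by rw [r0 1, hb]; rfl) (by rw [r1 1, hb]; rfl)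
    obtain ⟨c20, c21⟩ := key _ _ 0 _ (by rw [r0 2, hb]; rfl) (by rw [r1 2, hb]; rfl)
    have c11' : c.1.1 1 1 = 1 := mul_right_cancel₀ hα0 (by rw [c11, one_mul])
    have c02 : c.1.1 0 2 = 0 := by rw [r2 0, hb]; simp
    have c12 : c.1.1 1 2 = 0 := by rw [r2 1, hb]; simp
    have hdet := c.1.2
    rw [Matrix.det_fin_three] at hdet
    rw [c00, c01, c11', c10, c20, c21, c02, c12] at hdet
    have c22 : c.1.1 2 2 = 1 := by linear_combination hdet
    apply Subtype.ext
    apply Subtype.ext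
    ext i j
    fin_cases i <;> fin_cases j
    · exact c00
    · exact c01
    · exact c02
    · exact c10
    · exact c11'
    · exact c12
    · exact c20
    · exact c21
    · exact c22

/-- **`XCond` for `PSU3(q)`, `q` odd** -/
theorem xcond_psu3 {F : Type u} [Field F] [Fintype F] {q : ℕ} (hF : Fintype.card F = q ^ 2) (h2 : (2 : F) ≠ 0) :
    XCond (PSU 3 F q) := by
  refine xcond_quot _ le_rfl ?_ (xcond_su3 hF h2)
  rw [S0279.result hF 3 le_rfl]
  intro hd
  have := hd.trans (Nat.gcd_dvd_left 3 (q + 1))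
  omega

end Cfsg.Agent.H393.K547
end

-- part: H984/K547/PslC
section
/-!
# `PGL₂(q)`, `q ≡ 3` modulo 4: two generators (S4547, helper984)
-/

set_option autoImplicit false
set_option linter.unusedSectionVars false

open Cfsg

namespace Cfsg.Agent.H984.K547.PslC

open Matrix Cfsg.Agent.ClassicalGeometry.AutPSL.Root Cfsg.Agent.ClassicalGeometry.AutPSL.Auto
open Cfsg.Agent.H821.K547 Cfsg.Agent.H984.K547.PslAut Cfsg.Agent.H984.K547.Tool Cfsg.Agent.H984.K547.PslB
open Subgroup (zpowers mem_zpowers)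

universe u

variable {F : Type u} [Field F]

local notation "S2" => SpecialLinearGroup (Fin 2) F
local notation "P2" => ProjectiveSpecialLinearGroup (Fin 2) F

/-- the index of the inner automorphisms when `τ²` is inner -/
theorem card_autExt {S : Type u} [Group S] [Finite S] {τ : MulAut S} (h : τ ^ 2 ∈ (MulAut.conj : S →* MulAut S).range) :
    Nat.card (AutExt τ) ∣ Nat.card S * 2 := by
  set N := (MulAut.conj : S →* MulAut S).range with hN
  have h1 : N.relIndex (AutExt τ) = N.relIndex (zpowers τ) := by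
    change N.relIndex (N ⊔ zpowers τ) = _
    rw [sup_comm, Subgroup.relIndex_sup_right]
  have h2 : Nat.card N * N.relIndex (AutExt τ) = Nat.card (AutExt τ) := by
    rw [← Subgroup.relIndex_bot_left, ← Subgroup.relIndex_bot_left]
    exact Subgroup.relIndex_mul_relIndex ⊥ N (AutExt τ) bot_le le_sup_left
  have h3 : Nat.card N ∣ Nat.card S := Subgroup.card_range_dvd _
  have h4 : N.relIndex (zpowers τ) ∣ 2 := by
    have h5 : zpowers (τ ^ 2) ≤ N ⊓ zpowers τ := by
      rw [Subgroup.zpowers_le]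
      exact ⟨h, pow_mem (mem_zpowers τ) 2⟩
    have h6 : (N ⊓ zpowers τ).relIndex (zpowers τ) ∣ (zpowers (τ ^ 2)).relIndex (zpowers τ) :=
      Subgroup.relIndex_dvd_of_le_left _ h5
    rw [Subgroup.inf_relIndex_right] at h6
    refine h6.trans ?_
    have h7 : Nat.card (zpowers (τ ^ 2)) * (zpowers (τ ^ 2)).relIndex (zpowers τ) = Nat.card (zpowers τ) := by
      rw [← Subgroup.relIndex_bot_left, ← Subgroup.relIndex_bot_left]
      exact Subgroup.relIndex_mul_relIndex ⊥ (zpowers (τ ^ 2)) (zpowers τ) bot_le (h5.trans inf_le_right)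
    have hpos : 0 < orderOf τ := orderOf_pos τ
    rw [Nat.card_zpowers, Nat.card_zpowers, orderOf_pow] at h7
    have h8 : Nat.gcd (orderOf τ) 2 ∣ orderOf τ := Nat.gcd_dvd_left _ _
    have h9 : (zpowers (τ ^ 2)).relIndex (zpowers τ) = Nat.gcd (orderOf τ) 2 := by
      have h10 : orderOf τ / Nat.gcd (orderOf τ) 2 * Nat.gcd (orderOf τ) 2 = orderOf τ := Nat.div_mul_cancel h8
      have h11 : 0 < orderOf τ / Nat.gcd (orderOf τ) 2 :=
        Nat.div_pos (Nat.le_of_dvd hpos h8) (Nat.gcd_pos_of_pos_right _ (by norm_num))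
      exact Nat.eq_of_mul_eq_mul_left h11 (h7.trans h10.symm)
    rw [h9]
    exact Nat.gcd_dvd_right _ _
  rw [← h2, h1]
  exact mul_dvd_mul h3 h4

variable [Finite F]

theorem au_pow_one (A : GL (Fin 2) F) (n : ℕ) : au A 1 ^ n = (au (A ^ n) 1 : MulAut P2) := by
  induction n with
  | zero => rw [pow_zero, pow_zero, au_one]
  | succ n ih => rw [pow_succ, ih, au_mul, gm_one, one_mul, ← pow_succ]

theorem sq_mem_range (A : GL (Fin 2) F) : au A 1 ^ 2 ∈ (MulAut.conj : P2 →* MulAut P2).range := by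
  rw [au_pow_one]
  obtain ⟨g, hg⟩ := inner_of_sq (A := A ^ 2) (by
    rw [Units.val_pow_eq_pow_val, det_pow]
    exact ⟨_, pow_two _⟩) 1
  rw [hg, ← conj_pr]
  exact ⟨_, rfl⟩

/-- an element of order `2 ^ n` of `PGL₂(q)` outside `PSL₂(q)`, `2 ^ (n + 1)` the 2-part of `q² - 1` -/
theorem exists_elt (h4 : Nat.card F % 4 = 3) : ∃ (X : GL (Fin 2) F) (n : ℕ),
    ¬ IsSquare (X : Matrix (Fin 2) (Fin 2) F).det ∧ orderOf (au X 1 : MulAut P2) = 2 ^ n ∧
      ¬ 2 ^ (n + 2) ∣ Nat.card F ^ 2 - 1 := by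
  classical
  have h2 : Fact (Nat.Prime 2) := ⟨Nat.prime_two⟩
  obtain ⟨K, _, _, _, hK⟩ := H393.K547.exists_quad F
  have hfin : Module.Finite F K := Module.Finite.of_finite
  have hrank : Module.finrank F K = 2 := by
    have h1 := Module.natCard_eq_pow_finrank (K := F) (V := K)
    rw [hK] at h1
    exact (Nat.pow_right_injective (Finite.one_lt_card (α := F)) h1).symm
  let b : Module.Basis (Fin 2) F K := Module.finBasisOfFinrankEq F K hrank
  let φ : K →ₐ[F] Matrix (Fin 2) (Fin 2) F := Algebra.leftMulMatrix b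
  have hφ : Function.Injective φ := Algebra.leftMulMatrix_injective b
  -- numbers
  obtain ⟨c, hc⟩ : ∃ c, Nat.card F = 4 * c + 3 := ⟨Nat.card F / 4, by omega⟩
  have hKu : Nat.card Kˣ = Nat.card F ^ 2 - 1 := by rw [Nat.card_units, hK]
  have hpos : Nat.card F ^ 2 - 1 ≠ 0 := by
    have : 3 ^ 2 ≤ Nat.card F ^ 2 := Nat.pow_le_pow_left (by omega) 2
    omega
  have h8 : 2 ^ 3 ∣ Nat.card F ^ 2 - 1 := by
    refine ⟨(c + 1) * (2 * c + 1), ?_⟩
    have : Nat.card F ^ 2 = 2 ^ 3 * ((c + 1) * (2 * c + 1)) + 1 := by rw [hc]; ring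
    omega
  set m := (Nat.card F ^ 2 - 1).factorization 2 with hm
  have hm3 : 3 ≤ m := (Nat.prime_two.pow_dvd_iff_le_factorization hpos).1 h8
  have hd : 2 ^ m ∣ Nat.card F ^ 2 - 1 := Nat.ordProj_dvd _ _
  have hnd : ¬ 2 ^ (m + 1) ∣ Nat.card F ^ 2 - 1 := Nat.pow_succ_factorization_not_dvd hpos Nat.prime_two
  obtain ⟨n, hn⟩ : ∃ n, m = n + 1 := ⟨m - 1, by omega⟩
  obtain ⟨r, hr⟩ := hd
  have hr0 : r ≠ 0 := by
    rintro rfl
    rw [mul_zero] at hr
    exact hpos hr
  have hrodd : r % 2 = 1 := by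
    by_contra hcon
    apply hnd
    obtain ⟨s, hs⟩ : ∃ s, r = 2 * s := ⟨r / 2, by omega⟩
    rw [hr, hs, pow_succ]
    exact ⟨s, by ring⟩
  -- the element
  obtain ⟨g, hg⟩ := IsCyclic.exists_ofOrder_eq_natCard (α := Kˣ)
  have hμ : orderOf (g ^ r) = 2 ^ (n + 1) := by
    rw [orderOf_pow_of_dvd hr0 (by rw [hg, hKu, hr]; exact dvd_mul_left _ _), hg, hKu, hr,
      Nat.mul_div_cancel _ (Nat.pos_of_ne_zero hr0), hn]
  set μ : Kˣ := g ^ r with hμd
  let X : GL (Fin 2) F := Units.map (φ : K →* Matrix (Fin 2) (Fin 2) F) μ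
  have hX : ∀ j : ℕ, ((X ^ j : GL (Fin 2) F) : Matrix (Fin 2) (Fin 2) F) = φ ((μ : K) ^ j) := by
    intro j
    rw [Units.val_pow_eq_pow_val]
    change (φ (μ : K)) ^ j = _
    rw [map_pow]
  have hnd' : ¬ 2 ^ (n + 2) ∣ Nat.card F ^ 2 - 1 := by
    rw [hn] at hnd
    exact hnd
  refine ⟨X, n, ?_, ?_, hnd'⟩
  · -- the determinant
    have hdet : (X : Matrix (Fin 2) (Fin 2) F).det = (Algebra.norm F (g : K)) ^ r := by
      have h5 := hX 1
      rw [pow_one, pow_one] at h5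
      rw [h5]
      change (Algebra.leftMulMatrix b (μ : K)).det = _
      rw [← Algebra.norm_eq_matrix_det, hμd, Units.val_pow_eq_pow_val, map_pow]
    rw [hdet]
    rintro ⟨e, he⟩
    have hne : Algebra.norm F (g : K) ≠ 0 := Algebra.norm_ne_zero_iff.2 g.ne_zero
    have hsq : IsSquare (Algebra.norm F (g : K)) := by
      obtain ⟨t, ht⟩ : ∃ t, r = 2 * t + 1 := ⟨r / 2, by omega⟩
      refine ⟨e * ((Algebra.norm F (g : K)) ^ t)⁻¹, ?_⟩
      rw [ht, pow_succ, pow_mul'] at he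
      have h6 : (Algebra.norm F (g : K)) ^ t ≠ 0 := pow_ne_zero _ hne
      field_simp
      rw [pow_two e, ← he]
      ring
    -- every element would be a square
    have hF2 : ∃ a : F, ¬ IsSquare a := by
      have := Fintype.ofFinite F
      apply FiniteField.exists_nonsquare
      intro h
      have h5 := (FiniteField.even_card_iff_char_two (F := F)).1 h
      rw [← Nat.card_eq_fintype_card] at h5
      omega
    obtain ⟨a, ha⟩ := hF2
    have ha0 : a ≠ 0 := by rintro rfl; exact ha IsSquare.zero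
    obtain ⟨y, hy⟩ := FiniteField.unitsMap_norm_surjective F K (Units.mk0 a ha0)
    obtain ⟨j, hj⟩ := (IsCyclic.exists_ofOrder_eq_natCard (α := Kˣ)) |> fun _ =>
      (Subgroup.mem_zpowers_iff.1 (by
        have : zpowers g = ⊤ := Subgroup.eq_top_of_card_eq _ (by rw [Nat.card_zpowers, hg])
        rw [this]
        exact Subgroup.mem_top y : y ∈ zpowers g))
    apply ha
    have hy' : a = Algebra.norm F (y : K) := by
      have := congrArg Units.val hy
      exact this.symm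
    have hj' : (Units.map (Algebra.norm F (S := K))) y = (Units.map (Algebra.norm F (S := K)) g) ^ j := by
      rw [← hj, map_zpow]
    have hy2 : a = (Algebra.norm F (g : K)) ^ j := by
      have h7 := congrArg Units.val (hy.symm.trans hj')
      rw [Units.val_mk0, Units.val_zpow_eq_zpow_val] at h7
      exact h7
    rw [hy2]
    exact hsq.zpow j
  · -- the order
    obtain ⟨n', hn'⟩ : ∃ n', n = n' + 1 := ⟨n - 1, by omega⟩
    have hμ1 : ((μ : K) ^ 2 ^ n) ^ 2 = 1 := by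
      rw [← pow_mul, ← pow_succ, ← Units.val_pow_eq_pow_val, ← hμ, pow_orderOf_eq_one, Units.val_one]
    have hμ2 : (μ : K) ^ 2 ^ n ≠ 1 := by
      intro h
      have h5 : μ ^ 2 ^ n = 1 := Units.ext (by rw [Units.val_pow_eq_pow_val, h, Units.val_one])
      have h6 := orderOf_dvd_of_pow_eq_one h5
      rw [hμ] at h6
      have := (Nat.pow_dvd_pow_iff_le_right (by norm_num)).1 h6
      omega
    have hμ3 : (μ : K) ^ 2 ^ n = -1 := (mul_self_eq_one_iff.1 ((pow_two _).symm.trans hμ1)).resolve_left hμ2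
    rw [hn']
    refine orderOf_eq_prime_pow ?_ ?_
    · rw [au_pow_one]
      intro h
      obtain ⟨⟨s, hs⟩, -⟩ := eq_one_of_au h
      rw [hX] at hs
      have h5 : φ (algebraMap F K s) = scalar (Fin 2) s := by
        rw [AlgHom.commutes]
        rfl
      have h6 : algebraMap F K s = (μ : K) ^ 2 ^ n' := hφ (h5.trans hs)
      have h7 : s ^ 2 = -1 := by
        apply (algebraMap F K).injective
        rw [map_pow, h6, ← pow_mul, ← pow_succ, ← hn', hμ3, map_neg, map_one]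
      have hs0 : s ≠ 0 := by
        rintro rfl
        rw [zero_pow two_ne_zero] at h7
        exact one_ne_zero (neg_eq_zero.1 h7.symm)
      have hm1 : (-1 : F) ≠ 1 := by
        intro h8
        apply hμ2
        rw [hμ3]
        have := congrArg (algebraMap F K) h8
        rwa [map_neg, map_one] at this
      have h8 : orderOf (Units.mk0 s hs0) = 2 ^ (1 + 1) := by
        refine orderOf_eq_prime_pow ?_ ?_
        · intro h9
          have h10 := congrArg Units.val h9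
          rw [Units.val_pow_eq_pow_val, Units.val_mk0, pow_one, Units.val_one, h7] at h10
          exact hm1 h10
        · apply Units.ext
          rw [Units.val_pow_eq_pow_val, Units.val_mk0, Units.val_one, pow_succ, pow_one, pow_mul, h7, neg_sq, one_pow]
      have h9 := orderOf_dvd_natCard (Units.mk0 s hs0)
      rw [h8, Nat.card_units, hc] at h9
      omega
    · rw [au_pow_one, ← hn']
      have h5 : X ^ 2 ^ n = dg (-1) (-1) * 1 := by
        apply Units.ext
        rw [hX, hμ3, map_neg, map_one, mul_one, coe_dg]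
        ext i j
        (revert i j; simp only [_root_.Fin.forall_fin_succ, _root_.Matrix.neg_apply, _root_.Units.val_neg, _root_.Units.val_one, _root_.Matrix.of_apply, _root_.Matrix.cons_val', _root_.Matrix.cons_val_fin_one, Fin.isValue, _root_.Matrix.cons_val_zero, _root_.Matrix.cons_val_succ, _root_.IsEmpty.forall_iff, _root_.and_true, _root_.Matrix.one_apply_eq, Nat.reduceAdd, _root_.Fin.succ_zero_eq_one, _root_.ne_eq, _root_.zero_ne_one, _root_.not_false_eq_true, _root_.Matrix.one_apply_ne, _root_.neg_zero, _root_.and_self, _root_.Fin.succ_ne_zero, _root_.neg_inj, _root_.true_and])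
      rw [h5, au_scalar, au_one]

/-- **`q ≡ 3` modulo 4, outside `PSL₂(q)`** -/
theorem not_d3_three (h4 : Nat.card F % 4 = 3) {A : GL (Fin 2) F}
    (hA : ¬ IsSquare (A : Matrix (Fin 2) (Fin 2) F).det) : ¬ D3 (AutExt (au A 1)) := by
  obtain ⟨X, n, hX, hXo, hn⟩ := exists_elt h4
  have hA0 : (A : Matrix (Fin 2) (Fin 2) F).det ≠ 0 := by
    intro h
    rw [h] at hA
    exact hA IsSquare.zero
  obtain ⟨g, hg⟩ := exists_split A 1 (Units.mk0 _ hA0) ⟨1, by rw [Units.val_mk0]; ring⟩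
  obtain ⟨g', hg'⟩ := exists_split X 1 (Units.mk0 _ hA0) (by rw [Units.val_mk0]; exact sq_of_nonsquare hX hA)
  have hmem : au X 1 ∈ AutExt (au A 1) := by
    have h1 : (au X 1 : MulAut P2) = MulAut.conj (pr g') * (MulAut.conj (pr g))⁻¹ * au A 1 := by
      rw [hg', hg]
      group
    rw [h1]
    exact mul_mem (mul_mem (conj_mem _ _) (inv_mem (conj_mem _ _))) (self_mem _)
  refine not_d3_of_cyclic (⟨au X 1, hmem⟩ : AutExt (au A 1)) n (by rw [Subgroup.orderOf_mk, hXo]) fun h => ?_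
  have := Fintype.ofFinite F
  have hodd : Odd (Fintype.card F) := by
    rw [← Nat.card_eq_fintype_card, Nat.odd_iff]
    omega
  have h2 := h.trans (card_autExt (sq_mem_range A))
  rw [Cfsg.Agent.ClassicalGeometry.PSL2Basic.card_PSL2_odd F hodd, ← Nat.card_eq_fintype_card] at h2
  apply hn
  rw [mul_comm] at h2
  refine Nat.Coprime.dvd_of_dvd_mul_right (n := Nat.card F) ?_ h2
  apply Nat.Coprime.pow_left
  rw [Nat.coprime_two_left, Nat.odd_iff]
  omega

end Cfsg.Agent.H984.K547.PslC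
end

-- part: H984/K547/PslExt
section
/-!
# S4547: the row `PSL₂(q)`, `q` odd, `q ≥ 5` (task QE5o, helper984)

* `ext_psl2` : `ExtRow (PSL₂(q)) τ` for every outer automorphism `τ` of 2-power order modulo inner automorphisms;
* `row_psl2` : the row.
-/

set_option autoImplicit false

open Cfsg

namespace Cfsg.Agent.H984.K547.PslExt

open Matrix Cfsg.Agent.ClassicalGeometry.AutPSL.Root Cfsg.Agent.ClassicalGeometry.AutPSL.Auto
open Cfsg.Agent.H821.K547 Cfsg.Agent.H984.K547.PslAut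

universe u

variable {F : Type u} [Field F] [Finite F]

theorem mod_four_of_sq {q₀ : ℕ} (h : Nat.card F = q₀ ^ 2) (ho : Odd (Nat.card F)) : Nat.card F % 4 = 1 := by
  rw [h] at ho ⊢
  have h1 : Odd q₀ := by
    rcases Nat.even_or_odd q₀ with h2 | h2
    · exact absurd ho (Nat.not_odd_iff_even.2 (h2.pow_of_ne_zero two_ne_zero))
    · exact h2
  obtain ⟨c, rfl⟩ := h1
  have : (2 * c + 1) ^ 2 = 4 * (c * c + c) + 1 := by ring
  omega

/-- **The outer automorphisms of `PSL₂(q)`, `q` odd.** -/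
theorem ext_psl2 (ho : Odd (Nat.card F)) (h3 : 3 < Nat.card F)
    (τ : MulAut (Matrix.ProjectiveSpecialLinearGroup (Fin 2) F)) (hτ : TwoPow τ) (hn : ¬ IsInn τ) :
    ExtRow (Matrix.ProjectiveSpecialLinearGroup (Fin 2) F) τ := by
  classical
  obtain ⟨p, hpc⟩ := CharP.exists F
  have hp : Fact p.Prime := ⟨CharP.char_is_prime F p⟩
  obtain ⟨A, σ, rfl⟩ := exists_au p τ
  obtain ⟨k, hk⟩ := two_pow hτ
  by_cases hA : IsSquare (A : Matrix (Fin 2) (Fin 2) F).det
  · have hσ : σ ≠ 1 := by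
      rintro rfl
      apply hn
      obtain ⟨g, hg⟩ := inner_of_sq hA 1
      rw [hg, ← conj_pr]
      exact ⟨pr g, fun x => rfl⟩
    obtain ⟨q₀, hq⟩ := PslB.exists_sq hσ hk
    exact ⟨fun _ => PslA.d3_of_sq (mod_four_of_sq hq ho) hσ hk hA, fun _ => PslInvA.gInv3_of_sq ho h3 hτ hA⟩
  · have := Fintype.ofFinite F
    have h1 : ¬ GInv3 (au A σ) := PslInv.not_gInv3 hA
    have h2 : ¬ D3 (AutExt (au A σ)) := by
      have h4 : Nat.card F % 4 = 1 ∨ Nat.card F % 4 = 3 := by
        have := Nat.odd_iff.1 ho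
        omega
      rcases h4 with h4 | h4
      · exact PslB.not_d3_one h4 hk hA
      · have hσ : σ = 1 := by
          by_contra hσ
          obtain ⟨q₀, hq⟩ := PslB.exists_sq hσ hk
          have := mod_four_of_sq hq ho
          omega
        subst hσ
        exact PslC.not_d3_three h4 hA
    exact ⟨fun h => absurd h h1, fun h => absurd h h2⟩

/-- **The row.** -/
theorem row_psl2 (ho : Odd (Nat.card F)) (h3 : 3 < Nat.card F) :
    Row (Matrix.ProjectiveSpecialLinearGroup (Fin 2) F) := by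
  have := Fintype.ofFinite F
  refine ⟨Or.inr (H393.K547.xcond_psl2 ?_), ext_psl2 ho h3⟩
  exact (Cfsg.Agent.ClassicalGeometry.PSL2Basic.two_ne_zero_iff_odd F).2 (by rwa [← Nat.card_eq_fintype_card])

end Cfsg.Agent.H984.K547.PslExt
end

-- part: H984/K547/Psl32
section
/-!
# S4547: the field `psl32` of `EvenSmall` (helper984)
-/

set_option autoImplicit false

open Cfsg

namespace Cfsg.Agent.H984.K547.Psl32

open Cfsg.Agent.H821.K547 Cfsg.Agent.H671.K547 Cfsg.Agent.H42.K547.Even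

theorem ext_seven : ExtAll (Matrix.ProjectiveSpecialLinearGroup (Fin 2) (ZMod 7)) := by
  have : Fact (Nat.Prime 7) := ⟨by norm_num⟩
  exact PslExt.ext_psl2 (by rw [Nat.card_zmod]; decide) (by rw [Nat.card_zmod]; norm_num)

/-- `PSL₃(2)` -/
theorem psl32 {F : Type} [Field F] [Fintype F] (hF : Fintype.card F = 2) :
    GE (Matrix.ProjectiveSpecialLinearGroup (Fin 3) F) := psl32_of ext_seven hF

end Cfsg.Agent.H984.K547.Psl32
end
end

-- part: H680/K547/M24_mg
section
set_option linter.all false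
open scoped Cfsg.Agent.FastGrp

-- part: H805/K547/SylM22
section
/-!
# S4547: `D3` for `M22` and `M23` (helper805)

The explicit Sylow 2-subgroup `T` of `M22` and of `M23` (`Schreier/SylMTwentyTwo`) has three generators and `T/Φ(T)` has
order 8: the parities of the numbers of letters of a word depend only on its value.
-/

set_option autoImplicit false

namespace Cfsg.Agent.H805.K547

open Cfsg Cfsg.Agent.H821.K547 Cfsg.Agent.Schreier.SylMTwentyTwo

universe u v

/-! ### generalities -/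

theorem rk_of_equiv {n : ℕ} {P : Type u} {Q : Type v} [Group P] [Group Q] (h : Rk n P) (e : P ≃* Q) : Rk n Q := by
  obtain ⟨f, hf⟩ := h
  exact ⟨f.comp e.symm.toMonoidHom, hf.comp e.symm.surjective⟩

/-- `D3` from one subgroup of order `2 ^ n`, `|G| = 2 ^ n * m`, `m` odd -/
theorem d3_of_card {G : Type u} [Group G] [Finite G] (H : Subgroup G) (hH : Rk 3 H) {n m : ℕ}
    (hc : Nat.card H = 2 ^ n) (hG : Nat.card G = 2 ^ n * m) (hm : ¬ 2 ∣ m) : D3 G := by
  have : Fact (Nat.Prime 2) := ⟨Nat.prime_two⟩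
  have hm0 : m ≠ 0 := fun h => hm (h ▸ dvd_zero 2)
  intro Q
  let P : Sylow 2 G := Sylow.ofCard H (by
    rw [hc, hG, Nat.factorization_mul (by positivity) hm0, Finsupp.add_apply, Nat.factorization_pow,
      Finsupp.smul_apply, Nat.Prime.factorization_self Nat.prime_two, Nat.factorization_eq_zero_of_not_dvd hm,
      smul_eq_mul, mul_one, add_zero])
  exact rk_of_equiv (P := (P : Subgroup G)) hH (Sylow.equiv P Q)

/-! ### the parity homomorphism on `T` -/

/-- parities of the numbers of letters -/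
def par : List ℕ → ℕ
  | [] => 0
  | k :: w => Nat.xor (Nat.pow 2 k) (par w)

/-- the 128 elements and their parities -/
def PL : List (List ℕ × ℕ) := wds.map (fun w => (ev w, par w))

private def jt : ℕ := 0xaa9d95a0b62d875a2824b74aa34e00b05885359fc25f126d2a14ddbdb2ce47d1c67675f40b2fbba53c6ebfa80f04244f77e7a4693c093110fdfcfe7f9e7916edd3197e3bf6e6d6892e83473261bd720b5715ea4aa33e630931e2c36f01f3c72d9a315cad4264680e9b305490f182430396a20460d4ee4d5cfe65588aed4f8f506098b5c5436ee83caa361e3e82d24f01fe3690e60f5fcde54ce9f24f8fdec48b72f5bba6ac37b375fff9068f77fb9e42372180377662ca8d36736771e0496ecb67359652a13823190014c25ec9ebb70d59b05aa93a5447ce1a2e5088e1620282af6da5cacd53896c3034c78ee3bd50b99be561604963167b8b35154ea02e8fff66cbf6f9f8e0ebc77cefc3ac1f14689067e894795349b21205f76f7f5e3198ebcf96ce1b8fe8d4474e6c19715fbb6a1d8a5569b091365ca851a24172fc43a6eb592f58a40244278a192c4c80d141c201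

private noncomputable def _root_.Cfsg.Agent.LsF.f545867_0 : {f // @Cfsg.Agent.Schreier.SylMTwentyTwo.idL = f} := ⟨_, by first | (delta Cfsg.Agent.Schreier.SylMTwentyTwo.idL; rewrite [Cfsg.Agent.LsF.range_eq]; exact rfl) | exact rfl⟩
private noncomputable def _root_.Cfsg.Agent.LsF.f545867_1 : {f // @Cfsg.Agent.Schreier.SylMTwentyTwo.mulL = f} := ⟨_, by first | (delta Cfsg.Agent.Schreier.SylMTwentyTwo.mulL; rewrite [Cfsg.Agent.LsF.map_eq, Cfsg.Agent.LsF.getD_eq]; exact rfl) | exact rfl⟩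
private noncomputable def _root_.Cfsg.Agent.LsF.f545867_2 : {f // @Cfsg.Agent.Schreier.SylMTwentyTwo.ev = f} := ⟨_, by first | (delta Cfsg.Agent.Schreier.SylMTwentyTwo.ev List.brecOn List.brecOn.go Cfsg.Agent.Schreier.SylMTwentyTwo.ev._f; rewrite [Cfsg.Agent.LsF.f545867_0.2, Cfsg.Agent.LsF.f545867_1.2, Cfsg.Agent.LsF.getD_eq]; (try delta Cfsg.Agent.Schreier.SylMTwentyTwo.ev.match_1); (try delta List.casesOn); first | dsimp -zeta only | exact rfl) | exact rfl⟩
private noncomputable def _root_.Cfsg.Agent.LsF.f545867_3 : {f // @Cfsg.Agent.H805.K547.par = f} := ⟨_, by first | (delta Cfsg.Agent.H805.K547.par List.brecOn List.brecOn.go Cfsg.Agent.H805.K547.par._f; (try delta Cfsg.Agent.H805.K547.par.match_1); (try delta List.casesOn); first | dsimp -zeta only | exact rfl) | exact rfl⟩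
private theorem PL_aux : (([0, 1, 2] : List ℕ).all fun k => (List.range 128).all fun i =>
    (fun w w' => (ev w' == mulL (gl.getD k []) (ev w)) && Nat.beq (par w') (Nat.xor (Nat.pow 2 k) (par w)))
      (wds.getD i []) (wds.getD (Nat.mod (Nat.shiftRight jt (Nat.mul 7 (Nat.add (Nat.mul 128 k) i))) 128) [])) = true := by
  ((try (rewrite [Cfsg.Agent.LsF.f545867_2.2, Cfsg.Agent.LsF.f545867_1.2, Cfsg.Agent.LsF.f545867_3.2, Cfsg.Agent.LsF.instNBEq_pat, Cfsg.Agent.LsF.and_eq, Cfsg.Agent.LsF.all_eq, Cfsg.Agent.LsF.range_eq, Cfsg.Agent.LsF.getD_eq, Cfsg.Agent.LsF.instBEq_eq])); decide +kernel)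

theorem PL_ok : (([0, 1, 2] : List ℕ).all fun k => PL.all fun x => PL.any fun y =>
    (y.1 == mulL (gl.getD k []) x.1) && Nat.beq y.2 (Nat.xor (Nat.pow 2 k) x.2)) = true := by
  have hl : wds.length = 128 := by decide +kernel
  have h := PL_aux
  rw [List.all_eq_true] at h ⊢
  intro k hk
  have h1 := h k hk
  rw [List.all_eq_true] at h1 ⊢
  intro x hx
  obtain ⟨w, hw, rfl⟩ := List.mem_map.1 hx
  obtain ⟨i, hi, rfl⟩ := List.getElem_of_mem hw
  have h2 := h1 i (List.mem_range.2 (hl ▸ hi))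
  have h3 : Nat.mod (Nat.shiftRight jt (Nat.mul 7 (Nat.add (Nat.mul 128 k) i))) 128 < wds.length := by
    rw [hl]
    exact Nat.mod_lt _ (by norm_num)
  generalize Nat.mod (Nat.shiftRight jt (Nat.mul 7 (Nat.add (Nat.mul 128 k) i))) 128 = j at h2 h3
  rw [List.getD_eq_getElem _ _ hi, List.getD_eq_getElem _ _ h3] at h2
  exact List.any_eq_true.2 ⟨_, List.mem_map.2 ⟨_, List.getElem_mem h3, rfl⟩, h2⟩

theorem PL_one : (PL.any fun y => (y.1 == idL) && Nat.beq y.2 0) = true := by decide +kernel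

theorem PL_fst : PL.map Prod.fst = els := by
  rw [PL, List.map_map]
  rfl

/-- `g` has the parity vector `v` -/
def R (g : Equiv.Perm GolayPt) (v : ℕ) : Prop := ∃ x ∈ PL, Rp g x.1 ∧ x.2 = v

theorem R.unique {g : Equiv.Perm GolayPt} {v w : ℕ} (h : R g v) (h' : R g w) : v = w := by
  obtain ⟨x, hx, h1, rfl⟩ := h
  obtain ⟨y, hy, h2, rfl⟩ := h'
  have h3 : (PL.map Prod.fst).Nodup := by rw [PL_fst]; exact nodup_ok
  rw [List.inj_on_of_nodup_map h3 hx hy (h1.unique h2)]

theorem R_one : R 1 0 := by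
  obtain ⟨y, hy, h⟩ := List.any_eq_true.1 PL_one
  rw [Bool.and_eq_true, beq_iff_eq] at h
  refine ⟨y, hy, ?_, Nat.eq_of_beq_eq_true h.2⟩
  rw [h.1]
  exact rp_one

theorem R_mul (k : Fin 3) {g : Equiv.Perm GolayPt} {v : ℕ} (h : R g v) :
    R (gen k * g) (Nat.xor (2 ^ (k : ℕ)) v) := by
  obtain ⟨x, hx, h1, rfl⟩ := h
  have h2 := PL_ok
  rw [List.all_eq_true] at h2
  have h3 := h2 (k : ℕ) (by fin_cases k <;> simp)
  rw [List.all_eq_true] at h3
  obtain ⟨y, hy, h4⟩ := List.any_eq_true.1 (h3 x hx)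
  rw [Bool.and_eq_true, beq_iff_eq] at h4
  refine ⟨y, hy, ?_, Nat.eq_of_beq_eq_true h4.2⟩
  rw [h4.1]
  exact (rp_gen k).mul h1

theorem exists_R {g : Equiv.Perm GolayPt} (hg : g ∈ T) : ∃ v, R g v := by
  have h1 : g ∈ (Subgroup.closure (Set.range gen)).toSubmonoid := hg
  rw [Subgroup.closure_toSubmonoid_of_finite] at h1
  refine Submonoid.closure_induction_left (motive := fun g _ => ∃ v, R g v) ⟨0, R_one⟩ ?_ h1
  rintro _ ⟨k, rfl⟩ y _ ⟨v, hv⟩
  exact ⟨_, R_mul k hv⟩

/-- the parity vector -/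
noncomputable def s (g : T) : ℕ := (exists_R g.2).choose

theorem s_spec (g : T) : R g (s g) := (exists_R g.2).choose_spec

theorem s_eq {g : T} {v : ℕ} (h : R g v) : s g = v := (s_spec g).unique h

theorem s_one : s 1 = 0 := s_eq R_one

theorem s_gen_mul (k : Fin 3) (g : T) : s (tgen k * g) = Nat.xor (2 ^ (k : ℕ)) (s g) :=
  s_eq (R_mul k (s_spec g))

theorem s_mul (a b : T) : s (a * b) = s a ^^^ s b := by
  obtain ⟨a, ha⟩ := a
  have h1 : a ∈ (Subgroup.closure (Set.range gen)).toSubmonoid := ha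
  rw [Subgroup.closure_toSubmonoid_of_finite] at h1
  have key : ∃ ha' : a ∈ T, s (⟨a, ha'⟩ * b) = s ⟨a, ha'⟩ ^^^ s b := by
    refine Submonoid.closure_induction_left (motive := fun a _ => ∃ ha' : a ∈ T, s (⟨a, ha'⟩ * b) = s ⟨a, ha'⟩ ^^^ s b)
      ?_ ?_ h1
    · refine ⟨one_mem _, ?_⟩
      have e : (⟨1, one_mem _⟩ : T) = 1 := rfl
      rw [e, one_mul, s_one, Nat.zero_xor]
    · rintro _ ⟨k, rfl⟩ y _ ⟨hy, ih⟩
      refine ⟨mul_mem (tgen k).2 hy, ?_⟩
      have e : (⟨gen k * y, mul_mem (tgen k).2 hy⟩ : T) = tgen k * ⟨y, hy⟩ := rfl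
      rw [e, mul_assoc, s_gen_mul, s_gen_mul, ih]
      exact (Nat.xor_assoc _ _ _).symm
  exact key.2

/-- a bit as an element of `ZMod 2` -/
def bit (b : Bool) : ZMod 2 := if b then 1 else 0

theorem bit_xor (a b : Bool) : bit (a ^^ b) = bit a + bit b := by
  cases a <;> cases b <;> decide

theorem bit_testBit (k i : Fin 3) : bit ((2 ^ (k : ℕ)).testBit (i : ℕ)) = if k = i then 1 else 0 := by
  fin_cases k <;> fin_cases i <;> decide

/-- the parity homomorphism -/
noncomputable def parHom : T →* Multiplicative (Fin 3 → ZMod 2) where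
  toFun g := Multiplicative.ofAdd fun i => bit ((s g).testBit i)
  map_one' := by
    rw [s_one]
    apply Multiplicative.toAdd.injective
    funext i
    simp [bit]
  map_mul' a b := by
    apply Multiplicative.toAdd.injective
    funext i
    show bit ((s (a * b)).testBit i) = bit ((s a).testBit i) + bit ((s b).testBit i)
    rw [s_mul, Nat.testBit_xor, bit_xor]

theorem parHom_gen (k i : Fin 3) : (parHom (tgen k)).toAdd i = if k = i then 1 else 0 := by
  show bit ((s (tgen k)).testBit i) = _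
  have h1 := s_gen_mul k 1
  rw [mul_one, s_one] at h1
  have h2 : Nat.xor (2 ^ (k : ℕ)) 0 = 2 ^ (k : ℕ) := Nat.xor_zero _
  rw [h1, h2, bit_testBit]

theorem rk_T : Rk 3 T := by
  refine ⟨parHom, fun v => ?_⟩
  have key : ∀ (k : Fin 3) (c : ZMod 2), ∃ g : T, ∀ i, (parHom g).toAdd i = if k = i then c else 0 := by
    intro k c
    have h2 : c = 0 ∨ c = 1 := by
      revert c
      decide
    rcases h2 with rfl | rfl
    · refine ⟨1, fun i => ?_⟩
      rw [map_one]
      simp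
    · exact ⟨tgen k, parHom_gen k⟩
  obtain ⟨a, ha⟩ := key 0 (v.toAdd 0)
  obtain ⟨b, hb⟩ := key 1 (v.toAdd 1)
  obtain ⟨c, hc⟩ := key 2 (v.toAdd 2)
  refine ⟨a * b * c, ?_⟩
  have e1 : parHom (a * b * c) = parHom a * parHom b * parHom c := by rw [map_mul, map_mul]
  rw [e1]
  apply Multiplicative.toAdd.injective
  funext i
  show (parHom a).toAdd i + (parHom b).toAdd i + (parHom c).toAdd i = v.toAdd i
  rw [ha, hb, hc]
  fin_cases i <;> simp

/-! ### `D3` -/

theorem d3_of_equiv {S : Type u} [Group S] {K : Subgroup (Equiv.Perm GolayPt)} (hT : T ≤ K) (e : S ≃* K) {m : ℕ}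
    (hK : Nat.card K = 2 ^ 7 * m) (hm : ¬ 2 ∣ m) : D3 S := by
  have hS : Nat.card S = 2 ^ 7 * m := by rw [Nat.card_congr e.toEquiv, hK]
  have hfin : Finite S := Nat.finite_of_card_ne_zero (by
    rw [hS]
    have : m ≠ 0 := fun h => hm (h ▸ dvd_zero 2)
    positivity)
  let e1 : T ≃* (T.subgroupOf K) := (Subgroup.subgroupOfEquivOfLe hT).symm
  let e2 : (T.subgroupOf K) ≃* ((T.subgroupOf K).map e.symm.toMonoidHom) :=
    (T.subgroupOf K).equivMapOfInjective e.symm.toMonoidHom e.symm.injective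
  refine d3_of_card (n := 7) ((T.subgroupOf K).map e.symm.toMonoidHom) (rk_of_equiv rk_T (e1.trans e2)) ?_ hS hm
  rw [← Nat.card_congr (e1.trans e2).toEquiv, card_T]
  norm_num

theorem d3_m23 {S : Type u} [Group S] (h : Cfsg.Spor.IsoM23 S) : D3 S := by
  obtain ⟨e⟩ := h
  exact d3_of_equiv (m := 79695) (T_le.trans inf_le_left) e
    (by rw [Cfsg.Agent.SporadicA.MathieuRecog.card_M23]; norm_num) (by decide)

end Cfsg.Agent.H805.K547
end

-- part: H805/K547/M23
section
/-!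
# S4547: the row of `M23` (helper805)
-/

set_option autoImplicit false

namespace Cfsg.Agent.H805.K547

open Cfsg Cfsg.Agent.H821.K547

universe u v

theorem isInn_of_equiv {S : Type u} {K : Type v} [Group S] [Group K] (e : S ≃* K)
    (hK : Nat.card (Cfsg.Out K) = 1) (τ : MulAut S) : IsInn τ := by
  have h1 : (Cfsg.Inn K) = ⊤ := Subgroup.index_eq_one.1 hK
  have h2 : (e.symm.trans τ).trans e ∈ Cfsg.Inn K := by rw [h1]; exact Subgroup.mem_top _
  obtain ⟨k, hk⟩ := h2
  refine ⟨e.symm k, fun x => ?_⟩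
  have h3 : k * e x * k⁻¹ = e (τ (e.symm (e x))) := congrArg (fun α : MulAut K => α (e x)) hk
  rw [e.symm_apply_apply] at h3
  apply e.injective
  rw [← h3, map_mul, map_mul, map_inv, e.apply_symm_apply]

/-- **The row of `M23`.** -/
theorem row_m23 {S : Type u} [Group S] (h : Cfsg.Spor.IsoM23 S) : Row S := by
  have h' := h
  obtain ⟨e⟩ := h'
  have hfin : Finite S := Nat.finite_of_card_ne_zero (by
    rw [Nat.card_congr e.toEquiv, Cfsg.Agent.SporadicA.MathieuRecog.card_M23]; norm_num)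
  exact ⟨Or.inl ⟨Cfsg.Agent.H921.K4.M23.good5 h, d3_m23 h⟩,
    fun τ _ hτ => absurd (isInn_of_equiv e Cfsg.Agent.S2063.result τ) hτ⟩

end Cfsg.Agent.H805.K547
end

-- part: H680/K547/M24
section
/-!
# S4547, the row `M24` (helper680, task 5046)
-/

set_option autoImplicit false

namespace Cfsg.Agent.H680.K547.M24

open Cfsg Cfsg.Agent.H821.K547 Cfsg.Agent.H805.K547

universe u

/-- **The row of `M24`.** -/
theorem row {S : Type u} [Group S] (h : Cfsg.Spor.IsoM24 S) : Row S := by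
  have h' := h
  obtain ⟨e⟩ := h'
  have := Cfsg.Agent.H569.K547.finite_M24
  have hfin : Finite S := Finite.of_equiv _ e.symm.toEquiv
  exact ⟨Or.inl ⟨Cfsg.Agent.H687.FourK.MTwentyFour.good5 h, D3.congr e Cfsg.Agent.H569.K547.d3_m24⟩,
    fun τ _ hτ => absurd (isInn_of_equiv e Cfsg.Agent.S2064.result τ) hτ⟩

end Cfsg.Agent.H680.K547.M24
end

-- part: H5/K547/Co2
section
/-!
# S4547: the Sylow 2-subgroups of Co2 and B need three generators (helper5)
-/

set_option autoImplicit false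

namespace Cfsg.Agent.H5.K547.Co2

open Cfsg Cfsg.Agent.SporadicA.GolayBase Cfsg.Agent.SporadicA.GolayPerm Cfsg.Agent.SporadicStructure.M24El
  Cfsg.Agent.Co2Type.TGroup Cfsg.Agent.Co2Type.TData Cfsg.Agent.Co2Type.Mono
open Cfsg.Agent.H821.K547
open Cfsg.Agent.H935.Meet.CoTwo (pi0 pi0_eq T_le_H)
open scoped Pointwise

/-- the three sets and their images -/
def ma : Fin 3 → ℕ := ![8388608, 4, 1032]
def mb : Fin 3 → ℕ := ![1, 262144, 4718592]
/-- elements with independent actions -/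
def pj : Fin 3 → ℕ := ![25525039304699397647261516727159255, 984122284074263746180992119694772480,
  959466143582213955282145915427293376]

theorem chk (i : Fin 3) : (L22.all fun P => Nat.beq (pimg P (ma i)) (ma i) || Nat.beq (pimg P (ma i)) (mb i)) = true := by
  fin_cases i <;> decide +kernel

theorem pj_mem (j : Fin 3) : pj j ∈ L22 := by
  fin_cases j <;> exact memL_iff.1 (by decide +kernel)

theorem pj_img (i j : Fin 3) : pimg (pj j) (ma i) = if i = j then mb i else ma i := by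
  fin_cases i <;> fin_cases j <;> decide +kernel

theorem ab_ne (i : Fin 3) : fin (ma i) ≠ fin (mb i) := by
  intro h
  have h1 := fin_injective (m := ma i) (n := mb i) (by fin_cases i <;> decide) (by fin_cases i <;> decide) h
  revert h1
  fin_cases i <;> decide

theorem T22_smul (i : Fin 3) (g : T22) : g • fin (ma i) = fin (ma i) ∨ g • fin (ma i) = fin (mb i) := by
  obtain ⟨P, hP, h⟩ := mem_T22_iff.1 g.2
  have h1 : g • fin (ma i) = fin (pimg P (ma i)) := by
    show (g : M24) • fin (ma i) = _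
    rw [h, el_smul_fin (ok_of_mem hP)]
  rw [h1]
  have h2 := List.all_eq_true.1 (chk i) P hP
  rw [Bool.or_eq_true] at h2
  rcases h2 with h2 | h2
  · left; rw [Nat.eq_of_beq_eq_true h2]
  · right; rw [Nat.eq_of_beq_eq_true h2]

/-- the Sylow 2-subgroup of `M22:2` maps onto an elementary abelian group of order 8 -/
theorem exists_T22 : ∃ F : T22 →* Multiplicative (Fin 3 → ZMod 2), Function.Surjective F := by
  have h1 : ∀ i : Fin 3, ∃ f : T22 →* Multiplicative (ZMod 2), ∀ g,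
      (g • fin (ma i) = fin (ma i) → f g = 1) ∧ (g • fin (ma i) = fin (mb i) → f g = Multiplicative.ofAdd 1) :=
    fun i => exists_char (ab_ne i) (T22_smul i)
  choose f hf using h1
  refine exists_surj f (fun j => ⟨el (pj j), el_mem_T22 (pj_mem j)⟩) fun i j => ?_
  have h2 : (⟨el (pj j), el_mem_T22 (pj_mem j)⟩ : T22) • fin (ma i) = fin (if i = j then mb i else ma i) := by
    show el (pj j) • fin (ma i) = _
    rw [el_smul_fin (ok_of_mem (pj_mem j)), pj_img]
  by_cases hij : i = j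
  · rw [if_pos hij] at h2 ⊢
    exact (hf i _).2 h2
  · rw [if_neg hij] at h2 ⊢
    exact (hf i _).1 h2

/-- the Sylow 2-subgroup of `Co2` maps onto that of `M22:2` -/
noncomputable def phi : T →* T22 :=
  (pi0.comp (Subgroup.inclusion T_le_H)).codRestrict T22 fun g => by
    obtain ⟨m, P, hm, hP, h⟩ := mem_T_iff.1 g.2
    show pi0 ⟨(g : Spor.Co2), _⟩ ∈ T22
    rw [pi0_eq hm (okP_of_mem hP) h]
    exact el_mem_T22 hP

theorem phi_surjective : Function.Surjective phi := by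
  intro g
  obtain ⟨P, hP, h⟩ := mem_T22_iff.1 g.2
  refine ⟨⟨mo2 0 P, mo2_mem_T inE_zero hP⟩, ?_⟩
  apply Subtype.ext
  show pi0 ⟨mo2 0 P, _⟩ = (g : M24)
  rw [pi0_eq inE_zero (okP_of_mem hP) rfl, h]

/-- **`D3 Co2`** -/
theorem d3_co2 : D3 Spor.Co2 := by
  have hfin : Finite Spor.Co2 := Nat.finite_of_card_ne_zero (by
    rw [Cfsg.Agent.Co2Type.CardCo2.card_co2]; norm_num)
  obtain ⟨F, hF⟩ := exists_T22
  exact d3_of_hom T Cfsg.Agent.Co2Type.FactsClass.odd_index (F.comp phi) (hF.comp phi_surjective)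

end Cfsg.Agent.H5.K547.Co2
end

-- part: H5/K547/Baby
section
/-!
# S4547: the Sylow 2-subgroups of the Baby Monster need three generators (helper5)
-/

set_option autoImplicit false

namespace Cfsg.Agent.H5.K547.Baby

open Cfsg Cfsg.Spor Cfsg.Agent.MonsterU.Lam2 Cfsg.Agent.MonsterU.Ch
open Cfsg.Agent.H68.MeetB
open Cfsg.Agent.H819.TypeTwo
open Cfsg.Agent.LThreeMB (XX Zx self Zx_normal mk exists_mk mk_eq_one mk_mul mk_one mk_inv mk_congr mk_eq_mk conj_comm
  exists_fac PB mem_PB PP mem_PP)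
open Cfsg.Agent.H821.K547
open Cfsg.Agent.H935.Meet Cfsg.Agent.H935.Meet.Baby
open Subgroup (centralizer zpowers mem_centralizer_singleton_iff)

section chart

variable {G : Type*} [Group G] {P : Subgroup G} {z j s : G} {eta : G → L2}
  {pi : Subgroup.centralizer ({z} : Set G) →* Co1}

theorem d3_of_chart_aux [Finite G] (h : Chart P z eta pi) (hj : j ∈ P) (hu : eta j = cl leechU)
    (hc : ¬ 2 ^ 42 ∣ Nat.card (XX j)) : D3 (XX j) := by
  have h2 : IsType 2 (eta j) := by rw [hu]; exact type_leechU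
  have hfin : Finite (XX j) := Quotient.finite _
  obtain ⟨ρ, hρ, -, hk⟩ := exists_rho h hj hu
  have hle : PB P j ≤ centralizer ({zb h hj} : Set (XX j)) :=
    Cfsg.Agent.LargeExtra.Nine.ToCent.le_cent (large h hj h2)
  -- the order of the centraliser
  have hcard : 2 ^ 41 ∣ Nat.card (centralizer ({zb h hj} : Set (XX j))) := by
    have h3 : Nat.card ρ.ker = 2 ^ (2 * 11 + 1) := by
      rw [hk, Nat.card_congr (Subgroup.subgroupOfEquivOfLe hle).toEquiv]
      exact card_PB h hj h2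
    have h4 := Subgroup.card_eq_card_quotient_mul_card_subgroup ρ.ker
    rw [Nat.card_congr (QuotientGroup.quotientKerEquivOfSurjective ρ hρ).toEquiv, h3,
      Cfsg.Agent.Co2Type.CardCo2.card_co2] at h4
    rw [h4]
    decide
  exact d3_of_map (centralizer ({zb h hj} : Set (XX j))) (not_dvd_index hcard hc) ρ hρ Co2.d3_co2

theorem d3_of_chart [Finite G] (h : Chart P z eta pi) (hj : j ∈ P) (h2 : IsType 2 (eta j))
    (hc : ¬ 2 ^ 42 ∣ Nat.card (XX j)) : D3 (XX j) := by
  obtain ⟨g, hg⟩ := IsType.trans (Or.inl rfl) h2 type_leechU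
  exact d3_of_chart_aux (h.smul (QuotientGroup.mk g)) hj hg hc

end chart

open Cfsg.Agent.BpSpor.MBigModel (MG zz)

/-- **`D3 B`** -/
theorem d3_baby : D3 Spor.BabyMonster := by
  have hfin := Cfsg.Agent.H848.MonsterSetup.finite
  have hfinM := Cfsg.Agent.BpSpor.MBigModel.finite
  obtain ⟨e⟩ := Cfsg.Agent.MonsterP.Equiv.equiv
  have h := Cfsg.Agent.H848.Setup.chart_transport e Cfsg.Agent.BpSpor.MBigModel.chart
  obtain ⟨S, hS, hSL⟩ := BabyFive.exists_S
  have hj : e.symm BabyFive.j ∈ (Cfsg.Agent.MonsterX.KDone.K.ι.range).comap e.toMonoidHom := by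
    rw [Subgroup.mem_comap]
    show e (e.symm BabyFive.j) ∈ _
    rw [e.apply_symm_apply]
    exact BabyFive.j_mem
  have hjj : e.symm BabyFive.j * e.symm BabyFive.j = 1 := by rw [← map_mul, BabyFive.j_sq, map_one]
  have hj1 : e.symm BabyFive.j ≠ 1 := by
    intro h1
    exact BabyFive.j_ne_one (by rwa [map_eq_one_iff _ e.symm.injective] at h1)
  have hjz : e.symm BabyFive.j ≠ e.symm zz := fun h1 => BabyFive.j_ne_zz (e.symm.injective h1)
  have hS' : Nat.card (S.map e.symm.toMonoidHom) = 125 := by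
    rw [← hS]
    exact (Nat.card_congr (Subgroup.equivMapOfInjective S _ e.symm.injective).toEquiv).symm
  have hcom : ∀ u : MG, (∀ y ∈ BabyFive.L, y * u = u * y) →
      ∀ y ∈ S.map e.symm.toMonoidHom, y * e.symm u = e.symm u * y := by
    rintro u hu _ ⟨y, hy, rfl⟩
    show e.symm y * e.symm u = e.symm u * e.symm y
    rw [← map_mul, hu y (hSL hy), map_mul]
  have h2 := type_two h hj hjj hj1 hjz hS' (hcom _ BabyFive.L_zz) (hcom _ BabyFive.L_j)
  -- the isomorphism
  obtain ⟨-, -, -, -, hc, ⟨f⟩, -⟩ := Cfsg.Agent.H819.TwoACent.main h hj h2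
  have hZ : Zx (e.symm BabyFive.j) = Subgroup.center ↥(centralizer ({e.symm BabyFive.j} : Set Spor.Monster)) := by
    apply Subgroup.map_injective (Subgroup.subtype_injective _)
    rw [Zx_map, hc]
  let f' : XX (e.symm BabyFive.j) ≃* Spor.BabyMonster := (QuotientGroup.quotientMulEquivOfEq hZ).trans f
  have hfX : Finite (XX (e.symm BabyFive.j)) := Quotient.finite _
  have hfB : Finite Spor.BabyMonster := Finite.of_equiv _ f'.toEquiv
  refine d3_congr f'.symm (d3_of_chart h hj h2 ?_)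
  rw [Nat.card_congr f'.toEquiv, Cfsg.Agent.H819.TwoACent.baby.2]
  decide

end Cfsg.Agent.H5.K547.Baby
end

-- part: H5/K547/RowB
section
/-!
# S4547: the row of the Baby Monster, from `Good5` (helper5)
-/

set_option autoImplicit false

namespace Cfsg.Agent.H5.K547

open Cfsg Cfsg.Agent.H821.K547 Cfsg.Agent.H601.K4

universe u v

/-- all automorphisms are inner -/
theorem isInn_of_out {S : Type u} {S' : Type v} [Group S] [Group S'] (e : S ≃* S') (h : Nat.card (Cfsg.Out S') = 1)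
    (τ : MulAut S) : IsInn τ := by
  let τ' : MulAut S' := e.symm.trans (τ.trans e)
  have h1 : Subsingleton (Cfsg.Out S') := (Nat.card_eq_one_iff_unique.1 h).1
  have h2 : τ' ∈ Cfsg.Inn S' := (QuotientGroup.eq_one_iff τ').1 (Subsingleton.elim _ _)
  obtain ⟨s, hs⟩ := h2
  refine ⟨e.symm s, fun x => ?_⟩
  have h3 : τ' (e x) = s * e x * s⁻¹ := by rw [← hs]; rfl
  have h4 : e (τ x) = s * e x * s⁻¹ := by
    rw [← h3]
    show e (τ x) = e (τ (e.symm (e x)))
    rw [e.symm_apply_apply]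
  apply e.injective
  rw [h4, map_mul, map_mul, map_inv, e.apply_symm_apply]

theorem row_of_out {S : Type u} {S' : Type v} [Group S] [Group S'] (e : S ≃* S') (h : Nat.card (Cfsg.Out S') = 1)
    (hb : BaseRow S) : Row S :=
  ⟨hb, fun τ _ hn => absurd (isInn_of_out e h τ) hn⟩

theorem d3_isoB {S : Type u} [Group S] [Finite S] (h : Spor.IsoB S) : D3 S := by
  obtain ⟨e⟩ := h
  exact d3_congr e Baby.d3_baby

/-- **Row B**, from five good characters -/
theorem row_b {S : Type u} [Group S] [Finite S] (h : Spor.IsoB S) (h5 : Good5 S) : Row S := by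
  have hd := d3_isoB h
  obtain ⟨e⟩ := h
  exact row_of_out e Cfsg.Agent.S2084.result (Or.inl ⟨h5, hd⟩)

end Cfsg.Agent.H5.K547
end

-- part: H5/K547/RowBFin
section
/-!
# S4547: the row of the Baby Monster (helper5)
-/

set_option autoImplicit false

namespace Cfsg.Agent.H5.K547

open Cfsg Cfsg.Agent.H821.K547 Cfsg.Agent.H601.K4

universe u

/-- **Row B** -/
theorem rowB_fin {S : Type u} [Group S] (h : Spor.IsoB S) : Row S := by
  have hf : Finite S := by
    obtain ⟨e⟩ := h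
    have h1 : Finite Spor.BabyMonster := Nat.finite_of_card_ne_zero (by rw [Cfsg.Agent.H819.TwoACent.baby.2]; norm_num)
    exact Finite.of_equiv _ e.symm.toEquiv
  exact row_b h (Cfsg.Agent.H645.K4.B.good5_b h)

end Cfsg.Agent.H5.K547
end

private theorem dce_d83143699157 : _root_.True := by
  try have : _root_.True := by simp only [_root_.Cfsg.Agent.H805.K547.PL.eq_1]
  try have : _root_.True := by simp only [_root_.Cfsg.Agent.H805.K547.bit.eq_1]
  exact _root_.True.intro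
end

-- part: H42/K547/EvenFinal
section
prune_inst 0x15102b2400e2000000000580812000240c00042010000000880102040200020a04000040040000014202200100000020020000000000000000000000000400001040800400000000400080000000000000000000000000000000000000000004000000000
set_option linter.all false
open scoped Cfsg.Agent.FastGrp

-- part: H151/K547/ExtLeaf
section
/-!
# S4547: the leaves of the diagrams (helper151)
-/

set_option autoImplicit false

open Cfsg

namespace Cfsg.Agent.H151.K547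

open Cfsg.Agent.LieRecognition.BNCox (cA)
open Cfsg.Agent.LieRecognition.CoxClass (mA)

theorem cA_ne_two {n : ℕ} {i j : Fin n} (hne : j ≠ i) : cA n i j ≠ 2 ↔ (i : ℕ) + 1 = j ∨ (j : ℕ) + 1 = i := by
  have h1 : (i : ℕ) ≠ j := fun e => hne (Fin.ext e.symm)
  change mA i j ≠ 2 ↔ _
  unfold mA
  rw [if_neg h1]
  split_ifs with h
  · simp [h]
  · simp [h]

theorem leaf_cA {n : ℕ} (hn : 3 ≤ n) : Leaf (cA n) ⟨0, by omega⟩ ∧ ¬ Leaf (cA n) ⟨1, by omega⟩ := by
  constructor
  · intro j k hj hk h1 h2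
    rw [cA_ne_two hj] at h1
    rw [cA_ne_two hk] at h2
    apply Fin.ext
    change 0 + 1 = (j : ℕ) ∨ (j : ℕ) + 1 = 0 at h1
    change 0 + 1 = (k : ℕ) ∨ (k : ℕ) + 1 = 0 at h2
    omega
  · intro h
    have := h ⟨0, by omega⟩ ⟨2, by omega⟩ (by simp) (by simp) ((cA_ne_two (by simp)).2 (Or.inr rfl))
      ((cA_ne_two (by simp)).2 (Or.inl rfl))
    simp at this

theorem B_ne_two {n : ℕ} (hn : 3 ≤ n) {i j : Fin n} (hne : j ≠ i) :
    CoxeterMatrix.B n i j ≠ 2 ↔ (i : ℕ) + 1 = j ∨ (j : ℕ) + 1 = i := by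
  have h1 : i ≠ j := fun e => hne e.symm
  change (if i = j then 1
    else (if (i : ℕ) = n - 1 ∧ (j : ℕ) = n - 2 ∨ (j : ℕ) = n - 1 ∧ (i : ℕ) = n - 2 then 4
      else (if (j : ℕ) + 1 = i ∨ (i : ℕ) + 1 = j then 3 else 2))) ≠ 2 ↔ _
  rw [if_neg h1]
  split_ifs with h2 h3
  · simp only [ne_eq, Nat.reduceEqDiff, not_false_eq_true, true_iff]
    omega
  · simp only [ne_eq, Nat.reduceEqDiff, not_false_eq_true, true_iff]
    omega
  · simp only [ne_eq, not_true_eq_false, false_iff]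
    omega

theorem leaf_B {n : ℕ} (hn : 3 ≤ n) : Leaf (CoxeterMatrix.B n) ⟨0, by omega⟩ ∧
    ¬ Leaf (CoxeterMatrix.B n) ⟨1, by omega⟩ := by
  constructor
  · intro j k hj hk h1 h2
    rw [B_ne_two hn hj] at h1
    rw [B_ne_two hn hk] at h2
    apply Fin.ext
    change 0 + 1 = (j : ℕ) ∨ (j : ℕ) + 1 = 0 at h1
    change 0 + 1 = (k : ℕ) ∨ (k : ℕ) + 1 = 0 at h2
    omega
  · intro h
    have := h ⟨0, by omega⟩ ⟨2, by omega⟩ (by simp) (by simp) ((B_ne_two hn (by simp)).2 (Or.inr rfl))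
      ((B_ne_two hn (by simp)).2 (Or.inl rfl))
    simp at this

theorem D_ne_two {n : ℕ} {i j : Fin (n + 2)} (hne : j ≠ i) :
    Nodes.TypeD.M n i j ≠ 2 ↔ Nodes.TypeD.Adj i j ∨ Nodes.TypeD.Adj j i := by
  have h1 : i ≠ j := fun e => hne e.symm
  change (if i = j then 1 else if Nodes.TypeD.Adj i j ∨ Nodes.TypeD.Adj j i then 3 else 2) ≠ 2 ↔ _
  rw [if_neg h1]
  split_ifs with h
  · simp [h]
  · simp [h]

theorem leaf_D (n : ℕ) : Leaf (Nodes.TypeD.M (n + 1)) ⟨n + 2, by omega⟩ ∧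
    ¬ Leaf (Nodes.TypeD.M (n + 1)) ⟨n, by omega⟩ := by
  constructor
  · intro j k hj hk h1 h2
    rw [D_ne_two hj] at h1
    rw [D_ne_two hk] at h2
    have e1 : (j : ℕ) ≠ n + 2 := fun e => hj (Fin.ext e)
    have e2 : (k : ℕ) ≠ n + 2 := fun e => hk (Fin.ext e)
    have e3 := j.2
    have e4 := k.2
    apply Fin.ext
    change ((j : ℕ) < n + 1 + 1 ∧ n + 2 + 1 = (j : ℕ) ∨ (j : ℕ) = n + 1 + 1 ∧ n + 2 + 2 = (j : ℕ)) ∨
      (n + 2 < n + 1 + 1 ∧ (j : ℕ) + 1 = n + 2 ∨ n + 2 = n + 1 + 1 ∧ (j : ℕ) + 2 = n + 2) at h1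
    change ((k : ℕ) < n + 1 + 1 ∧ n + 2 + 1 = (k : ℕ) ∨ (k : ℕ) = n + 1 + 1 ∧ n + 2 + 2 = (k : ℕ)) ∨
      (n + 2 < n + 1 + 1 ∧ (k : ℕ) + 1 = n + 2 ∨ n + 2 = n + 1 + 1 ∧ (k : ℕ) + 2 = n + 2) at h2
    omega
  · intro h
    have := h ⟨n + 1, by omega⟩ ⟨n + 2, by omega⟩ (by simp) (by simp)
      ((D_ne_two (by simp)).2 (Or.inl (Or.inl ⟨by change n + 1 < n + 1 + 1; omega, rfl⟩)))
      ((D_ne_two (by simp)).2 (Or.inl (Or.inr ⟨rfl, rfl⟩)))
    simp at this

instance decLeaf {l : ℕ} (M : CoxeterMatrix (Fin l)) (i : Fin l) : Decidable (Leaf M i) := by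
  unfold Leaf
  infer_instance

theorem leaf_F4 : Leaf CoxeterMatrix.F₄ 0 ∧ ¬ Leaf CoxeterMatrix.F₄ 1 := by decide

theorem leaf_E6 : Leaf CoxeterMatrix.E₆ 0 ∧ ¬ Leaf CoxeterMatrix.E₆ 3 := by decide

theorem leaf_E7 : Leaf CoxeterMatrix.E₇ 0 ∧ ¬ Leaf CoxeterMatrix.E₇ 3 := by decide

theorem leaf_E8 : Leaf CoxeterMatrix.E₈ 0 ∧ ¬ Leaf CoxeterMatrix.E₈ 3 := by decide

end Cfsg.Agent.H151.K547
end

-- part: H151/K547/ExtRows
section
/-!
# S4547: `D3 (AutExt τ)` for the groups of Lie type of characteristic two (helper151)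

`d3_ext_two` : `D3 (AutExt τ)` for every outer 2-automorphism `τ` of a simple group of Lie type of characteristic two,
or `Special τ` : `PSL₂(2^f)`, `PSU₃(2^f)`, `Sp₄(2^f)` with the class of `τ` of order `f`, `2 f`, `2 f` (a power of two),
or `PSL₃(2)`.
-/

set_option autoImplicit false
set_option linter.unusedSectionVars false

open Cfsg

namespace Cfsg.Agent.H151.K547

open Cfsg.Agent.H821.K547 Cfsg.Agent.Omega.ML.Ex.Typ

universe u v

/-! ### the exponents -/

section exps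

theorem pow_mzmod {N : ℕ} (hN : 0 < N) (x : Multiplicative (ZMod N)) : x ^ N = 1 := by
  have : NeZero N := ⟨hN.ne'⟩
  have h1 := pow_card_eq_one' (x := x)
  rwa [Nat.card_congr Multiplicative.toAdd, Nat.card_zmod] at h1

theorem odd_gcd_pred (n : ℕ) {f : ℕ} (hf : 1 ≤ f) : Odd (Nat.gcd n (2 ^ f - 1)) := by
  refine Odd.of_dvd_nat ?_ (Nat.gcd_dvd_right _ _)
  obtain ⟨a, ha⟩ : Even (2 ^ f) := even_two.pow_of_ne_zero (by omega)
  have : 0 < 2 ^ f := by positivity
  exact ⟨a - 1, by omega⟩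

theorem odd_gcd_succ (n : ℕ) {f : ℕ} (hf : 1 ≤ f) : Odd (Nat.gcd n (2 ^ f + 1)) := by
  refine Odd.of_dvd_nat ?_ (Nat.gcd_dvd_right _ _)
  exact (even_two.pow_of_ne_zero (by omega)).add_one

theorem outExp_psl2 {F : Type u} [Field F] [Fintype F] {f : ℕ} (hf : 2 ≤ f) (hF : Fintype.card F = 2 ^ f) :
    OutExp (Matrix.ProjectiveSpecialLinearGroup (Fin 2) F) f := by
  have : Fact (Nat.Prime 2) := ⟨Nat.prime_two⟩
  have : Finite (Matrix.ProjectiveSpecialLinearGroup (Fin 2) F) := Quotient.finite _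
  obtain ⟨φ, -, -, hk⟩ := S2602.result (p := 2) (f := f) (by omega) hF (by
    calc 4 = 2 ^ 2 := by norm_num
      _ ≤ 2 ^ f := Nat.pow_le_pow_right (by norm_num) hf)
  refine outExp_of_hom φ (pow_mzmod (by omega)) ?_
  rw [hk]
  exact odd_gcd_pred 2 (by omega)

/-- the precise bound for `PSL₃` -/
theorem outExp_psl3' {F : Type u} [Field F] [Fintype F] {f : ℕ} (hf : 2 ≤ f) (hF : Fintype.card F = 2 ^ f)
    {g : MulAut (Matrix.ProjectiveSpecialLinearGroup (Fin 3) F)} (hpow : ∃ m : ℕ, g ^ 2 ^ m = 1)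
    (hdisj : ∀ (k : ℤ) s, g ^ k = MulAut.conj s → g ^ k = 1) : orderOf g < f + 1 := by
  have : Fact (Nat.Prime 2) := ⟨Nat.prime_two⟩
  have : Finite (Matrix.ProjectiveSpecialLinearGroup (Fin 3) F) := Quotient.finite _
  obtain ⟨φ, -, -, hk⟩ := S2601.result (p := 2) (f := f) (n := 3) (by omega) hF le_rfl
  have h1 : OutExp (Matrix.ProjectiveSpecialLinearGroup (Fin 3) F) (Nat.lcm f 2) := by
    refine outExp_of_hom φ (fun x => ?_) (by rw [hk]; exact odd_gcd_pred 3 (by omega))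
    apply Multiplicative.toAdd.injective
    change (Nat.lcm f 2) • (Multiplicative.toAdd x) = 0
    have ha : ∀ y : ZMod f, (Nat.lcm f 2) • y = 0 := by
      intro y
      obtain ⟨c, hc⟩ := Nat.dvd_lcm_left f 2
      rw [hc, mul_comm, mul_smul, nsmul_eq_mul f y, ZMod.natCast_self, zero_mul, smul_zero]
    have hb : ∀ y : ZMod 2, (Nat.lcm f 2) • y = 0 := by
      intro y
      obtain ⟨c, hc⟩ := Nat.dvd_lcm_right f 2
      rw [hc, mul_comm, mul_smul, nsmul_eq_mul 2 y, ZMod.natCast_self, zero_mul, smul_zero]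
    exact Prod.ext (ha _) (hb _)
  have h2 := h1 g hpow hdisj
  obtain ⟨m, hm⟩ := hpow
  obtain ⟨k, -, hk⟩ := (Nat.dvd_prime_pow Nat.prime_two).1 (orderOf_dvd_of_pow_eq_one hm)
  rcases Nat.even_or_odd f with he | ho
  · have h3 : Nat.lcm f 2 = f := Nat.lcm_eq_left (even_iff_two_dvd.1 he)
    rw [h3] at h2
    exact Nat.lt_succ_of_le (Nat.le_of_dvd (by omega) h2)
  · have h3 : orderOf g ∣ 2 := by
      have h4 : orderOf g ∣ f * 2 := h2.trans (Nat.lcm_dvd_mul f 2)
      have h5 : Nat.Coprime (orderOf g) f := by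
        rw [hk]
        exact Nat.Coprime.pow_left k (Nat.coprime_two_left.2 ho)
      exact h5.dvd_of_dvd_mul_left h4
    exact Nat.lt_succ_of_le ((Nat.le_of_dvd (by norm_num) h3).trans hf)

theorem outExp_psp4 {F : Type u} [Field F] [Fintype F] {f : ℕ} (hf : 1 ≤ f) (hF : Fintype.card F = 2 ^ f) :
    OutExp (PSp 2 F) (2 * f) := by
  have : Finite (PSp 2 F) := inferInstance
  exact outExp_of_card (S2600.result hf hF).2

theorem outExp_psu {F : Type u} [Field F] [Fintype F] {f n : ℕ} (hf : 1 ≤ f) (hF : Fintype.card F = (2 ^ f) ^ 2)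
    (hn : 3 ≤ n) (h32 : ¬ (n = 3 ∧ 2 ^ f = 2)) : OutExp (PSU n F (2 ^ f)) (2 * f) := by
  have : Fact (Nat.Prime 2) := ⟨Nat.prime_two⟩
  have : Finite (PSU n F (2 ^ f)) := inferInstance
  obtain ⟨φ, -, -, hk⟩ := S2603.result (p := 2) (f := f) (q := 2 ^ f) hf rfl hF hn h32
  refine outExp_of_hom φ (pow_mzmod (by omega)) ?_
  rw [hk]
  exact odd_gcd_succ n hf

theorem outExp_G2 {F : Type u} [Field F] [Fintype F] [CharP F 2] {f : ℕ} (hf : 2 ≤ f) (hF : Fintype.card F = 2 ^ f) :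
    OutExp ↥(Lie.chevG2.group F) f := by
  have : Fact (Nat.Prime 2) := ⟨Nat.prime_two⟩
  have h1 := S2121.result (F := F) 2 f hF (by
    calc 3 ≤ 2 ^ 2 := by norm_num
      _ ≤ 2 ^ f := Nat.pow_le_pow_right (by norm_num) hf)
  rw [if_neg (by norm_num)] at h1
  exact outExp_of_card h1

theorem outExp_tD4 {K : Type u} [Field K] [Fintype K] [CharP K 2] {f : ℕ} (hf : 1 ≤ f)
    (hK : Fintype.card K = 2 ^ (3 * f)) : OutExp ↥(Lie.twistedD4 K (2 ^ f)) (3 * f) := by
  have : Fact (Nat.Prime 2) := ⟨Nat.prime_two⟩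
  exact outExp_of_card (S2129.result 2 f hK hf)

end exps

/-! ### the ranks -/

section ranks

open CoxeterSystem Cfsg.Agent.ChevalleyStructure.CoxeterGeom Cfsg.Agent.Tits.Roots Cfsg.Agent.Tits.Core
  Cfsg.Agent.Nodes.Reps Cfsg.Agent.Nodes.BNOf Cfsg.Agent.Nodes.Bruhat

theorem rk_field {F : Type*} [Field F] [Finite F] [CharP F 2] {d : ℕ} (hd : 2 ^ d ≤ Nat.card F) :
    Rk d (Multiplicative F) := by
  refine rk_of_elem (fun x y => mul_comm x y) (fun x => ?_) (by rwa [Nat.card_congr Multiplicative.toAdd])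
  apply Multiplicative.toAdd.injective
  exact CharTwo.add_self_eq_zero _

theorem rkS_psl2 {F : Type u} [Field F] [Fintype F] [CharP F 2] {f : ℕ} (hf : 1 ≤ f) (hF : Fintype.card F = 2 ^ f) :
    RkS f (Matrix.ProjectiveSpecialLinearGroup (Fin 2) F) := by
  have : Finite (Matrix.ProjectiveSpecialLinearGroup (Fin 2) F) := Quotient.finite _
  refine rkS_of_hom (U := Multiplicative F) Classification.PSLTwoEvenSylow.uniP
    Classification.PSLTwoEvenSylow.uniP_injective (n := f) ?_ ?_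
    (rk_field (by rw [Nat.card_eq_fintype_card, hF]))
  · rw [← hF, ← Nat.card_eq_fintype_card]
    exact Nat.card_congr Multiplicative.toAdd
  · rw [Classification.PSLTwoEvenSylow.card_psl, hF, pow_succ]
    intro hd
    have h1 := Nat.dvd_of_mul_dvd_mul_left (by positivity) hd
    have h2 : 2 ∣ (2 ^ f) ^ 2 := by
      rw [← pow_mul]; exact dvd_pow_self 2 (by omega)
    have h3 : 1 ≤ (2 ^ f) ^ 2 := Nat.one_le_iff_ne_zero.mpr (by positivity)
    omega

open Cfsg.Agent.LieRecognition in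
theorem rkS_psu3 {F : Type u} [Field F] [Fintype F] [CharP F 2] {f : ℕ} (hf : 1 ≤ f)
    (hF : Fintype.card F = (2 ^ f) ^ 2) : RkS (2 * f) (PSU 3 F (2 ^ f)) := by
  have hcF : Nat.card F = (2 ^ f) ^ 2 := by rw [Nat.card_eq_fintype_card, hF]
  obtain ⟨hch, σ, hσ, hs, -, h3⟩ := PSUThreeSylow.exists_heis_equiv F hf hcF
  have hq1 : 1 < 2 ^ f := Nat.one_lt_two_pow (by omega)
  intro Q
  obtain ⟨e⟩ := h3 Q
  refine rk_congr e.symm ?_
  let φ : HermHeis.Heis σ →* Multiplicative F := MonoidHom.mk' (fun x => Multiplicative.ofAdd x.a) (fun x y => rfl)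
  refine rk_of_surj φ (fun y => ?_) (rk_field (by rw [hcF, ← pow_mul, mul_comm]))
  obtain ⟨x, hx⟩ := HermHeis.exists_heis_a (σ := σ) hq1 hs hcF (Multiplicative.toAdd y)
  exact ⟨x, by show Multiplicative.ofAdd x.a = y; rw [hx]; rfl⟩

theorem rkS_G2 (F : Type u) [Field F] [Fintype F] [CharP F 2] {f : ℕ} (hF : 2 ^ f ≤ Fintype.card F) :
    RkS (f + 1) ↥(Lie.chevG2.group F) := by
  have : Fact (Nat.Prime 2) := ⟨Nat.prime_two⟩
  have : Finite CoxeterMatrix.G₂.Group := Nodes.RGDChev.finite_W H619.Gow.isTypeG2 CoxeterMatrix.G₂.toCoxeterSystem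
  have R := Cfsg.Agent.Nodes.RGDChev.rgd (K := F) H619.Gow.isTypeG2 CoxeterMatrix.G₂.toCoxeterSystem 2
  have hG : GG CoxeterMatrix.G₂.toCoxeterSystem H619.Gow.isTypeG2.isCartan
      ((Lie.chevG2.diagonalSubgroup F).subgroupOf (Lie.chevG2.group F))
      (fun x => (Nodes.RGDChev.XV Lie.chevG2 2 F x).subgroupOf (Lie.chevG2.group F)) = ⊤ :=
    Cfsg.Agent.KFacts.RgdFilt.GG_eq_top (Cfsg.Agent.Nodes.RGDChev.G1_eq_top H619.Gow.isTypeG2 _)
  have N0 := H619.Gow.nd_chev (K := F) H619.Gow.isTypeG2 CoxeterMatrix.G₂.toCoxeterSystem 0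
  have h0 := rk_of_nd N0 (m := f) (by rwa [Nat.card_eq_fintype_card])
  exact rkS_of_subgroup R.isPGroup_Upos (index_U' R hG) (rk_two R (i := 0) (j := 1) (by decide) h0 (rk_X R 1))

open Cfsg.Agent.H619.Gow in
open Cfsg.Agent.Nodes.RGDFoldSL (Fx mem_Fx) in
open Cfsg.Agent.ChevalleyStructure in
theorem rkS_tD4 (K : Type u) [Field K] [Fintype K] [CharP K 2] {q : ℕ} (hq : IsPrimePow q)
    (hK : Fintype.card K = q ^ 3) {d : ℕ} (hd : 2 ^ d ≤ q ^ 3) : RkS d ↥(Lie.twistedD4 K q) := by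
  have : Fact (Nat.Prime 2) := ⟨Nat.prime_two⟩
  obtain ⟨φ, hφ⟩ := D4Fixed.exists_frob hq hK
  have hle := D4Fixed.twisted_le_fix hK hφ
  have h3 := fun t => mem_Fx3 (φ := φ) hK hφ t
  have : Finite CoxeterMatrix.G₂.Group := Nodes.RGDChev.finite_W isTypeG2 CoxeterMatrix.G₂.toCoxeterSystem
  have R := Nodes.RGDTwD4.rgd (K := K) CoxeterMatrix.G₂.toCoxeterSystem hK hφ 2
  have hG : GG CoxeterMatrix.G₂.toCoxeterSystem Nodes.RGDTwD4.isCartan (Nodes.RGDTwD4.T K q)
      (Nodes.RGDTwD4.X φ q) = ⊤ :=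
    Cfsg.Agent.KFacts.RgdFilt.GG_eq_top (Nodes.RGDTwD4.G1_eq_top CoxeterMatrix.G₂.toCoxeterSystem hK hφ)
  have N1 := nd_tw hφ hle CoxeterMatrix.G₂.toCoxeterSystem 1
  have c1 : CharP (Fx φ (ln 1)) 2 := (RingHom.charP_iff _ (Fx φ (ln 1)).subtype.injective 2).2 inferInstance
  have f1 : Finite (Fx φ (ln 1)) := inferInstance
  have hcard : Nat.card (Fx φ (ln 1)) = q ^ 3 := by
    rw [← hK, ← Nat.card_eq_fintype_card]
    exact Nat.card_congr ((Equiv.subtypeUnivEquiv fun x => mem_Fx.2 (h3 x)))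
  have h1 := rk_of_nd N1 (m := d) (by rwa [hcard])
  exact rkS_of_subgroup R.isPGroup_Upos (index_U' R hG) (rk_node R h1)

open Cfsg.Agent.LieRecognition.BNCox (cA) in
open Cfsg.Agent.TitsThree.KSideA (tv tv_of_ne tv_add tv_zero) in
theorem rkS_psl3 {F : Type u} [Field F] [Finite F] [CharP F 2] {f : ℕ} (hF : 2 ^ f ≤ Nat.card F) :
    RkS (f + 1) (Matrix.ProjectiveSpecialLinearGroup (Fin 3) F) := by
  have : Fact (Nat.Prime 2) := ⟨Nat.prime_two⟩
  have hfin : Finite (cA 2).Group := Nodes.RootsA.finite_W (cA 2).toCoxeterSystem (Nodes.RootsA.isCartan 2)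
  have hfin2 : Finite (Matrix.ProjectiveSpecialLinearGroup (Fin 3) F) := Quotient.finite _
  have R := Nodes.RGDTypeA.rgd_psl (n := 2) (F := F) (p := 2) (cA 2).toCoxeterSystem (Nodes.RootsA.isCartan 2)
  have hG := H807.CubePar.GG_eq_top (T := (Nodes.RGDTypeA.T (Fin 3) F).map (Nodes.RGDTypeA.pr 2 F))
    (Nodes.RGDTypeA.G1_psl_eq_top (n := 2) (F := F) (cA 2).toCoxeterSystem (Nodes.RootsA.isCartan 2))
  have hne : (0 : Fin 2).castSucc ≠ (0 : Fin 2).succ := by decide
  have hmem : ∀ g, g ∈ (Nodes.RGDTypeA.X (n := 2) F (sr 0)).map (Nodes.RGDTypeA.pr 2 F) ↔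
      ∃ t, Nodes.RGDTypeA.pr 2 F (tv (0 : Fin 2).castSucc (0 : Fin 2).succ t) = g := by
    intro g
    rw [Nodes.RGDTypeA.X_sr]
    constructor
    · rintro ⟨_, ⟨t, rfl⟩, rfl⟩
      exact ⟨t, rfl⟩
    · rintro ⟨t, rfl⟩
      exact ⟨_, Nodes.RGDTypeA.tv_mem_XX _ _ _, rfl⟩
  have hinj : ∀ t : F, Nodes.RGDTypeA.pr 2 F (tv (0 : Fin 2).castSucc (0 : Fin 2).succ t) = 1 → t = 0 := by
    intro t h
    have h1 : tv (0 : Fin 2).castSucc (0 : Fin 2).succ t ∈
        Subgroup.center (Matrix.SpecialLinearGroup (Fin (2 + 1)) F) := (QuotientGroup.eq_one_iff _).1 h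
    rw [Matrix.SpecialLinearGroup.mem_center_iff] at h1
    obtain ⟨r, -, hr⟩ := h1
    have hr' : Matrix.scalar (Fin (2 + 1)) r = 1 + Matrix.single (0 : Fin 2).castSucc (0 : Fin 2).succ t :=
      hr.trans (Nodes.RGDTypeA.tv_val hne t)
    have h2 := congrArg (fun g : Matrix (Fin (2 + 1)) (Fin (2 + 1)) F => g (0 : Fin 2).castSucc (0 : Fin 2).succ) hr'
    rw [Matrix.scalar_apply] at h2
    simp only [Matrix.diagonal_apply_ne _ hne, Matrix.add_apply, Matrix.one_apply_ne hne, zero_add,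
      Matrix.single_apply_same] at h2
    exact h2.symm
  have h0 : Rk f ((Nodes.RGDTypeA.X (n := 2) F (sr 0)).map (Nodes.RGDTypeA.pr 2 F)) := by
    refine rk_of_par (fun t => Nodes.RGDTypeA.pr 2 F (tv (0 : Fin 2).castSucc (0 : Fin 2).succ t))
      (fun a b => by rw [tv_add, map_mul]) (fun x hx => (hmem x).1 hx) (le_trans hF ?_)
    refine Nat.card_le_card_of_injective (fun t => (⟨_, (hmem _).2 ⟨t, rfl⟩⟩ :
      (Nodes.RGDTypeA.X (n := 2) F (sr 0)).map (Nodes.RGDTypeA.pr 2 F))) fun a b e => ?_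
    have e1 := congrArg Subtype.val e
    change Nodes.RGDTypeA.pr 2 F (tv _ _ a) = Nodes.RGDTypeA.pr 2 F (tv _ _ b) at e1
    have e2 := hinj (a - b) (by
      have e3 : tv (0 : Fin 2).castSucc (0 : Fin 2).succ (a - b + b) =
        tv (0 : Fin 2).castSucc (0 : Fin 2).succ (a - b) * tv (0 : Fin 2).castSucc (0 : Fin 2).succ b := tv_add _ _ _ _
      rw [sub_add_cancel] at e3
      have e4 := congrArg (Nodes.RGDTypeA.pr 2 F) e3
      rw [map_mul, e1] at e4
      exact right_eq_mul.1 e4)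
    exact sub_eq_zero.1 e2
  exact rkS_of_subgroup R.isPGroup_Upos (index_U' R hG) (rk_two R (i := 0) (j := 1) (by decide) h0 (rk_X R 1))

end ranks

section witt

open Cfsg.Agent.ChevalleyStructure.CoxeterGeom Cfsg.Agent.Tits.Roots
open Cfsg.Agent.Nodes Cfsg.Agent.Nodes.Comb Cfsg.Agent.Nodes.WittAll Cfsg.Agent.Nodes.WittU Cfsg.Agent.Nodes.WittInst
  Cfsg.Agent.Nodes.WittRoot Cfsg.Agent.Nodes.TypeC Cfsg.Agent.Nodes.WittRGD
  Cfsg.Agent.TitsThree Cfsg.Agent.TitsThree.Siegel Cfsg.Agent.TitsThree.SiegelGen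
  Cfsg.Agent.TitsThree.WittFrame Cfsg.Agent.TitsThree.WBridge Cfsg.Agent.TitsThree.WittWeyl
  Cfsg.Agent.TitsThree.FrameCN Cfsg.Agent.LieClassical.HermBasic Cfsg.Agent.TitsThree.KSideU

theorem rkS_witt {F : Type*} [Field F] [Finite F] [CharP F 2] {V : Type*} [AddCommGroup V] [Module F V] [Finite V]
    {H : HForm F V} {Fr : Frame H (Fin 2)} {K : Type*} [Group K] [Finite K] (M : Model Fr K)
    (hA : AmbT Fr 2 M.I) {p0 : Fr.Adm} (hp0 : p0.c ≠ 0) {f : ℕ} (h4 : 2 ^ f ≤ Nat.card F) : RkS (f + 1) K := by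
  have : Fact (Nat.Prime 2) := ⟨Nat.prime_two⟩
  have hfin : Finite (CoxeterMatrix.B 2).Group := finite_W (CoxeterMatrix.B 2).toCoxeterSystem
  have R := rgdC_model M hA hp0 (CoxeterMatrix.B 2).toCoxeterSystem
  have hGG := H807.CubePar.GG_eq_top (T := WittModel.T M)
    (WittModel.G1_eq_top M (by norm_num) (CoxeterMatrix.B 2).toCoxeterSystem)
  have hi : ((0 : Fin 2) : ℕ) + 1 < 2 := by norm_num
  have hne' : (((0 : Fin 2), true) : Fin 2 × Bool).1 ≠ (nx (0 : Fin 2)).1 := by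
    unfold nx; rw [dif_pos hi]; simp
  have h0 : Rk f (WittModel.X M (sr 0)) := by
    refine rk_of_par (fun t => M.φ ⟨Fr.X (0, true) (nx 0) t, hA.X_mem _ _ _⟩) (fun a b => ?_) ?_
      (by rw [H807.CubePar.card_short M hA hp0 hi]; exact h4)
    · rw [← map_mul]
      congr 1
      apply Subtype.ext
      change Fr.X (0, true) (nx 0) (a + b) = Fr.X (0, true) (nx 0) a * Fr.X (0, true) (nx 0) b
      exact Fr.X_add _ _ _ _
    · rintro _ ⟨⟨g, hgI⟩, hg, rfl⟩
      have h1 : g ∈ rg Fr (sr 0) := hg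
      rw [rg_sr, PG_ne Fr hne'] at h1
      obtain ⟨a, rfl⟩ := h1
      exact ⟨a, rfl⟩
  exact rkS_of_subgroup R.isPGroup_Upos (index_U' R hGG) (rk_two R (i := 0) (j := 1) (by decide) h0 (rk_X R 1))

theorem rkS_psp4 {F : Type*} [Field F] [Finite F] [CharP F 2] {f : ℕ} (h4 : 2 ^ f ≤ Nat.card F) :
    RkS (f + 1) (PSp 2 F) := by
  have : Fact (Nat.Prime 2) := ⟨Nat.prime_two⟩
  have : Finite (PSp 2 F) := inferInstance
  exact rkS_witt (KInstSp.model 2 F) (AmbT.of_amb amb_Sp 2) (p0 := SpIdent.adm 1) one_ne_zero h4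

theorem rkS_psu {F : Type*} [Field F] [Fintype F] [CharP F 2] {q N : ℕ} (hF : Fintype.card F = q ^ 2)
    (hN : N = 4 ∨ N = 5) {f : ℕ} (h4 : 2 ^ f ≤ Nat.card F) : RkS (f + 1) (PSU N F q) := by
  have : Fact (Nat.Prime 2) := ⟨Nat.prime_two⟩
  have : Finite (PSU N F q) := inferInstance
  obtain ⟨W, -⟩ := exists_wframe hF (m := 2) (N := N) (by omega)
  obtain ⟨p0, hp0, -⟩ := exists_adm hF W
  exact rkS_witt (KInstU.model hF (by omega) W) (AmbT.of_amb (amb_U hF W) 2) hp0 h4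

end witt

/-! ### the final theorem -/

section final

variable {S : Type u} [Group S]

/-- the special outer 2-automorphisms -/
def Special (τ : MulAut S) : Prop :=
  (∃ (F : Type) (_ : Field F) (_ : Fintype F) (f : ℕ), 2 ≤ f ∧ Fintype.card F = 2 ^ f ∧
    Nonempty (S ≃* Matrix.ProjectiveSpecialLinearGroup (Fin 2) F) ∧ Spec τ f) ∨
  (∃ (F : Type) (_ : Field F) (_ : Fintype F) (f : ℕ), 2 ≤ f ∧ Fintype.card F = (2 ^ f) ^ 2 ∧
    Nonempty (S ≃* PSU 3 F (2 ^ f)) ∧ Spec τ (2 * f)) ∨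
  (∃ (F : Type) (_ : Field F) (_ : Fintype F) (f : ℕ), 2 ≤ f ∧ Fintype.card F = 2 ^ f ∧
    Nonempty (S ≃* PSp 2 F) ∧ Spec τ (2 * f)) ∨
  ∃ (F : Type) (_ : Field F) (_ : Fintype F), Fintype.card F = 2 ∧
    Nonempty (S ≃* Matrix.ProjectiveSpecialLinearGroup (Fin 3) F)

theorem exists_pow_two (F : Type*) [Field F] [Fintype F] [CharP F 2] : ∃ f : ℕ, 1 ≤ f ∧ Fintype.card F = 2 ^ f := by
  obtain ⟨n, -, hn⟩ := FiniteField.card F 2
  exact ⟨n, n.pos, hn⟩

theorem exists_pow_two_of_pow {F : Type*} [Field F] [Fintype F] [CharP F 2] {q c : ℕ} (hc : c ≠ 0)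
    (hF : Fintype.card F = q ^ c) : ∃ f : ℕ, 1 ≤ f ∧ q = 2 ^ f := by
  obtain ⟨k, -, hk⟩ := exists_pow_two F
  have hq2 : q ∣ 2 ^ k := by rw [← hk, hF]; exact dvd_pow_self q hc
  obtain ⟨f, -, rfl⟩ := (Nat.dvd_prime_pow Nat.prime_two).1 hq2
  refine ⟨f, ?_, rfl⟩
  by_contra h0
  have h1 : f = 0 := by omega
  have h2 := Fintype.one_lt_card (α := F)
  rw [hF, h1, pow_zero, one_pow] at h2
  exact absurd h2 (by norm_num)

variable [Finite S]

theorem not_spec_three {τ : MulAut S} {f : ℕ} : ¬ Spec τ (3 * f) := by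
  rintro ⟨⟨b, hb⟩, -⟩
  have h1 : 3 ∣ 2 ^ b := ⟨f, hb.symm⟩
  have h2 := Nat.prime_three.dvd_of_dvd_pow h1
  exact absurd h2 (by norm_num)

theorem ext_of_dvd [IsSimpleGroup S] {l : ℕ} (hl : 0 < l) {M : CoxeterMatrix (Fin l)} (hS : HasRGDT 2 M S)
    {d : ℕ} (hd : RkS d S) (hN : ∀ g : MulAut S, (∃ m : ℕ, g ^ 2 ^ m = 1) →
      (∀ (k : ℤ) (s : S), g ^ k = MulAut.conj s → g ^ k = 1) → orderOf g < d) {τ : MulAut S} (hτ : TwoPow τ)
    (hn : ¬ IsInn τ) : D3 (AutExt τ) := by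
  have : Fact (Nat.Prime 2) := ⟨Nat.prime_two⟩
  obtain ⟨A, h, T, n, X, hW, R, hX⟩ := hS
  have : Finite M.Group := hW
  have : Nonempty (Fin l) := ⟨⟨0, hl⟩⟩
  have hG := H967.K4.gg_of_g1 (T := T) hX
  exact D3_of_rk' R hG (center_eq_bot R) (hd (R.isPGroup_Upos.toSylow (index_U' R hG))) hτ hn
    (fun g _ h1 h2 => hN g h1 h2)

theorem lt_congr {S' : Type v} [Group S'] (e : S ≃* S') {d : ℕ} (hN : ∀ g : MulAut S', (∃ m : ℕ, g ^ 2 ^ m = 1) →
      (∀ (k : ℤ) (s : S'), g ^ k = MulAut.conj s → g ^ k = 1) → orderOf g < d) (g : MulAut S)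
      (hm : ∃ m : ℕ, g ^ 2 ^ m = 1) (hdisj : ∀ (k : ℤ) (s : S), g ^ k = MulAut.conj s → g ^ k = 1) :
      orderOf g < d := by
  obtain ⟨m, hm⟩ := hm
  have h1 : orderOf (cg e g) = orderOf g := MulEquiv.orderOf_eq (MulAut.congr e) g
  rw [← h1]
  refine hN (cg e g) ⟨m, by rw [← cg_pow, hm]; exact map_one (MulAut.congr e)⟩ ?_
  intro k s hk
  have h2 : g ^ k = MulAut.conj (e.symm s) := by
    apply (MulAut.congr e).injective
    change cg e (g ^ k) = cg e (MulAut.conj (e.symm s))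
    rw [cg_zpow, hk, cg_conj, MulEquiv.apply_symm_apply]
  rw [← cg_zpow, hdisj k _ h2]
  exact map_one (MulAut.congr e)

/-- **`D3 (AutExt τ)` in characteristic two.** -/
theorem d3_ext_two [IsSimpleGroup S] (hS : IsLieTypeChar 2 S) {τ : MulAut S} (hτ : TwoPow τ) (hn : ¬ IsInn τ) :
    D3 (AutExt τ) ∨ Special τ := by
  have : Fact (Nat.Prime 2) := ⟨Nat.prime_two⟩
  rcases hS with h | h | h | h | h | h | h | h | ⟨-, h⟩ | ⟨-, h⟩ | ⟨h, -⟩
  · obtain ⟨F, _, _, _, n, hn2, hn4, ⟨e⟩⟩ := h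
    obtain ⟨f, hf, hF⟩ := exists_pow_two F
    rcases Nat.lt_or_ge n 4 with h4 | h4
    · obtain rfl | rfl : n = 2 ∨ n = 3 := by omega
      · -- `PSL₂`
        have hf2 : 2 ≤ f := by
          by_contra h0
          have h1 : f = 1 := by omega
          have h5 := hn4 rfl
          rw [hF, h1] at h5
          omega
        rcases alt (by norm_num) ((typ_PSL 1).of_equiv e.symm) (rkS_congr e (rkS_psl2 hf hF))
          (outExp_congr e (outExp_psl2 hf2 hF)) (by omega) (by omega) hτ hn with h | ⟨-, h⟩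
        · exact Or.inl h
        · exact Or.inr (Or.inl ⟨F, inferInstance, inferInstance, f, hf2, hF, ⟨e⟩, h⟩)
      · -- `PSL₃`
        rcases Nat.lt_or_ge f 2 with h1 | h1
        · have h2 : f = 1 := by omega
          rw [h2, pow_one] at hF
          exact Or.inr (Or.inr (Or.inr (Or.inr ⟨F, inferInstance, inferInstance, hF, ⟨e⟩⟩)))
        · refine Or.inl (ext_of_dvd (by norm_num) ((typ_PSL 2).of_equiv e.symm)
            (rkS_congr e (rkS_psl3 (f := f) (by rw [Nat.card_eq_fintype_card, hF]))) ?_ hτ hn)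
          exact lt_congr e fun g h2 h3 => outExp_psl3' h1 hF h2 h3
    · obtain ⟨m, rfl⟩ : ∃ m, n = m + 1 := ⟨n - 1, by omega⟩
      have hl := leaf_cA (n := m) (by omega)
      exact Or.inl (ext_of_leaf ((typ_PSL m).of_equiv e.symm) hl.1 hl.2 hτ hn)
  · obtain ⟨F, _, _, _, m, hm, h3, ⟨e⟩⟩ := h
    obtain ⟨f, hf, hF⟩ := exists_pow_two F
    rcases Nat.lt_or_ge m 3 with h4 | h4
    · obtain rfl : m = 2 := by omega
      have hf2 : 2 ≤ f := by
        by_contra h0
        have h1 : f = 1 := by omega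
        have h5 := h3 rfl
        rw [hF, h1] at h5
        omega
      rcases alt (by norm_num) ((typ_PSp (m := 2) (by norm_num)).of_equiv e.symm)
        (rkS_congr e (rkS_psp4 (f := f) (by rw [Nat.card_eq_fintype_card, hF])))
        (outExp_congr e (outExp_psp4 hf hF)) (by omega) (by omega) hτ hn with h | ⟨-, h⟩
      · exact Or.inl h
      · exact Or.inr (Or.inr (Or.inr (Or.inl ⟨F, inferInstance, inferInstance, f, hf2, hF, ⟨e⟩, h⟩)))
    · have hl := leaf_B (n := m) h4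
      exact Or.inl (ext_of_leaf ((typ_PSp (m := m) (by omega)).of_equiv e.symm) hl.1 hl.2 hτ hn)
  · obtain ⟨F, _, _, _, n, q, hF, hn3, h32, ⟨e⟩⟩ := h
    obtain ⟨f, hf, rfl⟩ := exists_pow_two_of_pow two_ne_zero hF
    have hcF : 2 ^ (2 * f) ≤ Nat.card F := by
      rw [Nat.card_eq_fintype_card, hF, ← pow_mul, mul_comm]
    rcases Nat.lt_or_ge n 6 with h8 | h8
    · obtain ⟨m, hm, hR⟩ := typ_PSU (p := 2) hF hn3
      obtain rfl | h45 : n = 3 ∨ (n = 4 ∨ n = 5) := by omega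
      · have hf2 : 2 ≤ f := by
          by_contra h0
          have h1 : f = 1 := by omega
          exact h32 ⟨rfl, by rw [h1]; norm_num⟩
        rcases alt (l := m) (by omega) (hR.of_equiv e.symm) (rkS_congr e (rkS_psu3 hf hF))
          (outExp_congr e (outExp_psu hf hF le_rfl h32)) (by omega) (by omega) hτ hn with h | ⟨-, h⟩
        · exact Or.inl h
        · exact Or.inr (Or.inr (Or.inl ⟨F, inferInstance, inferInstance, f, hf2, hF, ⟨e⟩, h⟩))
      · rcases alt (l := m) (by omega) (hR.of_equiv e.symm) (rkS_congr e (rkS_psu hF h45 hcF))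
          (outExp_congr e (outExp_psu hf hF hn3 h32)) (by omega) (by omega) hτ hn with h | ⟨h, -⟩
        · exact Or.inl h
        · omega
    · obtain ⟨m, hm, hR⟩ := typ_PSU (p := 2) hF hn3
      have hl := leaf_B (n := m) (by omega)
      exact Or.inl (ext_of_leaf (hR.of_equiv e.symm) hl.1 hl.2 hτ hn)
  · obtain ⟨F, _, _, _, m, hm, ho, ⟨e⟩⟩ := h
    exfalso
    have h1 : (2 : ℕ) ∣ Fintype.card F := by
      obtain ⟨k, hk, hk2⟩ := FiniteField.card F 2
      rw [hk2]
      exact dvd_pow_self _ k.ne_zero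
    exact (Nat.not_even_iff_odd.2 ho) (even_iff_two_dvd.2 h1)
  · obtain ⟨F, _, _, _, m, hm, ⟨e⟩⟩ := h
    obtain ⟨n, rfl⟩ : ∃ n, m = n + 3 := ⟨m - 3, by omega⟩
    have hl := leaf_D n
    exact Or.inl (ext_of_leaf ((typ_PO_plus n).of_equiv e.symm) hl.1 hl.2 hτ hn)
  · obtain ⟨F, _, _, _, m, a, b, hm, hab, ⟨e⟩⟩ := h
    have hl := leaf_B (n := m - 1) (by omega)
    exact Or.inl (ext_of_leaf ((typ_PO_minus hab (by omega)).of_equiv e.symm) hl.1 hl.2 hτ hn)
  · obtain ⟨F, _, _, _, h⟩ := h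
    obtain ⟨f, hf, hF⟩ := exists_pow_two F
    rcases h with ⟨h3, ⟨e⟩⟩ | ⟨⟨e⟩⟩ | ⟨⟨e⟩⟩ | ⟨⟨e⟩⟩ | ⟨⟨e⟩⟩
    · have hf2 : 2 ≤ f := by
        by_contra h0
        have h1 : f = 1 := by omega
        rw [hF, h1] at h3
        omega
      rcases alt (M := CoxeterMatrix.G₂) (by norm_num)
        ((typ_group (by simp [Nodes.RGDChev.IsType, Nodes.RGDChev.typeList]) F 2).of_equiv e.symm)
        (rkS_congr e (rkS_G2 F (f := f) hF.ge)) (outExp_congr e (outExp_G2 hf2 hF)) (by omega) (by omega) hτ hn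
        with h | ⟨h, -⟩
      · exact Or.inl h
      · omega
    · exact Or.inl (ext_of_leaf (M := CoxeterMatrix.F₄)
        ((typ_group (by simp [Nodes.RGDChev.IsType, Nodes.RGDChev.typeList]) F 2).of_equiv e.symm)
        leaf_F4.1 leaf_F4.2 hτ hn)
    · exact Or.inl (ext_of_leaf (M := CoxeterMatrix.E₆)
        ((typ_group (by simp [Nodes.RGDChev.IsType, Nodes.RGDChev.typeList]) F 2).of_equiv e.symm)
        leaf_E6.1 leaf_E6.2 hτ hn)
    · exact Or.inl (ext_of_leaf (M := CoxeterMatrix.E₇)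
        ((typ_group (by simp [Nodes.RGDChev.IsType, Nodes.RGDChev.typeList]) F 2).of_equiv e.symm)
        leaf_E7.1 leaf_E7.2 hτ hn)
    · exact Or.inl (ext_of_leaf (M := CoxeterMatrix.E₈)
        ((typ_group (by simp [Nodes.RGDChev.IsType, Nodes.RGDChev.typeList]) F 2).of_equiv e.symm)
        leaf_E8.1 leaf_E8.2 hτ hn)
  · obtain ⟨K, _, _, _, q, hq, ⟨hK, ⟨e⟩⟩ | ⟨hK, ⟨e⟩⟩⟩ := h
    · exact Or.inl (ext_of_leaf ((typ_twE6 hq hK 2).of_equiv e.symm) leaf_F4.1 leaf_F4.2 hτ hn)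
    · obtain ⟨f, hf, rfl⟩ := exists_pow_two_of_pow three_ne_zero hK
      have hK' : Fintype.card K = 2 ^ (3 * f) := by rw [hK, ← pow_mul, mul_comm]
      rcases alt (by norm_num) ((typ_twD4 hq hK 2).of_equiv e.symm)
        (rkS_congr e (rkS_tD4 K hq hK (d := 3 * f) (by rw [← pow_mul, mul_comm])))
        (outExp_congr e (outExp_tD4 hf hK')) (by omega) (by omega) hτ hn with h | ⟨-, h⟩
      · exact Or.inl h
      · exact absurd h not_spec_three
  · obtain ⟨F, _, _, m, hm, hF, ⟨e⟩⟩ := h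
    have hfin : Finite (Cfsg.Lie.Sz F (2 ^ (m + 1))) := inferInstance
    exact absurd (isInn_of_odd' e (by rw [S2126.result hm hF]; exact ⟨m, rfl⟩) hτ) hn
  · obtain ⟨K, _, _, m, hm, hK, ⟨e⟩⟩ := h
    have hfin : Finite ↥(Lie.twistedF4 K (2 ^ m)) := Finite.of_equiv S e.toEquiv
    exact absurd (isInn_of_odd' e (by rw [S2128.result hm hK]; exact ⟨m, rfl⟩) hτ) hn
  · exact absurd h (by decide)

end final

end Cfsg.Agent.H151.K547
end

-- part: H42/K547/PSU3Spec
section
/-!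
# S4547, `PSU₃(q)`, `q` even: the special rows (helper42)

`τ` is an automorphism of `PSU₃(q)`, `q = 2 ^ f`, `2 f = 2 ^ b`, whose class in `Out` has order `2 f`: then neither
`GInv3 τ` nor `D3 (AutExt τ)` (`H967.K547.Special.not_special`).
-/

set_option autoImplicit false
set_option linter.unusedSectionVars false

open Cfsg

namespace Cfsg.Agent.H42.K547.PSU3

open Cfsg.Agent.H601.K4 Cfsg.Agent.H821.K547 Cfsg.Agent.LieRecognition.RankOneAbstract
open Cfsg.Agent.H705.PSU Cfsg.Agent.UThreeGen.MatGroup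
open Cfsg.Agent.HKS.EndU (tor tmat tor_val tor_mem act tor_emb ci ci_val wel_tor exists_tor tor_mem_center sne tor_conj)
open Cfsg.Agent.H805.K547.PSU3

universe u

open Matrix

section model

variable {F : Type*} [Field F] [Fintype F] {q : ℕ} {σ : F →+* F} [hσ : Fact (∀ x, σ (σ x) = x)]
  {M : Type u} [Group M] {π : SUG σ →* M}

/-- the centre of `SU₃(q)` is trivial if `3` does not divide `q + 1` -/
theorem center_eq_one (E : _root_.Cfsg.Agent.H705.PSU.Mod q π) (h3 : Nat.Coprime 3 (q + 1)) {z : SUG σ}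
    (hz : z ∈ Subgroup.center (SUG σ)) : z = 1 := by
  obtain ⟨x₀, hx₀⟩ := E.exists_ne
  have h1 : z ∈ _root_.Cfsg.Agent.UThreeGen.MatGroup.borel σ := center_le_borel ⟨x₀, hx₀⟩ hz
  have h2 : (wel σ)⁻¹ * z * wel σ ∈ _root_.Cfsg.Agent.UThreeGen.MatGroup.borel σ := by
    rw [mul_assoc, ← (Subgroup.mem_center_iff.1 hz (wel σ)), inv_mul_cancel_left]
    exact h1
  obtain ⟨l, rfl⟩ := exists_tor h1 h2
  have h4 := Subgroup.mem_center_iff.1 hz (emb σ x₀)
  rw [tor_emb] at h4
  have h5 : x₀ = act l x₀ := emb_injective (mul_right_cancel h4)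
  have ha : x₀.a = (l : F) ^ 2 / σ (l : F) * x₀.a := congrArg HG.a h5
  have hb : x₀.b = (l : F) * σ (l : F) * x₀.b := congrArg HG.b h5
  have hx1 : x₀ ≠ 1 := by
    rintro rfl
    exact hx₀ one_a
  have hb0 := b_ne_zero hx1
  have e1 : (l : F) ^ 2 / σ (l : F) = 1 := mul_right_cancel₀ hx₀ (by rw [one_mul]; exact ha.symm)
  have e2 : (l : F) * σ (l : F) = 1 := mul_right_cancel₀ hb0 (by rw [one_mul]; exact hb.symm)
  have e3 : (l : F) ^ 2 = σ (l : F) := by
    rwa [div_eq_one_iff_eq (sne l)] at e1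
  have h6 : l ^ 3 = 1 := by
    apply Units.ext
    rw [Units.val_pow_eq_pow_val, Units.val_one, pow_succ', e3, e2]
  have h7 : l ^ (q + 1) = 1 := by
    apply Units.ext
    rw [Units.val_pow_eq_pow_val, Units.val_one, pow_succ', ← E.pow, e2]
  have h8 : orderOf l ∣ 1 := by
    rw [← h3.gcd_eq_one]
    exact Nat.dvd_gcd (orderOf_dvd_of_pow_eq_one h6) (orderOf_dvd_of_pow_eq_one h7)
  rw [orderOf_eq_one_iff.1 (Nat.dvd_one.1 h8), map_one]

theorem pi_inj (E : _root_.Cfsg.Agent.H705.PSU.Mod q π) (h3 : Nat.Coprime 3 (q + 1)) {g h : SUG σ} (e : π g = π h) : g = h := by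
  have h1 : π (g * h⁻¹) = 1 := by rw [map_mul, map_inv, e, mul_inv_cancel]
  exact mul_inv_eq_one.1 (center_eq_one E h3 ((E.ker _).1 h1))

/-- the corner entry is multiplicative on the Borel subgroup -/
theorem mul_zero_zero {g h : SUG σ} (hh : h ∈ _root_.Cfsg.Agent.UThreeGen.MatGroup.borel σ) : (g * h).1.1 0 0 = g.1.1 0 0 * h.1.1 0 0 := by
  rw [mem_borel] at hh
  rw [coe_mul_SUG, Matrix.mul_apply, Fin.sum_univ_three, hh.1, hh.2]
  ring

theorem zero_zero_ne {g : SUG σ} (hg : g ∈ _root_.Cfsg.Agent.UThreeGen.MatGroup.borel σ) : g.1.1 0 0 ≠ 0 := by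
  intro h0
  have h1 := mul_zero_zero (g := g⁻¹) hg
  rw [inv_mul_cancel, h0, mul_zero] at h1
  exact one_ne_zero h1

/-- an element of the Borel subgroup fixed by `ρ` modulo conjugation -/
theorem mem_U_of_fix (E : _root_.Cfsg.Agent.H705.PSU.Mod q π) (h3 : Nat.Coprime 3 (q + 1)) {ρ : F ≃+* F} (hρ : ∀ a, ρ a = a → a = 0 ∨ a = 1)
    {k y : M} (hk : k ∈ (_root_.Cfsg.Agent.UThreeGen.MatGroup.borel σ).map π) (hy : y ∈ (_root_.Cfsg.Agent.UThreeGen.MatGroup.borel σ).map π) (h : k * fld E ρ y * k⁻¹ = y) :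
    y ∈ (emb σ).range.map π := by
  obtain ⟨k', hk', rfl⟩ := hk
  obtain ⟨g, hg, rfl⟩ := hy
  rw [fld_apply, ← map_inv, ← map_mul, ← map_mul] at h
  have h1 := pi_inj E h3 h
  have h2 : k' * fldS E.pow ρ g = g * k' := mul_inv_eq_iff_eq_mul.1 h1
  have hg' : fldS E.pow ρ g ∈ _root_.Cfsg.Agent.UThreeGen.MatGroup.borel σ := by
    have hg0 := mem_borel.1 hg
    rw [mem_borel, fldS_val, fldS_val, hg0.1, hg0.2, map_zero]
    exact ⟨rfl, rfl⟩
  have h4 : (k' * fldS E.pow ρ g).1.1 0 0 = (g * k').1.1 0 0 := by rw [h2]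
  rw [mul_zero_zero hg', mul_zero_zero hk', fldS_val, mul_comm (g.1.1 0 0)] at h4
  have h5 := mul_left_cancel₀ (zero_zero_ne hk') h4
  have h6 : g.1.1 0 0 = 1 := (hρ _ h5).resolve_left (zero_zero_ne hg)
  have hg0 := mem_borel.1 hg
  exact Subgroup.mem_map_of_mem _ (mem_range_of_col h6 hg0.1 hg0.2)

/-- a unit of `F` of trace one -/
theorem exists_b (E : _root_.Cfsg.Agent.H705.PSU.Mod q π) : ∃ b : F, b + σ b = 1 := by
  obtain ⟨x, hx⟩ := H212.U3.Model.exists_a E.card E.pow (σ := σ) 1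
  refine ⟨x.b, ?_⟩
  rw [x.h, hx, map_one, mul_one]

/-- linear characters of `HG σ` are trivial on the elements with `a = 0` -/
theorem hom_eq_one [CharP F 2] (E : _root_.Cfsg.Agent.H705.PSU.Mod q π) (L : HG σ →* ℤˣ) {x : HG σ} (hx : x.a = 0) : L x = 1 := by
  obtain ⟨b, hb⟩ := exists_b E
  have hc : σ x.b = x.b := by
    have h1 := x.h
    rw [hx, zero_mul, add_comm] at h1
    exact CharTwo.add_eq_zero.1 h1
  obtain ⟨y, hy⟩ := H212.U3.Model.exists_a E.card E.pow (σ := σ) (x.b * b)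
  obtain ⟨z, hz⟩ := H212.U3.Model.exists_a E.card E.pow (σ := σ) 1
  have e : y * z = x * (z * y) := by
    ext
    · rw [mul_a, mul_a, mul_a, hx, zero_add, add_comm]
    · simp only [mul_b, mul_a, hx, hy, hz, map_mul, hc, map_one, zero_mul, add_zero, mul_one, one_mul]
      have h2 : (2 : F) = 0 := CharTwo.two_eq_zero
      linear_combination x.b * hb - x.b * σ b * h2
  have h1 := congrArg L e
  rw [map_mul, map_mul, map_mul, mul_comm (L z) (L y)] at h1
  exact (mul_eq_right.1 h1.symm)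

/-- the value depends only on `a` -/
theorem hom_eq_of_a [CharP F 2] (E : _root_.Cfsg.Agent.H705.PSU.Mod q π) (L : HG σ →* ℤˣ) {x y : HG σ} (h : x.a = y.a) : L x = L y := by
  have h1 : L (x⁻¹ * y) = 1 := hom_eq_one E L (by rw [mul_a, inv_a, h, neg_add_cancel])
  rw [map_mul, map_inv] at h1
  exact (inv_mul_eq_one.1 h1)

/-- the linear characters of `HG σ` invariant under `a ↦ d * ρ a` -/
theorem hom_unique [CharP F 2] (E : _root_.Cfsg.Agent.H705.PSU.Mod q π) {ρ : F ≃+* F} (hρ : ∀ a, ρ a = a → a = 0 ∨ a = 1) {d : F} (hd : d ≠ 0)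
    {L L' : HG σ →* ℤˣ} (hL : ∀ x y : HG σ, y.a = d * ρ x.a → L y = L x)
    (hL' : ∀ x y : HG σ, y.a = d * ρ x.a → L' y = L' x) (h1 : L ≠ 1) (h1' : L' ≠ 1) : L = L' := by
  classical
  let D : F →+ F := (AddMonoidHom.mulLeft d).comp (ρ : F →+* F).toAddMonoidHom - AddMonoidHom.id F
  have hD : ∀ a, D a = d * ρ a - a := fun _ => rfl
  have hker : Nat.card D.ker ≤ 2 := by
    by_contra hlt
    have hcard : 2 < Nat.card D.ker := by omega
    have : ∃ x y : D.ker, x ≠ 0 ∧ y ≠ 0 ∧ x ≠ y := by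
      have h3 : 2 < Fintype.card D.ker := by rwa [← Nat.card_eq_fintype_card]
      obtain ⟨a, b, c, hab, hac, hbc⟩ := Fintype.two_lt_card_iff.1 h3
      by_cases ha : a = 0
      · exact ⟨b, c, fun h => hab (ha.trans h.symm), fun h => hac (ha.trans h.symm), hbc⟩
      · by_cases hb : b = 0
        · exact ⟨a, c, ha, fun h => hbc (hb.trans h.symm), hac⟩
        · exact ⟨a, b, ha, hb, hab⟩
    obtain ⟨⟨x, hx⟩, ⟨y, hy⟩, hx0, hy0, hxy⟩ := this
    rw [AddMonoidHom.mem_ker, hD, sub_eq_zero] at hx hy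
    have hx0' : x ≠ 0 := fun h => hx0 (Subtype.ext h)
    have hy0' : y ≠ 0 := fun h => hy0 (Subtype.ext h)
    have hρy : ρ y ≠ 0 := (map_ne_zero ρ).2 hy0'
    have h2 : ρ (x / y) = x / y := by
      rw [map_div₀]
      rw [div_eq_div_iff hρy hy0']
      have : d * (ρ x * y) = d * (x * ρ y) := by
        linear_combination y * hx - x * hy
      exact mul_left_cancel₀ hd this
    rcases hρ _ h2 with h3 | h3
    · rcases div_eq_zero_iff.1 h3 with h4 | h4
      · exact hx0' h4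
      · exact hy0' h4
    · exact hxy (Subtype.ext ((div_eq_one_iff_eq hy0').1 h3))
  have hidx : D.range.index ≤ 2 := by
    have h2 : Nat.card F = Nat.card D.range * D.range.index := (AddSubgroup.card_mul_index _).symm
    have h3 : Nat.card F = Nat.card D.ker * D.ker.index := (AddSubgroup.card_mul_index _).symm
    rw [AddSubgroup.index_ker, mul_comm] at h3
    have h4 : 0 < Nat.card D.range := Nat.card_pos
    rw [Nat.eq_of_mul_eq_mul_left h4 (h2.symm.trans h3)]
    exact hker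
  have hone : ∀ {K : HG σ →* ℤˣ}, (∀ x y : HG σ, y.a = d * ρ x.a → K y = K x) → ∀ x : HG σ, x.a ∈ D.range → K x = 1 := by
    rintro K hK x ⟨c, hc⟩
    rw [hD] at hc
    obtain ⟨y, hy⟩ := H212.U3.Model.exists_a E.card E.pow (σ := σ) c
    have h3 : K (x * y) = K y := hK y (x * y) (by rw [mul_a, ← hc, hy, sub_add_cancel])
    rw [map_mul] at h3
    exact mul_eq_right.1 h3
  have hadd : ∀ {a b : F}, a ∉ D.range → b ∉ D.range → a + b ∈ D.range := by
    intro a b ha hb
    have h2 : D.range.index = 2 := by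
      have h3 : D.range.index ≠ 0 := AddSubgroup.index_ne_zero_of_finite
      have h4 : D.range.index ≠ 1 := by
        intro h5
        rw [AddSubgroup.index_eq_one] at h5
        exact ha (h5 ▸ AddSubgroup.mem_top a)
      omega
    exact (AddSubgroup.add_mem_iff_of_index_two h2).2 ⟨fun h => absurd h ha, fun h => absurd h hb⟩
  have hval : ∀ {K : HG σ →* ℤˣ}, (∀ x y : HG σ, y.a = d * ρ x.a → K y = K x) → K ≠ 1 →
      ∀ x : HG σ, x.a ∉ D.range → K x = -1 := by
    intro K hK hK1 x hx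
    have h2 : ∃ x₀, K x₀ ≠ 1 := by
      by_contra hcon
      push Not at hcon
      exact hK1 (MonoidHom.ext hcon)
    obtain ⟨x₀, hx₀⟩ := h2
    have h3 : x₀.a ∉ D.range := fun h => hx₀ (hone hK x₀ h)
    have h4 := hone hK (x * x₀) (by rw [mul_a]; exact hadd hx h3)
    rw [map_mul] at h4
    rcases Int.units_eq_one_or (K x) with h5 | h5
    · rw [h5, one_mul] at h4
      exact absurd h4 hx₀
    · exact h5
  ext x
  by_cases hx : x.a ∈ D.range
  · rw [hone hL x hx, hone hL' x hx]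
  · rw [hval hL h1 x hx, hval hL' h1' x hx]

/-- Borel elements act on the first coordinate by scalars -/
theorem exists_dec {k : SUG σ} (hk : k ∈ _root_.Cfsg.Agent.UThreeGen.MatGroup.borel σ) : ∃ (u : HG σ) (c : Fˣ), k = emb σ u * tor σ c := by
  have h0 := zero_zero_ne hk
  set c : Fˣ := Units.mk0 _ h0 with hc
  have hci : tor σ c⁻¹ ∈ _root_.Cfsg.Agent.UThreeGen.MatGroup.borel σ := tor_mem _
  have h1 : k * tor σ c⁻¹ ∈ _root_.Cfsg.Agent.UThreeGen.MatGroup.borel σ := (_root_.Cfsg.Agent.UThreeGen.MatGroup.borel σ).mul_mem hk hci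
  have h2 : (k * tor σ c⁻¹).1.1 0 0 = 1 := by
    rw [mul_zero_zero hci, tor_val]
    show k.1.1 0 0 * ((c⁻¹ : Fˣ) : F) = 1
    rw [Units.val_inv_eq_inv_val, hc, Units.val_mk0, mul_inv_cancel₀ h0]
  obtain ⟨u, hu⟩ := mem_range_of_col h2 (mem_borel.1 h1).1 (mem_borel.1 h1).2
  refine ⟨u, c, ?_⟩
  rw [hu, mul_assoc, ← map_mul, inv_mul_cancel, map_one, mul_one]

theorem conj_emb {u : HG σ} {c : Fˣ} (x : HG σ) :
    emb σ u * tor σ c * emb σ x * (emb σ u * tor σ c)⁻¹ = emb σ (u * act c x * u⁻¹) := by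
  rw [_root_.mul_inv_rev, mul_assoc (emb σ u), tor_emb, map_mul, map_mul, map_inv]
  group

end model

section generator

/-- a generator of the Galois group has the fixed field `F₂` -/
theorem fix_of_orderOf {F : Type*} [Field F] [Fintype F] [CharP F 2] {ρ : F ≃+* F} (h : Nat.card (F ≃+* F) ≤ orderOf ρ) {a : F}
    (ha : ρ a = a) : a = 0 ∨ a = 1 := by
  have hfin : Finite (F ≃+* F) := Finite.of_injective (fun f : F ≃+* F => (f : F → F)) DFunLike.coe_injective
  have h1 : Nat.card (Subgroup.zpowers ρ) = Nat.card (F ≃+* F) := by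
    rw [Nat.card_zpowers]
    exact le_antisymm (Nat.le_of_dvd Nat.card_pos (orderOf_dvd_natCard ρ)) h
  have h2 : Subgroup.zpowers ρ = ⊤ := Subgroup.eq_top_of_card_eq _ h1
  have h3 : frobeniusEquiv F 2 ∈ Subgroup.zpowers ρ := by rw [h2]; exact Subgroup.mem_top _
  have h4 : ρ ∈ MulAction.stabilizer (F ≃+* F) a := ha
  have h5 : frobeniusEquiv F 2 ∈ MulAction.stabilizer (F ≃+* F) a := (Subgroup.zpowers_le.2 h4) h3
  have h6 : a ^ 2 = a := h5
  have h7 : a * (a - 1) = 0 := by linear_combination h6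
  rcases mul_eq_zero.1 h7 with h8 | h8
  · exact Or.inl h8
  · exact Or.inr (sub_eq_zero.1 h8)

end generator

section main

open CoxeterSystem Cfsg.Agent.ChevalleyStructure.CoxeterGeom Cfsg.Agent.Tits.Roots Cfsg.Agent.Tits.Core
  Cfsg.Agent.Tits.Exchange Cfsg.Agent.Nodes.Reps Cfsg.Agent.Nodes.BNOf Cfsg.Agent.Nodes.StabComb
  Cfsg.Agent.Nodes.Bruhat Cfsg.Agent.Nodes.OppDec Cfsg.Agent.Nodes.LeviDec Cfsg.Agent.H53.HC
  Cfsg.Agent.H246.Dl Cfsg.Agent.KFacts.RgdAut Cfsg.Agent.KFacts.RgdDiag Cfsg.Agent.H307.QE Cfsg.Agent.H967.K4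
  Cfsg.Agent.H967.K547.Special Cfsg.Agent.Omega.ML.Ex.Typ

/-- the order of `ρ` -/
theorem le_orderOf {F : Type} [Field F] [Fintype F] {q : ℕ} {σ : F →+* F} [hσ : Fact (∀ x, σ (σ x) = x)]
    {M : Type u} [Group M] {π : SUG σ →* M} (E : _root_.Cfsg.Agent.H705.PSU.Mod q π) {N : ℕ} {τ x : MulAut M} {g : M} {ρ : F ≃+* F}
    (hx : x * τ * x⁻¹ = MulAut.conj g * fld E ρ) (hs : ∀ j : ℕ, IsInn (τ ^ j) → N ∣ j) : N ≤ orderOf ρ := by
  have hfin : Finite (F ≃+* F) := Finite.of_injective (fun f : F ≃+* F => (f : F → F)) DFunLike.coe_injective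
  refine Nat.le_of_dvd (orderOf_pos ρ) (hs _ ?_)
  obtain ⟨s, hs'⟩ := exists_pow_conj g (fld E ρ) (orderOf ρ)
  rw [← hx, ← map_pow, pow_orderOf_eq_one, map_one, mul_one, conj_pow] at hs'
  refine ⟨x⁻¹ s, fun y => ?_⟩
  have h1 : τ ^ orderOf ρ = x⁻¹ * MulAut.conj s * x := by rw [← hs']; group
  rw [h1, MulAut.mul_apply, MulAut.mul_apply, MulAut.conj_apply, map_mul, map_mul, map_inv, MulAut.inv_apply_self]

theorem not_spec {F : Type} [Field F] [Fintype F] [CharP F 2] {f b : ℕ} (hf : 2 ≤ f) (hb : 2 * f = 2 ^ b)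
    (hF : Fintype.card F = (2 ^ f) ^ 2) [IsSimpleGroup (PSU 3 F (2 ^ f))] {τ : MulAut (PSU 3 F (2 ^ f))}
    (hτ : TwoPow τ) (hs : ∀ j : ℕ, IsInn (τ ^ j) → 2 * f ∣ j) : ¬ GInv3 τ ∧ ¬ D3 (AutExt τ) := by
  have hp : Fact (Nat.Prime 2) := ⟨Nat.prime_two⟩
  have hq2 : 2 < 2 ^ f := by
    calc 2 < 2 ^ 2 := by norm_num
      _ ≤ 2 ^ f := Nat.pow_le_pow_right (by norm_num) hf
  have hq1 : 1 < 2 ^ f := by omega
  obtain ⟨σ, hσ, π, E⟩ := exists_mod F hF hq1
  have hfin : Finite (PSU 3 F (2 ^ f)) := Finite.of_surjective π E.surj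
  obtain ⟨x, g', ρ, hx⟩ := exists_red E hF hq2 hτ
  -- `3` does not divide `q + 1`
  have h3 : Nat.Coprime 3 (2 ^ f + 1) := by
    obtain ⟨c, rfl⟩ : ∃ c, b = c + 2 := by
      refine ⟨b - 2, ?_⟩
      have : 2 ≤ b := by
        by_contra hlt
        have h1 : b ≤ 1 := by omega
        have h2 : 2 ^ b ≤ 2 ^ 1 := Nat.pow_le_pow_right (by norm_num) h1
        omega
      omega
    have h1 : f = 2 * 2 ^ c := by
      rw [pow_add] at hb
      omega
    rw [h1, pow_mul, Nat.Prime.coprime_iff_not_dvd Nat.prime_three]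
    intro h
    have h2 : (2 ^ 2) ^ 2 ^ c ≡ 1 ^ 2 ^ c [MOD 3] := Nat.ModEq.pow _ rfl
    rw [one_pow] at h2
    have h4 := h2.add_right 1
    have h5 := (Nat.modEq_zero_iff_dvd.2 h).symm.trans h4
    exact absurd h5 (by decide)
  have hcard : Nat.card (F ≃+* F) = 2 * f :=
    Cfsg.Agent.Lib.FieldAutCard.card_ringAut (p := 2) (by omega) (by rw [hF, ← pow_mul, mul_comm])
  have hρ : ∀ a, ρ a = a → a = 0 ∨ a = 1 := fun a ha =>
    fix_of_orderOf (by rw [hcard]; exact le_orderOf E hx hs) ha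
  -- the root group datum
  obtain ⟨m, hm, hR⟩ := typ_PSU (p := 2) hF (N := 3) le_rfl
  obtain rfl : m = 1 := by omega
  obtain ⟨A, h, T, n, X, hW, R, hX⟩ := hR
  have : Finite (CoxeterMatrix.B 1).Group := hW
  have hG := H967.K4.gg_of_g1 (T := T) hX
  obtain ⟨g, σ', hN⟩ := exists_nrm R hG hτ
  set β := MulAut.conj g * τ with hβ
  set U := RGD.Sup X (RGD.Pos (CoxeterMatrix.B 1).toCoxeterSystem h) with hU
  -- conjugation of `U` onto the model
  obtain ⟨P₀, hP₀⟩ := E.exists_syl (r := 2) hq1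
  let SU : Sylow 2 (PSU 3 F (2 ^ f)) := R.isPGroup_Upos.toSylow (H151.K547.index_U' R hG)
  have hSU : (SU : Subgroup (PSU 3 F (2 ^ f))) = U := rfl
  obtain ⟨t₀, ht₀⟩ := MulAction.exists_smul_eq (PSU 3 F (2 ^ f)) (x • SU) P₀
  set φ : MulAut (PSU 3 F (2 ^ f)) := MulAut.conj t₀ * x with hφ
  have hφU : ∀ u, φ u ∈ (emb σ).range.map π ↔ u ∈ U := by
    intro u
    rw [← hP₀, ← ht₀, Sylow.coe_subgroup_smul, Subgroup.mem_pointwise_smul_iff_inv_smul_mem, Sylow.pointwise_smul_def,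
      Subgroup.mem_pointwise_smul_iff_inv_smul_mem, hSU]
    have e : x⁻¹ • (MulAut.conj t₀)⁻¹ • φ u = u := by
      show x⁻¹ ((MulAut.conj t₀)⁻¹ ((MulAut.conj t₀ * x) u)) = u
      rw [MulAut.mul_apply, MulAut.inv_apply_self, MulAut.inv_apply_self]
    exact Iff.of_eq (congrArg (· ∈ U) e)
  set k := t₀ * x g * g' * (fld E ρ t₀)⁻¹ with hk
  have hφβ : ∀ y, φ (β y) = k * fld E ρ (φ y) * k⁻¹ := by
    intro y
    have h1 : x (τ y) = g' * fld E ρ (x y) * g'⁻¹ := by
      have h2 : (x * τ * x⁻¹) (x y) = (MulAut.conj g' * fld E ρ) (x y) := by rw [hx]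
      rwa [MulAut.mul_apply, MulAut.mul_apply, MulAut.inv_apply_self, MulAut.mul_apply, MulAut.conj_apply] at h2
    rw [hφ, hβ, hk]
    simp only [MulAut.mul_apply, MulAut.conj_apply, map_mul, map_inv, h1]
    group
  have hkB : k ∈ (_root_.Cfsg.Agent.UThreeGen.MatGroup.borel σ).map π := by
    rw [← E.data.normalizer_eq (E.unip_ne hq1), Subgroup.mem_normalizer_iff]
    intro u'
    obtain ⟨y, hy⟩ : ∃ y, fld E ρ (φ y) = u' := ⟨φ⁻¹ ((fld E ρ)⁻¹ u'), by rw [MulAut.apply_inv_self, MulAut.apply_inv_self]⟩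
    rw [← hy, ← hφβ, fld_mem_U_iff, hφU, hφU]
    exact (hN.fixU y).symm
  -- not inner
  have ho : ¬ IsInn β := by
    rw [H967.K547.Special.isInn_conj]
    intro h1
    have h2 := hs 1 (by rwa [pow_one])
    have := Nat.le_of_dvd one_pos h2
    omega
  have hna : ¬ IsMulCommutative (PSU 3 F (2 ^ f)) := by
    intro hc
    obtain ⟨y, hy⟩ := exists_ne (1 : PSU 3 F (2 ^ f))
    exact hy (center_triv E hq1 y fun z => hc.1.1 y z)
  have key := not_special (R := R) hG hna hN ho (fun i j => ⟨0, Subsingleton.elim _ _⟩) ?_ ?_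
  · rw [hβ, autExt_conj] at key
    refine ⟨fun h1 => key.1 ?_, key.2⟩
    refine (gInv3_conj g⁻¹ ?_ :)
    rwa [← mul_assoc, ← map_mul, inv_mul_cancel, map_one, one_mul]
  · -- no fixed elements in the torus
    intro t ht hfix
    have h1 : k * fld E ρ (φ t) * k⁻¹ = φ t := by rw [← hφβ, hfix]
    have h2 : φ t ∈ (_root_.Cfsg.Agent.UThreeGen.MatGroup.borel σ).map π := by
      rw [← E.data.normalizer_eq (E.unip_ne hq1), Subgroup.mem_normalizer_iff]
      intro u'
      obtain ⟨y, rfl⟩ : ∃ y, φ y = u' := ⟨φ⁻¹ u', MulAut.apply_inv_self _ _ _⟩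
      rw [← map_inv, ← map_mul, ← map_mul, hφU, hφU]
      exact Subgroup.mem_normalizer_iff.1 (R.T_le_normalizer_U ht) y
    have h4 := (hφU t).1 (mem_U_of_fix E h3 hρ hkB h2 h1)
    have h5 : t ∈ U ⊓ T := ⟨h4, ht⟩
    rwa [hU, U_inf_T R, Subgroup.mem_bot] at h5
  · -- linear characters
    obtain ⟨k', hk', hkk⟩ := hkB
    obtain ⟨u₀, c, rfl⟩ := exists_dec hk'
    have hmem : ∀ y : HG σ, φ⁻¹ (π (emb σ y)) ∈ U := by
      intro y
      rw [← hφU, MulAut.apply_inv_self]
      exact Subgroup.mem_map_of_mem _ ⟨y, rfl⟩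
    let ψ : HG σ →* U := (φ⁻¹.toMonoidHom.comp (π.comp (emb σ))).codRestrict U hmem
    have hψ : Function.Surjective ψ := by
      rintro ⟨u, hu⟩
      obtain ⟨_, ⟨y, rfl⟩, hy⟩ := (hφU u).2 hu
      refine ⟨y, Subtype.ext ?_⟩
      show φ⁻¹ (π (emb σ y)) = u
      rw [hy, MulAut.inv_apply_self]
    have hd : (c : F) ^ 2 / σ (c : F) ≠ 0 := div_ne_zero (pow_ne_zero 2 c.ne_zero) (sne c)
    have hinv : ∀ l : U →* ℤˣ, (∀ (u : U) (hu : β u ∈ U), l ⟨β u, hu⟩ = l u) →
        ∀ y z : HG σ, z.a = (c : F) ^ 2 / σ (c : F) * ρ y.a → (l.comp ψ) z = (l.comp ψ) y := by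
      intro l hl y z hz
      have h1 : β (ψ y) = ψ (u₀ * _root_.Cfsg.Agent.HKS.EndU.act c (mapH E.pow ρ y) * u₀⁻¹) := by
        apply φ.injective
        rw [hφβ]
        show k * fld E ρ (φ (φ⁻¹ (π (emb σ y)))) * k⁻¹ = φ (φ⁻¹ (π (emb σ (u₀ * _root_.Cfsg.Agent.HKS.EndU.act c (mapH E.pow ρ y) * u₀⁻¹))))
        rw [MulAut.apply_inv_self, MulAut.apply_inv_self, ← conj_emb, ← hkk, fld_emb, ← map_inv, ← map_mul, ← map_mul]
      have h2 := hl (ψ y) ((hN.fixU _).2 (ψ y).2)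
      have h4 : (⟨β (ψ y), (hN.fixU _).2 (ψ y).2⟩ : U) = ψ (u₀ * _root_.Cfsg.Agent.HKS.EndU.act c (mapH E.pow ρ y) * u₀⁻¹) := Subtype.ext h1
      rw [h4] at h2
      show l (ψ z) = l (ψ y)
      rw [← h2]
      refine hom_eq_of_a E (l.comp ψ) ?_
      rw [hz, mul_a, mul_a, inv_a]
      show _ = u₀.a + (c : F) ^ 2 / σ (c : F) * ρ y.a + -u₀.a
      ring
    intro l l' hl hl' h1 h1'
    have h5 : l.comp ψ = l'.comp ψ := by
      refine hom_unique E hρ hd (hinv l hl) (hinv l' hl') (fun h => h1 ?_) fun h => h1' ?_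
      · exact (MonoidHom.cancel_right hψ).1 (h.trans (MonoidHom.one_comp ψ).symm)
      · exact (MonoidHom.cancel_right hψ).1 (h.trans (MonoidHom.one_comp ψ).symm)
    exact (MonoidHom.cancel_right hψ).1 h5

/-- **The special rows of `PSU₃(q)`, `q` even.** -/
theorem special {S : Type u} [Group S] [Finite S] [IsSimpleGroup S] {F : Type} [Field F] [Fintype F] {f : ℕ}
    (hf : 2 ≤ f) (hF : Fintype.card F = (2 ^ f) ^ 2) (e : S ≃* PSU 3 F (2 ^ f)) {τ : MulAut S} (hτ : TwoPow τ)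
    (hs : H151.K547.Spec τ (2 * f)) : ¬ GInv3 τ ∧ ¬ D3 (AutExt τ) := by
  have hch : CharP F 2 := H967.K4.charP_two_of_card (a := f * 2) (by rw [Nat.card_eq_fintype_card, hF, ← pow_mul])
  have : Nontrivial (PSU 3 F (2 ^ f)) := e.symm.toEquiv.nontrivial
  have : IsSimpleGroup (PSU 3 F (2 ^ f)) := IsSimpleGroup.isSimpleGroup_of_surjective e.toMonoidHom e.surjective
  obtain ⟨⟨b, hb⟩, hs⟩ := hs
  have h1 := not_spec hf hb hF (H671.K547.twoPow_congr e hτ) (fun j hj => hs j (by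
    rw [← H671.K547.isInn_congr_iff e, map_pow]
    exact hj))
  refine ⟨fun h => h1.1 ((H671.K547.gInv3_congr_iff e).2 h), fun h => h1.2 ((H671.K547.d3_autExt_congr_iff e τ).2 h)⟩

theorem extRow_special {S : Type u} [Group S] [Finite S] [IsSimpleGroup S] {F : Type} [Field F] [Fintype F] {f : ℕ}
    (hf : 2 ≤ f) (hF : Fintype.card F = (2 ^ f) ^ 2) (e : S ≃* PSU 3 F (2 ^ f)) {τ : MulAut S} (hτ : TwoPow τ)
    (hs : H151.K547.Spec τ (2 * f)) : ExtRow S τ :=
  ⟨fun h => absurd h (special hf hF e hτ hs).1, fun h => absurd h (special hf hF e hτ hs).2⟩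

end main

end Cfsg.Agent.H42.K547.PSU3
end

-- part: H805/K547/RankAut
section
/-!
# Induced characters of rank one groups and automorphisms (helper805, S4547-QE6)

* `indFun_aut`, `indFun_eq_of_conj`;
* `exists_base` : the characters `indFun B (f ^ j)`;
* `inv_of` : invariance under an automorphism which normalises `B`, `U` and the torus.
-/

set_option autoImplicit false
set_option linter.unusedSectionVars false

open scoped ComplexConjugate
open Cfsg

namespace Cfsg.Agent.H805.K547.RankAut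

open Cfsg.Agent.OddOrderCharacters.Clifford Cfsg.Agent.Characters Cfsg.Agent.LieRecognition.RankOneAbstract
open Cfsg.Agent.H601.K4 Cfsg.Agent.H967.K4 Cfsg.Agent.CharactersDeep.MackeyLinear Cfsg.Agent.H612.K4

universe u

section

variable {G : Type u} [Group G]

/-- composition of an induced function with an automorphism -/
theorem indFun_aut [Fintype G] {B : Subgroup G} (β : MulAut G) (hB : ∀ b, β b ∈ B ↔ b ∈ B) (θ θ' : B → ℂ)
    (h : ∀ (b : G) (hb : b ∈ B) (hb' : β b ∈ B), θ ⟨β b, hb'⟩ = θ' ⟨b, hb⟩) (x : G) :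
    indFun B θ (β x) = indFun B θ' x := by
  rw [indFun_apply, indFun_apply]
  congr 1
  rw [← Equiv.sum_comp β.toEquiv]
  refine Finset.sum_congr rfl fun z _ => ?_
  have e : (β z)⁻¹ * β x * β z = β (z⁻¹ * x * z) := by simp only [_root_.map_mul, _root_.map_inv]
  show extendByZero B θ ((β z)⁻¹ * β x * β z) = _
  rw [e]
  by_cases hz : z⁻¹ * x * z ∈ B
  · rw [ext_apply_mem B _ _ ((hB _).2 hz), ext_apply_mem B _ _ hz]
    exact h _ _ _
  · rw [ext_apply_not_mem B _ _ (fun h => hz ((hB _).1 h)), ext_apply_not_mem B _ _ hz]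

/-- conjugate linear characters induce to the same character -/
theorem indFun_eq_of_conj [Fintype G] (B : Subgroup G) (f g : B →* ℂˣ)
    (hf : IsIrrCharacter G (indFun B (fun t => (f t : ℂ)))) (hg : IsIrrCharacter G (indFun B (fun t => (g t : ℂ))))
    (x : G) (h : ∀ (t : G) (ht : t ∈ B) (hx : x⁻¹ * t * x ∈ B), f ⟨t, ht⟩ = g ⟨x⁻¹ * t * x, hx⟩) :
    indFun B (fun t => (f t : ℂ)) = indFun B (fun t => (g t : ℂ)) := by
  classical
  have : Fintype B := Fintype.ofFinite B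
  by_contra hne
  have h0 := Core.classInner_irr_ne hf hg hne
  rw [classInner_indFun_indFun] at h0
  have hnat : ∀ y, ∃ n : ℕ, twist B (fun t => (f t : ℂ)) (fun t => (g t : ℂ)) y = n := fun y =>
    twist_eq_nat B (Linear.isCharacter_hom f) (Linear.isCharacter_hom g) y
  choose n hn using hnat
  have h1 : (Nat.card B : ℂ) ≠ 0 := card_ne_zero'
  have h2 : ∑ y : G, twist B (fun t => (f t : ℂ)) (fun t => (g t : ℂ)) y = 0 := by
    have h3 := (mul_eq_zero.1 h0).resolve_left (inv_ne_zero h1)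
    exact (mul_eq_zero.1 h3).resolve_left (inv_ne_zero h1)
  have h3 : ∑ y : G, n y = 0 := by
    have h4 : ((∑ y : G, n y : ℕ) : ℂ) = 0 := by
      rw [Nat.cast_sum, ← h2]
      exact Finset.sum_congr rfl fun y _ => (hn y).symm
    exact_mod_cast h4
  have h4 : n x = 0 := (Finset.sum_eq_zero_iff.1 h3) x (Finset.mem_univ x)
  have h5 : twist B (fun t => (f t : ℂ)) (fun t => (g t : ℂ)) x = (Nat.card (dsub B x) : ℂ) := by
    rw [twist_def, sum_eq_sum_subgroup (dsub B x)]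
    · rw [Finset.sum_congr rfl (g := fun _ => (1 : ℂ)) fun d _ => ?_, Finset.sum_const, Finset.card_univ,
        nsmul_eq_mul, mul_one, Nat.card_eq_fintype_card]
      have hd := (mem_dsub B x d).1 d.2
      rw [ext_apply_mem B _ _ hd, h ((d : B) : G) (d : B).2 hd]
      exact mul_conj_hom g _
    · intro t ht
      rw [mem_dsub] at ht
      rw [ext_apply_not_mem B _ _ ht, map_zero, mul_zero]
  rw [hn, h4, Nat.cast_zero] at h5
  exact card_ne_zero' h5.symm

/-- an induced character composed with an automorphism is irreducible -/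
theorem isIrr_comp_aut (β : MulAut G) {χ : G → ℂ} (h : IsIrrCharacter G χ) : IsIrrCharacter G (fun x => χ (β x)) :=
  Core.isIrr_comp β.toMonoidHom β.surjective h

end

section rank

variable {G : Type u} [Group G] {B U : Subgroup G} {w : G}

/-- **the induced characters** `indFun B (f ^ j)` -/
theorem exists_base [Finite G] (D : Data B U w) (hU : IsPGroup 2 U) (hU1 : U ≠ ⊥) {t₀ : G} (ht : t₀ ∈ B) {e : ℕ}
    (hw : w * t₀ * w⁻¹ = t₀ ^ e) (hgen : ∀ b ∈ B, ∃ u ∈ U, ∃ k : ℕ, b = u * t₀ ^ k) {n : ℕ} (hn : orderOf t₀ = n)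
    (hodd : Odd n) : ∃ (ξ : ℂˣ) (f : B →* ℂˣ), IsPrimitiveRoot ξ n ∧ f ⟨t₀, ht⟩ = ξ ∧
      (∀ (u : G) (hu : u ∈ U), f ⟨u, D.le hu⟩ = 1) ∧
      ∀ _ : Fintype G,
        (∀ j : ℕ, (j : ZMod n) * e ≠ j → OddIrr (indFun B (fun t => ((f ^ j) t : ℂ))) ∧
          SF (indFun B (fun t => ((f ^ j) t : ℂ))) ∧ indFun B (fun t => ((f ^ j) t : ℂ)) 1 = B.index ∧
          ∀ x : G, (∀ g : G, g⁻¹ * x * g ∉ B) → indFun B (fun t => ((f ^ j) t : ℂ)) x = 0) ∧
        ∀ j j' : ℕ, (j : ZMod n) * e ≠ j → (j : ZMod n) ≠ j' → (j : ZMod n) * e ≠ j' →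
          indFun B (fun t => ((f ^ j) t : ℂ)) ≠ indFun B (fun t => ((f ^ j') t : ℂ)) := by
  classical
  have hn0 : n ≠ 0 := by
    rintro rfl
    exact absurd hodd (by decide)
  have : NeZero n := ⟨hn0⟩
  have hint : ∀ k : ℕ, t₀ ^ k ∈ U → t₀ ^ k = 1 := by
    intro k hk
    obtain ⟨i, hi⟩ := hU ⟨t₀ ^ k, hk⟩
    have h1 : (t₀ ^ k) ^ 2 ^ i = 1 := congrArg Subtype.val hi
    have h2 : orderOf (t₀ ^ k) ∣ 2 ^ i := orderOf_dvd_of_pow_eq_one h1
    have h3 : orderOf (t₀ ^ k) ∣ n := by rw [← hn]; exact orderOf_pow_dvd k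
    have h4 : Nat.Coprime (2 ^ i) n := Nat.Coprime.pow_left _ (Nat.coprime_two_left.2 hodd)
    exact orderOf_eq_one_iff.1 (Nat.eq_one_of_dvd_coprimes h4 h2 h3)
  -- a primitive root
  obtain ⟨ζ, hζ⟩ := HasEnoughRootsOfUnity.exists_primitiveRoot ℂ n
  obtain ⟨ξ, hξ⟩ : ∃ ξ : ℂˣ, (ξ : ℂ) = ζ := ⟨(hζ.isUnit hn0).unit, rfl⟩
  have hξn : IsPrimitiveRoot ξ n := by
    rw [← IsPrimitiveRoot.coe_units_iff, hξ]
    exact hζ
  have hξn' : orderOf ξ = n := hξn.eq_orderOf.symm
  obtain ⟨f, hf, hf1⟩ := _root_.Cfsg.Agent.H612.K4.exists_lin D ht hgen hint (ζ := ξ) (by rw [hn]; exact hξn.pow_eq_one)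
  have hg : ∀ j : ℕ, (f ^ j) ⟨t₀, ht⟩ = ξ ^ j := fun j => by
    rw [MonoidHom.pow_apply, hf]
  have hpow : ∀ k l : ℕ, ξ ^ k = ξ ^ l → (k : ZMod n) = l := by
    intro k l h
    rw [pow_eq_pow_iff_modEq, hξn'] at h
    exact (ZMod.natCast_eq_natCast_iff _ _ _).2 h
  have hwB : w * t₀ * w⁻¹ ∈ B := by rw [hw]; exact B.pow_mem ht e
  have hgw : ∀ j : ℕ, (f ^ j) ⟨w * t₀ * w⁻¹, hwB⟩ = ξ ^ (j * e) := by
    intro j
    have h1 : (⟨w * t₀ * w⁻¹, hwB⟩ : B) = ⟨t₀, ht⟩ ^ e := Subtype.ext hw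
    rw [h1, map_pow, hg, pow_mul]
  -- the elements outside `B`
  have hout : ∀ a b : ℕ, (a : ZMod n) * e ≠ b → ∀ x : G, x ∉ B →
      ∃ (t : B) (hx : x⁻¹ * t * x ∈ B), (f ^ a) t ≠ (f ^ b) ⟨x⁻¹ * t * x, hx⟩ := by
    intro a b hab x hx
    obtain ⟨s, hs, hsx⟩ := D.bruhat x hx
    set k := (s * w)⁻¹ * x with hk
    have hxe : x = s * w * k := by rw [hk]; group
    have hsH : s ∈ B := D.le hs
    refine ⟨⟨s, hsH⟩ * ⟨w * t₀ * w⁻¹, hwB⟩ * ⟨s, hsH⟩⁻¹, ?_, ?_⟩
    · have h1 : x⁻¹ * ((⟨s, hsH⟩ * ⟨w * t₀ * w⁻¹, hwB⟩ * ⟨s, hsH⟩⁻¹ : B) : G) * x =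
          k⁻¹ * t₀ * k := by
        rw [hxe]
        simp only [Subgroup.coe_mul, InvMemClass.coe_inv]
        group
      rw [h1]
      exact B.mul_mem (B.mul_mem (B.inv_mem hsx) ht) hsx
    · have h1 : (f ^ a) (⟨s, hsH⟩ * ⟨w * t₀ * w⁻¹, hwB⟩ * ⟨s, hsH⟩⁻¹) = (f ^ a) ⟨w * t₀ * w⁻¹, hwB⟩ := by
        rw [map_mul, map_mul, map_inv, mul_comm ((f ^ a) ⟨s, hsH⟩), mul_inv_cancel_right]
      rw [h1]
      have h2 : ∀ (hh : x⁻¹ * ((⟨s, hsH⟩ * ⟨w * t₀ * w⁻¹, hwB⟩ * ⟨s, hsH⟩⁻¹ : B) : G) * x ∈ B),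
          (⟨_, hh⟩ : B) = ⟨k, hsx⟩⁻¹ * ⟨t₀, ht⟩ * ⟨k, hsx⟩ := by
        intro hh
        apply Subtype.ext
        simp only [Subgroup.coe_mul, InvMemClass.coe_inv]
        rw [hxe]
        group
      rw [h2, map_mul, map_mul, map_inv, mul_comm ((f ^ b) ⟨k, hsx⟩)⁻¹, inv_mul_cancel_right, hgw, hg]
      intro h
      have h3 := hpow _ _ h
      rw [Nat.cast_mul] at h3
      exact hab h3
  refine ⟨ξ, f, hξn, hf, hf1, fun _ => ⟨fun j hj => ?_, fun j j' hj hjj hje => ?_⟩⟩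
  · have hirr : IsIrrCharacter G (indFun B (fun t => ((f ^ j) t : ℂ))) :=
      isIrrCharacter_indFun B (f ^ j) fun x hx => hout j j hj x hx
    have hdeg : indFun B (fun t => ((f ^ j) t : ℂ)) 1 = B.index := by
      rw [indFun_apply]
      have h1 : ∀ x : G, extendByZero B (fun t => ((f ^ j) t : ℂ)) (x⁻¹ * 1 * x) = 1 := by
        intro x
        have h2 : x⁻¹ * 1 * x = 1 := by group
        rw [h2, ext_apply_mem B _ _ B.one_mem]
        have h3 : (⟨1, B.one_mem⟩ : B) = 1 := rfl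
        rw [h3, map_one, Units.val_one]
      rw [Finset.sum_congr rfl fun x _ => h1 x, Finset.sum_const, Finset.card_univ, nsmul_eq_mul, mul_one,
        ← Nat.card_eq_fintype_card, ← B.index_mul_card, Nat.cast_mul]
      have h2 : (Nat.card B : ℂ) ≠ 0 := by exact_mod_cast Nat.card_pos.ne'
      field_simp
    have hidx : Odd B.index := by
      have := D.index
      rw [this]
      have h1 : Even (Nat.card U) := by
        obtain ⟨k, hk⟩ := IsPGroup.iff_card.1 hU
        rw [hk]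
        refine (Nat.even_pow.2 ⟨even_two, ?_⟩)
        rintro rfl
        rw [pow_zero] at hk
        exact hU1 (Subgroup.eq_bot_of_card_eq _ hk)
      exact h1.add_one
    refine ⟨⟨hirr, ?_⟩, ?_, hdeg, ?_⟩
    · rw [Cfsg.Agent.Blocks.Basic.charDegree_of_eq hdeg]
      exact fun h => (Nat.not_even_iff_odd.2 hidx) (even_iff_two_dvd.2 h)
    · refine SF.ind ?_
      -- the 2-elements of `B` are in `U`
      intro u s _ hu _
      have h1 : (f ^ j) u = 1 := by
        obtain ⟨k, hk⟩ := hu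
        obtain ⟨v, hv, l, hl⟩ := hgen u u.2
        have h2 : (f ^ j) u = ξ ^ (j * l) := by
          have h3 : u = ⟨v, D.le hv⟩ * ⟨t₀, ht⟩ ^ l := Subtype.ext hl
          have h4 : (f ^ j) ⟨v, D.le hv⟩ = 1 := by
            rw [MonoidHom.pow_apply, hf1 v hv, one_pow]
          rw [h3, map_mul, h4, one_mul, map_pow, hg, ← pow_mul]
        have h3 : orderOf ((f ^ j) u) ∣ n := by
          refine orderOf_dvd_of_pow_eq_one ?_
          rw [h2, ← pow_mul, mul_comm, pow_mul, hξn.pow_eq_one, one_pow]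
        have h4 : orderOf ((f ^ j) u) ∣ 2 ^ k := by rw [← hk]; exact orderOf_map_dvd _ u
        have h5 : Nat.Coprime (2 ^ k) n := Nat.Coprime.pow_left _ (Nat.coprime_two_left.2 hodd)
        exact orderOf_eq_one_iff.1 (Nat.eq_one_of_dvd_coprimes h5 h4 h3)
      change (((f ^ j) (u ^ 3 * s) : ℂˣ) : ℂ) = ((f ^ j) (u * s) : ℂˣ)
      rw [map_mul, map_mul, map_pow, h1, one_pow]
    · intro x hx
      rw [indFun_apply]
      rw [Finset.sum_eq_zero fun y _ => ext_apply_not_mem B _ _ (hx y), mul_zero]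
  · have hirr : IsIrrCharacter G (indFun B (fun t => ((f ^ j) t : ℂ))) :=
      isIrrCharacter_indFun B (f ^ j) fun x hx => hout j j hj x hx
    refine indFun_ne B (f ^ j) (f ^ j') hirr (fun x => ?_)
    by_cases hx : x ∈ B
    · refine ⟨⟨t₀, ht⟩, B.mul_mem (B.mul_mem (B.inv_mem hx) ht) hx, ?_⟩
      have h1 : (⟨x⁻¹ * ((⟨t₀, ht⟩ : B) : G) * x, B.mul_mem (B.mul_mem (B.inv_mem hx) ht) hx⟩ : B) =
          ⟨x, hx⟩⁻¹ * ⟨t₀, ht⟩ * ⟨x, hx⟩ := rfl
      rw [h1, map_mul, map_mul, map_inv, mul_comm ((f ^ j') ⟨x, hx⟩)⁻¹, inv_mul_cancel_right, hg, hg]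
      intro h
      exact hjj (hpow _ _ h)
    · exact hout j j' hje x hx

/-- **invariance under an automorphism** -/
theorem inv_of [Fintype G] (D : Data B U w) {t₀ : G} (ht : t₀ ∈ B) {e : ℕ}
    (hw : w * t₀ * w⁻¹ = t₀ ^ e) (hgen : ∀ b ∈ B, ∃ u ∈ U, ∃ k : ℕ, b = u * t₀ ^ k)
    (hwt : ∀ t ∈ B, w * t * w⁻¹ ∈ B → ∃ k : ℕ, t = t₀ ^ k) {n : ℕ} {ξ : ℂˣ} {f : B →* ℂˣ}
    (hξ : IsPrimitiveRoot ξ n) (hf : f ⟨t₀, ht⟩ = ξ) (hf1 : ∀ (u : G) (hu : u ∈ U), f ⟨u, D.le hu⟩ = 1)
    {β : MulAut G} (hβB : ∀ b, β b ∈ B ↔ b ∈ B) (hβU : ∀ u ∈ U, β u ∈ U) {a : ℕ} (hβt : β t₀ = t₀ ^ a)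
    {j : ℕ} (hj : IsIrrCharacter G (indFun B (fun t => ((f ^ j) t : ℂ))))
    (hja : (j : ZMod n) * a = j ∨ (j : ZMod n) * a = j * e) (x : G) :
    indFun B (fun t => ((f ^ j) t : ℂ)) (β x) = indFun B (fun t => ((f ^ j) t : ℂ)) x := by
  classical
  have hn0 : ∀ b : B, f b ^ n = 1 := by
    intro b
    obtain ⟨u, hu, k, hb⟩ := hgen b b.2
    have h3 : b = ⟨u, D.le hu⟩ * ⟨t₀, ht⟩ ^ k := Subtype.ext hb
    rw [h3, map_mul, hf1 u hu, one_mul, map_pow, hf, ← pow_mul, mul_comm, pow_mul, hξ.pow_eq_one, one_pow]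
  have hmod : ∀ k l : ℕ, (k : ZMod n) = l → f ^ k = f ^ l := by
    intro k l h
    have h1 : k ≡ l [MOD n] := (ZMod.natCast_eq_natCast_iff _ _ _).1 h
    refine MonoidHom.ext fun b => ?_
    rw [MonoidHom.pow_apply, MonoidHom.pow_apply]
    exact (pow_eq_pow_iff_modEq).2 (h1.of_dvd (orderOf_dvd_of_pow_eq_one (hn0 b)))
  have hfβ : ∀ (b : G) (hb : b ∈ B) (hb' : β b ∈ B), f ⟨β b, hb'⟩ = (f ⟨b, hb⟩) ^ a := by
    intro b hb hb'
    obtain ⟨u, hu, k, rfl⟩ := hgen b hb
    have h3 : (⟨u * t₀ ^ k, hb⟩ : B) = ⟨u, D.le hu⟩ * ⟨t₀, ht⟩ ^ k := rfl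
    have h4 : (⟨β (u * t₀ ^ k), hb'⟩ : B) = ⟨β u, D.le (hβU u hu)⟩ * (⟨t₀, ht⟩ ^ a) ^ k := by
      apply Subtype.ext
      show β (u * t₀ ^ k) = β u * (t₀ ^ a) ^ k
      rw [map_mul, map_pow, hβt]
    rw [h3, h4, map_mul, map_mul, hf1 _ (hβU u hu), hf1 u hu, one_mul, one_mul, map_pow, map_pow, map_pow, ← pow_mul,
      ← pow_mul, mul_comm]
  have h1 : ∀ x, indFun B (fun t => ((f ^ j) t : ℂ)) (β x) = indFun B (fun t => ((f ^ (j * a)) t : ℂ)) x := by
    refine indFun_aut β hβB _ _ fun b hb hb' => ?_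
    show (((f ^ j) ⟨β b, hb'⟩ : ℂˣ) : ℂ) = ((f ^ (j * a)) ⟨b, hb⟩ : ℂˣ)
    rw [MonoidHom.pow_apply, MonoidHom.pow_apply, hfβ b hb hb', ← pow_mul, mul_comm a j]
  rcases hja with hja | hja
  · rw [h1, hmod (j * a) j (by rw [Nat.cast_mul]; exact hja)]
  · have h2 : f ^ (j * a) = f ^ (j * e) := hmod _ _ (by rw [Nat.cast_mul, Nat.cast_mul]; exact hja)
    have h3 : (fun x => indFun B (fun t => ((f ^ j) t : ℂ)) (β x)) = indFun B (fun t => ((f ^ (j * e)) t : ℂ)) := by
      funext x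
      rw [h1, h2]
    have h4 : IsIrrCharacter G (indFun B (fun t => ((f ^ (j * e)) t : ℂ))) := by
      rw [← h3]
      exact isIrr_comp_aut β hj
    have h5 := indFun_eq_of_conj B (f ^ (j * e)) (f ^ j) h4 hj w⁻¹ (by
      intro t htB htx
      rw [inv_inv] at htx
      obtain ⟨k, rfl⟩ := hwt t htB htx
      have h6 : (⟨w⁻¹⁻¹ * t₀ ^ k * w⁻¹, by rw [inv_inv]; exact htx⟩ : B) = (⟨t₀, ht⟩ ^ e) ^ k := by
        apply Subtype.ext
        show w⁻¹⁻¹ * t₀ ^ k * w⁻¹ = (t₀ ^ e) ^ k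
        rw [inv_inv, ← hw, conj_pow]
      have h7 : (⟨t₀ ^ k, htB⟩ : B) = ⟨t₀, ht⟩ ^ k := rfl
      rw [h6, h7, map_pow, map_pow, map_pow, MonoidHom.pow_apply, MonoidHom.pow_apply, ← pow_mul, ← pow_mul,
        ← pow_mul, mul_assoc])
    rw [h1, h2, h5]

end rank

end Cfsg.Agent.H805.K547.RankAut
end

-- part: H805/K547/PSU3Chi
section
/-!
# S4547-QE6: three invariant good characters of `PSU₃(q)`, `q ≥ 4` even (helper805)

* `exists_inv` : induced characters invariant under a field automorphism;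
* `gInv3_four` : `q = 4`;
* `gInv3_psu3`.
-/

set_option autoImplicit false
set_option linter.unusedSectionVars false

open Cfsg

namespace Cfsg.Agent.H805.K547.PSU3

open Cfsg.Agent.H601.K4 Cfsg.Agent.H821.K547 Cfsg.Agent.LieRecognition.RankOneAbstract Cfsg.Agent.H307.QE
open Cfsg.Agent.H705.PSU Cfsg.Agent.UThreeGen.MatGroup Cfsg.Agent.H967.K4 Cfsg.Agent.H612.K4
open Cfsg.Agent.HKS.EndU (tor tmat tor_val tor_mem act tor_emb ci ci_val wel_tor exists_tor tor_mem_center sne tor_conj)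

universe u

open Matrix

/-! ### arithmetic -/

section arith

variable {q m n : ℕ}

theorem cast_eq_iff (hq : 1 < q) (hm : 0 < m) (hn : n = m * (q - 1)) (i i' : ℕ) :
    ((m * i : ℕ) : ZMod n) = ((m * i' : ℕ) : ZMod n) ↔ i ≡ i' [MOD q - 1] := by
  rw [ZMod.natCast_eq_natCast_iff, hn]
  exact Nat.ModEq.mul_left_cancel_iff' hm.ne'

theorem cast_mul_iff (hq : 1 < q) (hm : 0 < m) (hn : n = m * (q - 1)) (i i' : ℕ) :
    ((m * i : ℕ) : ZMod n) * (((n - 1) * q : ℕ) : ZMod n) = ((m * i' : ℕ) : ZMod n) ↔ (q - 1) ∣ i + i' := by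
  have hn0 : 1 ≤ n := by
    rw [hn]
    exact Nat.mul_pos hm (by omega)
  have h1 : (((n - 1) * q : ℕ) : ZMod n) = -(q : ZMod n) := by
    rw [Nat.cast_mul, Nat.cast_sub hn0, ZMod.natCast_self, Nat.cast_one, zero_sub, neg_one_mul]
  rw [h1, mul_neg]
  have h2 : -(((m * i : ℕ) : ZMod n) * (q : ZMod n)) = ((m * i' : ℕ) : ZMod n) ↔
      ((m * (i * q + i') : ℕ) : ZMod n) = 0 := by
    rw [neg_eq_iff_add_eq_zero]
    push_cast
    constructor
    · intro h; rw [← h]; ring
    · intro h; rw [← h]; ring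
  rw [h2, ZMod.natCast_eq_zero_iff, hn, Nat.mul_dvd_mul_iff_left hm]
  obtain ⟨k, rfl⟩ : ∃ k, q = k + 1 := ⟨q - 1, by omega⟩
  simp only [Nat.add_sub_cancel]
  have h3 : i * (k + 1) + i' = (i + i') + k * i := by ring
  rw [h3]
  exact (Nat.dvd_add_left (dvd_mul_right k i))

end arith

variable {F : Type*} [Field F] [Fintype F] {q : ℕ} {σ : F →+* F} [hσ : Fact (∀ x, σ (σ x) = x)]
  {M : Type u} [Group M] {π : SUG σ →* M}

/-- **the induced characters** -/
theorem exists_inv [Finite M] (E : _root_.Cfsg.Agent.H705.PSU.Mod q π) (hq1 : 1 < q) (h2 : (2 : F) = 0) (hev : Even q) {ρ : F ≃+* F} {a : ℕ}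
    (hρ : ∀ x, ρ x = x ^ a) {ι : Type*} {i : ι → ℕ} (h1 : ∀ k k', ¬ (q - 1) ∣ i k + i k')
    (h3 : ∀ k k', k ≠ k' → ¬ i k ≡ i k' [MOD q - 1])
    (h4 : ∀ k, i k * a ≡ i k [MOD q - 1] ∨ (q - 1) ∣ i k + i k * a) :
    ∃ χ : ι → M → ℂ, Function.Injective χ ∧ ∀ k, OS (fld E ρ) (χ k) ∧ χ k ≠ 1 ∧
      ∀ x : M, (∀ g : M, g⁻¹ * x * g ∉ (_root_.Cfsg.Agent.UThreeGen.MatGroup.borel σ).map π) → χ k x = 0 := by
  classical
  have hFt : Fintype M := Fintype.ofFinite M
  have : Fact (Nat.Prime 2) := ⟨Nat.prime_two⟩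
  have : CharP F 2 := CharTwo.of_one_ne_zero_of_two_eq_zero one_ne_zero h2
  obtain ⟨P₀, hP₀⟩ := E.exists_syl (r := 2) hq1
  have hUp : IsPGroup 2 ((emb σ).range.map π) := by
    rw [← hP₀]
    exact P₀.isPGroup'
  obtain ⟨l₀, hl₀, hord, m, hm, hmq⟩ := E.exists_generator hq1
  set t₀ := π (tor σ l₀) with ht₀
  set n := orderOf t₀ with hn
  have hn0 : 0 < n := orderOf_pos t₀
  have hm0 : 0 < m := by
    rcases Nat.eq_zero_or_pos m with h | h
    · rw [h, zero_mul] at hm
      omega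
    · exact h
  have hnodd : Odd n := by
    have h1 : n ∣ orderOf l₀ := orderOf_map_dvd (π.comp (tor σ)) l₀
    rw [hord] at h1
    refine Odd.of_dvd_nat ?_ h1
    exact (Nat.Even.sub_odd hq1.le hev odd_one).mul (hev.add_one)
  -- the action of `w`
  have hw : π (wel σ) * t₀ * (π (wel σ))⁻¹ = t₀ ^ ((n - 1) * q) := by
    have h1 : π (wel σ) * t₀ * (π (wel σ))⁻¹ = π (tor σ (ci σ l₀)) := by
      rw [ht₀, ← map_inv, ← map_mul, ← map_mul, wel_inv, wel_tor]
    have h3 : ci σ l₀ = (l₀ ^ q)⁻¹ := by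
      apply Units.ext
      rw [ci_val, Units.val_inv_eq_inv_val, Units.val_pow_eq_pow_val, E.pow]
    have h4 : t₀ ^ ((n - 1) * q) * t₀ ^ q = 1 := by
      rw [← pow_add]
      have h5 : (n - 1) * q + q = n * q := by
        obtain ⟨k, hk⟩ : ∃ k, n = k + 1 := ⟨n - 1, by omega⟩
        rw [hk, Nat.add_sub_cancel]
        ring
      rw [h5, pow_mul, hn, pow_orderOf_eq_one, one_pow]
    rw [h1, h3, map_inv, map_inv, map_pow, map_pow, ← ht₀]
    exact (eq_inv_of_mul_eq_one_left h4).symm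
  have hzp : ∀ t ∈ (_root_.Cfsg.Agent.UThreeGen.MatGroup.borel σ).map π, (π (wel σ))⁻¹ * t * π (wel σ) ∈ (_root_.Cfsg.Agent.UThreeGen.MatGroup.borel σ).map π →
      t ∈ Subgroup.zpowers t₀ := by
    intro t ht htw
    obtain ⟨l, rfl⟩ := E.mem_two_iff ht htw
    obtain ⟨j, rfl⟩ := Subgroup.mem_zpowers_iff.1 (hl₀ l)
    exact Subgroup.mem_zpowers_iff.2 ⟨j, (map_zpow (π.comp (tor σ)) l₀ j).symm⟩
  have hgen := gen_of_two E.data (t₀ := t₀) (isOfFinOrder_of_finite _) hzp
  have hwt : ∀ t ∈ (_root_.Cfsg.Agent.UThreeGen.MatGroup.borel σ).map π, π (wel σ) * t * (π (wel σ))⁻¹ ∈ (_root_.Cfsg.Agent.UThreeGen.MatGroup.borel σ).map π → ∃ k : ℕ, t = t₀ ^ k := by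
    intro t ht htw
    have h5 : (π (wel σ))⁻¹ * t * π (wel σ) ∈ (_root_.Cfsg.Agent.UThreeGen.MatGroup.borel σ).map π := by
      have h6 : (π (wel σ))⁻¹ = π (wel σ) := by rw [← map_inv, wel_inv]
      rw [h6] at htw ⊢
      exact htw
    obtain ⟨k, hk⟩ := (Submonoid.mem_powers_iff _ _).1
      (((isOfFinOrder_of_finite t₀).mem_powers_iff_mem_zpowers).2 (hzp t ht h5))
    exact ⟨k, hk.symm⟩
  have htB : t₀ ∈ (_root_.Cfsg.Agent.UThreeGen.MatGroup.borel σ).map π := (two_mem l₀).1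
  obtain ⟨ξ, f, hξ, hf, hf1, hχ⟩ := RankAut.exists_base E.data hUp (E.unip_ne hq1) htB hw hgen hn.symm hnodd
  obtain ⟨hχ1, hχ2⟩ := hχ hFt
  have hje : ∀ k k', ((m * i k : ℕ) : ZMod n) * (((n - 1) * q : ℕ) : ZMod n) ≠ ((m * i k' : ℕ) : ZMod n) :=
    fun k k' h => h1 k k' ((cast_mul_iff hq1 hm0 hm _ _).1 h)
  have hβt : fld E ρ t₀ = t₀ ^ a := by
    rw [ht₀, fld_tor, ← map_pow, ← map_pow]
    congr 2
    apply Units.ext
    rw [Units.val_pow_eq_pow_val]
    exact hρ _
  refine ⟨fun k => indFun ((_root_.Cfsg.Agent.UThreeGen.MatGroup.borel σ).map π) (fun t => ((f ^ (m * i k)) t : ℂ)), ?_, fun k => ⟨⟨?_, ?_, ?_⟩, ?_, ?_⟩⟩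
  · intro k k' hkk
    by_contra hne
    exact hχ2 _ _ (hje k k) (fun h => h3 k k' hne ((cast_eq_iff hq1 hm0 hm _ _).1 h)) (hje k k') hkk
  · exact (hχ1 _ (hje k k)).1
  · exact (hχ1 _ (hje k k)).2.1
  · intro x
    refine RankAut.inv_of E.data htB hw hgen hwt hξ hf hf1 (fun b => fld_mem_B_iff E ρ) (fun u hu => fld_mem_U E ρ hu) hβt
      (hχ1 _ (hje k k)).1.1 ?_ x
    rcases h4 k with h | h
    · left
      have h5 := (cast_eq_iff hq1 hm0 hm _ _).2 h
      rw [← mul_assoc, Nat.cast_mul] at h5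
      exact h5
    · right
      have h5 := (cast_mul_iff hq1 hm0 hm _ _).2 h
      rw [← mul_assoc, Nat.cast_mul _ a] at h5
      exact h5.symm
  · intro h
    have h5 := (hχ1 _ (hje k k)).2.2.1
    have h8 : indFun ((_root_.Cfsg.Agent.UThreeGen.MatGroup.borel σ).map π) (fun t => ((f ^ (m * i k)) t : ℂ)) 1 = 1 := congrFun h 1
    rw [h8] at h5
    have h6 : ((_root_.Cfsg.Agent.UThreeGen.MatGroup.borel σ).map π).index = 1 := by
      have h7 : (1 : ℂ) = ((((_root_.Cfsg.Agent.UThreeGen.MatGroup.borel σ).map π).index : ℕ) : ℂ) := h5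
      exact_mod_cast h7.symm
    rw [Subgroup.index_eq_one] at h6
    exact E.data.w_not_mem (by rw [h6]; exact Subgroup.mem_top _)
  · exact (hχ1 _ (hje k k)).2.2.2

/-! ### `q = 4` -/

theorem two_eq_neg {F : Type*} [Field F] (h2 : (2 : F) = 0) : (-1 : F) = 1 := by
  linear_combination (-1 : F) * h2

section four

variable (h2 : (2 : F) = 0)

include h2

/-- the element `x₂₁(t)`-like `HG` element `(0, t)` -/
def hgt {t : F} (ht : t + σ t = 0) : HG σ := ⟨0, t, by rw [zero_mul]; exact ht⟩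

omit h2 in
theorem mapH_hgt (hp : ∀ x, σ x = x ^ q) {ρ : F ≃+* F} {t : F} (ht : t + σ t = 0) (hρ : ρ t = t) :
    mapH hp ρ (hgt ht) = hgt ht := by
  ext
  · exact map_zero ρ
  · exact hρ

/-- the matrix -/
theorem wx_val {t : F} (ht : t + σ t = 0) :
    ((wel σ * emb σ (hgt ht) : SUG σ)).1.1 = !![0, 0, 1; 0, 1, 0; 1, 0, t] := by
  have h3 : (-1 : F) = 1 := two_eq_neg h2
  rw [coe_mul_SUG]
  ext i j
  rw [Matrix.mul_apply, Fin.sum_univ_three]
  simp only [wel_val, emb_val]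
  (revert i j; simp only [umat, Wm, hgt, h3, _root_.Fin.forall_fin_succ, Fin.isValue, _root_.Matrix.of_apply, _root_.Matrix.cons_val', _root_.Matrix.cons_val_zero, _root_.Matrix.cons_val_fin_one, _root_.map_zero, _root_.Matrix.cons_val_one, _root_.Matrix.cons_val, _root_.mul_one, _root_.MulZeroClass.mul_zero, _root_.add_zero, _root_.Matrix.cons_val_succ, _root_.zero_add, _root_.forall_const, _root_.true_and, _root_.MulZeroClass.zero_mul, _root_.one_mul, _root_.implies_true, _root_.and_self])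

theorem wx_pow {t : F} (ht : t + σ t = 0) (ht2 : t * t = t + 1) : (wel σ * emb σ (hgt ht)) ^ 5 = 1 := by
  have h4 : t ^ 2 = t + 1 := by rw [sq]; exact ht2
  apply sug_ext
  intro i j
  have e : ((wel σ * emb σ (hgt ht)) ^ 5).1.1 = (!![0, 0, 1; 0, 1, 0; 1, 0, t] : Matrix (Fin 3) (Fin 3) F) ^ 5 := by
    rw [← wx_val h2 ht]
    rfl
  rw [e]
  have e2 : (!![0, 0, 1; 0, 1, 0; 1, 0, t] : Matrix (Fin 3) (Fin 3) F) * !![0, 0, 1; 0, 1, 0; 1, 0, t] =
      !![1, 0, t; 0, 1, 0; t, 0, t] := by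
    ext i j
    rw [Matrix.mul_apply, Fin.sum_univ_three]
    (revert i j; simp only [_root_.Fin.forall_fin_succ, Fin.isValue, _root_.Matrix.of_apply, _root_.Matrix.cons_val', _root_.Matrix.cons_val_zero, _root_.Matrix.cons_val_fin_one, _root_.Matrix.cons_val_one, _root_.Matrix.cons_val, _root_.MulZeroClass.mul_zero, _root_.add_zero, _root_.mul_one, _root_.zero_add, _root_.Matrix.cons_val_succ, _root_.forall_const, _root_.one_mul, _root_.MulZeroClass.zero_mul, _root_.and_true, _root_.true_and]) <;> (repeat' with_reducible apply And.intro)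
    linear_combination ht2 + h2
  have e4 : (!![1, 0, t; 0, 1, 0; t, 0, t] : Matrix (Fin 3) (Fin 3) F) * !![1, 0, t; 0, 1, 0; t, 0, t] =
      !![t, 0, 1; 0, 1, 0; 1, 0, 0] := by
    ext i j
    rw [Matrix.mul_apply, Fin.sum_univ_three]
    (revert i j; simp only [_root_.Fin.forall_fin_succ, Fin.isValue, _root_.Matrix.of_apply, _root_.Matrix.cons_val', _root_.Matrix.cons_val_zero, _root_.Matrix.cons_val_fin_one, _root_.Matrix.cons_val_one, _root_.Matrix.cons_val, _root_.mul_one, _root_.MulZeroClass.mul_zero, _root_.add_zero, _root_.Matrix.cons_val_succ, _root_.zero_add, _root_.forall_const, _root_.one_mul, _root_.MulZeroClass.zero_mul, _root_.and_true, _root_.true_and]) <;> (repeat' with_reducible apply And.intro)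
    · linear_combination ht2 + h2
    · linear_combination ht2 + t * h2
    · linear_combination ht2 + t * h2
    · linear_combination 2 * ht2 + (t + 1) * h2
  have e5 : (!![t, 0, 1; 0, 1, 0; 1, 0, 0] : Matrix (Fin 3) (Fin 3) F) * !![0, 0, 1; 0, 1, 0; 1, 0, t] = 1 := by
    ext i j
    rw [Matrix.mul_apply, Fin.sum_univ_three]
    (revert i j; simp only [_root_.Fin.forall_fin_succ, Fin.isValue, _root_.Matrix.of_apply, _root_.Matrix.cons_val', _root_.Matrix.cons_val_zero, _root_.Matrix.cons_val_fin_one, _root_.Matrix.cons_val_one, _root_.Matrix.cons_val, _root_.MulZeroClass.mul_zero, _root_.add_zero, _root_.mul_one, _root_.zero_add, _root_.Matrix.cons_val_succ, _root_.IsEmpty.forall_iff, _root_.Matrix.one_apply_eq, Nat.reduceAdd, _root_.Fin.succ_zero_eq_one, _root_.ne_eq, _root_.zero_ne_one, _root_.not_false_eq_true, _root_.Matrix.one_apply_ne, _root_.one_mul, _root_.Fin.succ_one_eq_two, Fin.reduceEq, _root_.Fin.succ_ne_zero, _root_.MulZeroClass.zero_mul,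 _root_.and_true, _root_.true_and]) <;> (repeat' with_reducible apply And.intro)
    linear_combination t * h2
  have e6 : (!![0, 0, 1; 0, 1, 0; 1, 0, t] : Matrix (Fin 3) (Fin 3) F) ^ 5 = 1 := by
    rw [show (5 : ℕ) = 2 * 2 + 1 from rfl, pow_succ, pow_mul, sq, sq, e2, e4, e5]
  rw [e6]
  rfl

attribute [-instance] instNoNatZeroDivisorsOfIsAddTorsionFree instIsCharPOfIsLeftCancelAddOfCharP in
/-- the trace of an element of the Borel subgroup is not `1 + t` -/
theorem trace_ne (hp : ∀ x, σ x = x ^ q) (hq : q = 4) (hF : Fintype.card F = 4 ^ 2) {t : F} (ht2 : t * t = t + 1)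
    {g : SUG σ} (hg : g ∈ _root_.Cfsg.Agent.UThreeGen.MatGroup.borel σ) : Matrix.trace g.1.1 ≠ 1 + t := by
  subst hq
  intro htr
  rw [Matrix.trace_fin_three] at htr
  rw [mem_borel] at hg
  obtain ⟨g1, g2⟩ := hg
  have e02 := entry_of_mem_SUG g.2 0 2
  have e01 := entry_of_mem_SUG g.2 0 1
  have hdet : g.1.1.det = 1 := g.1.2
  rw [Matrix.det_fin_three, g1, g2] at hdet
  rw [g1, g2, hp] at e02
  rw [g1, g2] at e01
  simp only [zero_mul, mul_zero, sub_zero, add_zero] at e02 e01 hdet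
  rw [show Gm F 0 2 = 1 from rfl] at e02
  rw [show Gm F 0 1 = 0 from rfl] at e01
  generalize g.1.1 0 0 = a at *
  generalize g.1.1 1 1 = b at *
  generalize g.1.1 2 2 = c at *
  have ha0 : a ≠ 0 := by
    rintro rfl
    rw [zero_mul] at e02
    exact zero_ne_one e02
  have h21 : g.1.1 2 1 = 0 := (map_eq_zero σ).1 ((mul_eq_zero.1 e01).resolve_left ha0)
  rw [h21] at hdet
  have hc0 : c ≠ 0 := by
    rintro rfl
    norm_num at e02
  have hc16 : c ^ 16 = c := by
    have h := FiniteField.pow_card c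
    rwa [hF] at h
  obtain ⟨d, hcd⟩ : ∃ d, c * d = 1 := ⟨c⁻¹, mul_inv_cancel₀ hc0⟩
  have hc15 : c ^ 15 = 1 := by
    have h : c * c ^ 15 = c * 1 := by rw [← pow_succ', hc16, mul_one]
    exact mul_left_cancel₀ hc0 h
  have hc12 : c ^ 12 = d ^ 3 := by
    have h : c ^ 12 = c ^ 12 * (c * d) ^ 3 := by rw [hcd, one_pow, mul_one]
    rw [h, mul_pow, ← mul_assoc, ← pow_add, hc15, one_mul]
  have hd16 : d ^ 16 = d := by
    have h : d ^ 16 = d ^ 16 * c ^ 15 := by rw [hc15, mul_one]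
    have h' : d ^ 16 * c ^ 15 = (c * d) ^ 15 * d := by ring
    rw [h, h', hcd, one_pow, one_mul]
  have ha : a = d ^ 4 := by
    have h : a * (c * d) ^ 4 = a := by rw [hcd, one_pow, mul_one]
    rw [← h, mul_pow, ← mul_assoc, e02, one_mul]
  have hb : b = c ^ 3 := by
    have h : a * c ^ 4 * b = c ^ 3 * (a * (b * c)) := by ring
    rw [e02, one_mul] at h
    rw [h]
    linear_combination c ^ 3 * hdet
  have hs : c + c ^ 3 + d ^ 4 = 1 + t := by
    rw [← htr, ha, hb]
    ring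
  have ht4 : (1 + t) ^ 4 = 1 + t := by (clear * - h2 ht2 htr; grobner)
  have hs4 : c ^ 4 + d ^ 3 + d = c + c ^ 3 + d ^ 4 := by
    have h : (c + c ^ 3 + d ^ 4) ^ 4 = c + c ^ 3 + d ^ 4 := by rw [hs, ht4]
    have h' : (c + c ^ 3 + d ^ 4) ^ 4 = c ^ 4 + c ^ 12 + d ^ 16 := by
      have h5 : ∀ x y : F, (x + y) ^ 4 = x ^ 4 + y ^ 4 := by
        intro x y
        linear_combination (2 * x ^ 3 * y + 3 * x ^ 2 * y ^ 2 + 2 * x * y ^ 3) * h2
      rw [h5, h5, ← pow_mul, ← pow_mul]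
    rw [h', hc12, hd16] at h
    exact h
  have hu : (c + d) ^ 3 * (1 + (c + d)) = 0 := by grobner
  rcases mul_eq_zero.1 hu with h | h
  · have h6 : c + d = 0 := by
      rw [pow_eq_zero_iff (by norm_num)] at h
      exact h
    have h7 : c = 1 := by
      have h8 : (c + 1) ^ 2 = 0 := by
        linear_combination c * h6 + c * h2 - hcd
      rw [pow_eq_zero_iff (by norm_num)] at h8
      linear_combination h8 - h2
    have h9 : d = 1 := by rw [h7, one_mul] at hcd; exact hcd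
    rw [h7, h9] at hs
    have h10 : t = 0 := by linear_combination -hs + h2
    rw [h10] at ht2
    norm_num at ht2
  · have h6 : c ^ 2 + c + 1 = 0 := by linear_combination c * h - hcd
    have h7 : 1 + t = 0 := by
      rw [← hs]
      (clear * - h2 ht2 htr hdet hcd hb h; grobner)
    have h8 : t = 1 := by linear_combination h7 - h2
    rw [h8] at ht2
    have h9 : (1 : F) = 0 := by linear_combination ht2 + h2
    exact one_ne_zero h9

end four

theorem trace_conj (g h : SUG σ) : Matrix.trace (g⁻¹ * h * g).1.1 = Matrix.trace h.1.1 := by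
  have e : (g⁻¹ * h * g).1.1 = g⁻¹.1.1 * (h * g).1.1 := by rw [mul_assoc]; rfl
  rw [e, Matrix.trace_mul_comm]
  have e2 : (h * g).1.1 * g⁻¹.1.1 = (h * g * g⁻¹).1.1 := rfl
  rw [e2, mul_inv_cancel_right]

attribute [-instance] instNoNatZeroDivisorsOfIsAddTorsionFree instIsCharPOfIsLeftCancelAddOfCharP in
/-- **`q = 4`** -/
theorem gInv3_four [Finite M] {π : SUG σ →* M} (E : Mod 4 π) (h2 : (2 : F) = 0) (hT : H601.OddDeg.TwoC M)
    (hev : Even (Nat.card M)) {ρ : F ≃+* F} (hρ : ∀ x, ρ x = x ^ 4) : GInv3 (fld E ρ) := by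
  classical
  have hFt : Fintype M := Fintype.ofFinite M
  have hF : Fintype.card F = 4 ^ 2 := E.card
  -- an element of order three
  obtain ⟨t, ht2⟩ : ∃ t : F, t * t = t + 1 := by
    have h3 : 3 ∣ Nat.card Fˣ := by
      rw [Nat.card_units, Nat.card_eq_fintype_card, hF]
      norm_num
    obtain ⟨u, hu⟩ := exists_prime_orderOf_dvd_card' (hp := ⟨Nat.prime_three⟩) 3 h3
    have h4 : u ^ 3 = 1 := by rw [← hu, pow_orderOf_eq_one]
    have h5 : u ≠ 1 := by
      rintro rfl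
      rw [orderOf_one] at hu
      norm_num at hu
    have h6 : (u : F) ≠ 1 := fun h => h5 (Units.ext h)
    have h7 : (u : F) ^ 3 = 1 := by rw [← Units.val_pow_eq_pow_val, h4, Units.val_one]
    refine ⟨u, ?_⟩
    have h8 : ((u : F) - 1) * ((u : F) * u + u + 1) = 0 := by linear_combination h7
    have h9 := (mul_eq_zero.1 h8).resolve_left (sub_ne_zero.2 h6)
    linear_combination h9 - ((u : F) + 1) * h2
  have ht4 : t ^ 4 = t := by grobner
  have hts : t + σ t = 0 := by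
    rw [E.pow, ht4]
    linear_combination t * h2
  have hρt : ρ t = t := by rw [hρ, ht4]
  have hρ2 : ρ ^ 2 = 1 := by
    ext x
    rw [sq, RingAut.mul_apply, hρ, hρ, ← pow_mul]
    have h := FiniteField.pow_card x
    rwa [hF] at h
  obtain ⟨χ, -, hχ⟩ := exists_inv E (by norm_num) h2 (by decide) hρ (ι := Unit) (i := fun _ => 1)
    (by intro _ _; decide) (by intro k k' h; exact absurd (Subsingleton.elim k k') h) (by
      intro _
      left
      decide)
  set x := π (wel σ * emb σ (hgt hts)) with hx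
  have hx5 : x ^ 5 = 1 := by rw [hx, ← map_pow, wx_pow h2 hts ht2, map_one]
  have hxB : ∀ g : M, g⁻¹ * x * g ∉ (_root_.Cfsg.Agent.UThreeGen.MatGroup.borel σ).map π := by
    intro g hg
    obtain ⟨g, rfl⟩ := E.surj g
    rw [hx, ← map_inv, ← map_mul, ← map_mul] at hg
    have h3 := E.mem_of_map hg
    refine trace_ne h2 E.pow rfl hF ht2 h3 ?_
    rw [trace_conj, wx_val h2, Matrix.trace_fin_three]
    simp
  have hx1 : x ≠ 1 := by
    intro h
    refine hxB 1 ?_
    rw [h]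
    simp
  have : Fact (Nat.Prime 5) := ⟨Nat.prime_five⟩
  have hxo : orderOf x = 5 := orderOf_eq_prime hx5 hx1
  have hO := (hχ ()).1
  refine inv3_of_elt hev (hO.sf.good hO.odd hT) (fld E ρ) ⟨1, 1, fun y => ?_⟩ hO.fix (x := x) (g := 1) hx1
    (by rw [hxo]; decide) ?_ ?_
  · rw [pow_one, ← map_pow, hρ2, map_one]
    simp
  · rw [one_mul, inv_one, mul_one, hx, map_mul, map_mul, fld_wel, fld_emb, mapH_hgt E.pow hts hρt]
  · intro y hy hy1
    refine (hχ ()).2.2 y fun g hg => ?_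
    have h3 : orderOf y = 5 := by
      refine orderOf_eq_prime ?_ hy1
      obtain ⟨k, rfl⟩ := hy
      show (x ^ k) ^ 5 = 1
      rw [← zpow_natCast, ← _root_.zpow_mul, mul_comm, _root_.zpow_mul, zpow_natCast, hx5, _root_.one_zpow]
    have h4 : Subgroup.zpowers y = Subgroup.zpowers x := by
      refine Subgroup.eq_of_le_of_card_ge (Subgroup.zpowers_le.2 hy) ?_
      rw [Nat.card_zpowers, Nat.card_zpowers, h3, hxo]
    have h5 : x ∈ Subgroup.zpowers y := by rw [h4]; exact Subgroup.mem_zpowers x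
    obtain ⟨k, hk⟩ := h5
    apply hxB g
    have h6 : g⁻¹ * x * g = (g⁻¹ * y * g) ^ k := by
      have h7 := conj_zpow (a := g⁻¹) (b := y) (i := k)
      rw [inv_inv] at h7
      rw [h7, ← hk]
    rw [h6]
    exact Subgroup.zpow_mem _ hg k

/-! ### the shape of a field automorphism -/

theorem shape {F : Type*} [Field F] [Fintype F] [CharP F 2] {N : ℕ} (hN : 1 ≤ N) (hF : Fintype.card F = 2 ^ N)
    {ρ : F ≃+* F} (hρ1 : ρ ≠ 1) (hρ : ∃ k : ℕ, ρ ^ 2 ^ k = 1) :
    ∃ c d s : ℕ, 1 ≤ c ∧ d * 2 ^ c = N ∧ Odd s ∧ orderOf ρ = 2 ^ c ∧ ∀ x, ρ x = x ^ ((2 ^ d) ^ s) := by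
  have : Fact (Nat.Prime 2) := ⟨Nat.prime_two⟩
  obtain ⟨k, hk⟩ := hρ
  obtain ⟨c, -, hc⟩ := (Nat.dvd_prime_pow Nat.prime_two).1 (orderOf_dvd_of_pow_eq_one hk)
  obtain ⟨n, rfl⟩ := Cfsg.Agent.StdRank2.OutSpCyc.exists_frob_pow ρ
  have hfin : Finite (F ≃+* F) :=
    Nat.finite_of_card_ne_zero (by rw [Cfsg.Agent.Lib.FieldAutCard.card_ringAut hN hF]; omega)
  have hord : orderOf (Cfsg.Agent.StdRank2.OutSpGraph.frob F) = N := by
    rw [orderOf_eq_card_of_forall_mem_zpowers (fun τ => ?_), Cfsg.Agent.Lib.FieldAutCard.card_ringAut hN hF]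
    obtain ⟨i, rfl⟩ := Cfsg.Agent.StdRank2.OutSpCyc.exists_frob_pow τ
    exact ⟨i, zpow_natCast _ _⟩
  have hc1 : 1 ≤ c := by
    by_contra h
    have : c = 0 := by omega
    subst this
    rw [pow_zero] at hc
    exact hρ1 (orderOf_eq_one_iff.1 hc)
  have hc' := hc
  rw [orderOf_pow, hord] at hc'
  set d := Nat.gcd N n with hd
  have hd0 : 0 < d := Nat.gcd_pos_of_pos_left _ hN
  have hdN : d ∣ N := Nat.gcd_dvd_left _ _
  obtain ⟨s, hs⟩ : d ∣ n := Nat.gcd_dvd_right _ _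
  have hcop : Nat.Coprime (N / d) (n / d) := Nat.coprime_div_gcd_div_gcd hd0
  rw [hc', hs, Nat.mul_div_cancel_left _ hd0] at hcop
  refine ⟨c, d, s, hc1, ?_, ?_, hc, ?_⟩
  · rw [← hc', Nat.mul_div_cancel' hdN]
  · have h1 : Nat.Coprime 2 s := Nat.Coprime.coprime_dvd_left (dvd_pow_self 2 (by omega)) hcop
    exact Nat.coprime_two_left.1 h1
  · intro x
    have h1 : ∀ (n : ℕ) (x : F), ((Cfsg.Agent.StdRank2.OutSpGraph.frob F) ^ n) x = x ^ (2 ^ n) := by
      intro n
      induction n with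
      | zero => intro x; simp
      | succ n ih =>
        intro x
        rw [pow_succ, RingAut.mul_apply, ih, Cfsg.Agent.StdRank2.OutSpGraph.frob_apply, ← sq, ← pow_mul, pow_succ,
          mul_comm]
    rw [h1, hs, pow_mul]

/-- **field automorphisms** -/
theorem gInv3_fld [Finite M] (E : _root_.Cfsg.Agent.H705.PSU.Mod q π) (h2 : (2 : F) = 0) (hT : H601.OddDeg.TwoC M) (hevM : Even (Nat.card M))
    {ρ : F ≃+* F} {c d s : ℕ} (hd : 2 ≤ d) (hs : Odd s) (hq : q = (2 ^ d) ^ 2 ^ c)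
    (hρ : ∀ x, ρ x = x ^ ((2 ^ d) ^ s)) : GInv3 (fld E ρ) := by
  set r := 2 ^ d with hr
  have hr4 : 4 ≤ r := by
    calc 4 = 2 ^ 2 := rfl
      _ ≤ 2 ^ d := Nat.pow_le_pow_right (by norm_num) hd
  have hrev : Even r := (Nat.even_pow.2 ⟨even_two, by omega⟩)
  have fin : ∀ (i : Fin 2 → ℕ), (∀ k k', ¬ (q - 1) ∣ i k + i k') → (∀ k k', k ≠ k' → ¬ i k ≡ i k' [MOD q - 1]) →
      (∀ k, i k * r ^ s ≡ i k [MOD q - 1] ∨ (q - 1) ∣ i k + i k * r ^ s) → GInv3 (fld E ρ) := by
    intro i h1 h3 h4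
    have hq1 : 1 < q := by
      rw [hq]
      exact Nat.one_lt_pow (by positivity) (by omega)
    have hev : Even q := by
      rw [hq]
      exact Nat.even_pow.2 ⟨hrev, by positivity⟩
    obtain ⟨χ, hinj, hχ⟩ := exists_inv E hq1 h2 hev hρ h1 h3 h4
    exact GInv3.of_os hT (one_os _) (hχ 0).1 (hχ 1).1 (hχ 0).2.1.symm (hχ 1).2.1.symm
      (fun h => absurd (hinj h) (by decide))
  rcases Nat.eq_zero_or_pos c with rfl | hc
  · rw [pow_zero, pow_one] at hq
    subst hq
    rcases Nat.lt_or_ge d 3 with h3 | h3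
    · have hd2 : d = 2 := by omega
      subst hd2
      have hr' : r = 4 := hr
      clear_value r
      subst hr'
      refine gInv3_four E h2 hT hevM fun x => ?_
      obtain ⟨k, rfl⟩ := hs
      rw [hρ, pow_add, pow_one, pow_mul, pow_mul]
      have h5 : ∀ (k : ℕ) (x : F), x ^ ((4 ^ 2) ^ k) = x := by
        intro k
        induction k with
        | zero => intro x; simp
        | succ k ih =>
          intro x
          rw [pow_succ, pow_mul, ih]
          have h := FiniteField.pow_card x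
          rwa [E.card] at h
      rw [h5]
    · have hr8 : 8 ≤ r := by
        calc 8 = 2 ^ 3 := rfl
          _ ≤ 2 ^ d := Nat.pow_le_pow_right (by norm_num) h3
      have hodd : Odd (r - 1) := Nat.Even.sub_odd (by omega) hrev odd_one
      refine fin ![1, 2] ?_ ?_ ?_
      · intro k k' h
        have h5 := Nat.le_of_dvd (by (revert k k'; simp only [_root_.Fin.forall_fin_succ, _root_.add_pos_iff, Fin.isValue, _root_.Matrix.cons_val_zero, _root_.Order.lt_one_iff, _root_.or_true, _root_.implies_true, _root_.Matrix.cons_val_succ, _root_.Matrix.cons_val_fin_one, _root_.Order.lt_two_iff, _root_.zero_le, _root_.and_self])) h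
        fin_cases k <;> fin_cases k' <;> simp only [_root_.Fin.zero_eta, _root_.Fin.isValue, _root_.Matrix.cons_val_zero, _root_.Nat.reduceAdd, _root_.tsub_le_iff_right, _root_.Fin.mk_one, _root_.Matrix.cons_val_one, _root_.Matrix.cons_val_fin_one] at h5 <;> omega
      · intro k k' hk h
        have h5 := Nat.ModEq.eq_of_lt_of_lt h (by (revert k; simp only [_root_.Fin.forall_fin_succ, _root_.ne_eq, Fin.isValue, _root_.Matrix.cons_val_zero, _root_.Matrix.cons_val_succ, _root_.Matrix.cons_val_fin_one, _root_.Fin.succ_zero_eq_one, _root_.IsEmpty.forall_iff, _root_.and_true]) <;> (repeat' with_reducible apply And.intro) <;> omega) (by (revert k'; simp only [_root_.Fin.forall_fin_succ, _root_.ne_eq, Fin.isValue, _root_.Matrix.cons_val_zero, _root_.Matrix.cons_val_succ, _root_.Matrix.cons_val_fin_one, _root_.Fin.succ_zero_eq_one, _root_.IsEmpty.forall_iff, _root_.and_true]) <;> (repeat' with_reducible apply And.intro) <;> omega)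
        revert h5 hk
        (revert k k'; simp only [_root_.Fin.forall_fin_succ, _root_.ne_eq, _root_.imp_false, Fin.isValue, _root_.Matrix.cons_val_zero, _root_.Matrix.cons_val_succ, _root_.Matrix.cons_val_fin_one, _root_.Fin.succ_zero_eq_one, _root_.IsEmpty.forall_iff, _root_.and_true, _root_.not_true_eq_false, _root_.imp_self, _root_.implies_true, _root_.zero_ne_one, _root_.not_false_eq_true, _root_.OfNat.one_ne_ofNat, _root_.and_self, _root_.Fin.succ_ne_zero, _root_.OfNat.ofNat_ne_one, _root_.Decidable.not_not, _root_.true_and])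
      · intro k
        left
        have h5 : r ≡ 1 [MOD r - 1] := (Nat.modEq_iff_dvd' (by omega)).2 dvd_rfl |>.symm
        have h6 := (h5.pow s).mul_left (![1, 2] k)
        rwa [one_pow, mul_one] at h6
  · -- `r ^ 2 - 1 ∣ q - 1`
    obtain ⟨K, hK⟩ : (r - 1) * (r + 1) ∣ q - 1 := by
      obtain ⟨c', rfl⟩ : ∃ c', c = c' + 1 := ⟨c - 1, by omega⟩
      have h5 : q = (r ^ 2) ^ 2 ^ c' := by
        rw [hq, pow_succ 2 c', mul_comm (2 ^ c') 2]
        exact pow_mul r 2 _
      have h6 : (r - 1) * (r + 1) = r ^ 2 - 1 := by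
        obtain ⟨k, hk⟩ : ∃ k, r = k + 1 := ⟨r - 1, by omega⟩
        rw [hk]
        simp only [Nat.add_sub_cancel]
        have : (k + 1) ^ 2 = k * (k + 1 + 1) + 1 := by ring
        rw [this, Nat.add_sub_cancel]
      rw [h5, h6]
      simpa only [_root_.one_pow] using Nat.sub_dvd_pow_sub_pow (r ^ 2) 1 (2 ^ c')
    have hK0 : 0 < K := by
      rcases Nat.eq_zero_or_pos K with h | h
      · rw [h, mul_zero] at hK
        have hq1 : 1 < q := by
          rw [hq]
          exact Nat.one_lt_pow (by positivity) (by omega)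
        omega
      · exact h
    refine fin ![(r + 1) * K, (r - 1) * K] ?_ ?_ ?_
    · have hkey : ∀ m : ℕ, 0 < m → m < (r - 1) * (r + 1) → ¬ (q - 1) ∣ m * K := by
        intro m hm0 hm h
        rw [hK, Nat.mul_dvd_mul_iff_right hK0] at h
        exact absurd (Nat.le_of_dvd hm0 h) (not_le.2 hm)
      obtain ⟨k, hk⟩ : ∃ k, r = k + 1 := ⟨r - 1, by omega⟩
      have h7 : (r + 1) + (r + 1) < (r - 1) * (r + 1) := by
        rw [hk, Nat.add_sub_cancel]
        have : 3 ≤ k := by omega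
        nlinarith only [hr4, hk]
      intro i i' h
      fin_cases i <;> fin_cases i'
      · exact hkey ((r + 1) + (r + 1)) (by omega) h7 (by rw [add_mul]; exact h)
      · exact hkey ((r + 1) + (r - 1)) (by omega) (by omega) (by rw [add_mul]; exact h)
      · exact hkey ((r - 1) + (r + 1)) (by omega) (by omega) (by rw [add_mul]; exact h)
      · exact hkey ((r - 1) + (r - 1)) (by omega) (by omega) (by rw [add_mul]; exact h)
    · have h8 : (r + 1) * K < q - 1 := by
        rw [hK]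
        refine Nat.mul_lt_mul_of_pos_right ?_ hK0
        exact lt_mul_of_one_lt_left (by omega) (by omega)
      have h9 : (r - 1) * K < (r + 1) * K := Nat.mul_lt_mul_of_pos_right (by omega) hK0
      intro i i' hi h
      have h5 := Nat.ModEq.eq_of_lt_of_lt h (by (revert i; simp only [_root_.Fin.forall_fin_succ, _root_.ne_eq, Fin.isValue, _root_.Matrix.cons_val_zero, _root_.Matrix.cons_val_succ, _root_.Matrix.cons_val_fin_one, _root_.Fin.succ_zero_eq_one, _root_.IsEmpty.forall_iff, _root_.and_true]) <;> (repeat' with_reducible apply And.intro) <;> omega) (by (revert i'; simp only [_root_.Fin.forall_fin_succ, _root_.ne_eq, Fin.isValue, _root_.Matrix.cons_val_zero, _root_.Matrix.cons_val_succ, _root_.Matrix.cons_val_fin_one, _root_.Fin.succ_zero_eq_one, _root_.IsEmpty.forall_iff, _root_.and_true]) <;> (repeat' with_reducible apply And.intro) <;> omega)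
      revert h5 hi
      (revert i i'; simp only [_root_.Fin.forall_fin_succ, _root_.ne_eq, _root_.imp_false, Fin.isValue, _root_.Matrix.cons_val_zero, _root_.Matrix.cons_val_succ, _root_.Matrix.cons_val_fin_one, _root_.Fin.succ_zero_eq_one, _root_.IsEmpty.forall_iff, _root_.and_true, _root_.not_true_eq_false, _root_.imp_self, _root_.implies_true, _root_.zero_ne_one, _root_.not_false_eq_true, _root_.mul_eq_mul_right_iff, _root_.not_or, _root_.forall_const, _root_.true_and, _root_.Fin.succ_ne_zero, _root_.Nat.pred_eq_succ_iff, _root_.Nat.left_eq_add, _root_.OfNat.ofNat_ne_zero, _root_.false_or, _root_.Decidable.not_not]) <;> (repeat' with_reducible apply And.intro) <;> omega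
    · intro i
      fin_cases i
      · left
        have h5 : r ≡ 1 [MOD r - 1] := (Nat.modEq_iff_dvd' (by omega)).2 dvd_rfl |>.symm
        have h6 : r ^ s ≡ 1 [MOD r - 1] := by simpa using h5.pow s
        have h7 := h6.mul_left' ((r + 1) * K)
        rw [mul_one, show (r + 1) * K * (r - 1) = q - 1 by rw [hK]; ring] at h7
        exact h7
      · right
        show q - 1 ∣ (r - 1) * K + (r - 1) * K * r ^ s
        have h5 : r + 1 ∣ r ^ s + 1 ^ s := hs.nat_add_dvd_pow_add_pow r 1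
        rw [one_pow] at h5
        rw [hK, show (r - 1) * K + (r - 1) * K * r ^ s = (r - 1) * K * (r ^ s + 1) by ring,
          show (r - 1) * (r + 1) * K = (r - 1) * K * (r + 1) by ring]
        exact Nat.mul_dvd_mul_left _ h5

/-! ### the final statement -/

/-- powers of a product with an inner automorphism -/
theorem isInn_pow_iff {x τ β : MulAut M} {g : M} (e : x * τ * x⁻¹ = MulAut.conj g * β) (k : ℕ) :
    IsInn (τ ^ k) ↔ IsInn (β ^ k) := by
  obtain ⟨s, hs⟩ := exists_pow_conj g β k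
  rw [← e] at hs
  have h1 : x * τ ^ k * x⁻¹ = MulAut.conj s * β ^ k := by rw [← hs, conj_pow]
  exact Red.isInn_iff_red h1

/-- **QE6**, the `GInv3` half: `PSU₃(q)`, `q = 2 ^ f ≥ 4` -/
theorem gInv3_psu3 {F : Type} [Field F] [Fintype F] [CharP F 2] {q f : ℕ} (hF : Fintype.card F = q ^ 2)
    (hqf : q = 2 ^ f) (hq : 4 ≤ q) {τ : MulAut (PSU 3 F q)} (hτ : TwoPow τ) (ho : ¬ IsInn τ)
    (hs : ¬ ((∃ b : ℕ, f = 2 ^ b) ∧ ∀ j : ℕ, IsInn (τ ^ j) → 2 * f ∣ j)) [IsSimpleGroup (PSU 3 F q)] : GInv3 τ := by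
  have hT : H601.OddDeg.TwoC (PSU 3 F q) := H742.TwoC.twoC_charTwo (by
    unfold IsLieTypeChar
    exact Or.inr (Or.inr (Or.inl ⟨F, inferInstance, inferInstance, inferInstance, 3, q, hF, le_rfl,
      by omega, ⟨MulEquiv.refl _⟩⟩)))
  obtain ⟨σ, hσ, π, E⟩ := exists_mod F hF (by omega)
  have hfin : Finite (PSU 3 F q) := Finite.of_surjective π E.surj
  obtain ⟨x, g, ρ, e⟩ := exists_red E hF (by omega) hτ
  rw [Red.gInv3_iff_red e]
  have hpi := fun k => isInn_pow_iff e k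
  have hρk : ∀ k, IsInn (τ ^ k) ↔ ρ ^ k = 1 := by
    intro k
    rw [hpi, ← map_pow]
    constructor
    · exact eq_one_of_isInn E (by omega)
    · intro h
      rw [h, map_one]
      exact ⟨1, fun y => by simp only [_root_.MulAut.one_apply, _root_.one_mul, _root_.inv_one, _root_.mul_one]⟩
  have hρ1 : ρ ≠ 1 := by
    intro h
    apply ho
    have h1 := (hρk 1).2 (by rw [h, one_pow])
    rwa [pow_one] at h1
  have hf1 : 1 ≤ f := by
    by_contra h
    have : f = 0 := by omega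
    rw [hqf, this] at hq
    norm_num at hq
  obtain ⟨c, d, s, hc, hdc, hso, hord, hρ⟩ := shape (N := 2 * f) (by omega)
    (by rw [hF, hqf, ← pow_mul, mul_comm]) hρ1 (by
      obtain ⟨k, s, hk⟩ := hτ
      exact ⟨k, (hρk _).1 ⟨s, hk⟩⟩)
  have hcf : d * 2 ^ (c - 1) = f := by
    obtain ⟨c', rfl⟩ : ∃ c', c = c' + 1 := ⟨c - 1, by omega⟩
    rw [Nat.add_sub_cancel]
    rw [pow_succ, ← mul_assoc] at hdc
    omega
  have hd2 : 2 ≤ d := by
    by_contra h
    have hd0 : d ≠ 0 := by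
      rintro rfl
      rw [zero_mul] at hcf
      omega
    have hd1 : d = 1 := by omega
    apply hs
    refine ⟨⟨c - 1, by rw [← hcf, hd1, one_mul]⟩, fun j hj => ?_⟩
    have h1 := orderOf_dvd_of_pow_eq_one ((hρk j).1 hj)
    rwa [hord, show 2 ^ c = 2 * f by rw [← hdc, hd1, one_mul]] at h1
  refine gInv3_fld E (CharP.cast_eq_zero F 2) hT ?_ hd2 hso (c := c - 1) (by rw [hqf, ← hcf, pow_mul]) hρ
  have h1 : Even q := by
    rw [hqf]
    exact Nat.even_pow.2 ⟨even_two, by omega⟩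
  have : Fact (Nat.Prime 2) := ⟨Nat.prime_two⟩
  obtain ⟨P₀, hP₀⟩ := E.exists_syl (r := 2) (by omega)
  have h2 : (emb σ).range.map π ≠ ⊥ := E.unip_ne (by omega)
  have hUp : IsPGroup 2 ((emb σ).range.map π) := by
    rw [← hP₀]
    exact P₀.isPGroup'
  obtain ⟨k, hk⟩ := IsPGroup.iff_card.1 hUp
  have hk0 : k ≠ 0 := by
    rintro rfl
    rw [pow_zero] at hk
    exact h2 (Subgroup.eq_bot_of_card_eq _ hk)
  have h3 : Even (Nat.card ((emb σ).range.map π)) := by
    rw [hk]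
    exact Nat.even_pow.2 ⟨even_two, hk0⟩
  exact even_iff_two_dvd.2 ((even_iff_two_dvd.1 h3).trans (Subgroup.card_subgroup_dvd_card _))

end Cfsg.Agent.H805.K547.PSU3
end

-- part: H805/K547/PSU3Row
section
/-!
# S4547-QE6: the row `PSU₃(q)`, `q ≥ 4` even, from the special case (helper805)

* `StSpec` : the special outer 2-automorphisms (helper42);
* `ge_psu3` : `GE (PSU 3 F q)`, the field `psu3` of `EvenSmall`.
-/

set_option autoImplicit false
set_option linter.unusedSectionVars false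

open Cfsg

namespace Cfsg.Agent.H805.K547.PSU3

open Cfsg.Agent.H821.K547 Cfsg.Agent.H151.K547 Cfsg.Agent.H42.K547.Even

/-- the special outer 2-automorphisms of `PSU₃(2 ^ f)` -/
def StSpec : Prop :=
  ∀ {F : Type} [Field F] [Fintype F] {f : ℕ}, 2 ≤ f → Fintype.card F = (2 ^ f) ^ 2 →
    IsSimpleGroup (PSU 3 F (2 ^ f)) → ∀ τ : MulAut (PSU 3 F (2 ^ f)), TwoPow τ → ¬ IsInn τ → Spec τ (2 * f) → ExtRow _ τ

/-- `GInv3` or special -/
theorem gInv3_or {F : Type} [Field F] [Fintype F] [CharP F 2] {f : ℕ} (hf : 2 ≤ f)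
    (hF : Fintype.card F = (2 ^ f) ^ 2) [IsSimpleGroup (PSU 3 F (2 ^ f))] {τ : MulAut (PSU 3 F (2 ^ f))} (hτ : TwoPow τ)
    (ho : ¬ IsInn τ) : GInv3 τ ∨ Spec τ (2 * f) := by
  by_cases hs : (∃ b : ℕ, f = 2 ^ b) ∧ ∀ j : ℕ, IsInn (τ ^ j) → 2 * f ∣ j
  · obtain ⟨⟨b, hb⟩, hs⟩ := hs
    exact Or.inr ⟨⟨b + 1, by rw [hb, pow_succ, mul_comm]⟩, hs⟩
  · refine Or.inl (gInv3_psu3 hF rfl ?_ hτ ho hs)
    calc 4 = 2 ^ 2 := rfl
      _ ≤ 2 ^ f := Nat.pow_le_pow_right (by norm_num) hf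

/-- **the row** -/
theorem ge_psu3 (hsp : StSpec) {F : Type} [Field F] [Fintype F] [CharP F 2] {q : ℕ} (hF : Fintype.card F = q ^ 2)
    (hq : 4 ≤ q) [IsSimpleGroup (PSU 3 F q)] : GE (PSU 3 F q) := by
  intro τ hτ ho
  obtain ⟨f, hf, rfl⟩ := exists_exp F hF
  have hf2 : 2 ≤ f := by
    by_contra h
    have : f = 1 := by omega
    subst this
    norm_num at hq
  rcases gInv3_or hf2 hF hτ ho with h | h
  · exact Or.inl h
  · exact Or.inr (hsp hf2 hF inferInstance τ hτ ho h)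

end Cfsg.Agent.H805.K547.PSU3
end

-- part: H845/K547F/Cus
section
/-!
# S4547, `q` even: `β`-fixed characters of type `{a, b}`, `β` interchanging the nodes `a`, `b` (helper845, task QE14)

* `cusp_node_comp` : the twist of a cuspidal character of a node;
* `ocs_pair` : `β² = 1` on `M_a`, `σ` interchanges `a` and `b`, orthogonal: `M_(a,b)` has a cuspidal `OS` character.
-/

set_option autoImplicit false
set_option linter.unusedSectionVars false

open scoped ComplexConjugate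
open Cfsg

namespace Cfsg.Agent.H845.K547F

open Cfsg.Agent.OddOrderCharacters.Clifford Cfsg.Agent.Characters Cfsg.Agent.H601.K4 Cfsg.Agent.H967.K4
  Cfsg.Agent.H821.K547 Cfsg.Agent.H307.QE
open CoxeterSystem Cfsg.Agent.ChevalleyStructure.CoxeterGeom Cfsg.Agent.Tits.Roots Cfsg.Agent.Tits.Core
  Cfsg.Agent.Tits.Exchange Cfsg.Agent.Nodes.Reps Cfsg.Agent.Nodes.BNOf Cfsg.Agent.Nodes.StabComb
  Cfsg.Agent.Nodes.Bruhat Cfsg.Agent.Nodes.OppDec Cfsg.Agent.Nodes.LeviDec Cfsg.Agent.H53.HC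
  Cfsg.Agent.H246.Dl Cfsg.Agent.KFacts.RgdAut Cfsg.Agent.KFacts.RgdDiag

universe u

section gen

variable {Y : Type u} [Group Y]

/-- an automorphism mapping `H` onto `H'` -/
def mEq (β : MulAut Y) {H H' : Subgroup Y} (hH : ∀ x, β x ∈ H' ↔ x ∈ H) : H ≃* H' where
  toFun x := ⟨β x, (hH x).2 x.2⟩
  invFun x := ⟨β⁻¹ x, by rw [← hH, MulAut.apply_inv_self]; exact x.2⟩
  left_inv x := Subtype.ext (MulAut.inv_apply_self _ β (x : Y))
  right_inv x := Subtype.ext (MulAut.apply_inv_self _ β (x : Y))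
  map_mul' x y := Subtype.ext (map_mul β (x : Y) y)

end gen

section rgd

variable {I W : Type*} {Y : Type u} [Fintype I] [DecidableEq I] [Group W] [Group Y] {M : CoxeterMatrix I}
  {cs : CoxeterSystem M W} {A : I → I → ℤ} {h : IsCartan M A} {T : Subgroup Y} {n : I → Y}
  {X : (I → ℤ) → Subgroup Y}

theorem rad_singleton (i : I) : rad cs h X {i} i = X (sr i) := by
  rw [← UJ_singleton (cs := cs) (h := h) (X := X) i]
  apply le_antisymm (rad_le_UJ _ _)
  refine RGD.Sup_mono fun x hx => ⟨hx, ?_⟩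
  obtain ⟨j, hj, hj0⟩ := exists_ne_zero (PosJ_subset {i} hx)
  rw [Set.mem_singleton_iff] at hj
  subst hj
  exact lt_of_le_of_ne (hx.2.1 j) (Ne.symm hj0)

theorem mem_MJ_iff [Finite W] [Finite Y] (R : RGD cs h 2 T n X) (hG : GG cs h T X = ⊤) {β : MulAut Y}
    {σ : Equiv.Perm I} (hN : Nrm R β σ) (K : Set I) (x : Y) : β x ∈ MJ cs h X (σ '' K) ↔ x ∈ MJ cs h X K := by
  constructor
  · intro hx
    have h1 := mem_MJ_of_mem R (hN.inv hG).diag hx
    have h2 : (σ⁻¹ : Equiv.Perm I) '' (σ '' K) = K := by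
      rw [← Set.image_comp]
      simp
    rwa [h2, MulAut.inv_apply_self] at h1
  · exact fun hx => mem_MJ_of_mem R hN.diag hx

/-- the twist of a cuspidal character of a node -/
theorem cusp_node_comp [Finite W] [Finite Y] (R : RGD cs h 2 T n X) {β : MulAut Y} {σ : Equiv.Perm I}
    (hN : Nrm R β σ) {a b : I} (hba : σ b = a) (hM : ∀ x, β x ∈ MJ cs h X {a} ↔ x ∈ MJ cs h X {b})
    {θ : ↥(MJ cs h X {a}) → ℂ} (hθ : Cusp cs h X {a} θ) : Cusp cs h X {b} (θ ∘ mEq β hM) where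
  irr := Core.isIrr_comp (mEq β hM).toMonoidHom (mEq β hM).surjective hθ.irr
  cen := by
    intro z hz m
    rw [Function.comp_apply, Function.comp_apply, map_mul]
    refine hθ.cen _ ?_ _
    rw [Subgroup.mem_center_iff] at hz ⊢
    intro g
    obtain ⟨g, rfl⟩ := (mEq β hM).surjective g
    rw [← map_mul, ← map_mul, hz]
  van := by
    intro i hi hf
    rw [Set.mem_singleton_iff] at hi
    subst hi
    have hr : ∀ x, β x ∈ rad cs h X {a} a ↔ x ∈ rad cs h X {i} i := by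
      intro x
      rw [rad_singleton, rad_singleton, ← hba]
      exact hN.diag.pos i x
    have : Fintype (rad cs h X {a} a) := Fintype.ofFinite _
    rw [← hθ.van a rfl]
    exact Fintype.sum_equiv (mEq β hr).toEquiv _ _ fun u => rfl

/-- **A cuspidal `OS` character of `M_(a,b)`.** -/
theorem ocs_pair [Finite W] [Finite Y] (R : RGD cs h 2 T n X) (hG : GG cs h T X = ⊤) {β : MulAut Y}
    {σ : Equiv.Perm I} (hN : Nrm R β σ) {a b : I} (hab : σ a = b) (hba : σ b = a) (hne : a ≠ b) (hA : A a b = 0)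
    (hA' : A b a = 0) (hoc : OC cs h X {a}) (hβ : ∀ x ∈ MJ cs h X {a}, β (β x) = x) (hK : σ '' ({a} ∪ {b}) = {a} ∪ {b}) :
    OCS R hG hN hK := by
  obtain ⟨θ, h1, h2, h3⟩ := hoc
  have ho : Orth A ({a} : Set I) {b} := by
    rintro i rfl j rfl
    exact ⟨hne, hA, hA'⟩
  have hM : ∀ x, β x ∈ MJ cs h X {a} ↔ x ∈ MJ cs h X {b} := by
    intro x
    have := mem_MJ_iff R hG hN {b} x
    rwa [Set.image_singleton, hba] at this
  have hM' : ∀ x, β x ∈ MJ cs h X {b} ↔ x ∈ MJ cs h X {a} := by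
    intro x
    have := mem_MJ_iff R hG hN {a} x
    rwa [Set.image_singleton, hab] at this
  have h1' := cusp_node_comp R hN hba hM h1
  obtain ⟨ψ, hψ, hv⟩ := h1.exists_prod R ho h1'
  have hcomm := ho.comm R
  have hdec : ∀ y ∈ MJ cs h X ({a} ∪ {b}), ∃ x ∈ MJ cs h X {a}, ∃ z ∈ MJ cs h X {b}, y = x * z := by
    intro y hy
    rw [ho.MJ_union] at hy
    refine mem_sup _ _ (fun z hz => mem_normalizer_of_comm fun x hx => hcomm x hx z hz) hy
  have hone : ψ 1 = θ 1 * θ 1 := by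
    obtain ⟨hab, e⟩ := hv 1 (one_mem _) 1 (one_mem _)
    have e1 : (⟨1 * 1, hab⟩ : ↥(MJ cs h X ({a} ∪ {b}))) = 1 := Subtype.ext (mul_one 1)
    rw [e1] at e
    rw [e, Function.comp_apply]
    have e2 : mEq β hM ⟨1, one_mem _⟩ = 1 := Subtype.ext (map_one β)
    rw [e2]
    rfl
  refine ⟨ψ, hψ, ⟨⟨hψ.irr, ?_⟩, ?_, ?_⟩⟩
  · obtain ⟨c, -, hc⟩ := Core.isIrr_apply_one h1.irr
    have e1 : charDegree θ = c := by rw [charDegree, hc]; simp
    have e3 : charDegree ψ = c * c := by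
      rw [charDegree, hone, hc, ← Nat.cast_mul, Complex.natCast_re, Nat.floor_natCast]
    rw [e3]
    rw [e1] at h2
    exact fun h4 => (Nat.prime_two.dvd_mul.1 h4).elim h2 h2
  · obtain ⟨c, hc⟩ := exists_cube Y
    refine SF.of_pow (hc.subgroup _) fun y => ?_
    obtain ⟨x, hx, z, hz, e⟩ := hdec y y.2
    obtain ⟨hab, e1⟩ := hv x hx z hz
    obtain ⟨hab', e2⟩ := hv (x ^ c) (pow_mem hx c) (z ^ c) (pow_mem hz c)
    have hy1 : y = ⟨x * z, hab⟩ := Subtype.ext e
    have hy2 : y ^ c = ⟨x ^ c * z ^ c, hab'⟩ := by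
      apply Subtype.ext
      have h6 : Commute x z := hcomm x hx z hz
      rw [Subgroup.coe_pow, e, h6.mul_pow]
    rw [hy2, hy1, e1, e2]
    have e3 : θ ⟨x ^ c, pow_mem hx c⟩ = θ ⟨x, hx⟩ := h3.apply_pow (hc.subgroup _) ⟨x, hx⟩
    have e4 : (θ ∘ mEq β hM) ⟨z ^ c, pow_mem hz c⟩ = (θ ∘ mEq β hM) ⟨z, hz⟩ :=
      (h3.comp (mEq β hM).toMonoidHom).apply_pow (hc.subgroup _) ⟨z, hz⟩
    rw [e3, e4]
  · rintro ⟨y, hy⟩
    obtain ⟨x, hx, z, hz, rfl⟩ := hdec y hy
    obtain ⟨hab, e1⟩ := hv x hx z hz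
    obtain ⟨hab', e2⟩ := hv (β z) ((hM z).2 hz) (β x) ((hM' x).2 hx)
    have e3 : rAut β (hN.fixMJ hG hK) ⟨x * z, hy⟩ = ⟨β z * β x, hab'⟩ := by
      apply Subtype.ext
      rw [rAut_coe]
      change β (x * z) = β z * β x
      rw [map_mul, hcomm _ ((hM z).2 hz) _ ((hM' x).2 hx)]
    rw [e3, e2, e1, Function.comp_apply, Function.comp_apply]
    have e4 : mEq β hM ⟨β x, (hM' x).2 hx⟩ = ⟨x, hx⟩ := Subtype.ext (hβ x hx)
    rw [e4]
    have e5 : mEq β hM ⟨z, hz⟩ = ⟨β z, (hM z).2 hz⟩ := rfl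
    rw [e5]
    ring

end rgd

end Cfsg.Agent.H845.K547F
end

-- part: H845/K547F/Tor
section
/-!
# S4547, `q` even: characters of the torus of a group with coordinates (helper845, task QE14)

* `cU C i` : the scalars of the simple root `α_i`, `T →* Fˣ`;
* `mu C θ v` : the character `t ↦ ∏ θ(α_i(t)) ^ v_i` of `T`;
* `mu_rp` : the action of the Weyl group;
* `mu_beta` : the action of a frame automorphism.
-/

set_option autoImplicit false
set_option linter.unusedSectionVars false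

open scoped ComplexConjugate
open Cfsg

namespace Cfsg.Agent.H845.K547F

open Cfsg.Agent.H307.QE
open CoxeterSystem Cfsg.Agent.ChevalleyStructure.CoxeterGeom Cfsg.Agent.Tits.Roots Cfsg.Agent.Tits.Core
  Cfsg.Agent.Tits.Exchange Cfsg.Agent.Nodes.Reps Cfsg.Agent.Nodes.BNOf Cfsg.Agent.Nodes.StabComb
  Cfsg.Agent.Nodes.Bruhat Cfsg.Agent.Nodes.OppDec Cfsg.Agent.Nodes.LeviDec Cfsg.Agent.H53.HC
  Cfsg.Agent.KFacts.RgdAut Cfsg.Agent.KFacts.RgdDiag Cfsg.Agent.KFacts.RgdField

universe u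

variable {I W : Type*} {Y : Type u} [Fintype I] [DecidableEq I] [Group W] [Group Y] {M : CoxeterMatrix I}
  {cs : CoxeterSystem M W} {A : I → I → ℤ} {h : IsCartan M A} {T : Subgroup Y} {n : I → Y}
  {X : (I → ℤ) → Subgroup Y} {F : Type*} [Field F] {x : (I → ℤ) → F → Y} {χ : (I → ℤ) → Y → F}

/-- the scalars of a root -/
noncomputable def cR (C : Coords cs h T n X x χ) {r : I → ℤ} (hr : IsRoot cs h r) : ↥T →* Fˣ :=
  MonoidHom.mk' (fun t => Units.mk0 (χ r t) ((C.coord r hr).chi_ne_zero t.2)) (by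
    intro s t
    apply Units.ext
    exact (C.coord r hr).chi_mul s.2 t.2)

theorem coe_cR (C : Coords cs h T n X x χ) {r : I → ℤ} (hr : IsRoot cs h r) (t : T) :
    ((cR C hr t : Fˣ) : F) = χ r t := rfl

/-- the scalars of the simple root `α_i` -/
noncomputable def cU (C : Coords cs h T n X x χ) (i : I) : ↥T →* Fˣ := cR C (isRoot_sr cs h i)

theorem coe_cU (C : Coords cs h T n X x χ) (i : I) (t : T) : ((cU C i t : Fˣ) : F) = χ (sr i) t := rfl

/-- the character of `T` with exponents `v` -/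
noncomputable def mu (C : Coords cs h T n X x χ) (θ : Fˣ →* ℂˣ) (v : I → ℤ) : ↥T →* ℂˣ :=
  MonoidHom.mk' (fun t => ∏ i, θ (cU C i t) ^ v i) (by
    intro s t
    simp only [map_mul, mul_zpow, Finset.prod_mul_distrib])

theorem mu_apply (C : Coords cs h T n X x χ) (θ : Fˣ →* ℂˣ) (v : I → ℤ) (t : T) :
    mu C θ v t = ∏ i, θ (cU C i t) ^ v i := rfl

/-- additivity in the exponents -/
noncomputable def muA (C : Coords cs h T n X x χ) (θ : Fˣ →* ℂˣ) (t : T) : (I → ℤ) →+ Additive ℂˣ :=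
  AddMonoidHom.mk' (fun v => Additive.ofMul (mu C θ v t)) (by
    intro v w
    rw [← ofMul_mul]
    congr 1
    simp only [mu_apply, Pi.add_apply, zpow_add, Finset.prod_mul_distrib])

theorem muA_apply (C : Coords cs h T n X x χ) (θ : Fˣ →* ℂˣ) (t : T) (v : I → ℤ) :
    muA C θ t v = Additive.ofMul (mu C θ v t) := rfl

theorem mu_three {θ : Fˣ →* ℂˣ} (hθ : ∀ a, θ a ^ 3 = 1) (C : Coords cs h T n X x χ) (v w : I → ℤ)
    (hvw : ∀ i, (3 : ℤ) ∣ v i - w i) (t : T) : mu C θ v t = mu C θ w t := by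
  rw [mu_apply, mu_apply]
  refine Finset.prod_congr rfl fun i _ => ?_
  obtain ⟨c, hc⟩ := hvw i
  have e : v i = w i + 3 * c := by omega
  rw [e, zpow_add, zpow_mul, show (θ (cU C i t)) ^ (3 : ℤ) = 1 from hθ _, one_zpow, mul_one]

/-- the product formula for all roots -/
def ProdF (cs : CoxeterSystem M W) (h : IsCartan M A) (T : Subgroup Y) (χ : (I → ℤ) → Y → F) : Prop :=
  ∀ r, IsRoot cs h r → ∀ t ∈ T, χ r t = ∏ i, χ (sr i) t ^ r i

theorem theta_root (C : Coords cs h T n X x χ) (hp : ProdF cs h T χ) (θ : Fˣ →* ℂˣ) {r : I → ℤ}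
    (hr : IsRoot cs h r) (t : T) : θ (cR C hr t) = mu C θ r t := by
  have h1 : cR C hr t = ∏ i, cU C i t ^ r i := by
    apply Units.ext
    rw [coe_cR, hp r hr t t.2, Units.coe_prod]
    refine Finset.prod_congr rfl fun i _ => ?_
    rw [Units.val_zpow_eq_zpow_val, coe_cU]
  rw [h1, map_prod, mu_apply]
  exact Finset.prod_congr rfl fun i _ => map_zpow _ _ _

/-- **The action of the Weyl group.** -/
theorem mu_rp {p : ℕ} (R : RGD cs h p T n X) (C : Coords cs h T n X x χ) (hp : ProdF cs h T χ) (θ : Fˣ →* ℂˣ) {w : W}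
    {g : Y} (hg : Rp cs R.nsys w g) (v : I → ℤ) {t : Y} (ht : t ∈ T) (ht' : g⁻¹ * t * g ∈ T) :
    mu C θ v ⟨g⁻¹ * t * g, ht'⟩ = mu C θ (rep cs h w v) ⟨t, ht⟩ := by
  have h1 : ∀ i, θ (cU C i ⟨g⁻¹ * t * g, ht'⟩) = mu C θ (rep cs h w (sr i)) ⟨t, ht⟩ := by
    intro i
    rw [← theta_root C hp θ ((isRoot_sr cs h i).act w)]
    congr 1
    apply Units.ext
    rw [coe_cU, coe_cR]
    have h2 := C.chi_rp R.nsys hg (isRoot_sr cs h i) ht'
    have e : g * (g⁻¹ * t * g) * g⁻¹ = t := by group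
    rw [e] at h2
    exact h2.symm
  have h3 : muA C θ ⟨t, ht⟩ (rep cs h w v) = ∑ i, v i • muA C θ ⟨t, ht⟩ (rep cs h w (sr i)) := by
    conv_lhs => rw [Cfsg.Agent.H53.HC.eq_sum_sr v]
    rw [map_sum, map_sum]
    refine Finset.sum_congr rfl fun i _ => ?_
    rw [map_zsmul, map_zsmul]
  rw [mu_apply, Finset.prod_congr rfl fun i _ => by rw [h1 i]]
  apply Additive.ofMul.injective
  rw [ofMul_prod, ← muA_apply, h3]
  rfl

theorem mu_rp' {p : ℕ} (R : RGD cs h p T n X) (C : Coords cs h T n X x χ) (hp : ProdF cs h T χ) (θ : Fˣ →* ℂˣ) {w : W}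
    {g : Y} (hg : Rp cs R.nsys w g) (v : I → ℤ) {t : Y} (ht : t ∈ T) (ht' : g * t * g⁻¹ ∈ T) :
    mu C θ v ⟨g * t * g⁻¹, ht'⟩ = mu C θ (rep cs h w⁻¹ v) ⟨t, ht⟩ := by
  have e : g⁻¹⁻¹ * t * g⁻¹ = g * t * g⁻¹ := by rw [inv_inv]
  have h1 := mu_rp R C hp θ hg.inv v ht (by rw [e]; exact ht')
  rw [← h1]
  congr 1
  exact Subtype.ext e.symm

/-- **The action of a frame automorphism.** -/
theorem mu_beta (C : Coords cs h T n X x χ) (θ : Fˣ →* ℂˣ) {β : MulAut Y} {σ : Equiv.Perm I} (hT : _root_.Cfsg.Agent.KFacts.RgdAut.Fix β T)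
    {hσ : ∀ i j, M (σ i) (σ j) = M i j} {τ : I → F ≃+* F} (S : Semi cs h T X x χ β σ hσ τ) {m : I → ℤ}
    (hm : ∀ i a, θ (Units.mapEquiv (τ i).toMulEquiv a) = θ a ^ m i) (v : I → ℤ) {t : Y} (ht : t ∈ T) :
    mu C θ v ⟨β t, (hT t).2 ht⟩ = mu C θ (fun i => m i * v (σ i)) ⟨t, ht⟩ := by
  rw [mu_apply, mu_apply, ← Equiv.prod_comp σ]
  refine Finset.prod_congr rfl fun i _ => ?_
  have e : cU C (σ i) ⟨β t, (hT t).2 ht⟩ = Units.mapEquiv (τ i).toMulEquiv (cU C i ⟨t, ht⟩) := by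
    apply Units.ext
    exact S.char i t ht
  rw [e, hm, ← zpow_mul]

end Cfsg.Agent.H845.K547F
end

-- part: H845/K547F/FFour
section
/-!
# S4547: `F₄(q)`, `q` even, the automorphisms interchanging the root lengths (helper845, task QE14)

* `Q`, `Q_rep` : the invariant quadratic form of the root lattice; it is anisotropic modulo 3 on `⟨α₁, α₂⟩`;
* `gInv3_even` : `|F|` a square: the series of `α₀ + α₃` modulo 3 and `P_{1,2}`;
* `gInv3_odd` : `|F|` not a square: type `{0, 3}` and `P_{1,2}`;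
* `gInv3_swap`, `D3_F4`.
-/

set_option autoImplicit false
set_option linter.unusedSectionVars false

open scoped ComplexConjugate
open Cfsg

namespace Cfsg.Agent.H845.K547F

open Cfsg.Agent.H307.QE Cfsg.Agent.H821.K547 Cfsg.Agent.H967.K4
open CoxeterSystem Cfsg.Agent.ChevalleyStructure.CoxeterGeom Cfsg.Agent.Tits.Roots Cfsg.Agent.Tits.Core
  Cfsg.Agent.Tits.Exchange Cfsg.Agent.Nodes.Reps Cfsg.Agent.Nodes.BNOf Cfsg.Agent.Nodes.StabComb
  Cfsg.Agent.Nodes.Bruhat Cfsg.Agent.Nodes.OppDec Cfsg.Agent.Nodes.LeviDec Cfsg.Agent.H53.HC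
  Cfsg.Agent.KFacts.RgdAut Cfsg.Agent.KFacts.RgdDiag Cfsg.Agent.KFacts.RgdField
open Cfsg.Agent.PRankPar.CardW (AF4)

universe u

section form

/-- the quadratic form -/
def Q (v : Fin 4 → ℤ) : ℤ :=
  v 0 ^ 2 + v 1 ^ 2 + 2 * v 2 ^ 2 + 2 * v 3 ^ 2 - v 0 * v 1 - 2 * v 1 * v 2 - 2 * v 2 * v 3

variable {W : Type*} [Group W] {M : CoxeterMatrix (Fin 4)} {cs : CoxeterSystem M W} {A : Fin 4 → Fin 4 → ℤ}
  {h : IsCartan M A}

theorem Q_simple (hA : A = AF4) (i : Fin 4) (v : Fin 4 → ℤ) : Q (rep cs h (cs.simple i) v) = Q v := by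
  rw [rep_simple_eq]
  subst hA
  have hp : pairing AF4 i v = AF4 i 0 * v 0 + AF4 i 1 * v 1 + AF4 i 2 * v 2 + AF4 i 3 * v 3 := by
    rw [pairing, Fin.sum_univ_four]
  rw [hp]
  unfold Q
  simp only [Pi.sub_apply, Pi.smul_apply, smul_eq_mul]
  fin_cases i
  · have e0 : (sr 0 : Fin 4 → ℤ) 0 = 1 := rfl
    have e1 : (sr 0 : Fin 4 → ℤ) 1 = 0 := rfl
    have e2 : (sr 0 : Fin 4 → ℤ) 2 = 0 := rfl
    have e3 : (sr 0 : Fin 4 → ℤ) 3 = 0 := rfl
    simp only [Fin.zero_eta, e0, e1, e2, e3, AF4, Matrix.cons_val_zero, Matrix.cons_val_one, Matrix.cons_val]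
    ring
  · have e0 : (sr 1 : Fin 4 → ℤ) 0 = 0 := rfl
    have e1 : (sr 1 : Fin 4 → ℤ) 1 = 1 := rfl
    have e2 : (sr 1 : Fin 4 → ℤ) 2 = 0 := rfl
    have e3 : (sr 1 : Fin 4 → ℤ) 3 = 0 := rfl
    simp only [Fin.mk_one, e0, e1, e2, e3, AF4, Matrix.cons_val_zero, Matrix.cons_val_one, Matrix.cons_val]
    ring
  · have e0 : (sr 2 : Fin 4 → ℤ) 0 = 0 := rfl
    have e1 : (sr 2 : Fin 4 → ℤ) 1 = 0 := rfl
    have e2 : (sr 2 : Fin 4 → ℤ) 2 = 1 := rfl
    have e3 : (sr 2 : Fin 4 → ℤ) 3 = 0 := rfl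
    simp only [Fin.reduceFinMk, e0, e1, e2, e3, AF4, Matrix.cons_val_zero, Matrix.cons_val_one, Matrix.cons_val]
    ring
  · have e0 : (sr 3 : Fin 4 → ℤ) 0 = 0 := rfl
    have e1 : (sr 3 : Fin 4 → ℤ) 1 = 0 := rfl
    have e2 : (sr 3 : Fin 4 → ℤ) 2 = 0 := rfl
    have e3 : (sr 3 : Fin 4 → ℤ) 3 = 1 := rfl
    simp only [Fin.reduceFinMk, e0, e1, e2, e3, AF4, Matrix.cons_val_zero, Matrix.cons_val_one, Matrix.cons_val]
    ring

theorem Q_rep (hA : A = AF4) (w : W) (v : Fin 4 → ℤ) : Q (rep cs h w v) = Q v := by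
  induction w using cs.simple_induction_left with
  | one => rw [map_one, Module.End.one_apply]
  | mul_simple_left w i ih => rw [rep_mul_apply, Q_simple hA, ih]

/-- anisotropy modulo 3 -/
theorem aniso {v : Fin 4 → ℤ} (hQ : (3 : ℤ) ∣ Q v) (h0 : (3 : ℤ) ∣ v 0) (h3 : (3 : ℤ) ∣ v 3) : ∀ i, (3 : ℤ) ∣ v i := by
  obtain ⟨a, ha⟩ := h0
  obtain ⟨b, hb⟩ := h3
  have h1 : (3 : ℤ) ∣ v 1 ^ 2 + 2 * v 2 ^ 2 - 2 * v 1 * v 2 := by
    have e : v 1 ^ 2 + 2 * v 2 ^ 2 - 2 * v 1 * v 2 = Q v - 3 * (3 * a ^ 2 + 6 * b ^ 2 - a * v 1 - 2 * v 2 * b) := by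
      unfold Q
      rw [ha, hb]
      ring
    rw [e]
    exact dvd_sub hQ (dvd_mul_right _ _)
  have key : ∀ x y : ZMod 3, x ^ 2 + 2 * y ^ 2 - 2 * x * y = 0 → x = 0 ∧ y = 0 := by decide
  have h2 := key (v 1 : ZMod 3) (v 2 : ZMod 3) (by
    have := (ZMod.intCast_zmod_eq_zero_iff_dvd _ 3).2 h1
    push_cast at this
    exact this)
  intro i
  fin_cases i
  · exact ⟨a, ha⟩
  · exact (ZMod.intCast_zmod_eq_zero_iff_dvd _ 3).1 h2.1
  · exact (ZMod.intCast_zmod_eq_zero_iff_dvd _ 3).1 h2.2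
  · exact ⟨b, hb⟩

/-- a conjugate of `α₀ + α₃` is nontrivial modulo 3 in the coordinates 0 or 3 -/
theorem exists_coord (hA : A = AF4) (w : W) :
    ¬ ((3 : ℤ) ∣ (rep cs h w (sr 0 + sr 3)) 0 ∧ (3 : ℤ) ∣ (rep cs h w (sr 0 + sr 3)) 3) := by
  rintro ⟨h0, h3⟩
  have hQ : (3 : ℤ) ∣ Q (rep cs h w (sr 0 + sr 3)) := by
    rw [Q_rep hA]
    exact ⟨1, by decide⟩
  have h1 := aniso hQ h0 h3
  choose c hc using h1
  have h2 : rep cs h w (sr 0 + sr 3) = (3 : ℤ) • c := by
    funext i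
    rw [hc i]
    rfl
  have h4 : (sr 0 + sr 3 : Fin 4 → ℤ) = (3 : ℤ) • rep cs h w⁻¹ c := by
    rw [← map_zsmul, ← h2, rep_inv_apply]
  have h5 := congrFun h4 0
  have e : (sr 0 + sr 3 : Fin 4 → ℤ) 0 = 1 := rfl
  rw [e, Pi.smul_apply, smul_eq_mul] at h5
  omega

end form

section theta

/-- a character of order three -/
theorem exists_theta {F : Type*} [Field F] [Finite F] (h3 : 3 ∣ Nat.card F - 1) :
    ∃ θ : Fˣ →* ℂˣ, (∀ a, θ a ^ 3 = 1) ∧ ∃ u, θ u ≠ 1 := by
  classical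
  have : Fintype F := Fintype.ofFinite F
  rw [Nat.card_eq_fintype_card] at h3
  obtain ⟨χ, hχ⟩ := MulChar.exists_mulChar_orderOf F h3 (Complex.isPrimitiveRoot_exp 3 (by norm_num))
  refine ⟨χ.toUnitHom, fun a => ?_, ?_⟩
  · have h1 : χ ^ 3 = 1 := by rw [← hχ]; exact pow_orderOf_eq_one χ
    apply Units.ext
    rw [Units.val_pow_eq_pow_val, MulChar.coe_toUnitHom, ← MulChar.pow_apply_coe, h1, MulChar.one_apply_coe,
      Units.val_one]
  · by_contra hcon
    push Not at hcon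
    have h1 : χ = 1 := by
      ext a
      rw [MulChar.one_apply_coe, ← MulChar.coe_toUnitHom, hcon a, Units.val_one]
    rw [h1, orderOf_one] at hχ
    omega

/-- the effect of a field automorphism -/
theorem exists_exp {F : Type*} [Field F] [Finite F] (τ : F ≃+* F) {θ : Fˣ →* ℂˣ} (hθ : ∀ a, θ a ^ 3 = 1) {u : Fˣ}
    (hu : θ u ≠ 1) : ∃ m : ℤ, ¬ (3 : ℤ) ∣ m ∧ ∀ a, θ (Units.mapEquiv τ.toMulEquiv a) = θ a ^ m := by
  obtain ⟨m, hm⟩ := MonoidHom.map_cyclic (Units.mapEquiv τ.toMulEquiv).toMonoidHom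
  have hm' : ∀ a, θ (Units.mapEquiv τ.toMulEquiv a) = θ a ^ m := by
    intro a
    have h1 : Units.mapEquiv τ.toMulEquiv a = a ^ m := hm a
    rw [h1, map_zpow]
  refine ⟨m, ?_, hm'⟩
  rintro ⟨c, rfl⟩
  obtain ⟨b, hb⟩ := (Units.mapEquiv τ.toMulEquiv).surjective u
  apply hu
  rw [← hb, hm', zpow_mul]
  have h1 : θ b ^ (3 : ℤ) = 1 := hθ b
  rw [h1, one_zpow]

theorem zpow_ne {x : ℂˣ} (h3 : x ^ 3 = 1) (hx : x ≠ 1) {m : ℤ} (hm : ¬ (3 : ℤ) ∣ m) : x ^ m ≠ 1 := by
  intro h1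
  have h2 : (orderOf x : ℤ) ∣ m := orderOf_dvd_iff_zpow_eq_one.2 h1
  have h4 : orderOf x ∣ 3 := orderOf_dvd_of_pow_eq_one h3
  rcases (Nat.dvd_prime Nat.prime_three).1 h4 with h5 | h5
  · exact hx (orderOf_eq_one_iff.1 h5)
  · rw [h5] at h2
    exact hm h2

end theta

section abs

variable {W : Type*} {Y : Type u} [Group W] [Group Y] {cs : CoxeterSystem CoxeterMatrix.F₄ W}
  {A : Fin 4 → Fin 4 → ℤ} {h : IsCartan CoxeterMatrix.F₄ A} {T : Subgroup Y} {n : Fin 4 → Y}
  {X : (Fin 4 → ℤ) → Subgroup Y} {F : Type*} [Field F] {x : (Fin 4 → ℤ) → F → Y} {χ : (Fin 4 → ℤ) → Y → F}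
  {hh : Fin 4 → F → Y}

/-- the kernel of two simple roots -/
noncomputable def ZZ (C : Coords cs h T n X x χ) : Subgroup Y :=
  ((cU C 1).ker ⊓ (cU C 2).ker).map T.subtype

theorem mem_ZZ (C : Coords cs h T n X x χ) {z : Y} :
    z ∈ ZZ C ↔ ∃ hz : z ∈ T, cU C 1 ⟨z, hz⟩ = 1 ∧ cU C 2 ⟨z, hz⟩ = 1 := by
  constructor
  · rintro ⟨t, ht, rfl⟩
    exact ⟨t.2, ht.1, ht.2⟩
  · rintro ⟨hz, h1, h2⟩
    exact ⟨⟨z, hz⟩, ⟨h1, h2⟩, rfl⟩

theorem ZZ_le (C : Coords cs h T n X x χ) : ZZ C ≤ T := fun _ hz => ((mem_ZZ C).1 hz).1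

theorem ZZ_comm (C : Coords cs h T n X x χ) (hp : ProdF cs h T χ) {z : Y} (hz : z ∈ ZZ C) {m : Y}
    (hm : m ∈ MJ cs h X {1, 2}) : z * m = m * z := by
  obtain ⟨hzT, h1, h2⟩ := (mem_ZZ C).1 hz
  have h1' : χ (sr 1) z = 1 := congrArg Units.val h1
  have h2' : χ (sr 2) z = 1 := congrArg Units.val h2
  have hle : MJ cs h X {1, 2} ≤ Subgroup.centralizer ({z} : Set Y) := by
    refine RGD.Sup_le fun r hr v hv => ?_
    rw [Subgroup.mem_centralizer_singleton_iff]
    obtain ⟨a, rfl⟩ := ((C.coord r hr.1).mem v).1 hv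
    have h3 : χ r z = 1 := by
      have r0 : r 0 = 0 := hr.2 0 (by decide)
      have r3 : r 3 = 0 := hr.2 3 (by decide)
      rw [hp r hr.1 z hzT, Fin.prod_univ_four, h1', h2', r0, r3]
      simp
    have h4 := (C.coord r hr.1).act z hzT a
    rw [h3, one_mul] at h4
    exact (mul_inv_eq_iff_eq_mul.1 h4).symm
  exact ((Subgroup.mem_centralizer_singleton_iff).1 (hle hm)).symm

variable (R : RGD cs h 2 T n X) {β : MulAut Y} {σ : Equiv.Perm (Fin 4)}

include R

theorem ZZ_fix [Finite W] (C : Coords cs h T n X x χ) (hN : Nrm R β σ)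
    (hσ : σ 0 = 3 ∧ σ 1 = 2 ∧ σ 2 = 1 ∧ σ 3 = 0) : _root_.Cfsg.Agent.KFacts.RgdAut.Fix β (ZZ C) := by
  obtain ⟨τ, S⟩ := exists_semi R C hN.diag hN.sym
  obtain ⟨-, s1, s2, -⟩ := hσ
  have key : ∀ i, ∀ (t : Y) (ht : t ∈ T), cU C (σ i) ⟨β t, (hN.fixT t).2 ht⟩ = 1 ↔ cU C i ⟨t, ht⟩ = 1 := by
    intro i t ht
    rw [Units.ext_iff, Units.ext_iff, coe_cU, coe_cU, Units.val_one, S.char i t ht]
    exact map_eq_one_iff (τ i) (τ i).injective
  intro z
  rw [mem_ZZ, mem_ZZ]
  constructor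
  · rintro ⟨hz, h1, h2⟩
    have hz' := (hN.fixT z).1 hz
    have k1 := key 1 z hz'
    have k2 := key 2 z hz'
    rw [s1] at k1
    rw [s2] at k2
    exact ⟨hz', k1.1 h2, k2.1 h1⟩
  · rintro ⟨hz, h1, h2⟩
    have k1 := key 1 z hz
    have k2 := key 2 z hz
    rw [s1] at k1
    rw [s2] at k2
    exact ⟨(hN.fixT z).2 hz, k2.2 h2, k1.2 h1⟩

/-- **`|F|` a square.** -/
theorem gInv3_even [Finite W] [Finite Y] [Finite F] [CharP F 2] (hG : GG cs h T X = ⊤) (hC : H601.OddDeg.TwoC Y)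
    (C : Coords cs h T n X x χ) (H : Coroots A T X χ hh) (hA : A = AF4) (hp : ProdF cs h T χ)
    (hTc : ∀ s ∈ T, ∀ t ∈ T, s * t = t * s) (hex : ∀ u : Fin 4 → Fˣ, ∃ t ∈ T, ∀ i, χ (sr i) t = u i)
    (hN : Nrm R β σ) (hσ : σ 0 = 3 ∧ σ 1 = 2 ∧ σ 2 = 1 ∧ σ 3 = 0) (h3 : 3 ∣ Nat.card F - 1) : GInv3 β := by
  obtain ⟨τ, S⟩ := exists_semi R C hN.diag hN.sym
  obtain ⟨s0, s1, s2, s3⟩ := hσ
  have t01 : τ 0 = τ 1 := S.eq_of_adj H h.diag hN.diag (i := 0) (j := 1) (by rw [hA]; rfl) (by rw [s1, s0, hA]; rfl)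
  have t23 : τ 2 = τ 3 := S.eq_of_adj H h.diag hN.diag (i := 2) (j := 3) (by rw [hA]; rfl) (by rw [s3, s2, hA]; rfl)
  have t12 : ∀ a : F, a ≠ 0 → τ 1 a = τ 2 a ^ 2 := by
    intro a ha
    have e := S.zpow_eq H h.diag hN.diag 1 2 ha
    rw [s1, s2, hA] at e
    have a1 : (2 : ℤ) * AF4 2 1 = -((2 : ℕ) : ℤ) := rfl
    have a2 : (2 : ℤ) * AF4 1 2 = -((4 : ℕ) : ℤ) := rfl
    rw [a1, a2, zpow_neg, zpow_neg, inv_inj, zpow_natCast, zpow_natCast] at e
    have h2 : (2 : F) = 0 := CharTwo.two_eq_zero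
    have h5 : (τ 1 a - τ 2 a ^ 2) ^ 2 = 0 := by
      have : (τ 1 a - τ 2 a ^ 2) ^ 2 = τ 1 a ^ 2 - τ 2 a ^ 4 + 2 * (τ 2 a ^ 4 - τ 1 a * τ 2 a ^ 2) := by ring
      rw [this, e, h2]
      ring
    exact sub_eq_zero.1 (pow_eq_zero_iff two_ne_zero |>.1 h5)
  obtain ⟨θ, hθ, u, hu⟩ := exists_theta h3
  obtain ⟨m, hm3, hm⟩ := exists_exp (τ 2) hθ hu
  have hm1 : ∀ a, θ (Units.mapEquiv (τ 1).toMulEquiv a) = θ a ^ (2 * m) := by
    intro a
    have e : Units.mapEquiv (τ 1).toMulEquiv a = (Units.mapEquiv (τ 2).toMulEquiv a) ^ 2 := by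
      apply Units.ext
      exact t12 a a.ne_zero
    rw [e, map_pow, hm, ← zpow_natCast, ← zpow_mul, mul_comm m]
    rfl
  let mm : Fin 4 → ℤ := ![2 * m, 2 * m, m, m]
  have hmm : ∀ i a, θ (Units.mapEquiv (τ i).toMulEquiv a) = θ a ^ mm i := by
    intro i a
    fin_cases i
    · change θ (Units.mapEquiv (τ 0).toMulEquiv a) = θ a ^ (2 * m)
      rw [t01]; exact hm1 a
    · exact hm1 a
    · exact hm a
    · change θ (Units.mapEquiv (τ 3).toMulEquiv a) = θ a ^ m
      rw [← t23]; exact hm a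
  -- the simple reflection
  obtain ⟨j, hj⟩ : ∃ j : Fin 4, ∀ i, (3 : ℤ) ∣ mm i * (sr 0 + sr 3 : Fin 4 → ℤ) (σ i) -
      (rep cs h (cs.simple j) (sr 0 + sr 3)) i := by
    have p0 : pairing A 0 (sr 0 + sr 3) = 2 := by rw [hA]; decide
    have p3 : pairing A 3 (sr 0 + sr 3) = 2 := by rw [hA]; decide
    have hmod : m % 3 = 1 ∨ m % 3 = 2 := by omega
    rcases hmod with hmod | hmod
    · refine ⟨0, fun i => ?_⟩
      rw [rep_simple_eq, p0]
      fin_cases i
      · change (3 : ℤ) ∣ 2 * m * (sr 0 + sr 3 : Fin 4 → ℤ) (σ 0) - (sr 0 + sr 3 - (2 : ℤ) • sr 0 : Fin 4 → ℤ) 0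
        rw [s0]
        have e1 : (sr 0 + sr 3 : Fin 4 → ℤ) 3 = 1 := rfl
        have e2 : (sr 0 + sr 3 - (2 : ℤ) • sr 0 : Fin 4 → ℤ) 0 = -1 := rfl
        rw [e1, e2]; omega
      · change (3 : ℤ) ∣ 2 * m * (sr 0 + sr 3 : Fin 4 → ℤ) (σ 1) - (sr 0 + sr 3 - (2 : ℤ) • sr 0 : Fin 4 → ℤ) 1
        rw [s1]
        have e1 : (sr 0 + sr 3 : Fin 4 → ℤ) 2 = 0 := rfl
        have e2 : (sr 0 + sr 3 - (2 : ℤ) • sr 0 : Fin 4 → ℤ) 1 = 0 := rfl
        rw [e1, e2]; omega
      · change (3 : ℤ) ∣ m * (sr 0 + sr 3 : Fin 4 → ℤ) (σ 2) - (sr 0 + sr 3 - (2 : ℤ) • sr 0 : Fin 4 → ℤ) 2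
        rw [s2]
        have e1 : (sr 0 + sr 3 : Fin 4 → ℤ) 1 = 0 := rfl
        have e2 : (sr 0 + sr 3 - (2 : ℤ) • sr 0 : Fin 4 → ℤ) 2 = 0 := rfl
        rw [e1, e2]; omega
      · change (3 : ℤ) ∣ m * (sr 0 + sr 3 : Fin 4 → ℤ) (σ 3) - (sr 0 + sr 3 - (2 : ℤ) • sr 0 : Fin 4 → ℤ) 3
        rw [s3]
        have e1 : (sr 0 + sr 3 : Fin 4 → ℤ) 0 = 1 := rfl
        have e2 : (sr 0 + sr 3 - (2 : ℤ) • sr 0 : Fin 4 → ℤ) 3 = 1 := rfl
        rw [e1, e2]; omega
    · refine ⟨3, fun i => ?_⟩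
      rw [rep_simple_eq, p3]
      fin_cases i
      · change (3 : ℤ) ∣ 2 * m * (sr 0 + sr 3 : Fin 4 → ℤ) (σ 0) - (sr 0 + sr 3 - (2 : ℤ) • sr 3 : Fin 4 → ℤ) 0
        rw [s0]
        have e1 : (sr 0 + sr 3 : Fin 4 → ℤ) 3 = 1 := rfl
        have e2 : (sr 0 + sr 3 - (2 : ℤ) • sr 3 : Fin 4 → ℤ) 0 = 1 := rfl
        rw [e1, e2]; omega
      · change (3 : ℤ) ∣ 2 * m * (sr 0 + sr 3 : Fin 4 → ℤ) (σ 1) - (sr 0 + sr 3 - (2 : ℤ) • sr 3 : Fin 4 → ℤ) 1
        rw [s1]
        have e1 : (sr 0 + sr 3 : Fin 4 → ℤ) 2 = 0 := rfl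
        have e2 : (sr 0 + sr 3 - (2 : ℤ) • sr 3 : Fin 4 → ℤ) 1 = 0 := rfl
        rw [e1, e2]; omega
      · change (3 : ℤ) ∣ m * (sr 0 + sr 3 : Fin 4 → ℤ) (σ 2) - (sr 0 + sr 3 - (2 : ℤ) • sr 3 : Fin 4 → ℤ) 2
        rw [s2]
        have e1 : (sr 0 + sr 3 : Fin 4 → ℤ) 1 = 0 := rfl
        have e2 : (sr 0 + sr 3 - (2 : ℤ) • sr 3 : Fin 4 → ℤ) 2 = 0 := rfl
        rw [e1, e2]; omega
      · change (3 : ℤ) ∣ m * (sr 0 + sr 3 : Fin 4 → ℤ) (σ 3) - (sr 0 + sr 3 - (2 : ℤ) • sr 3 : Fin 4 → ℤ) 3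
        rw [s3]
        have e1 : (sr 0 + sr 3 : Fin 4 → ℤ) 0 = 1 := rfl
        have e2 : (sr 0 + sr 3 - (2 : ℤ) • sr 3 : Fin 4 → ℤ) 3 = -1 := rfl
        rw [e1, e2]; omega
  have hjT : ∀ t ∈ T, (n j)⁻¹ * t * n j ∈ T := by
    intro t ht
    have := conj_T R (rp_simple cs R.nsys j).inv ht
    rwa [inv_inv] at this
  obtain ⟨χ₁, χ₂, h1, h2, h11, h21, h12⟩ := exists_two_of_series R hG hN (K := {1, 2}) (i := 1) (by
      rw [Set.image_pair, s1, s2, Set.pair_comm]) (Or.inl rfl) (Z := ZZ C) (ZZ_le C)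
    (ZZ_fix R C hN ⟨s0, s1, s2, s3⟩) (fun z hz t ht => hTc z (ZZ_le C hz) t ht) (fun z hz m hm => ZZ_comm C hp hz hm)
    (μ := mu C θ (sr 0 + sr 3)) (by
      intro w g hg
      rcases not_and_or.1 (exists_coord (cs := cs) (h := h) hA w⁻¹) with hc | hc
      · obtain ⟨t, ht, htt⟩ := hex (fun i => if i = 0 then u else 1)
        refine ⟨t, (mem_ZZ C).2 ⟨ht, Units.ext (htt 1), Units.ext (htt 2)⟩, ?_⟩
        rw [mu_rp' R C hp θ hg _ ht, mu_apply, Fin.prod_univ_four]
        have c0 : cU C 0 ⟨t, ht⟩ = u := Units.ext (htt 0)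
        have c1 : cU C 1 ⟨t, ht⟩ = 1 := Units.ext (htt 1)
        have c2 : cU C 2 ⟨t, ht⟩ = 1 := Units.ext (htt 2)
        have c3 : cU C 3 ⟨t, ht⟩ = 1 := Units.ext (htt 3)
        rw [c0, c1, c2, c3, map_one, one_zpow, one_zpow, one_zpow, mul_one, mul_one, mul_one]
        exact zpow_ne (hθ u) hu hc
      · obtain ⟨t, ht, htt⟩ := hex (fun i => if i = 3 then u else 1)
        refine ⟨t, (mem_ZZ C).2 ⟨ht, Units.ext (htt 1), Units.ext (htt 2)⟩, ?_⟩
        rw [mu_rp' R C hp θ hg _ ht, mu_apply, Fin.prod_univ_four]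
        have c0 : cU C 0 ⟨t, ht⟩ = 1 := Units.ext (htt 0)
        have c1 : cU C 1 ⟨t, ht⟩ = 1 := Units.ext (htt 1)
        have c2 : cU C 2 ⟨t, ht⟩ = 1 := Units.ext (htt 2)
        have c3 : cU C 3 ⟨t, ht⟩ = u := Units.ext (htt 3)
        rw [c0, c1, c2, c3, map_one, one_zpow, one_zpow, one_zpow, one_mul, one_mul, one_mul]
        exact zpow_ne (hθ u) hu hc)
    (rp_simple cs R.nsys j) hjT (fun t ht => by
      rw [mu_beta C θ hN.fixT S hmm _ ht, mu_rp R C hp θ (rp_simple cs R.nsys j) _ ht]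
      exact mu_three hθ C _ _ hj _)
  exact GInv3.of_os hC (one_os β) h1 h2 (Ne.symm h11) (Ne.symm h21) h12

end abs

section odd

/-- automorphisms of 2-power order of a field of nonsquare order `2 ^ f` -/
theorem ringAut_eq_one {F : Type*} [Field F] [Finite F] [CharP F 2] (h3 : ¬ 3 ∣ Nat.card F - 1) {ρ : RingAut F} {k : ℕ}
    (hk : ρ ^ 2 ^ k = 1) : ρ = 1 := by
  letI : Algebra (ZMod 2) F := ZMod.algebra F 2
  have : Fact (Nat.Prime 2) := ⟨Nat.prime_two⟩
  have hodd : Odd (Module.finrank (ZMod 2) F) := by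
    rw [← Nat.not_even_iff_odd]
    rintro ⟨m, hm⟩
    apply h3
    have h1 : Nat.card F = 2 ^ Module.finrank (ZMod 2) F := by
      rw [Module.natCard_eq_pow_finrank (K := ZMod 2), Nat.card_zmod]
    rw [h1, hm, ← two_mul, pow_mul]
    have h2 := Nat.sub_dvd_pow_sub_pow (2 ^ 2) 1 m
    rwa [one_pow] at h2
  have hcom : ∀ (σ : RingAut F) (r : ZMod 2), σ (algebraMap (ZMod 2) F r) = algebraMap (ZMod 2) F r := by
    intro σ r
    exact DFunLike.congr_fun (Subsingleton.elim ((σ : F →+* F).comp (algebraMap (ZMod 2) F)) (algebraMap (ZMod 2) F)) r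
  let e : RingAut F →* (F ≃ₐ[ZMod 2] F) :=
    { toFun := fun σ => AlgEquiv.ofRingEquiv (f := σ) (hcom σ)
      map_one' := by ext a; rfl
      map_mul' := fun a b => by ext c; rfl }
  have he : Function.Injective e := by
    intro a b hab
    ext c
    exact DFunLike.congr_fun hab c
  apply he
  rw [map_one]
  have h4 : (e ρ) ^ 2 ^ k = 1 := by rw [← map_pow, hk, map_one]
  have h5 : orderOf (e ρ) ∣ Module.finrank (ZMod 2) F := by
    rw [← IsGalois.card_aut_eq_finrank]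
    exact orderOf_dvd_natCard _
  have h6 : (2 ^ k).Coprime (Module.finrank (ZMod 2) F) := Nat.Coprime.pow_left _ (Nat.coprime_two_left.2 hodd)
  exact orderOf_eq_one_iff.1 (Nat.dvd_one.1 (h6 ▸ Nat.dvd_gcd (orderOf_dvd_of_pow_eq_one h4) h5))

theorem eq_one_of_two_pow {F : Type*} [Field F] [CharP F 2] {c : F} {k : ℕ} (hc : c ^ 2 ^ k = 1) : c = 1 := by
  have h1 : (c - 1) ^ 2 ^ k = 0 := by
    have : Fact (Nat.Prime 2) := ⟨Nat.prime_two⟩
    rw [sub_pow_char_pow, hc, one_pow, sub_self]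
  exact sub_eq_zero.1 (pow_eq_zero_iff (by positivity) |>.1 h1)

/-- **An automorphism of 2-power order preserving the root group and the torus.** -/
theorem fix_of_coord {Y : Type*} [Group Y] {F : Type*} [Field F] [Finite F] [CharP F 2] {T P : Subgroup Y} {x : F → Y}
    {χ : Y → F} (C : Coord T P x χ) (h3 : ¬ 3 ∣ Nat.card F - 1) {γ : MulAut Y} {k : ℕ} (hk : γ ^ 2 ^ k = 1)
    (hT : _root_.Cfsg.Agent.KFacts.RgdAut.Fix γ T) (hP : ∀ y, γ y ∈ P ↔ y ∈ P) {y : Y} (hy : y ∈ P) : γ y = y := by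
  obtain ⟨ρ, c, hc, hx, hch⟩ := C.exists_semi C hT hP
  let ρ' : RingAut F := ρ
  have h1 : ∀ m : ℕ, ∀ t ∈ T, (ρ' ^ m) (χ t) = χ ((γ ^ m) t) := by
    intro m
    induction m with
    | zero => intro t _; rfl
    | succ m ih =>
      intro t ht
      rw [pow_succ, pow_succ, MulAut.mul_apply]
      change (ρ' ^ m) (ρ (χ t)) = _
      rw [← hch t ht]
      exact ih _ ((hT t).2 ht)
  have h2 : ρ' ^ 2 ^ k = 1 := by
    refine C.ext (τ := (ρ' ^ 2 ^ k : RingAut F)) (τ' := (1 : RingAut F)) fun t ht => ?_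
    rw [h1 _ t ht, hk]
    rfl
  have h4 : ρ' = 1 := ringAut_eq_one h3 h2
  have h5 : ∀ a, γ (x a) = x (c * a) := by
    intro a
    rw [hx a]
    have : ρ a = a := DFunLike.congr_fun h4 a
    rw [this]
  have h6 : ∀ m : ℕ, (γ ^ m) (x 1) = x (c ^ m) := by
    intro m
    induction m with
    | zero => rw [pow_zero, pow_zero]; rfl
    | succ m ih => rw [pow_succ', MulAut.mul_apply, ih, h5, pow_succ']
  have h7 : c = 1 := by
    refine eq_one_of_two_pow (k := k) ?_
    have h8 := h6 (2 ^ k)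
    rw [hk] at h8
    exact (C.inj h8).symm
  obtain ⟨a, rfl⟩ := (C.mem y).1 hy
  rw [h5, h7, one_mul]

variable {W : Type*} {Y : Type u} [Group W] [Group Y] {cs : CoxeterSystem CoxeterMatrix.F₄ W}
  {A : Fin 4 → Fin 4 → ℤ} {h : IsCartan CoxeterMatrix.F₄ A} {T : Subgroup Y} {n : Fin 4 → Y}
  {X : (Fin 4 → ℤ) → Subgroup Y} {F : Type*} [Field F] {x : (Fin 4 → ℤ) → F → Y} {χ : (Fin 4 → ℤ) → Y → F}

/-- **`|F|` not a square.** -/
theorem gInv3_odd [Finite W] [Finite Y] [Finite F] [CharP F 2] (R : RGD cs h 2 T n X) {β : MulAut Y}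
    {σ : Equiv.Perm (Fin 4)} (hG : GG cs h T X = ⊤) (hC : H601.OddDeg.TwoC Y)
    (C : Coords cs h T n X x χ) (hA : A = AF4) (hN : Nrm R β σ) (hσ : σ 0 = 3 ∧ σ 1 = 2 ∧ σ 2 = 1 ∧ σ 3 = 0)
    (h3 : ¬ 3 ∣ Nat.card F - 1) : GInv3 β := by
  obtain ⟨s0, s1, s2, s3⟩ := hσ
  obtain ⟨k, hk⟩ := hN.pow
  have hγ : (β * β) ^ 2 ^ k = 1 := by rw [← pow_two, ← pow_mul, mul_comm, pow_mul, hk, one_pow]
  have hX : ∀ y, (β * β) y ∈ X (sr 0) ↔ y ∈ X (sr 0) := by
    intro y
    have e1 := hN.diag.pos 3 (β y)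
    have e2 := hN.diag.pos 0 y
    rw [s3] at e1
    rw [s0] at e2
    exact e1.trans e2
  have hX' : ∀ y, (β * β) y ∈ X (-sr 0) ↔ y ∈ X (-sr 0) := by
    intro y
    have e1 := hN.diag.neg 3 (β y)
    have e2 := hN.diag.neg 0 y
    rw [s3] at e1
    rw [s0] at e2
    exact e1.trans e2
  have hβ : ∀ y ∈ MJ cs h X {0}, β (β y) = y := by
    have hle : MJ cs h X {0} ≤ (β * β).toMonoidHom.eqLocus (MonoidHom.id Y) := by
      refine RGD.Sup_le fun r hr y hy => ?_
      rcases hr.1.pos_or_neg with h1 | h1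
      · have h2 : r = sr 0 := hr.1.eq_sr h1 0 fun k hk => hr.2 k hk
        rw [h2] at hy
        exact fix_of_coord (C.coord _ (isRoot_sr cs h 0)) h3 hγ (hN.fixT.mul hN.fixT) hX hy
      · have h2 : -r = sr 0 := hr.1.neg.eq_sr (by
          intro i
          have := h1 i
          simp only [Pi.zero_apply, Pi.neg_apply] at this ⊢
          omega) 0 fun k hk => by
            rw [Pi.neg_apply, hr.2 k hk, neg_zero]
        have h4 : r = -sr 0 := by rw [← h2, neg_neg]
        rw [h4] at hy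
        exact fix_of_coord (C.coord _ (isRoot_sr cs h 0).neg) h3 hγ (hN.fixT.mul hN.fixT) hX' hy
    exact fun y hy => hle hy
  have hK : σ '' (({0} : Set (Fin 4)) ∪ {3}) = {0} ∪ {3} := by
    rw [Set.image_union, Set.image_singleton, Set.image_singleton, s0, s3, Set.union_comm]
  have hJ : σ '' ({1, 2} : Set (Fin 4)) = {1, 2} := by
    rw [Set.image_pair, s1, s2, Set.pair_comm]
  refine gInv3_of_types R hG hC hN hK hJ ⟨1, Or.inl rfl⟩ (ocs_pair R hG hN s0 s3 (by decide) (by rw [hA]; rfl)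
    (by rw [hA]; rfl) (oc_node R 0 1 (by decide)) hβ hK) ?_
  rintro ⟨w, hw⟩
  obtain ⟨k, hk, e1⟩ := hw 0 (Or.inl rfl)
  obtain ⟨l, hl, e2⟩ := hw 3 (Or.inr rfl)
  have h4 := cartan_rep e1 e2
  have h5 : k ≠ l := by
    rintro rfl
    have h5 : (sr 0 : Fin 4 → ℤ) = sr 3 := by
      have := congrArg (rep cs h w⁻¹) (e1.trans e2.symm)
      rwa [rep_inv_apply, rep_inv_apply] at this
    exact absurd (sr_injective h5) (by decide)
  rw [hA] at h4
  rcases hk with rfl | hk <;> rcases hl with rfl | hl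
  · exact h5 rfl
  · rw [Set.mem_singleton_iff] at hl
    subst hl
    exact absurd h4 (by decide)
  · rw [Set.mem_singleton_iff] at hk
    subst hk
    exact absurd h4 (by decide)
  · exact h5 (by rw [Set.mem_singleton_iff.1 hk, Set.mem_singleton_iff.1 hl])

end odd

section concrete

open Cfsg.Lie Cfsg.Agent.ChevalleyStructure Cfsg.Agent.ChevalleyStructure.RootVec Cfsg.Agent.Nodes.RGDChev
  Cfsg.Agent.KFacts.RgdChevCoord Cfsg.Agent.KFacts.ChevTwoInst Cfsg.Agent.KFacts.F4Star Cfsg.Agent.KFacts.F4Torus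
  Cfsg.Agent.ChevalleyStructure.CoxeterGeomTypes
open Cfsg.Agent.Nodes.KindF (isType)

/-- prescribed scalars of the simple roots -/
theorem exists_torus_elt {W : Type*} {Y : Type u} [Group W] [Group Y] {cs : CoxeterSystem CoxeterMatrix.F₄ W}
    {A : Fin 4 → Fin 4 → ℤ} {h : IsCartan CoxeterMatrix.F₄ A} {T : Subgroup Y} {n : Fin 4 → Y}
    {X : (Fin 4 → ℤ) → Subgroup Y} {F : Type*} [Field F] {x : (Fin 4 → ℤ) → F → Y} {χ : (Fin 4 → ℤ) → Y → F}
    {hh : Fin 4 → F → Y} (C : Coords cs h T n X x χ) (H : Coroots A T X χ hh)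
    (hA : A = cartanOf chevF4 4) (u : Fin 4 → Fˣ) : ∃ t ∈ T, ∀ i, χ (sr i) t = u i := by
  let c : Fin 4 → Fˣ := fun j => ∏ k, u k ^ iC k j
  have hm : ∀ j, hh j (c j) ∈ T := fun j => ((H.mem j _).2 ⟨_, (c j).ne_zero, rfl⟩).1
  let t : T := ⟨hh 0 (c 0), hm 0⟩ * ⟨hh 1 (c 1), hm 1⟩ * ⟨hh 2 (c 2), hm 2⟩ * ⟨hh 3 (c 3), hm 3⟩
  have hc : ∀ i j, cU C i ⟨hh j (c j), hm j⟩ = c j ^ A j i := by
    intro i j
    apply Units.ext
    rw [coe_cU, Units.val_zpow_eq_zpow_val]
    exact H.char i j _ (c j).ne_zero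
  refine ⟨t, t.2, fun i => ?_⟩
  rw [← coe_cU C i t]
  congr 1
  have h1 : cU C i t = ∏ j, c j ^ A j i := by
    rw [Fin.prod_univ_four, ← hc, ← hc, ← hc, ← hc, ← map_mul, ← map_mul, ← map_mul]
  have h2 : ∀ j, c j ^ A j i = ∏ k, u k ^ (iC k j * A j i) := by
    intro j
    change (∏ k, u k ^ iC k j) ^ A j i = _
    rw [← Finset.prod_zpow]
    exact Finset.prod_congr rfl fun k _ => (zpow_mul _ _ _).symm
  rw [h1, Finset.prod_congr rfl fun j _ => h2 j, Finset.prod_comm]
  have h3 : ∀ k, ∏ j, u k ^ (iC k j * A j i) = u k ^ (if k = i then (1 : ℤ) else 0) := by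
    intro k
    rw [← iC_mul k i, hA, Fin.sum_univ_four, Fin.prod_univ_four, zpow_add, zpow_add, zpow_add]
  rw [Finset.prod_congr rfl fun k _ => h3 k, Finset.prod_eq_single i]
  · rw [if_pos rfl, zpow_one]
  · intro k _ hk
    rw [if_neg hk, zpow_zero]
  · intro hi
    exact absurd (Finset.mem_univ i) hi

variable {K : Type u} [Field K] [Finite K] [CharP K 2] {W : Type*} [Group W]
  (cs : CoxeterSystem CoxeterMatrix.F₄ W)

/-- **`F₄(q)`, `q` even: automorphisms interchanging the lengths.** -/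
theorem gInv3_swap (hC : H601.OddDeg.TwoC ↥(chevF4.group K)) {β : MulAut ↥(chevF4.group K)}
    {σ : Equiv.Perm (Fin 4)} (hN : Nrm (rgd (K := K) isType cs 2) β σ)
    (hσ : σ 0 = 3 ∧ σ 1 = 2 ∧ σ 2 = 1 ∧ σ 3 = 0) : GInv3 β := by
  have : Fact (Nat.Prime 2) := ⟨Nat.prime_two⟩
  have hW : Finite W := finite_W isType cs
  have hA : cartanOf chevF4 4 = AF4 := Cfsg.Agent.PRankPar.CardW.cartan_F4
  have C := coords (K := K) isType cs 2
  have H := coroots (K := K) isType cs 2
  by_cases h3 : 3 ∣ Nat.card K - 1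
  · exact gInv3_even (rgd (K := K) isType cs 2) (Cfsg.Agent.KFacts.F4Aut.GG_top cs) hC C H hA
      (fun r hr t ht => Cfsg.Agent.PRankPar.Chev.ch_prod isType cs 2 r hr t ht)
      (fun s hs t ht => Cfsg.Agent.PRankPar.Chev.T_comm isType cs 2 s hs t ht) (exists_torus_elt C H rfl) hN hσ h3
  · exact gInv3_odd (rgd (K := K) isType cs 2) (Cfsg.Agent.KFacts.F4Aut.GG_top cs) hC C hA hN hσ h3

end concrete

end Cfsg.Agent.H845.K547F
end

-- part: H845/K547F/Plug
section
/-!
# S4547: the field `f4_swap` of `H42.K547.Even.EvenSmall` (helper845)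
-/

set_option autoImplicit false

open Cfsg

namespace Cfsg.Agent.H845.K547F

open Cfsg.Agent.H307.QE Cfsg.Agent.H821.K547 Cfsg.Agent.H42.K547.Even

/-- `TwoC` for `F₄(q)`, `q` even -/
theorem twoC_F4 (F : Type) [Field F] [Finite F] [CharP F 2] : H601.OddDeg.TwoC ↥(Lie.chevF4.group F) := by
  have : Fintype F := Fintype.ofFinite F
  have hs : IsSimpleGroup ↥(Lie.chevF4.group F) := (S1054.result Lie.chevF4 (by simp)).1
  refine H742.TwoC.twoC_charTwo ?_
  refine Or.inr (Or.inr (Or.inr (Or.inr (Or.inr (Or.inr (Or.inl ?_))))))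
  exact ⟨F, inferInstance, inferInstance, inferInstance, Or.inr (Or.inl ⟨MulEquiv.refl _⟩)⟩

/-- **The field `f4_swap`.** -/
theorem f4_swap {F : Type} [Field F] [Fintype F] [CharP F 2] {β : MulAut ↥(Lie.chevF4.group F)}
    {σ : Equiv.Perm (Fin 4)} (hN : Nrm (rF4 F) β σ) (hσ : σ ≠ 1) : GInv3 β :=
  gInv3_swap CoxeterMatrix.F₄.toCoxeterSystem (twoC_F4 F) hN
    ((Cfsg.Agent.KFacts.F4Aut.perm_F4 σ hN.sym).resolve_left hσ)

end Cfsg.Agent.H845.K547F
end

-- part: H42/K547/EvenFinal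
section
/-!
# S4547, groups of Lie type of characteristic two: all rows but the swap of `PSL₃(q)` (helper42)

* `d3Even` : the `D3` halves (helper151) and the special rows (helper269, helper511, helper42, helper984);
* `evenSmall_of`, `ext_two_of` : everything, given `Swap3`.
-/

set_option autoImplicit false

open Cfsg

namespace Cfsg.Agent.H42.K547.Even

open CoxeterSystem Cfsg.Agent.ChevalleyStructure.CoxeterGeom Cfsg.Agent.Tits.Roots Cfsg.Agent.Tits.Core
  Cfsg.Agent.Nodes.BNOf Cfsg.Agent.Nodes.Bruhat Cfsg.Agent.H821.K547 Cfsg.Agent.H307.QE Cfsg.Agent.H671.K547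
open Cfsg.Agent.LieRecognition.BNCox (cA)

universe u v

theorem stSpec : H805.K547.PSU3.StSpec := by
  intro F _ _ f hf hF hs τ hτ _ hsp
  have : Finite (PSU 3 F (2 ^ f)) := Quotient.finite _
  exact H42.K547.PSU3.extRow_special hf hF (MulEquiv.refl _) hτ hsp

/-- `PSL₃(2)` -/
theorem ext_psl32 {F : Type} [Field F] [Fintype F] (hF : Fintype.card F = 2) :
    ExtAll (Matrix.ProjectiveSpecialLinearGroup (Fin 3) F) := by
  have : Finite (Matrix.ProjectiveSpecialLinearGroup (Fin 3) F) := Quotient.finite _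
  have : Fact (Nat.Prime 7) := ⟨by norm_num⟩
  obtain ⟨e⟩ := S0255.result (F := ZMod 7) (K := F) (ZMod.card 7) hF
  intro τ h2 ho
  exact extRow_congr e.symm (H984.K547.Psl32.ext_seven _ (twoPow_congr _ h2) fun hi => ho ((isInn_congr_iff _).1 hi))

/-- **the `D3` halves and the special rows** -/
theorem d3Even : D3Even.{u} := by
  intro S _ _ _ hS τ h2 ho
  rcases H151.K547.d3_ext_two hS h2 ho with h | h
  · exact Or.inl h
  right
  rcases h with ⟨F, _, _, f, hf, hF, ⟨e⟩, -⟩ | ⟨F, _, _, f, hf, hF, ⟨e⟩, hs⟩ | ⟨F, _, _, f, hf, hF, ⟨e⟩, -⟩ |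
    ⟨F, _, _, hF, ⟨e⟩⟩
  · have : CharP F 2 := H967.K4.charP_two_of_card (Nat.card_eq_fintype_card.trans hF)
    have h4 : 4 ≤ Fintype.card F := by
      rw [hF]
      calc 4 = 2 ^ 2 := by norm_num
        _ ≤ 2 ^ f := Nat.pow_le_pow_right (by norm_num) hf
    exact extRow_congr e (H269.K547.PslE.extAll h4 (twoPow_congr _ h2) fun hi => ho ((isInn_congr_iff _).1 hi))
  · exact H42.K547.PSU3.extRow_special hf hF e h2 hs
  · have : CharP F 2 := H967.K4.charP_two_of_card (Nat.card_eq_fintype_card.trans hF)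
    have h4 : 4 ≤ Fintype.card F := by
      rw [hF]
      calc 4 = 2 ^ 2 := by norm_num
        _ ≤ 2 ^ f := Nat.pow_le_pow_right (by norm_num) hf
    exact extRow_congr e (H511.K547.ext_psp4 h4 _ (twoPow_congr _ h2) fun hi => ho ((isInn_congr_iff _).1 hi))
  · exact extRow_congr e (ext_psl32 hF _ (twoPow_congr _ h2) fun hi => ho ((isInn_congr_iff _).1 hi))

/-- the swap of `PSL₃(q)`, `q ≥ 4` -/
def Swap3 : Prop :=
  ∀ {F : Type} [Field F] [Fintype F] [CharP F 2], 4 ≤ Fintype.card F →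
    ∀ {β : MulAut (Matrix.ProjectiveSpecialLinearGroup (Fin 3) F)} {σ : Equiv.Perm (Fin 2)},
      Nrm (rA 2 F) β σ → σ ≠ 1 → GInv3 β

theorem evenSmall_of (h3 : Swap3) : EvenSmall where
  psl2 := psl2
  psl_swap := psl_swap_of h3
  psl32 := H984.K547.Psl32.psl32
  psl42 := psl42
  psp4 h4 _ := H511.K547.ge_psp4 h4
  psu3 hF hq hn := have := hn.simple; H805.K547.PSU3.ge_psu3 stSpec hF hq
  psu4 hF _ := GE.of_gInv3 fun _ h2 ho => (H122.K547.psu4 hF h2 ho).1
  psu5 hF _ := GE.of_gInv3 fun _ h2 ho => (H122.K547.psu5 hF h2 ho).1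
  g2 := g2
  d4 := d4
  f4_swap := H845.K547F.f4_swap
  sz := sz
  ree := ree

/-- **all groups of Lie type of characteristic two**, given the swap of `PSL₃(q)` -/
theorem ext_two_of (h3 : Swap3) {S : Type u} [Group S] [Finite S] [IsSimpleGroup S] (hS : IsLieTypeChar 2 S) :
    ExtAll S := ext_two edgeE edgeE (evenSmall_of h3) d3Even hS

end Cfsg.Agent.H42.K547.Even
end

private theorem dce_651cc9415c42 : _root_.True := by
  try have : _root_.True := by simp only [_root_.Cfsg.Agent.H845.K547F.muA.congr_simp]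
  try have : _root_.True := by simp only [_root_.Cfsg.Agent.H805.K547.PSU3.hgt.congr_simp]
  try have : _root_.True := by simp only [_root_.Cfsg.Agent.H845.K547F.mu.congr_simp]
  try have : _root_.True := by simp only [_root_.Cfsg.Agent.StdRank2.OutSpGraph.frob.congr_simp]
  try have : _root_.True := by simp only [_root_.Cfsg.Agent.PRankPar.CardW.AF4.eq_1]
  try have : _root_.True := by simp only [_root_.Cfsg.Agent.H805.K547.PSU3.hgt.eq_1]
  try have : _root_.True := by simp only [_root_.Cfsg.Agent.H845.K547F.cU.congr_simp]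
  exact _root_.True.intro
end

-- part: H829/K547/Ext3_mg
section
prune_inst 0x211020250a8012000004050010201e938300042010080800808500000481240808000860a20000034220010500310028130000a00000000000000400011d008000c0000020010008400008000000010000000000000000000000000000000000004010000
set_option linter.all false
open scoped Cfsg.Agent.FastGrp

-- part: H829/K547/PslB
section
/-!
# S4547, QO-EXT3: outer automorphisms of `PSL_3(q)`, `q ≡ 3 mod 4` (helper829)

`N2` : the image of `GL_2(q)`; its quotient `PGL_2(q)`, on which the automorphisms act as inner automorphisms.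
-/

set_option autoImplicit false

namespace Cfsg.Agent.H829.K547.PslB

open Matrix Equiv
open Cfsg.Agent.ClassicalGeometry.AutPSL.Root
open Cfsg.Agent.ClassicalGeometry.AutPSL.Auto
open Cfsg.Agent.ClassicalGeometry.AutPSL.Main
open Cfsg.Agent.H183.OutPSL
open Cfsg.Agent.H716.K547 Cfsg.Agent.H821.K547

variable {F : Type*} [Field F]

/-- the block -/
def bk (x : Matrix (Fin 3) (Fin 3) F) : Matrix (Fin 2) (Fin 2) F := x.submatrix Fin.succ Fin.succ

omit [Field F] in
theorem bk_apply (x : Matrix (Fin 3) (Fin 3) F) (i j : Fin 2) : bk x i j = x i.succ j.succ := rfl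

theorem bk_mul (x : Matrix (Fin 3) (Fin 3) F) {y : Matrix (Fin 3) (Fin 3) F} (hy : ∀ j : Fin 2, y 0 j.succ = 0) :
    bk (x * y) = bk x * bk y := by
  ext i j
  rw [bk_apply, Matrix.mul_apply, Matrix.mul_apply, Fin.sum_univ_succ, hy, mul_zero, zero_add]
  rfl

theorem bk_one : bk (1 : Matrix (Fin 3) (Fin 3) F) = 1 := by
  ext i j
  rw [bk_apply, Matrix.one_apply, Matrix.one_apply]
  simp only [Fin.succ_inj]

/-- block diagonal matrices -/
def Bd (x : Matrix (Fin 3) (Fin 3) F) : Prop := (∀ j : Fin 2, x 0 j.succ = 0) ∧ ∀ i : Fin 2, x i.succ 0 = 0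

theorem Bd.mul {x y : Matrix (Fin 3) (Fin 3) F} (hx : Bd x) (hy : Bd y) : Bd (x * y) := by
  refine ⟨fun j => ?_, fun i => ?_⟩
  · rw [Matrix.mul_apply, Fin.sum_univ_succ, hy.1, mul_zero, zero_add]
    exact Finset.sum_eq_zero fun k _ => by rw [hx.1, zero_mul]
  · rw [Matrix.mul_apply, Fin.sum_univ_succ, hx.2, zero_mul, zero_add]
    exact Finset.sum_eq_zero fun k _ => by rw [hy.2, mul_zero]

theorem Bd.det {x : Matrix (Fin 3) (Fin 3) F} (hx : Bd x) : x.det = x 0 0 * (bk x).det := by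
  have h1 := hx.1 0
  have h2 := hx.1 1
  have h3 := hx.2 0
  have h4 := hx.2 1
  rw [Matrix.det_fin_three, Matrix.det_fin_two]
  simp only [bk_apply]
  change x 0 1 = 0 at h1
  change x 0 2 = 0 at h2
  change x 1 0 = 0 at h3
  change x 2 0 = 0 at h4
  rw [h1, h2]
  change _ = x 0 0 * (x 1 1 * x 2 2 - x 1 2 * x 2 1)
  ring

/-- the inverse is block diagonal -/
theorem Bd.inv {x : Matrix.SpecialLinearGroup (Fin 3) F} (hx : Bd (x : Matrix (Fin 3) (Fin 3) F)) :
    Bd ((x⁻¹ : Matrix.SpecialLinearGroup (Fin 3) F) : Matrix (Fin 3) (Fin 3) F) := by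
  have h1 := hx.1 0
  have h2 := hx.1 1
  have h3 := hx.2 0
  have h4 := hx.2 1
  change (x : Matrix (Fin 3) (Fin 3) F) 0 1 = 0 at h1
  change (x : Matrix (Fin 3) (Fin 3) F) 0 2 = 0 at h2
  change (x : Matrix (Fin 3) (Fin 3) F) 1 0 = 0 at h3
  change (x : Matrix (Fin 3) (Fin 3) F) 2 0 = 0 at h4
  rw [Matrix.SpecialLinearGroup.coe_inv, Matrix.adjugate_fin_three]
  refine ⟨fun j => ?_, fun i => ?_⟩
  · fin_cases j
    · simp only [h1, h2, _root_.Fin.isValue, _root_.MulZeroClass.zero_mul, _root_.neg_zero, _root_.add_zero, _root_.sub_self, _root_.sub_zero, _root_.Fin.zero_eta, _root_.Fin.succ_zero_eq_one, _root_.Matrix.of_apply, _root_.Matrix.cons_val', _root_.Matrix.cons_val_one, _root_.Matrix.cons_val_zero, _root_.Matrix.cons_val_fin_one]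
    · simp only [h1, h2, _root_.Fin.isValue, _root_.MulZeroClass.zero_mul, _root_.neg_zero, _root_.add_zero, _root_.sub_self, _root_.sub_zero, _root_.Fin.mk_one, _root_.Fin.succ_one_eq_two, _root_.Matrix.of_apply, _root_.Matrix.cons_val', _root_.Matrix.cons_val, _root_.Matrix.cons_val_fin_one, _root_.Matrix.cons_val_zero]
  · fin_cases i
    · simp [h3, h4]
    · simp [h3, h4]

variable (F) in
/-- the image of `GL_2` -/
def N2 : Subgroup (Matrix.SpecialLinearGroup (Fin 3) F) where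
  carrier := {x | Bd (x : Matrix (Fin 3) (Fin 3) F)}
  one_mem' := ⟨fun j => Matrix.one_apply_ne (Fin.succ_ne_zero j).symm, fun i => Matrix.one_apply_ne (Fin.succ_ne_zero i)⟩
  mul_mem' := fun h h' => h.mul h'
  inv_mem' := fun h => h.inv

theorem mem_N2 {x : Matrix.SpecialLinearGroup (Fin 3) F} : x ∈ N2 F ↔ Bd (x : Matrix (Fin 3) (Fin 3) F) := Iff.rfl

/-- the homomorphism onto `GL_2` -/
def bl : N2 F →* GL (Fin 2) F where
  toFun x := ⟨bk ((x : Matrix.SpecialLinearGroup (Fin 3) F) : Matrix (Fin 3) (Fin 3) F),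
    bk (((x⁻¹ : N2 F) : Matrix.SpecialLinearGroup (Fin 3) F) : Matrix (Fin 3) (Fin 3) F), by
      rw [← bk_mul _ (mem_N2.1 (x⁻¹ : N2 F).2).1, ← Matrix.SpecialLinearGroup.coe_mul, ← Subgroup.coe_mul,
        mul_inv_cancel, Subgroup.coe_one, Matrix.SpecialLinearGroup.coe_one, bk_one], by
      rw [← bk_mul _ (mem_N2.1 x.2).1, ← Matrix.SpecialLinearGroup.coe_mul, ← Subgroup.coe_mul,
        inv_mul_cancel, Subgroup.coe_one, Matrix.SpecialLinearGroup.coe_one, bk_one]⟩
  map_one' := Units.ext bk_one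
  map_mul' x y := Units.ext (bk_mul _ (mem_N2.1 y.2).1)

theorem coe_bl (x : N2 F) : ((bl x : GL (Fin 2) F) : Matrix (Fin 2) (Fin 2) F) =
    bk ((x : Matrix.SpecialLinearGroup (Fin 3) F) : Matrix (Fin 3) (Fin 3) F) := rfl

theorem exists_block {A : Matrix (Fin 2) (Fin 2) F} (hA : A.det ≠ 0) : ∃ x : N2 F,
    bk ((x : Matrix.SpecialLinearGroup (Fin 3) F) : Matrix (Fin 3) (Fin 3) F) = A := by
  let X : Matrix (Fin 3) (Fin 3) F := !![A.det⁻¹, 0, 0; 0, A 0 0, A 0 1; 0, A 1 0, A 1 1]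
  have hX : Bd X := by
    refine ⟨fun j => ?_, fun i => ?_⟩
    · fin_cases j <;> rfl
    · fin_cases i <;> rfl
  have hb : bk X = A := by
    ext i j
    fin_cases i <;> fin_cases j <;> rfl
  have hd : X.det = 1 := by
    rw [hX.det, hb]
    exact inv_mul_cancel₀ hA
  exact ⟨⟨⟨X, hd⟩, hX⟩, hb⟩

theorem bl_surjective : Function.Surjective (bl : N2 F →* _) := by
  intro g
  have hg : (g : Matrix (Fin 2) (Fin 2) F).det ≠ 0 := (Matrix.GeneralLinearGroup.det g).ne_zero
  obtain ⟨x, hx⟩ := exists_block hg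
  exact ⟨x, Units.ext hx⟩

/-- odd index -/
theorem odd_index_N2 [Fintype F] (ho : Odd (Fintype.card F)) : Odd (N2 F).index := by
  obtain ⟨q, hq⟩ : ∃ q, q = Fintype.card F := ⟨_, rfl⟩
  have hq1 : 1 < q := by rw [hq]; exact Fintype.one_lt_card
  rw [← hq] at ho
  have h1 := Cfsg.Agent.S0242.result (F := F) hq.symm 3 (by norm_num)
  have h2 := Subgroup.card_mul_index (N2 F)
  obtain ⟨c, hc⟩ := Subgroup.card_dvd_of_surjective (bl : N2 F →* _) bl_surjective
  have h3 : Nat.card (GL (Fin 2) F) = (q ^ 2 - 1) * (q ^ 2 - q) := by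
    rw [Matrix.card_GL_field, Fin.prod_univ_two, ← hq]
    simp only [_root_.Fin.isValue, _root_.Fin.coe_ofNat_eq_mod, _root_.Nat.zero_mod, _root_.pow_zero, _root_.Nat.mod_succ, _root_.pow_one]
  rw [Fin.prod_univ_three, ← h2, hc, h3] at h1
  simp only [Fin.val_zero, Fin.val_one, Fin.val_two, pow_zero, pow_one] at h1
  have e1 : q ^ 3 - 1 = (q - 1) * (q ^ 2 + q + 1) := by
    zify [Nat.one_le_pow 3 q (by omega), hq1.le]
    ring
  have e2 : q ^ 3 - q = q * (q ^ 2 - 1) := by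
    rw [Nat.mul_sub, mul_one]
    congr 1
    ring
  have e3 : q ^ 3 - q ^ 2 = q * (q ^ 2 - q) := by
    rw [Nat.mul_sub]
    congr 1 <;> ring
  have e4 : q ^ 2 - q ≠ 0 := by
    have : q * 1 < q * q := Nat.mul_lt_mul_of_pos_left hq1 (by omega)
    rw [pow_two]
    omega
  have e5 : q ^ 2 - 1 ≠ 0 := by
    have : 1 * 1 < q * q := Nat.mul_lt_mul'' hq1 hq1
    rw [pow_two]
    omega
  rw [e1, e2, e3] at h1
  have h4 : ((q - 1) * ((q ^ 2 - 1) * (q ^ 2 - q))) * (c * (N2 F).index) =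
      ((q - 1) * ((q ^ 2 - 1) * (q ^ 2 - q))) * (q ^ 2 * (q ^ 2 + q + 1)) := by
    calc _ = (q - 1) * ((q ^ 2 - 1) * (q ^ 2 - q) * c * (N2 F).index) := by ring
      _ = (q - 1) * (q ^ 2 + q + 1) * (q * (q ^ 2 - 1)) * (q * (q ^ 2 - q)) := h1
      _ = _ := by ring
  have h5 : c * (N2 F).index = q ^ 2 * (q ^ 2 + q + 1) :=
    Nat.eq_of_mul_eq_mul_left (Nat.pos_of_ne_zero (mul_ne_zero (by omega) (mul_ne_zero e5 e4))) h4
  refine Odd.of_dvd_nat ?_ (Dvd.intro_left c h5)
  refine ho.pow.mul ?_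
  have h6 : Odd (q ^ 2) := ho.pow
  rw [Nat.odd_iff] at *
  (clear * - ho h6; omega)

/-! ### the projective group -/

theorem mem_center_of {g : GL (Fin 2) F} {c : F} (h : (g : Matrix (Fin 2) (Fin 2) F) = c • (1 : Matrix (Fin 2) (Fin 2) F)) :
    g ∈ Subgroup.center (GL (Fin 2) F) := by
  rw [Subgroup.mem_center_iff]
  intro x
  apply Units.ext
  rw [Units.val_mul, Units.val_mul, h, mul_smul_comm, mul_one, smul_mul_assoc, one_mul]

variable (F) in
/-- `PGL_2` -/
abbrev Pj : Type _ := GL (Fin 2) F ⧸ Subgroup.center (GL (Fin 2) F)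

variable (F) in
/-- the projection -/
abbrev pj : GL (Fin 2) F →* Pj F := QuotientGroup.mk' _

theorem pj_eq {g h : GL (Fin 2) F} {c : F}
    (hgh : ((g⁻¹ * h : GL (Fin 2) F) : Matrix (Fin 2) (Fin 2) F) = c • (1 : Matrix (Fin 2) (Fin 2) F)) :
    pj F g = pj F h := QuotientGroup.eq.2 (mem_center_of hgh)

/-- the homomorphism onto `PGL_2` -/
def f2 (F : Type*) [Field F] : N2 F →* Pj F := (pj F).comp bl

theorem f2_surjective : Function.Surjective (f2 F) :=
  (QuotientGroup.mk'_surjective _).comp bl_surjective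

theorem f2_apply (x : N2 F) : f2 F x = pj F (bl x) := rfl

theorem f2_ker (x : N2 F) (hx : pr (x : Matrix.SpecialLinearGroup (Fin 3) F) = 1) : f2 F x = 1 := by
  obtain ⟨r, -, hxr⟩ := Matrix.SpecialLinearGroup.mem_center_iff.1 ((pr_eq_one_iff _).1 hx)
  rw [f2_apply, ← map_one (pj F)]
  symm
  refine pj_eq (c := r) ?_
  rw [inv_one, one_mul, coe_bl, ← hxr]
  ext i j
  rw [bk_apply, scalar_apply, Matrix.smul_apply, Matrix.one_apply, smul_eq_mul]
  by_cases hij : i = j
  · subst hij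
    simp
  · rw [diagonal_apply_ne _ (fun h => hij (Fin.succ_injective _ h)), if_neg hij, mul_zero]

/-- `J` -/
def J (F : Type*) [Field F] : GL (Fin 2) F :=
  ⟨!![0, 1; -1, 0], !![0, -1; 1, 0], by ext i j; (revert i j; simp only [Matrix.mul_apply, _root_.Fin.forall_fin_succ, _root_.Matrix.of_apply, _root_.Matrix.cons_val', _root_.Matrix.cons_val_fin_one, _root_.Fin.sum_univ_two, Fin.isValue, _root_.Matrix.cons_val_zero, _root_.Matrix.cons_val_one, _root_.MulZeroClass.mul_zero, _root_.mul_one, _root_.zero_add, _root_.Matrix.cons_val_succ, _root_.mul_neg, _root_.add_zero, _root_.IsEmpty.forall_iff, _root_.and_true, _root_.Matrix.one_apply_eq, _root_.neg_zero, Nat.reduceAdd, _root_.Fin.succ_zero_eq_one, _root_.ne_eq, _root_.zero_ne_one, _root_.not_false_eq_true, _root_.Matrix.one_apply_ne, _root_.and_self, _root_.Fin.succ_ne_zero, _root_.neg_neg, _root_.true_and]),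
    by ext i j; (revert i j; simp only [Matrix.mul_apply, _root_.Fin.forall_fin_succ, _root_.Matrix.of_apply, _root_.Matrix.cons_val', _root_.Matrix.cons_val_fin_one, _root_.Fin.sum_univ_two, Fin.isValue, _root_.Matrix.cons_val_zero, _root_.Matrix.cons_val_one, _root_.MulZeroClass.mul_zero, _root_.mul_neg, _root_.mul_one, _root_.zero_add, _root_.Matrix.cons_val_succ, _root_.add_zero, _root_.IsEmpty.forall_iff, _root_.and_true, _root_.neg_neg, _root_.Matrix.one_apply_eq, Nat.reduceAdd, _root_.Fin.succ_zero_eq_one, _root_.ne_eq, _root_.zero_ne_one, _root_.not_false_eq_true, _root_.Matrix.one_apply_ne, _root_.and_self, _root_.neg_zero, _root_.Fin.succ_ne_zero, _root_.true_and])⟩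

theorem pj_itrGL (A : GL (Fin 2) F) : pj F (itrGL A) = pj F (J F) * pj F A * (pj F (J F))⁻¹ := by
  rw [← map_inv, ← map_mul, ← map_mul]
  refine pj_eq (c := (A : Matrix (Fin 2) (Fin 2) F).det) ?_
  rw [Units.val_mul, Units.val_mul, Units.val_mul]
  show (A : Matrix (Fin 2) (Fin 2) F)ᵀ * (!![0, 1; -1, 0] * (A : Matrix (Fin 2) (Fin 2) F) * !![0, -1; 1, 0]) = _
  obtain ⟨a, b, c, d, h⟩ : ∃ a b c d, (A : Matrix (Fin 2) (Fin 2) F) = !![a, b; c, d] :=
    ⟨_, _, _, _, Matrix.eta_fin_two _⟩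
  rw [h, Matrix.det_fin_two_of, Matrix.mul_fin_two, Matrix.mul_fin_two]
  ext i j
  (revert i j; simp only [Matrix.mul_apply, Fin.sum_univ_two, _root_.Fin.forall_fin_succ, _root_.MulZeroClass.zero_mul, _root_.one_mul, _root_.zero_add, _root_.MulZeroClass.mul_zero, _root_.mul_one, _root_.mul_neg, _root_.add_zero, _root_.neg_mul, _root_.neg_neg, _root_.Matrix.transpose_apply, _root_.Matrix.of_apply, _root_.Matrix.cons_val', _root_.Matrix.cons_val_fin_one, Fin.isValue, _root_.Matrix.cons_val_zero, _root_.Matrix.cons_val_one, _root_.Matrix.smul_apply, _root_.smul_eq_mul, _root_.Matrix.cons_val_succ, _root_.IsEmpty.forall_iff, _root_.and_true, _root_.Matrix.one_apply_eq, Nat.reduceAdd, _root_.Fin.succ_zero_eq_one, _root_.ne_eq, _root_.zero_ne_one, _root_.not_false_eq_true, _root_.Matrix.one_apply_ne, _root_.Fin.succ_ne_zero]) <;> (repeat' with_reducible apply And.intro) <;> ring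

/-- inverse transposes -/
theorem itr_mem {x : Matrix.SpecialLinearGroup (Fin 3) F} (hx : x ∈ N2 F) : itr x ∈ N2 F := by
  have h1 := mem_N2.1 (inv_mem hx)
  rw [mem_N2, coe_itr]
  exact ⟨fun j => h1.2 j, fun i => h1.1 i⟩

theorem bl_itr (x : N2 F) : bl ⟨itr (x : Matrix.SpecialLinearGroup (Fin 3) F), itr_mem x.2⟩ = itrGL (bl x) := by
  apply Units.ext
  rw [coe_bl]
  show bk ((itr (x : Matrix.SpecialLinearGroup (Fin 3) F) : Matrix.SpecialLinearGroup (Fin 3) F) :
    Matrix (Fin 3) (Fin 3) F) = _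
  rw [coe_itr]
  rfl

/-- diagonal conjugation -/
theorem diag_inv {D : GL (Fin 3) F} {d : Fin 3 → F} (hD : (D : Matrix (Fin 3) (Fin 3) F) = diagonal d)
    (hd : ∀ i, d i ≠ 0) : ((D⁻¹ : GL (Fin 3) F) : Matrix (Fin 3) (Fin 3) F) = diagonal fun i => (d i)⁻¹ := by
  have h1 : ((D⁻¹ : GL (Fin 3) F) : Matrix (Fin 3) (Fin 3) F) * diagonal d = 1 := by
    rw [← hD, ← Units.val_mul, inv_mul_cancel, Units.val_one]
  have h2 : diagonal d * (diagonal fun i => (d i)⁻¹) = (1 : Matrix (Fin 3) (Fin 3) F) := by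
    rw [diagonal_mul_diagonal, ← diagonal_one]
    congr 1
    funext i
    exact mul_inv_cancel₀ (hd i)
  calc ((D⁻¹ : GL (Fin 3) F) : Matrix (Fin 3) (Fin 3) F) =
      ((D⁻¹ : GL (Fin 3) F) : Matrix (Fin 3) (Fin 3) F) * (diagonal d * (diagonal fun i => (d i)⁻¹)) := by
        rw [h2, mul_one]
    _ = diagonal fun i => (d i)⁻¹ := by rw [← mul_assoc, h1, one_mul]

theorem cj_mem {D : GL (Fin 3) F} {d : Fin 3 → F} (hD : (D : Matrix (Fin 3) (Fin 3) F) = diagonal d)
    (hd : ∀ i, d i ≠ 0) {x : Matrix.SpecialLinearGroup (Fin 3) F} (hx : x ∈ N2 F) : cj D x ∈ N2 F := by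
  rw [mem_N2] at hx ⊢
  rw [coe_cj, hD, diag_inv hD hd]
  refine ⟨fun j => ?_, fun i => ?_⟩
  · rw [mul_diagonal, diagonal_mul, hx.1, mul_zero, zero_mul]
  · rw [mul_diagonal, diagonal_mul, hx.2, mul_zero, zero_mul]

theorem bl_cj {D : GL (Fin 3) F} {d : Fin 3 → F} (hD : (D : Matrix (Fin 3) (Fin 3) F) = diagonal d)
    (hd : ∀ i, d i ≠ 0) : ∃ Δ : GL (Fin 2) F, ∀ x : N2 F, bl ⟨cj D x, cj_mem hD hd x.2⟩ = Δ * bl x * Δ⁻¹ := by
  refine ⟨⟨diagonal fun i => d i.succ, diagonal fun i => (d i.succ)⁻¹, ?_, ?_⟩, fun x => ?_⟩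
  · rw [diagonal_mul_diagonal, ← diagonal_one]
    congr 1
    funext i
    exact mul_inv_cancel₀ (hd _)
  · rw [diagonal_mul_diagonal, ← diagonal_one]
    congr 1
    funext i
    exact inv_mul_cancel₀ (hd _)
  · apply Units.ext
    rw [coe_bl, Units.val_mul, Units.val_mul]
    show bk ((cj D (x : Matrix.SpecialLinearGroup (Fin 3) F) : Matrix.SpecialLinearGroup (Fin 3) F) :
      Matrix (Fin 3) (Fin 3) F) = diagonal (fun i => d i.succ) * _ * diagonal fun i => (d i.succ)⁻¹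
    rw [coe_cj, hD, diag_inv hD hd, coe_bl]
    ext i j
    rw [bk_apply, mul_diagonal, diagonal_mul, mul_diagonal, diagonal_mul, bk_apply]

/-- the automorphisms we need: they stabilise `N2` and act as inner automorphisms of `PGL_2` -/
def Ok (α : MulAut (Matrix.SpecialLinearGroup (Fin 3) F)) : Prop :=
  ∃ (h : ∀ x ∈ N2 F, α x ∈ N2 F) (v : Pj F), ∀ x : N2 F, f2 F ⟨α x, h x x.2⟩ = v * f2 F x * v⁻¹

theorem Ok.mul {α β : MulAut (Matrix.SpecialLinearGroup (Fin 3) F)} (hα : Ok α) (hβ : Ok β) : Ok (α * β) := by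
  obtain ⟨h, v, hv⟩ := hα
  obtain ⟨h', v', hv'⟩ := hβ
  refine ⟨fun x hx => h _ (h' x hx), v * v', fun x => ?_⟩
  have e1 := hv ⟨β x, h' x x.2⟩
  rw [hv'] at e1
  calc f2 F ⟨(α * β) x, h _ (h' x x.2)⟩ = v * (v' * f2 F x * v'⁻¹) * v⁻¹ := e1
    _ = _ := by group

theorem ok_cj {D : GL (Fin 3) F} {d : Fin 3 → F} (hD : (D : Matrix (Fin 3) (Fin 3) F) = diagonal d)
    (hd : ∀ i, d i ≠ 0) : Ok (cj D) := by
  obtain ⟨Δ, hΔ⟩ := bl_cj hD hd
  refine ⟨fun x hx => cj_mem hD hd hx, pj F Δ, fun x => ?_⟩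
  rw [f2_apply, hΔ, f2_apply, map_mul, map_mul, map_inv]

theorem ok_itr : Ok (itr : MulAut (Matrix.SpecialLinearGroup (Fin 3) F)) := by
  refine ⟨fun x hx => itr_mem hx, pj F (J F), fun x => ?_⟩
  rw [f2_apply, bl_itr, f2_apply, pj_itrGL]

/-- the Sylow 2-subgroups of `PGL_2` -/
theorem rk_two [Finite F] (h2 : (2 : F) ≠ 0) (Q : Sylow 2 (f2 F).range) : Rk 2 Q := by
  let A : GL (Fin 2) F := ⟨!![1, 0; 0, -1], !![1, 0; 0, -1],
    by ext i j; (revert i j; simp only [Matrix.mul_apply, _root_.Fin.forall_fin_succ, _root_.Matrix.of_apply, _root_.Matrix.cons_val', _root_.Matrix.cons_val_fin_one, _root_.Fin.sum_univ_two, Fin.isValue, _root_.Matrix.cons_val_zero, _root_.Matrix.cons_val_one, _root_.mul_one, _root_.MulZeroClass.mul_zero, _root_.add_zero, _root_.Matrix.cons_val_succ, _root_.mul_neg, _root_.zero_add, _root_.IsEmpty.forall_iff, _root_.and_true, _root_.Matrix.one_apply_eq, _root_.neg_zero, Nat.reduceAdd, _root_.Fin.succ_zero_eq_one, _root_.ne_eq,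 _root_.zero_ne_one, _root_.not_false_eq_true, _root_.Matrix.one_apply_ne, _root_.and_self, _root_.Fin.succ_ne_zero, _root_.neg_neg, _root_.true_and]),
    by ext i j; (revert i j; simp only [Matrix.mul_apply, _root_.Fin.forall_fin_succ, _root_.Matrix.of_apply, _root_.Matrix.cons_val', _root_.Matrix.cons_val_fin_one, _root_.Fin.sum_univ_two, Fin.isValue, _root_.Matrix.cons_val_zero, _root_.Matrix.cons_val_one, _root_.mul_one, _root_.MulZeroClass.mul_zero, _root_.add_zero, _root_.Matrix.cons_val_succ, _root_.mul_neg, _root_.zero_add, _root_.IsEmpty.forall_iff, _root_.and_true, _root_.Matrix.one_apply_eq, _root_.neg_zero, Nat.reduceAdd, _root_.Fin.succ_zero_eq_one, _root_.ne_eq, _root_.zero_ne_one, _root_.not_false_eq_true, _root_.Matrix.one_apply_ne, _root_.and_self, _root_.Fin.succ_ne_zero, _root_.neg_neg, _root_.true_and])⟩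
  let B : GL (Fin 2) F := ⟨!![0, 1; 1, 0], !![0, 1; 1, 0],
    by ext i j; (revert i j; simp only [Matrix.mul_apply, _root_.Fin.forall_fin_succ, _root_.Matrix.of_apply, _root_.Matrix.cons_val', _root_.Matrix.cons_val_fin_one, _root_.Fin.sum_univ_two, Fin.isValue, _root_.Matrix.cons_val_zero, _root_.Matrix.cons_val_one, _root_.MulZeroClass.mul_zero, _root_.mul_one, _root_.zero_add, _root_.Matrix.cons_val_succ, _root_.add_zero, _root_.IsEmpty.forall_iff, _root_.and_true, _root_.Matrix.one_apply_eq, Nat.reduceAdd, _root_.Fin.succ_zero_eq_one, _root_.ne_eq, _root_.zero_ne_one, _root_.not_false_eq_true, _root_.Matrix.one_apply_ne, _root_.and_self, _root_.Fin.succ_ne_zero, _root_.true_and]),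
    by ext i j; (revert i j; simp only [Matrix.mul_apply, _root_.Fin.forall_fin_succ, _root_.Matrix.of_apply, _root_.Matrix.cons_val', _root_.Matrix.cons_val_fin_one, _root_.Fin.sum_univ_two, Fin.isValue, _root_.Matrix.cons_val_zero, _root_.Matrix.cons_val_one, _root_.MulZeroClass.mul_zero, _root_.mul_one, _root_.zero_add, _root_.Matrix.cons_val_succ, _root_.add_zero, _root_.IsEmpty.forall_iff, _root_.and_true, _root_.Matrix.one_apply_eq, Nat.reduceAdd, _root_.Fin.succ_zero_eq_one, _root_.ne_eq, _root_.zero_ne_one, _root_.not_false_eq_true, _root_.Matrix.one_apply_ne, _root_.and_self, _root_.Fin.succ_ne_zero, _root_.true_and])⟩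
  have hAA : A * A = 1 := Units.ext (by
    show !![1, 0; 0, -1] * !![1, 0; 0, -1] = (1 : Matrix (Fin 2) (Fin 2) F)
    ext i j; (revert i j; simp only [Matrix.mul_apply, _root_.Fin.forall_fin_succ, _root_.Matrix.of_apply, _root_.Matrix.cons_val', _root_.Matrix.cons_val_fin_one, _root_.Fin.sum_univ_two, Fin.isValue, _root_.Matrix.cons_val_zero, _root_.Matrix.cons_val_one, _root_.mul_one, _root_.MulZeroClass.mul_zero, _root_.add_zero, _root_.Matrix.cons_val_succ, _root_.mul_neg, _root_.zero_add, _root_.IsEmpty.forall_iff, _root_.and_true, _root_.Matrix.one_apply_eq, _root_.neg_zero, Nat.reduceAdd, _root_.Fin.succ_zero_eq_one, _root_.ne_eq, _root_.zero_ne_one, _root_.not_false_eq_true, _root_.Matrix.one_apply_ne, _root_.and_self, _root_.Fin.succ_ne_zero, _root_.neg_neg, _root_.true_and]))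
  have hBB : B * B = 1 := Units.ext (by
    show !![0, 1; 1, 0] * !![0, 1; 1, 0] = (1 : Matrix (Fin 2) (Fin 2) F)
    ext i j; (revert i j; simp only [Matrix.mul_apply, _root_.Fin.forall_fin_succ, _root_.Matrix.of_apply, _root_.Matrix.cons_val', _root_.Matrix.cons_val_fin_one, _root_.Fin.sum_univ_two, Fin.isValue, _root_.Matrix.cons_val_zero, _root_.Matrix.cons_val_one, _root_.MulZeroClass.mul_zero, _root_.mul_one, _root_.zero_add, _root_.Matrix.cons_val_succ, _root_.add_zero, _root_.IsEmpty.forall_iff, _root_.and_true, _root_.Matrix.one_apply_eq, Nat.reduceAdd, _root_.Fin.succ_zero_eq_one, _root_.ne_eq, _root_.zero_ne_one, _root_.not_false_eq_true, _root_.Matrix.one_apply_ne, _root_.and_self, _root_.Fin.succ_ne_zero, _root_.true_and]))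
  have hAi : A⁻¹ = A := inv_eq_of_mul_eq_one_left hAA
  have hBi : B⁻¹ = B := inv_eq_of_mul_eq_one_left hBB
  have hne1 : (1 : F) ≠ -1 := fun h => h2 (by linear_combination h)
  -- matrices which commute with `A` and `B` modulo scalars
  have hcomm : pj F A * pj F B = pj F B * pj F A := by
    rw [← map_mul, ← map_mul]
    refine pj_eq (c := -1) ?_
    rw [_root_.mul_inv_rev, hAi, hBi]
    show !![0, 1; 1, 0] * !![1, 0; 0, -1] * (!![0, 1; 1, 0] * !![1, 0; 0, -1]) = _
    ext i j; (revert i j; simp only [Matrix.mul_apply, _root_.Fin.forall_fin_succ, _root_.Matrix.cons_mul, _root_.Nat.succ_eq_add_one, Nat.reduceAdd, _root_.Matrix.vecMul_cons, _root_.Matrix.head_cons, _root_.zero_smul, _root_.Matrix.tail_cons, _root_.one_smul, _root_.Matrix.empty_vecMul, _root_.add_zero, _root_.zero_add, _root_.Matrix.empty_mul, _root_.Equiv.symm_apply_apply, _root_.Matrix.of_apply, _root_.Matrix.cons_val', _root_.Matrix.cons_val_fin_one, _root_.Fin.sum_univ_two,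 Fin.isValue, _root_.Matrix.cons_val_zero, _root_.Matrix.cons_val_one, _root_.Matrix.smul_apply, _root_.smul_eq_mul, _root_.neg_mul, _root_.one_mul, _root_.MulZeroClass.mul_zero, _root_.mul_one, _root_.Matrix.cons_val_succ, _root_.mul_neg, _root_.neg_inj, _root_.IsEmpty.forall_iff, _root_.and_true, _root_.Matrix.one_apply_eq, _root_.Fin.succ_zero_eq_one, _root_.ne_eq, _root_.zero_ne_one, _root_.not_false_eq_true, _root_.Matrix.one_apply_ne, _root_.and_self, _root_.Fin.succ_ne_zero, _root_.neg_zero, _root_.true_and])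
  have hnc : ∀ g : GL (Fin 2) F, pj F g = 1 → ∀ x : GL (Fin 2) F,
      (x : Matrix (Fin 2) (Fin 2) F) * g = (g : Matrix (Fin 2) (Fin 2) F) * x := by
    intro g hg x
    have h3 := (Subgroup.mem_center_iff.1 ((QuotientGroup.eq_one_iff g).1 hg)) x
    rw [← Units.val_mul, ← Units.val_mul, h3]
  have hA1 : pj F A ≠ 1 := by
    intro h
    have h3 := congrFun (congrFun (hnc A h B) 0) 1
    change (!![0, 1; 1, 0] * !![1, 0; 0, -1] : Matrix (Fin 2) (Fin 2) F) 0 1 =
      (!![1, 0; 0, -1] * !![0, 1; 1, 0] : Matrix (Fin 2) (Fin 2) F) 0 1 at h3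
    simp only [Matrix.mul_apply, _root_.Fin.isValue, _root_.Matrix.of_apply, _root_.Matrix.cons_val', _root_.Matrix.cons_val_fin_one, _root_.Matrix.cons_val_zero, _root_.Matrix.cons_val_one, _root_.Fin.sum_univ_two, _root_.MulZeroClass.mul_zero, _root_.mul_neg, _root_.mul_one, _root_.zero_add, _root_.add_zero] at h3
    exact hne1 h3.symm
  have hB1 : pj F B ≠ 1 := by
    intro h
    have h3 := congrFun (congrFun (hnc B h A) 0) 1
    change (!![1, 0; 0, -1] * !![0, 1; 1, 0] : Matrix (Fin 2) (Fin 2) F) 0 1 =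
      (!![0, 1; 1, 0] * !![1, 0; 0, -1] : Matrix (Fin 2) (Fin 2) F) 0 1 at h3
    simp [Matrix.mul_apply] at h3
    exact hne1 h3
  have hAB : pj F A ≠ pj F B := by
    intro h
    have h4 : pj F (A * B) = 1 := by
      rw [map_mul, h, ← map_mul, hBB, map_one]
    have h3 := congrFun (congrFun (hnc (A * B) h4 A) 0) 1
    change (!![1, 0; 0, -1] * (!![1, 0; 0, -1] * !![0, 1; 1, 0]) : Matrix (Fin 2) (Fin 2) F) 0 1 =
      ((!![1, 0; 0, -1] * !![0, 1; 1, 0]) * !![1, 0; 0, -1] : Matrix (Fin 2) (Fin 2) F) 0 1 at h3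
    simp [Matrix.mul_apply] at h3
    exact hne1 h3
  obtain ⟨a, ha⟩ := f2_surjective (F := F) (pj F A)
  obtain ⟨b, hb⟩ := f2_surjective (F := F) (pj F B)
  refine Cfsg.Agent.H716.K547.rk_two_sylow (a := (f2 F).rangeRestrict a) (b := (f2 F).rangeRestrict b)
    (Subtype.ext ?_) (Subtype.ext ?_) (Subtype.ext ?_) (fun h => ?_) (fun h => ?_) (fun h => ?_) Q
  · show f2 F a * f2 F a = 1
    rw [ha, ← map_mul, hAA, map_one]
  · show f2 F b * f2 F b = 1
    rw [hb, ← map_mul, hBB, map_one]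
  · show f2 F a * f2 F b = f2 F b * f2 F a
    rw [ha, hb, hcomm]
  · have h3 : f2 F a = 1 := congrArg Subtype.val h
    rw [ha] at h3
    exact hA1 h3
  · have h3 : f2 F b = 1 := congrArg Subtype.val h
    rw [hb] at h3
    exact hB1 h3
  · have h3 : f2 F a = f2 F b := congrArg Subtype.val h
    rw [ha, hb] at h3
    exact hAB h3

/-- 2-power order: no field part -/
theorem form_of_twoPow [Fintype F] (h3 : Fintype.card F % 4 = 3) (τ : MulAut (ProjectiveSpecialLinearGroup (Fin 3) F))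
    (hτ : TwoPow τ) : ∃ A : GL (Fin 3) F, τ = lift (cj A) ∨ τ = lift (cj A * itr) := by
  obtain ⟨p, hp⟩ := CharP.exists F
  have : Fact p.Prime := ⟨CharP.char_is_prime F p⟩
  obtain ⟨k, hk⟩ := hτ
  obtain ⟨g, hg⟩ := H716.K547.isInn_iff.1 hk
  rcases surj_three p (by norm_num) τ with ⟨A, σ, rfl⟩ | ⟨A, σ, rfl⟩
  · obtain ⟨A', hA'⟩ := pow_form A σ (2 ^ k)
    rw [← map_pow, hA'] at hg
    have hσ : σ = 1 := fld_eq_one h3 k σ (fld_of_lift hg).2
    subst hσ
    exact ⟨A, Or.inl (by rw [map_one, mul_one])⟩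
  · have hsq : (lift (cj A * fld σ * itr) : MulAut (ProjectiveSpecialLinearGroup (Fin 3) F)) ^ 2 =
        lift (cj (A * fldGL σ (itrGL A)) * fld (σ * σ)) := by
      rw [← map_pow, pow_two, sq_form]
    obtain ⟨A', hA'⟩ := pow_form (A * fldGL σ (itrGL A)) (σ * σ) (2 ^ k)
    have h1 : lift (cj A' * fld ((σ * σ) ^ 2 ^ k)) = lift (cj (Matrix.SpecialLinearGroup.toGL (g * g))) := by
      rw [← hA', map_pow lift, ← hsq, ← pow_mul, mul_comm, pow_mul, hg, ← map_pow, ← map_pow, ← map_pow, pow_two]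
    have h2 : σ * σ = 1 := fld_eq_one h3 k _ (fld_of_lift h1).2
    have hσ : σ = 1 := fld_eq_one h3 1 σ (by rw [pow_one, pow_two]; exact h2)
    subst hσ
    exact ⟨A, Or.inr (by rw [map_one fld, mul_one])⟩

/-- **outer automorphisms of `PSL_3(q)`, `q ≡ 3 mod 4`** -/
theorem ext_three [Fintype F] (h3 : Fintype.card F % 4 = 3) (τ : MulAut (ProjectiveSpecialLinearGroup (Fin 3) F))
    (ht : TwoPow τ) (hni : ¬ IsInn τ) : D3 (AutExt τ) := by
  have h2 : (2 : F) ≠ 0 := by
    intro h0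
    have h1' : ringChar F ∣ 2 := (ringChar.spec F 2).1 (by exact_mod_cast h0)
    have h3 : ringChar F = 2 := by
      rcases (Nat.dvd_prime Nat.prime_two).1 h1' with h4 | h4
      · exact absurd h4 (CharP.ringChar_ne_one)
      · exact h4
    have h4 := FiniteField.even_card_of_char_two h3
    omega
  have hsimple : IsSimpleGroup (ProjectiveSpecialLinearGroup (Fin 3) F) := Cfsg.Agent.S0249.result 3 (by norm_num)
  have key : ∃ (B : Matrix.SpecialLinearGroup (Fin 3) F) (α : MulAut (Matrix.SpecialLinearGroup (Fin 3) F)),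
      Ok α ∧ τ = MulAut.conj (pr B) * lift α := by
    obtain ⟨A, hA⟩ := form_of_twoPow h3 τ ht
    obtain ⟨B, D, d, hD, hd, rfl⟩ := exists_decomp (by norm_num) A
    rcases hA with rfl | rfl
    · refine ⟨B, cj D, ok_cj hD hd, ?_⟩
      rw [← lift_cj_toGL, ← map_mul, ← map_mul]
    · refine ⟨B, cj D * itr, (ok_cj hD hd).mul ok_itr, ?_⟩
      rw [← lift_cj_toGL, ← map_mul, ← mul_assoc, ← map_mul]
  obtain ⟨B, α, ⟨hα, v, hv⟩, rfl⟩ := key
  have hrange : v ∈ (f2 F).range := by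
    rw [MonoidHom.range_eq_top.2 f2_surjective]
    exact Subgroup.mem_top v
  refine (d3_of_cover pr pr_surjective (N2 F) (odd_index_N2 (by rw [Nat.odd_iff]; omega)) (f2 F) f2_ker _ ht hni
    (pr B)⁻¹ α ?_ hα v hrange hv (fun Q => rk_two h2 Q) :)
  intro x
  rw [MulAut.mul_apply, MulAut.mul_apply, lift_pr, MulAut.conj_apply, MulAut.conj_apply]
  group

end Cfsg.Agent.H829.K547.PslB
end

-- part: H311/K547/Klein
section
/-!
# S4547: noncyclic 2-groups and frames (helper311)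

* `rk_two_of_not_cyclic` : a noncyclic finite 2-group maps onto `C2²`;
* `rk_two_sylow` : so do the Sylow 2-subgroups of a group with two commuting involutions.
-/

set_option autoImplicit false

namespace Cfsg.Agent.H311.K547

open Cfsg.Agent.H821.K547

universe u

theorem exists_index_two {Q : Type u} [Group Q] [Finite Q] (hQ : IsPGroup 2 Q) {H : Subgroup Q} (hH : H ≠ ⊤) :
    ∃ K : Subgroup Q, K.index = 2 ∧ H ≤ K := by
  have : Fact (Nat.Prime 2) := ⟨Nat.prime_two⟩
  obtain ⟨k, hk⟩ := hQ.exists_card_eq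
  obtain ⟨m, hm⟩ := (hQ.to_subgroup H).exists_card_eq
  have h1 : m < k := by
    have h2 : Nat.card H < Nat.card Q := by
      refine lt_of_le_of_ne (Nat.le_of_dvd Nat.card_pos (Subgroup.card_subgroup_dvd_card H)) fun h => hH ?_
      exact Subgroup.eq_top_of_card_eq H h
    rw [hk, hm] at h2
    exact (Nat.pow_lt_pow_iff_right (by norm_num)).1 h2
  obtain ⟨K, hK, hHK⟩ := Sylow.exists_subgroup_card_pow_prime_le 2 (n := m) (m := k - 1)
    (by rw [hk]; exact pow_dvd_pow 2 (by omega)) H hm (by omega)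
  refine ⟨K, ?_, hHK⟩
  have h3 := Subgroup.card_mul_index K
  rw [hK, hk, show k = (k - 1) + 1 by omega, pow_succ] at h3
  exact Nat.eq_of_mul_eq_mul_left (by positivity) h3

/-- a noncyclic finite 2-group maps onto `C2²` -/
theorem rk_two_of_not_cyclic {Q : Type u} [Group Q] [Finite Q] (hQ : IsPGroup 2 Q) (hc : ¬ IsCyclic Q) : Rk 2 Q := by
  have hz : ∀ x : Q, Subgroup.zpowers x ≠ ⊤ := by
    intro x hx
    refine hc ⟨x, fun y => ?_⟩
    have h1 : y ∈ Subgroup.zpowers x := by rw [hx]; exact Subgroup.mem_top y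
    exact h1
  obtain ⟨M, hM, -⟩ := exists_index_two hQ (hz 1)
  obtain ⟨x, hx⟩ : ∃ x, x ∉ M := by
    by_contra hcon
    push Not at hcon
    have : M = ⊤ := top_unique fun x _ => hcon x
    rw [this, Subgroup.index_top] at hM
    omega
  obtain ⟨K, hK, hxK⟩ := exists_index_two hQ (hz x)
  have hxK' : x ∈ K := hxK (Subgroup.mem_zpowers x)
  refine Cfsg.Agent.H951.K547.rk_of_sq (N := M ⊓ K) (fun y => ?_) ?_
  · exact ⟨Subgroup.sq_mem_of_index_two hM y, Subgroup.sq_mem_of_index_two hK y⟩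
  · have h1 : (M ⊓ K).relIndex K * K.index = (M ⊓ K).index := Subgroup.relIndex_mul_index inf_le_right
    rw [Subgroup.inf_relIndex_right, hK] at h1
    have h2 : M.relIndex K ≠ 1 := by
      intro h3
      exact hx (Subgroup.relIndex_eq_one.1 h3 hxK')
    have h3 : M.relIndex K ≠ 0 := fun h4 => by
      have h5 := Subgroup.relIndex_dvd_card M K
      rw [h4] at h5
      exact Nat.card_pos.ne' (zero_dvd_iff.1 h5)
    omega

/-- two involutions in a cyclic group -/
theorem not_cyclic {P : Type u} [Group P] [Finite P] {a b : P} (ha : a * a = 1) (hb : b * b = 1)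
    (ha1 : a ≠ 1) (hb1 : b ≠ 1) (hne : a ≠ b) : ¬ IsCyclic P := by
  intro hPc
  classical
  let _ : Fintype P := Fintype.ofFinite _
  have h5 := IsCyclic.card_pow_eq_one_le (α := P) (n := 2) (by norm_num)
  have h6 : ({1, a, b} : Finset P) ⊆ (Finset.univ.filter fun x : P => x ^ 2 = 1) := by
    intro x hx
    rw [Finset.mem_filter]
    refine ⟨Finset.mem_univ _, ?_⟩
    rw [Finset.mem_insert, Finset.mem_insert, Finset.mem_singleton] at hx
    rcases hx with rfl | rfl | rfl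
    · exact one_pow 2
    · rw [pow_two]; exact ha
    · rw [pow_two]; exact hb
  have h7 : ({1, a, b} : Finset P).card = 3 := by
    rw [Finset.card_eq_three]
    exact ⟨_, _, _, fun h => ha1 h.symm, fun h => hb1 h.symm, hne, rfl⟩
  have h8 := Finset.card_le_card h6
  have h9 : (Finset.univ.filter fun x : P => x ^ 2 = 1).card ≤ 2 := by convert h5
  omega

/-- groups with two commuting involutions -/
theorem rk_two_sylow {Y : Type u} [Group Y] [Finite Y] {a b : Y} (ha : a * a = 1) (hb : b * b = 1)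
    (hab : a * b = b * a) (ha1 : a ≠ 1) (hb1 : b ≠ 1) (hne : a ≠ b) (Q : Sylow 2 Y) : Rk 2 Q := by
  have : Fact (Nat.Prime 2) := ⟨Nat.prime_two⟩
  apply rk_two_of_not_cyclic Q.isPGroup'
  intro hcyc
  have hoa : orderOf a = 2 := orderOf_eq_prime (by rw [pow_two]; exact ha) ha1
  have hob : orderOf b = 2 := orderOf_eq_prime (by rw [pow_two]; exact hb) hb1
  have h1 : IsPGroup 2 (Subgroup.zpowers a) := IsPGroup.of_card (n := 1) (by rw [Nat.card_zpowers, hoa, pow_one])
  have h2 : IsPGroup 2 (Subgroup.zpowers b) := IsPGroup.of_card (n := 1) (by rw [Nat.card_zpowers, hob, pow_one])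
  have h3 : IsPGroup 2 (Subgroup.zpowers a ⊔ Subgroup.zpowers b : Subgroup Y) := by
    refine h1.to_sup_of_normal_right' h2 ?_
    rw [Subgroup.zpowers_le, Subgroup.mem_normalizer_iff]
    intro x
    have hab' : ∀ i : ℤ, a * b ^ i * a⁻¹ = b ^ i := by
      intro i
      rw [((show Commute a b from hab).zpow_right i).eq, mul_inv_cancel_right]
    constructor
    · rintro ⟨i, rfl⟩
      exact ⟨i, (hab' i).symm⟩
    · rintro ⟨i, hi⟩
      refine ⟨i, ?_⟩
      have h4 : a * x * a⁻¹ = a * b ^ i * a⁻¹ := hi.symm.trans (hab' i).symm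
      exact (mul_left_cancel (mul_right_cancel h4)).symm
  obtain ⟨P, hP⟩ := h3.exists_le_sylow
  have haP : a ∈ (P : Subgroup Y) := hP ((le_sup_left : Subgroup.zpowers a ≤ _) (Subgroup.mem_zpowers a))
  have hbP : b ∈ (P : Subgroup Y) := hP ((le_sup_right : Subgroup.zpowers b ≤ _) (Subgroup.mem_zpowers b))
  have hPc : IsCyclic P := isCyclic_of_surjective (Q.equiv P) (Q.equiv P).surjective
  exact not_cyclic (P := (P : Subgroup Y)) (a := ⟨a, haP⟩) (b := ⟨b, hbP⟩) (Subtype.ext ha) (Subtype.ext hb)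
    (fun h => ha1 (congrArg Subtype.val h)) (fun h => hb1 (congrArg Subtype.val h))
    (fun h => hne (congrArg Subtype.val h)) hPc

end Cfsg.Agent.H311.K547
end

-- part: H311/K547/Frame
section
/-!
# S4547: frames of the unitary space (helper311)

For an involution `θ` of `Fin n` and `j` with `j² = -1`, `j ^ q = j` (not needed for `θ = 1`) the vectors
`fb θ j k = e_k + j e_(θ k)` form a basis with Gram matrix supported on `(k, θ k)`.

* `Mono θ j A σ` : the matrix `A` permutes the lines `⟨fb k⟩` as `σ`;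
* `exists_gu` : isometries with given coefficients and permutation;
* `card_coef`, `card_comm` : the number of coefficients and of permutations.
-/

set_option autoImplicit false
set_option linter.unusedSectionVars false

namespace Cfsg.Agent.H311.K547

open Cfsg Matrix Cfsg.Agent.LieClassical.HermBasic Cfsg.Agent.ClassicalGeometry.PSUAutCount
open scoped Nat

section

variable {F : Type*} [Field F] {n q : ℕ}

/-- the coefficient -/
def co (θ : Equiv.Perm (Fin n)) (j : F) (k : Fin n) : F := if θ k = k then 0 else j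

/-- the frame -/
def fb (θ : Equiv.Perm (Fin n)) (j : F) (k : Fin n) : Fin n → F :=
  Pi.single k 1 + co θ j k • Pi.single (θ k) 1

/-- the data -/
structure Fd (q : ℕ) (θ : Equiv.Perm (Fin n)) (j : F) : Prop where
  inv : ∀ k, θ (θ k) = k
  sq : ∀ k, θ k ≠ k → j ^ 2 = -1
  fr : ∀ k, θ k ≠ k → j ^ q = j
  two : (2 : F) ≠ 0

/-- the Gram matrix -/
def gam (θ : Equiv.Perm (Fin n)) (j : F) (k : Fin n) : F := if θ k = k then 1 else 2 * j

theorem fb_apply (θ : Equiv.Perm (Fin n)) (j : F) (k i : Fin n) :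
    fb θ j k i = (if i = k then 1 else 0) + co θ j k * (if i = θ k then 1 else 0) := by
  simp [fb, Pi.single_apply]

theorem Fd.gam_ne {θ : Equiv.Perm (Fin n)} {j : F} (h : Fd q θ j) (k : Fin n) : gam θ j k ≠ 0 := by
  rw [gam]
  split_ifs with h1
  · exact one_ne_zero
  · refine mul_ne_zero h.two ?_
    rintro rfl
    have := h.sq k h1
    rw [zero_pow two_ne_zero] at this
    exact one_ne_zero (neg_eq_zero.1 this.symm)

theorem Fd.herm (hq : q ≠ 0) {θ : Equiv.Perm (Fin n)} {j : F} (h : Fd q θ j) (k l : Fin n) :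
    hermForm n F q (fb θ j k) (fb θ j l) = if l = θ k then gam θ j k else 0 := by
  have e1 : hermForm n F q (fb θ j k) (fb θ j l) = fb θ j l k ^ q + co θ j k * fb θ j l (θ k) ^ q := by
    rw [fb, herm_add_left, herm_smul_left, herm_single_left, herm_single_left, one_mul, one_mul]
  rw [e1, fb_apply, fb_apply]
  have hinv := h.inv
  by_cases hkl : l = k
  · subst hkl
    by_cases hl : θ l = l
    · simp [co, gam, hl]
    · have hl' : ¬ l = θ l := fun h => hl h.symm
      have h2 := h.sq l hl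
      have h3 := h.fr l hl
      simp only [co, gam, hl, hl', if_true, if_false, mul_zero, add_zero, one_pow, mul_one, zero_add, h3]
      linear_combination h2
  · have hkl' : ¬ k = l := fun h => hkl h.symm
    by_cases hl : l = θ k
    · subst hl
      have h1 : ¬ θ k = k := hkl
      have h2 : ¬ k = θ k := hkl'
      have h3 := h.fr k h1
      simp only [co, gam, hinv, h1, h2, if_true, if_false, mul_one, zero_add, mul_zero, add_zero, one_pow, h3]
      ring
    · have h1 : ¬ k = θ l := fun h4 => hl (by rw [h4, hinv])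
      have h2 : ¬ θ k = l := fun h4 => hl h4.symm
      have h3 : ¬ θ k = θ l := fun h4 => hkl' (θ.injective h4)
      simp only [hkl', h1, h2, h3, hl, if_false, mul_zero, add_zero, zero_pow hq]

theorem Fd.linearIndependent (hq : q ≠ 0) {θ : Equiv.Perm (Fin n)} {j : F} (h : Fd q θ j) :
    LinearIndependent F (fb θ j) := by
  classical
  rw [Fintype.linearIndependent_iff]
  intro g hg l
  have h1 : hermForm n F q (∑ i, g i • fb θ j i) (fb θ j (θ l)) = g l * gam θ j l := by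
    rw [herm_sum_left, Finset.sum_eq_single l]
    · rw [herm_smul_left, h.herm hq, if_pos rfl]
    · intro k _ hk
      rw [herm_smul_left, h.herm hq, if_neg, mul_zero]
      exact fun h2 => hk (θ.injective h2.symm)
    · intro h2
      exact absurd (Finset.mem_univ l) h2
  rw [hg, herm_zero_left] at h1
  exact (mul_eq_zero.1 h1.symm).resolve_right (h.gam_ne l)

open Classical in
/-- the basis -/
noncomputable def Fd.basis (hq : q ≠ 0) {θ : Equiv.Perm (Fin n)} {j : F} (h : Fd q θ j) :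
    Module.Basis (Fin n) F (Fin n → F) :=
  basisOfPiSpaceOfLinearIndependent (h.linearIndependent hq)

theorem Fd.basis_apply (hq : q ≠ 0) {θ : Equiv.Perm (Fin n)} {j : F} (h : Fd q θ j) (k : Fin n) :
    h.basis hq k = fb θ j k := by
  classical
  rw [Fd.basis, coe_basisOfPiSpaceOfLinearIndependent]

theorem Fd.fb_ne (hq : q ≠ 0) {θ : Equiv.Perm (Fin n)} {j : F} (h : Fd q θ j) (k : Fin n) : fb θ j k ≠ 0 :=
  (h.linearIndependent hq).ne_zero k

theorem Fd.eq_of_smul (hq : q ≠ 0) {θ : Equiv.Perm (Fin n)} {j : F} (h : Fd q θ j) {k l : Fin n} {a b : F}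
    (ha : a ≠ 0) (hab : a • fb θ j k = b • fb θ j l) : k = l ∧ a = b := by
  classical
  by_cases hkl : k = l
  · subst hkl
    exact ⟨rfl, smul_left_injective F (h.fb_ne hq k) hab⟩
  · exfalso
    have h1 : hermForm n F q (a • fb θ j k) (fb θ j (θ k)) = a * gam θ j k := by
      rw [herm_smul_left, h.herm hq, if_pos rfl]
    have h2 : hermForm n F q (b • fb θ j l) (fb θ j (θ k)) = 0 := by
      rw [herm_smul_left, h.herm hq, if_neg, mul_zero]
      exact fun h2 => hkl (θ.injective h2)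
    rw [hab, h2] at h1
    exact mul_ne_zero ha (h.gam_ne k) h1.symm

/-- two matrices agreeing on the frame -/
theorem Fd.ext (hq : q ≠ 0) {θ : Equiv.Perm (Fin n)} {j : F} (h : Fd q θ j) {A B : Matrix (Fin n) (Fin n) F}
    (hAB : ∀ k, A *ᵥ fb θ j k = B *ᵥ fb θ j k) : A = B := by
  have h1 : Matrix.toLin' A = Matrix.toLin' B :=
    (h.basis hq).ext fun k => by
      rw [h.basis_apply hq, Matrix.toLin'_apply, Matrix.toLin'_apply, hAB]
  exact Matrix.toLin'.injective h1

/-- `A` permutes the lines as `σ` -/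
def Mono (θ : Equiv.Perm (Fin n)) (j : F) (A : Matrix (Fin n) (Fin n) F) (σ : Equiv.Perm (Fin n)) : Prop :=
  ∀ k, ∃ c : F, c ≠ 0 ∧ A *ᵥ fb θ j k = c • fb θ j (σ k)

variable {θ : Equiv.Perm (Fin n)} {j : F}

theorem Mono.one : Mono θ j (1 : Matrix (Fin n) (Fin n) F) 1 := fun k =>
  ⟨1, one_ne_zero, by rw [one_mulVec, one_smul]; rfl⟩

theorem Mono.mul {A B : Matrix (Fin n) (Fin n) F} {σ ρ : Equiv.Perm (Fin n)} (hA : Mono θ j A σ) (hB : Mono θ j B ρ) :
    Mono θ j (A * B) (σ * ρ) := by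
  intro k
  obtain ⟨c, hc, h1⟩ := hB k
  obtain ⟨d, hd, h2⟩ := hA (ρ k)
  refine ⟨c * d, mul_ne_zero hc hd, ?_⟩
  rw [← mulVec_mulVec, h1, mulVec_smul, h2, smul_smul]
  rfl

theorem Mono.inv {A B : Matrix (Fin n) (Fin n) F} {σ : Equiv.Perm (Fin n)} (hA : Mono θ j A σ) (hAB : B * A = 1) :
    Mono θ j B σ⁻¹ := by
  intro k
  obtain ⟨c, hc, h1⟩ := hA (σ⁻¹ k)
  refine ⟨c⁻¹, inv_ne_zero hc, ?_⟩
  rw [show σ (σ⁻¹ k) = k from σ.apply_symm_apply k] at h1
  have h2 := congrArg (fun v => c⁻¹ • (B *ᵥ v)) h1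
  simp only [mulVec_mulVec, hAB, one_mulVec, mulVec_smul, smul_smul, inv_mul_cancel₀ hc, one_smul] at h2
  exact h2.symm

theorem Mono.unique (hq : q ≠ 0) (h : Fd q θ j) {A : Matrix (Fin n) (Fin n) F} {σ ρ : Equiv.Perm (Fin n)}
    (hA : Mono θ j A σ) (hB : Mono θ j A ρ) : σ = ρ := by
  ext1 k
  obtain ⟨c, hc, h1⟩ := hA k
  obtain ⟨d, hd, h2⟩ := hB k
  exact (h.eq_of_smul hq hc (h1.symm.trans h2)).1

/-- isometries -/
def Isom (q : ℕ) (A : Matrix (Fin n) (Fin n) F) : Prop :=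
  ∀ u v, hermForm n F q (A *ᵥ u) (A *ᵥ v) = hermForm n F q u v

theorem Mono.comm (hq : q ≠ 0) (h : Fd q θ j) {A : Matrix (Fin n) (Fin n) F} {σ : Equiv.Perm (Fin n)}
    (hA : Mono θ j A σ) (hi : Isom q A) (k : Fin n) : σ (θ k) = θ (σ k) := by
  obtain ⟨c, hc, h1⟩ := hA k
  obtain ⟨d, hd, h2⟩ := hA (θ k)
  have h3 := hi (fb θ j k) (fb θ j (θ k))
  rw [h1, h2, herm_smul_left, herm_smul_right, h.herm hq, h.herm hq, if_pos rfl] at h3
  by_contra hne
  rw [if_neg hne, mul_zero, mul_zero] at h3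
  exact h.gam_ne k h3.symm

theorem gam_comm {σ : Equiv.Perm (Fin n)} (hσ : ∀ k, σ (θ k) = θ (σ k)) (k : Fin n) :
    gam θ j (σ k) = gam θ j k := by
  rw [gam, gam, ← hσ]
  by_cases h : θ k = k
  · rw [if_pos h, if_pos (by rw [h])]
  · rw [if_neg h, if_neg (fun h1 => h (σ.injective h1))]

/-- the coefficients of an isometry -/
theorem coef_rel (hq : q ≠ 0) (h : Fd q θ j) {A : Matrix (Fin n) (Fin n) F} {σ : Equiv.Perm (Fin n)}
    (hi : Isom q A) (hσ : ∀ k, σ (θ k) = θ (σ k)) {c : Fin n → F}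
    (hc : ∀ k, A *ᵥ fb θ j k = c k • fb θ j (σ k)) (k : Fin n) : c k * c (θ k) ^ q = 1 := by
  have h3 := hi (fb θ j k) (fb θ j (θ k))
  rw [hc, hc, herm_smul_left, herm_smul_right, h.herm hq, h.herm hq, if_pos rfl, if_pos (hσ k), gam_comm hσ,
    ← mul_assoc] at h3
  exact mul_right_cancel₀ (h.gam_ne k) (h3.trans (one_mul _).symm)

end

/-- the number of points -/
theorem card_points {n : ℕ} {θ : Equiv.Perm (Fin n)} (hθ : ∀ k, θ (θ k) = k) :
    2 * Nat.card {k : Fin n // k < θ k} + Nat.card {k : Fin n // θ k = k} = n ∧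
      θ.support.card = 2 * Nat.card {k : Fin n // k < θ k} := by
  classical
  have e1 : Nat.card {k : Fin n // k < θ k} = (Finset.univ.filter fun k : Fin n => k < θ k).card := by
    rw [Nat.card_eq_fintype_card, Fintype.card_subtype]
  have e2 : Nat.card {k : Fin n // θ k = k} = (Finset.univ.filter fun k : Fin n => θ k = k).card := by
    rw [Nat.card_eq_fintype_card, Fintype.card_subtype]
  have e3 : (Finset.univ.filter fun k : Fin n => θ k < k).card = (Finset.univ.filter fun k : Fin n => k < θ k).card := by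
    refine Finset.card_bij (fun k _ => θ k) ?_ ?_ ?_
    · intro k hk
      rw [Finset.mem_filter] at hk ⊢
      exact ⟨Finset.mem_univ _, by rw [hθ]; exact hk.2⟩
    · intro a _ b _ hab
      exact θ.injective hab
    · intro b hb
      rw [Finset.mem_filter] at hb
      exact ⟨θ b, by rw [Finset.mem_filter, hθ]; exact ⟨Finset.mem_univ _, hb.2⟩, hθ b⟩
  have e4 : θ.support = (Finset.univ.filter fun k : Fin n => θ k < k) ∪ (Finset.univ.filter fun k : Fin n => k < θ k) := by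
    ext k
    rw [Equiv.Perm.mem_support, Finset.mem_union, Finset.mem_filter, Finset.mem_filter]
    constructor
    · intro h
      rcases lt_or_gt_of_ne h with h1 | h1
      · exact Or.inl ⟨Finset.mem_univ _, h1⟩
      · exact Or.inr ⟨Finset.mem_univ _, h1⟩
    · rintro (⟨-, h1⟩ | ⟨-, h1⟩)
      · exact h1.ne
      · exact h1.ne'
  have e5 : θ.support.card = 2 * Nat.card {k : Fin n // k < θ k} := by
    rw [e4, Finset.card_union_of_disjoint, e3, e1]
    · ring
    · rw [Finset.disjoint_filter]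
      intro k _ h1 h2
      exact lt_asymm h1 h2
  refine ⟨?_, e5⟩
  have e6 : Nat.card {k : Fin n // θ k = k} = n - θ.support.card := by
    rw [e2]
    have h1 : (Finset.univ.filter fun k : Fin n => θ k = k) = θ.supportᶜ := by
      ext k
      rw [Finset.mem_filter, Finset.mem_compl, Equiv.Perm.mem_support, not_not]
      exact ⟨fun h => h.2, fun h => ⟨Finset.mem_univ _, h⟩⟩
    rw [h1, Finset.card_compl, Fintype.card_fin]
  have e7 : θ.support.card ≤ n := (Finset.card_le_univ _).trans_eq (Fintype.card_fin n)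
  omega

/-- the number of permutations commuting with `θ` -/
theorem card_comm {n : ℕ} {θ : Equiv.Perm (Fin n)} (hθ : ∀ k, θ (θ k) = k) :
    Nat.card {σ : Equiv.Perm (Fin n) // ∀ k, σ (θ k) = θ (σ k)} =
      (Nat.card {k : Fin n // θ k = k})! * (2 ^ Nat.card {k : Fin n // k < θ k} *
        (Nat.card {k : Fin n // k < θ k})!) := by
  classical
  obtain ⟨h1, h2⟩ := card_points hθ
  have e1 : Nat.card {σ : Equiv.Perm (Fin n) // ∀ k, σ (θ k) = θ (σ k)} =
      Nat.card (Subgroup.centralizer ({θ} : Set (Equiv.Perm (Fin n)))) := by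
    refine Nat.card_congr (Equiv.subtypeEquivRight fun σ => ?_)
    rw [Subgroup.mem_centralizer_singleton_iff]
    constructor
    · intro h
      ext1 k
      exact h k
    · intro h k
      exact congrArg (fun x : Equiv.Perm (Fin n) => x k) h
  set c := Nat.card {k : Fin n // k < θ k} with hc
  have e2 : θ.cycleType = Multiset.replicate c 2 := by
    have h3 : ∀ m ∈ θ.cycleType, m = 2 := by
      intro m hm
      have h4 := Equiv.Perm.two_le_of_mem_cycleType hm
      have h5 := Equiv.Perm.dvd_of_mem_cycleType hm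
      have h6 : θ ^ 2 = 1 := by
        ext1 k
        rw [pow_two]
        exact hθ k
      have h7 := Nat.le_of_dvd (by norm_num) (h5.trans (orderOf_dvd_of_pow_eq_one h6))
      omega
    have h4 : Multiset.card θ.cycleType = c := by
      have h5 := Equiv.Perm.sum_cycleType θ
      rw [Multiset.eq_replicate_of_mem h3, Multiset.sum_replicate, h2] at h5
      rw [Multiset.eq_replicate_of_mem h3, Multiset.card_replicate]
      simp only [smul_eq_mul] at h5
      omega
    rw [← h4]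
    exact Multiset.eq_replicate_of_mem h3
  rw [e1, Equiv.Perm.nat_card_centralizer, e2, Multiset.sum_replicate, Multiset.prod_replicate, Fintype.card_fin,
    smul_eq_mul]
  have e3 : n - c * 2 = Nat.card {k : Fin n // θ k = k} := by omega
  rw [e3, mul_assoc]
  congr 2
  clear_value c
  by_cases h0 : c = 0
  · rw [h0]
    simp
  · rw [Multiset.toFinset_replicate, if_neg h0, Finset.prod_singleton, Multiset.count_replicate_self]

section fin

variable {F : Type*} [Field F] [Fintype F] {n q : ℕ} (hF : Fintype.card F = q ^ 2)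
  {θ : Equiv.Perm (Fin n)} {j : F} (h : Fd q θ j)
include hF h

/-- **isometries with given coefficients** -/
theorem exists_isom {σ : Equiv.Perm (Fin n)} (hσ : ∀ k, σ (θ k) = θ (σ k)) {c : Fin n → F}
    (hc : ∀ k, c k * c (θ k) ^ q = 1) :
    ∃ A : Matrix (Fin n) (Fin n) F, Isom q A ∧ ∀ k, A *ᵥ fb θ j k = c k • fb θ j (σ k) := by
  classical
  have hq : q ≠ 0 := (q_pos hF).ne'
  let L : (Fin n → F) →ₗ[F] (Fin n → F) := (h.basis hq).constr F fun k => c k • fb θ j (σ k)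
  have hL : ∀ k, L (fb θ j k) = c k • fb θ j (σ k) := by
    intro k
    rw [← h.basis_apply hq, Module.Basis.constr_basis]
  have hLL : ∀ u v, hermForm n F q (L u) (L v) = hermForm n F q u v := by
    have h1 : ∀ (l : Fin n) (u : Fin n → F), hermForm n F q (L u) (L (fb θ j l)) = hermForm n F q u (fb θ j l) := by
      intro l u
      rw [← (h.basis hq).sum_repr u]
      generalize (h.basis hq).repr u = x
      rw [map_sum, herm_sum_left, herm_sum_left]
      refine Finset.sum_congr rfl fun k _ => ?_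
      rw [map_smul, herm_smul_left, herm_smul_left, h.basis_apply hq, hL, hL, herm_smul_left, herm_smul_right,
        h.herm hq, h.herm hq]
      by_cases hl : l = θ k
      · subst hl
        rw [if_pos (hσ k), if_pos rfl, gam_comm hσ, ← mul_assoc (c k), hc, one_mul]
      · rw [if_neg hl, if_neg, mul_zero, mul_zero]
        intro h2
        rw [← hσ] at h2
        exact hl (σ.injective h2)
    intro u v
    rw [← (h.basis hq).sum_repr v]
    generalize (h.basis hq).repr v = x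
    rw [map_sum, herm_sum_right hF, herm_sum_right hF]
    refine Finset.sum_congr rfl fun k _ => ?_
    rw [map_smul, herm_smul_right, herm_smul_right, h.basis_apply hq, h1]
  refine ⟨LinearMap.toMatrix' L, fun u v => ?_, fun k => ?_⟩
  · rw [LinearMap.toMatrix'_mulVec, LinearMap.toMatrix'_mulVec, hLL]
  · rw [LinearMap.toMatrix'_mulVec, hL]

omit h in
theorem isom_gm (g : GU n F q) : Isom q (gm g) := herm_gm g

omit h in
theorem exists_gm {A : Matrix (Fin n) (Fin n) F} (hA : Isom q A) : ∃ g : GU n F q, gm g = A := by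
  classical
  have h1 : A.det ≠ 0 := by
    intro h0
    obtain ⟨v, hv, hv0⟩ := Matrix.exists_mulVec_eq_zero_iff.2 h0
    apply hv
    apply herm_nondeg hF
    intro w
    rw [← hA, hv0, herm_zero_left]
  exact ⟨⟨Matrix.GeneralLinearGroup.mkOfDetNeZero A h1, hA⟩, rfl⟩

/-- the number of coefficients -/
theorem card_coef : Nat.card {c : Fin n → F // ∀ k, c k * c (θ k) ^ q = 1} =
    (q ^ 2 - 1) ^ Nat.card {k : Fin n // k < θ k} * (q + 1) ^ Nat.card {k : Fin n // θ k = k} := by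
  classical
  have hq : q ≠ 0 := (q_pos hF).ne'
  have h1 : Nat.card {x : F // x ≠ 0} = q ^ 2 - 1 := by
    rw [Nat.card_congr unitsEquivNeZero.symm, Nat.card_units, Nat.card_eq_fintype_card, hF]
  have h2 := card_norm_eq_one hF
  rw [← h1, ← h2, ← Nat.card_fun, ← Nat.card_fun, ← Nat.card_prod]
  have hne : ∀ (c : Fin n → F), (∀ k, c k * c (θ k) ^ q = 1) → ∀ k, c k ≠ 0 := fun c hc k h0 => by
    have := hc k
    rw [h0, zero_mul] at this
    exact zero_ne_one this
  let g1 : ({k : Fin n // k < θ k} → {x : F // x ≠ 0}) → Fin n → F :=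
    fun x k => if h : k < θ k then (x ⟨k, h⟩ : F) else 1
  let g2 : ({k : Fin n // θ k = k} → {x : F // x * x ^ q = 1}) → Fin n → F :=
    fun x k => if h : θ k = k then (x ⟨k, h⟩ : F) else 1
  have hg1 : ∀ x k, g1 x k ≠ 0 := by
    intro x k
    by_cases h3 : k < θ k
    · simp only [g1, h3, dif_pos]
      exact (x _).2
    · simp only [g1, h3, dif_neg, not_false_eq_true]
      exact one_ne_zero
  have hg2 : ∀ x k, g2 x k * g2 x k ^ q = 1 := by
    intro x k
    by_cases h3 : θ k = k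
    · simp only [g2, h3, dif_pos]
      exact (x _).2
    · simp only [g2, h3, dif_neg, not_false_eq_true, one_pow, mul_one]
  refine Nat.card_congr
    { toFun := fun c => (fun k => ⟨c.1 k, hne c.1 c.2 k⟩, fun k => ⟨c.1 k, by
        have := c.2 k
        rwa [k.2] at this⟩)
      invFun := fun p => ⟨fun k => if k < θ k then g1 p.1 k else if θ k = k then g2 p.2 k
          else ((g1 p.1 (θ k)) ^ q)⁻¹, ?_⟩
      left_inv := ?_
      right_inv := ?_ }
  · intro k
    simp only [h.inv]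
    rcases lt_trichotomy k (θ k) with h3 | h3 | h3
    · rw [if_pos h3, if_neg (not_lt.2 h3.le), if_neg h3.ne, inv_pow, pow_q_pow_q hF, mul_inv_cancel₀ (hg1 _ _)]
    · rw [if_neg h3.not_lt, if_pos h3.symm, if_neg h3.symm.not_lt, if_pos h3, h3.symm, hg2]
    · rw [if_neg (not_lt.2 h3.le), if_neg h3.ne, if_pos h3, inv_mul_cancel₀ (pow_ne_zero _ (hg1 _ _))]
  · rintro ⟨c, hc⟩
    apply Subtype.ext
    funext k
    show (if k < θ k then g1 _ k else if θ k = k then g2 _ k else ((g1 _ (θ k)) ^ q)⁻¹) = c k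
    rcases lt_trichotomy k (θ k) with h3 | h3 | h3
    · rw [if_pos h3]
      simp only [g1, h3, dif_pos]
    · rw [if_neg h3.not_lt, if_pos h3.symm]
      simp only [g2, dif_pos h3.symm]
    · rw [if_neg (not_lt.2 h3.le), if_neg h3.ne]
      have h4 : θ k < θ (θ k) := by rw [h.inv]; exact h3
      simp only [g1, dif_pos h4]
      exact (eq_inv_of_mul_eq_one_left (hc k)).symm
  · rintro ⟨x, y⟩
    refine Prod.ext (funext fun k => Subtype.ext ?_) (funext fun k => Subtype.ext ?_)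
    · show (if (k : Fin n) < θ k then g1 x k else _) = _
      rw [if_pos k.2]
      simp only [g1, dif_pos k.2]
    · show (if (k : Fin n) < θ k then g1 x k else if θ k = k then g2 y k else _) = _
      rw [if_neg (by rw [k.2]; exact lt_irrefl _), if_pos k.2]
      simp only [g2, dif_pos k.2]

end fin

end Cfsg.Agent.H311.K547
end

-- part: H311/K547/Index
section
/-!
# S4547: the stabilisers of frames have odd index (helper311)

* `FrG`, `FrS`, `FrP` : the stabilisers in `GU`, `SU`, `PSU` of the set of lines of a frame;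
* `OddF q θ` : `4 ∣ q + 1`, `θ = 1`, or `4 ∣ q - 1` and `θ` has at most one fixed point;
* `odd_index_FrG`, `odd_index_FrS`, `odd_index_FrP`.
-/

set_option autoImplicit false
set_option linter.unusedSectionVars false

namespace Cfsg.Agent.H311.K547

open Cfsg Matrix Cfsg.Agent.LieClassical.HermBasic Cfsg.Agent.LieClassical.HermSiegel
open Cfsg.Agent.ClassicalGeometry.PSUAutCount Cfsg.Agent.ClassicalGeometry.UnitAutBasic
open Cfsg.Agent.ClassicalGeometry.GUBasic (detHom coe_detHom card_rootsOfUnity_eq)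
open scoped Nat

section

variable {F : Type*} [Field F] {n : ℕ}

/-- the stabiliser in `GU` -/
def FrG (q : ℕ) (θ : Equiv.Perm (Fin n)) (j : F) : Subgroup (GU n F q) where
  carrier := {g | ∃ σ, Mono θ j (gm g) σ}
  one_mem' := ⟨1, Mono.one⟩
  mul_mem' := by
    rintro g h ⟨σ, hσ⟩ ⟨ρ, hρ⟩
    exact ⟨σ * ρ, hσ.mul hρ⟩
  inv_mem' := by
    rintro g ⟨σ, hσ⟩
    exact ⟨σ⁻¹, hσ.inv (gm_inv_mul g)⟩

/-- the stabiliser in `SU` -/
def FrS (q : ℕ) (θ : Equiv.Perm (Fin n)) (j : F) : Subgroup (SU n F q) where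
  carrier := {g | ∃ σ, Mono θ j (mat g) σ}
  one_mem' := ⟨1, Mono.one⟩
  mul_mem' := by
    rintro g h ⟨σ, hσ⟩ ⟨ρ, hρ⟩
    exact ⟨σ * ρ, by rw [mat_mul]; exact hσ.mul hρ⟩
  inv_mem' := by
    rintro g ⟨σ, hσ⟩
    exact ⟨σ⁻¹, hσ.inv (by rw [← mat_mul, inv_mul_cancel, mat_one])⟩

theorem mem_FrS {q : ℕ} {θ : Equiv.Perm (Fin n)} {j : F} {g : SU n F q} :
    g ∈ FrS q θ j ↔ ∃ σ, Mono θ j (mat g) σ := Iff.rfl

/-- the stabiliser in `PSU` -/
def FrP (q : ℕ) (θ : Equiv.Perm (Fin n)) (j : F) : Subgroup (PSU n F q) := (FrS q θ j).map (pr n F q)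

/-- when the index is odd -/
def OddF (q : ℕ) (θ : Equiv.Perm (Fin n)) : Prop :=
  (4 ∣ q + 1 ∧ θ = 1) ∨ (q % 4 = 1 ∧ Nat.card {k : Fin n // θ k = k} ≤ 1)

end

section fin

variable {F : Type*} [Field F] [Fintype F] {n q : ℕ} (hF : Fintype.card F = q ^ 2)
  {θ : Equiv.Perm (Fin n)} {j : F} (h : Fd q θ j)
include hF h

theorem exists_gu {σ : Equiv.Perm (Fin n)} (hσ : ∀ k, σ (θ k) = θ (σ k)) {c : Fin n → F}
    (hc : ∀ k, c k * c (θ k) ^ q = 1) :
    ∃ g : GU n F q, ∀ k, gm g *ᵥ fb θ j k = c k • fb θ j (σ k) := by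
  obtain ⟨A, hA, hA'⟩ := exists_isom hF h hσ hc
  obtain ⟨g, rfl⟩ := exists_gm hF hA
  exact ⟨g, hA'⟩

omit hF in
theorem coef_ne {c : Fin n → F} (hc : ∀ k, c k * c (θ k) ^ q = 1) (k : Fin n) : c k ≠ 0 := by
  intro h0
  have := hc k
  rw [h0, zero_mul] at this
  exact zero_ne_one this

theorem card_FrG : Nat.card (FrG q θ j) = Nat.card {c : Fin n → F // ∀ k, c k * c (θ k) ^ q = 1} *
    Nat.card {σ : Equiv.Perm (Fin n) // ∀ k, σ (θ k) = θ (σ k)} := by
  classical
  have hq : q ≠ 0 := (q_pos hF).ne'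
  rw [← Nat.card_prod]
  choose Φ hΦ using fun p : {c : Fin n → F // ∀ k, c k * c (θ k) ^ q = 1} ×
    {σ : Equiv.Perm (Fin n) // ∀ k, σ (θ k) = θ (σ k)} => exists_gu hF h p.2.2 p.1.2
  refine (Nat.card_congr (Equiv.ofBijective (fun p => (⟨Φ p, p.2.1, fun k =>
    ⟨p.1.1 k, coef_ne h p.1.2 k, hΦ p k⟩⟩ : FrG q θ j)) ⟨?_, ?_⟩)).symm
  · intro p p' hpp
    have h1 : Φ p = Φ p' := congrArg Subtype.val hpp
    have h2 : ∀ k, p.2.1 k = p'.2.1 k ∧ p.1.1 k = p'.1.1 k := by
      intro k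
      apply h.eq_of_smul hq (coef_ne h p.1.2 k)
      rw [← hΦ, ← hΦ, h1]
    refine Prod.ext (Subtype.ext (funext fun k => (h2 k).2)) (Subtype.ext (Equiv.ext fun k => (h2 k).1))
  · rintro ⟨g, σ, hσ⟩
    have hi := isom_gm (F := F) hF g
    have hcomm := hσ.comm hq h hi
    obtain ⟨c, hc'⟩ : ∃ c : Fin n → F, ∀ k, c k ≠ 0 ∧ gm g *ᵥ fb θ j k = c k • fb θ j (σ k) :=
      ⟨fun k => (hσ k).choose, fun k => (hσ k).choose_spec⟩
    have hc := fun k => (hc' k).2
    refine ⟨(⟨c, coef_rel hq h hi hcomm hc⟩, ⟨σ, hcomm⟩), Subtype.ext (gm_inj (h.ext hq fun k => ?_))⟩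
    rw [hΦ, hc]

theorem card_FrG' : Nat.card (FrG q θ j) =
    ((q ^ 2 - 1) ^ Nat.card {k : Fin n // k < θ k} * (q + 1) ^ Nat.card {k : Fin n // θ k = k}) *
      ((Nat.card {k : Fin n // θ k = k})! * (2 ^ Nat.card {k : Fin n // k < θ k} *
        (Nat.card {k : Fin n // k < θ k})!)) := by
  rw [card_FrG hF h, card_coef hF h, card_comm h.inv]

/-- the 2-part of the order of `GU` -/
theorem e2_GU (ho : OddF q θ) : E2 (Nat.card (GU n F q)) (Nat.card (FrG q θ j)) := by
  have hq2 := Cfsg.Agent.LieClassical.HermBasic.two_le hF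
  obtain ⟨h1, -⟩ := card_points h.inv
  have hodd : Odd q := by
    rcases ho with ⟨h2, -⟩ | ⟨h2, -⟩
    · rw [Nat.odd_iff]; omega
    · rw [Nat.odd_iff]; omega
  rw [Cfsg.Agent.S0277.result hF n]
  refine (E2.odd_mul (hodd.pow)).trans ?_
  change E2 (∏ i ∈ Finset.range n, gf q i) _
  rw [card_FrG' hF h]
  rcases ho with ⟨h2, h3⟩ | ⟨h2, h3⟩
  · have h4 : Nat.card {k : Fin n // k < θ k} = 0 := by
      rw [Nat.card_eq_zero]
      left
      subst h3
      exact ⟨fun k => lt_irrefl _ k.2⟩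
    rw [h4] at h1 ⊢
    rw [show Nat.card {k : Fin n // θ k = k} = n by omega]
    simpa using e2_one hq2 h2 n
  · have h5 := e2_two hq2 h2 (Nat.card {k : Fin n // k < θ k})
    generalize Nat.card {k : Fin n // k < θ k} = m at *
    generalize Nat.card {k : Fin n // θ k = k} = r at *
    interval_cases r
    · have h6 : n = 2 * m := by omega
      subst h6
      simpa only [_root_.pow_zero, _root_.mul_one, _root_.Nat.factorial_zero, _root_.one_mul] using h5.1
    · have h6 : n = 2 * m + 1 := by omega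
      subst h6
      simpa only [_root_.pow_one, _root_.Nat.factorial_one, _root_.one_mul] using h5.2

/-- the determinant one part -/
theorem card_FrG_dvd : Nat.card (FrG q θ j) ∣ Nat.card (FrS q θ j) * (q + 1) := by
  classical
  let d : FrG q θ j →* rootsOfUnity (q + 1) F := (detHom n hF).comp (FrG q θ j).subtype
  have h1 : Nat.card (FrG q θ j) = Nat.card d.ker * Nat.card d.range := by
    rw [← Nat.card_congr (QuotientGroup.quotientKerEquivRange d).toEquiv, mul_comm]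
    exact Subgroup.card_eq_card_quotient_mul_card_subgroup d.ker
  have h2 : Nat.card d.range ∣ q + 1 := by
    have h3 := Subgroup.card_subgroup_dvd_card d.range
    rwa [card_rootsOfUnity_eq hF] at h3
  have h3 : Nat.card d.ker = Nat.card (FrS q θ j) := by
    have hdet : ∀ g : d.ker, (gm (g : FrG q θ j).1).det = 1 := by
      intro g
      have h4 := g.2
      rw [MonoidHom.mem_ker] at h4
      have h5 := congrArg (fun z : rootsOfUnity (q + 1) F => ((z : Fˣ) : F)) h4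
      exact h5
    refine Nat.card_congr
      { toFun := fun g => ⟨⟨⟨gm (g : FrG q θ j).1, hdet g⟩, (g : FrG q θ j).1.2⟩, (g : FrG q θ j).2⟩
        invFun := fun g => ⟨⟨⟨((g : SU n F q) : Matrix.SpecialLinearGroup (Fin n) F).toGL,
          (g : SU n F q).2⟩, g.2⟩, ?_⟩
        left_inv := fun g => Subtype.ext (Subtype.ext (Subtype.ext (Units.ext rfl)))
        right_inv := fun g => rfl }
    rw [MonoidHom.mem_ker]
    apply Subtype.ext
    apply Units.ext
    exact ((g : SU n F q) : Matrix.SpecialLinearGroup (Fin n) F).2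
  rw [h1, h3]
  exact Nat.mul_dvd_mul_left _ h2

theorem odd_index_FrG (ho : OddF q θ) : Odd (FrG q θ j).index := by
  refine E2.odd_of_mul (a := Nat.card (GU n F q)) (b := Nat.card (FrG q θ j)) Nat.card_pos.ne' ?_ (e2_GU hF h ho)
  exact (Subgroup.card_mul_index _).symm

/-- **Odd index in `SU`.** -/
theorem odd_index_FrS (hn : 1 ≤ n) (ho : OddF q θ) : Odd (FrS q θ j).index := by
  have h1 := odd_index_FrG hF h ho
  have h2 := Subgroup.card_mul_index (FrG q θ j)
  have h3 := Subgroup.card_mul_index (FrS q θ j)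
  have h4 := Cfsg.Agent.LieClassical.GUOrder.card_GU_eq hF hn
  obtain ⟨t, ht⟩ := card_FrG_dvd hF h
  have h5 : Nat.card (FrG q θ j) * (FrG q θ j).index = Nat.card (FrG q θ j) * (t * (FrS q θ j).index) := by
    rw [h2, h4, ← h3, ← mul_assoc, ← mul_assoc, ← ht]
    ring
  have h6 := Nat.eq_of_mul_eq_mul_left Nat.card_pos h5
  rw [h6, Nat.odd_mul] at h1
  exact h1.2

/-- **Odd index in `PSU`.** -/
theorem odd_index_FrP (hn : 1 ≤ n) (ho : OddF q θ) : Odd (FrP q θ j).index := by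
  have h1 := odd_index_FrS hF h hn ho
  have h2 := Subgroup.index_map_dvd (FrS q θ j) (f := pr n F q) pr_surjective
  exact Odd.of_dvd_nat h1 h2

end fin

end Cfsg.Agent.H311.K547
end

-- part: H311/K547/Ext
section
/-!
# S4547: automorphisms and frames of the unitary space (helper311)

* `exists_su` : permutations commuting with `θ` are induced by `SU`;
* `exists_conj` : a conjugate `toAut d ρ`, `d` diagonal on the frame, of every automorphism;
* `mono_semi` : it does not change the permutation.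
-/

set_option autoImplicit false
set_option linter.unusedSectionVars false

namespace Cfsg.Agent.H311.K547

open Cfsg Matrix Cfsg.Agent.LieClassical.HermBasic Cfsg.Agent.LieClassical.HermSiegel
open Cfsg.Agent.LieClassical.SUBasic
open Cfsg.Agent.ClassicalGeometry.PSUAutCount Cfsg.Agent.ClassicalGeometry.UnitAutBasic
open Cfsg.Agent.ClassicalGeometry.GUBasic (detHom coe_detHom card_rootsOfUnity_eq)
open scoped Nat

section

variable {F : Type*} [Field F] {n q : ℕ} {θ : Equiv.Perm (Fin n)} {j : F}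

/-- the determinant of a diagonal map -/
theorem det_of_diag (hq : q ≠ 0) (h : Fd q θ j) {A : Matrix (Fin n) (Fin n) F} {c : Fin n → F}
    (hA : ∀ k, A *ᵥ fb θ j k = c k • fb θ j k) : A.det = ∏ k, c k := by
  classical
  have h1 : LinearMap.toMatrix (h.basis hq) (h.basis hq) (Matrix.toLin' A) = Matrix.diagonal c := by
    ext i k
    rw [LinearMap.toMatrix_apply, h.basis_apply hq, Matrix.toLin'_apply, hA, ← h.basis_apply hq, map_smul,
      Module.Basis.repr_self, Matrix.diagonal_apply]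
    simp only [Finsupp.smul_single, smul_eq_mul, mul_one, Finsupp.single_apply]
    by_cases hik : i = k
    · subst hik; simp
    · rw [if_neg hik, if_neg (fun h => hik h.symm)]
  have h2 := LinearMap.det_toMatrix (h.basis hq) (Matrix.toLin' A)
  rw [h1, Matrix.det_diagonal, LinearMap.det_toLin'] at h2
  exact h2.symm

/-- field automorphisms on the frame -/
theorem exists_field (h : Fd q θ j) (ρ : F ≃+* F) :
    ∃ w : Equiv.Perm (Fin n), (w = 1 ∨ w = θ) ∧
      ∀ k, ∃ u : F, u ≠ 0 ∧ (fun i => ρ (fb θ j k i)) = u • fb θ j (w k) := by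
  have h1 : ∀ k, (fun i => ρ (fb θ j k i)) = fb θ (ρ j) k := by
    intro k
    funext i
    rw [fb_apply, fb_apply, co, co, map_add, map_mul]
    split_ifs <;> simp only [_root_.map_one, _root_.map_zero, _root_.mul_one, _root_.add_zero, _root_.MulZeroClass.mul_zero, _root_.zero_add]
  by_cases hθ : ∀ k, θ k = k
  · refine ⟨1, Or.inl rfl, fun k => ⟨1, one_ne_zero, ?_⟩⟩
    rw [h1, one_smul]
    funext i
    rw [fb_apply, fb_apply, co, co, if_pos (hθ k), if_pos (hθ _), zero_mul, zero_mul]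
    rfl
  · push Not at hθ
    obtain ⟨k0, hk0⟩ := hθ
    have h2 := h.sq k0 hk0
    have h3 : ρ j ^ 2 = j ^ 2 := by rw [← map_pow, h2, map_neg, map_one]
    rcases sq_eq_sq_iff_eq_or_eq_neg.1 h3 with h4 | h4
    · refine ⟨1, Or.inl rfl, fun k => ⟨1, one_ne_zero, ?_⟩⟩
      rw [h1, one_smul, h4]
      rfl
    · refine ⟨θ, Or.inr rfl, fun k => ?_⟩
      by_cases hk : θ k = k
      · refine ⟨1, one_ne_zero, ?_⟩
        rw [h1, one_smul, hk]
        funext i
        rw [fb_apply, fb_apply, co, co, if_pos hk, if_pos hk]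
      · have hj : j ≠ 0 := by
          rintro rfl
          rw [zero_pow two_ne_zero] at h2
          exact one_ne_zero (neg_eq_zero.1 h2.symm)
        refine ⟨-j, neg_ne_zero.2 hj, ?_⟩
        rw [h1, h4]
        funext i
        have hk' : ¬ θ (θ k) = θ k := fun h5 => hk (θ.injective h5)
        rw [Pi.smul_apply, fb_apply, fb_apply, co, co, if_neg hk, if_neg hk', smul_eq_mul, h.inv]
        linear_combination (if i = k then (1 : F) else 0) * h2

/-- the element of `SU` -/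
def toSU (g : GU n F q) (hg : (gm g).det = 1) : SU n F q := ⟨⟨gm g, hg⟩, g.2⟩

theorem mat_toSU (g : GU n F q) (hg : (gm g).det = 1) : mat (toSU g hg) = gm g := rfl

/-- the semilinear conjugation does not change the permutation -/
theorem mono_semi (h : Fd q θ j) {d : GU n F q} (hd : Mono θ j (gm d) 1) (ρ : F ≃+* F)
    {g : SU n F q} {σ : Equiv.Perm (Fin n)} (hσ : ∀ k, σ (θ k) = θ (σ k)) (hg : Mono θ j (mat g) σ) :
    Mono θ j (mat (semiConj d ρ g)) σ := by
  obtain ⟨w, hw, hu⟩ := exists_field h ρ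
  have hww : ∀ k, w (w k) = k := by
    rcases hw with rfl | rfl
    · intro k; rfl
    · exact h.inv
  have hσw : ∀ k, σ (w k) = w (σ k) := by
    rcases hw with rfl | rfl
    · intro k; rfl
    · exact hσ
  intro k
  obtain ⟨u, hu0, hu1⟩ := hu (w k)
  obtain ⟨c, hc0, hc1⟩ := hg (w k)
  obtain ⟨u', hu'0, hu'1⟩ := hu (σ (w k))
  obtain ⟨a, ha0, ha1⟩ := hd k
  obtain ⟨b, hb0, hb1⟩ := hd (σ k)
  have e1 := act_semiConj d ρ g (fb θ j (w k))
  rw [hu1, hww, act_def, mulVec_smul, ha1, act_def, hc1] at e1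
  have e2 : (fun i => ρ ((c • fb θ j (σ (w k))) i)) = ρ c • fun i => ρ (fb θ j (σ (w k)) i) := by
    funext i
    simp [Pi.smul_apply]
  rw [e2, hu'1, ← hσw, hww] at e1
  simp only [mulVec_smul, hb1, smul_smul] at e1
  change (u * a) • (mat (semiConj d ρ g) *ᵥ fb θ j k) = _ • fb θ j (σ k) at e1
  refine ⟨(u * a)⁻¹ * (ρ c * u' * b), ?_, ?_⟩
  · exact mul_ne_zero (inv_ne_zero (mul_ne_zero hu0 ha0)) (mul_ne_zero (mul_ne_zero ((map_ne_zero ρ).2 hc0) hu'0) hb0)
  · rw [mul_smul, ← e1, smul_smul, inv_mul_cancel₀ (mul_ne_zero hu0 ha0), one_smul]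

end

section fin

variable {F : Type*} [Field F] [Fintype F] {n q : ℕ} (hF : Fintype.card F = q ^ 2)
  {θ : Equiv.Perm (Fin n)} {j : F} (h : Fd q θ j)
include hF h

omit h in
/-- **Hilbert 90** -/
theorem hilb {δ : F} (hδ : δ * δ ^ q = 1) : ∃ s : F, s ≠ 0 ∧ s = δ * s ^ q := by
  obtain ⟨x, hx⟩ : ∃ x : F, x + δ * x ^ q ≠ 0 := by
    by_contra hcon
    push Not at hcon
    have h1 := hcon 1
    rw [one_pow, mul_one] at h1
    obtain ⟨x, hx⟩ := exists_not_fixed hF
    apply hx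
    have h2 := hcon x
    have h3 : δ = -1 := by linear_combination h1
    rw [h3] at h2
    linear_combination -h2
  refine ⟨x + δ * x ^ q, hx, ?_⟩
  rw [add_pow_q hF, mul_pow, pow_q_pow_q hF]
  linear_combination -x * hδ

/-- coefficients with given product -/
theorem exists_coef (hn : 1 ≤ n) {δ : F} (hδ : δ * δ ^ q = 1) :
    ∃ c : Fin n → F, (∀ k, c k * c (θ k) ^ q = 1) ∧ ∏ k, c k = δ := by
  classical
  have k0 : Fin n := ⟨0, by omega⟩
  by_cases hk : θ k0 = k0
  · refine ⟨fun k => if k = k0 then δ else 1, fun k => ?_, ?_⟩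
    · simp only
      by_cases h1 : k = k0
      · subst h1
        rw [hk, if_pos rfl, hδ]
      · have h2 : θ k ≠ k0 := fun h3 => h1 (by rw [← h.inv k, h3, hk])
        rw [if_neg h1, if_neg h2, one_pow, mul_one]
    · rw [Finset.prod_ite_eq' Finset.univ k0 (fun _ => δ), if_pos (Finset.mem_univ _)]
  · obtain ⟨s, hs0, hs⟩ := hilb hF hδ
    refine ⟨fun k => (if k = k0 then s else 1) * (if k = θ k0 then (s ^ q)⁻¹ else 1), fun k => ?_, ?_⟩
    · simp only
      by_cases h1 : k = k0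
      · subst h1
        have hk' : ¬ k = θ k := fun h => hk h.symm
        simp only [hk, hk', if_true, if_false, mul_one, one_mul, inv_pow, pow_q_pow_q hF, mul_inv_cancel₀ hs0]
      · by_cases h2 : k = θ k0
        · subst h2
          have hk' : ¬ k0 = θ k0 := fun h => hk h.symm
          simp only [h.inv, hk, hk', if_true, if_false, mul_one, one_mul, inv_mul_cancel₀ (pow_ne_zero q hs0)]
        · have h3 : ¬ θ k = k0 := fun h3 => h2 (by rw [← h3, h.inv])
          have h4 : ¬ θ k = θ k0 := fun h3 => h1 (θ.injective h3)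
          simp only [h1, h2, h3, h4, if_false, mul_one, one_pow]
    · rw [Finset.prod_mul_distrib, Finset.prod_ite_eq' Finset.univ k0 (fun _ => s), if_pos (Finset.mem_univ _),
        Finset.prod_ite_eq' Finset.univ (θ k0) (fun _ => (s ^ q)⁻¹), if_pos (Finset.mem_univ _)]
      have h1 := pow_ne_zero q hs0
      calc s * (s ^ q)⁻¹ = δ * s ^ q * (s ^ q)⁻¹ := by rw [← hs]
        _ = δ := by rw [mul_assoc, mul_inv_cancel₀ h1, mul_one]

/-- diagonal isometries of given determinant -/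
theorem exists_diag (hn : 1 ≤ n) {δ : F} (hδ : δ * δ ^ q = 1) :
    ∃ d : GU n F q, Mono θ j (gm d) 1 ∧ (gm d).det = δ := by
  obtain ⟨c, hc, hc'⟩ := exists_coef hF h hn hδ
  obtain ⟨d, hd⟩ := exists_gu hF h (σ := 1) (fun k => rfl) hc
  exact ⟨d, fun k => ⟨c k, coef_ne h hc k, hd k⟩, by
    rw [← hc']
    exact det_of_diag (q_pos hF).ne' h hd⟩

omit h in
theorem det_gu (A : GU n F q) : (gm A).det * (gm A).det ^ q = 1 := by
  have h1 := (mem_rootsOfUnity _ _).1 (detHom n hF A).2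
  have h2 := congrArg (fun z : Fˣ => (z : F)) h1
  simp only [Units.val_pow_eq_pow_val, Units.val_one, coe_detHom] at h2
  rw [← pow_succ']
  exact h2

/-- permutations in the image of `SU` -/
theorem exists_su (hn : 1 ≤ n) {σ : Equiv.Perm (Fin n)} (hσ : ∀ k, σ (θ k) = θ (σ k)) :
    ∃ g : SU n F q, Mono θ j (mat g) σ := by
  obtain ⟨g, hg⟩ := exists_gu hF h hσ (c := fun _ => 1) (fun k => by rw [one_pow, mul_one])
  obtain ⟨d, hd, hd'⟩ := exists_diag hF h hn (δ := (gm g⁻¹).det) (det_gu hF _)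
  have h1 : (gm (g * d)).det = 1 := by
    rw [gm_mul, det_mul, hd', ← det_mul, gm_mul_inv, det_one]
  refine ⟨toSU (g * d) h1, ?_⟩
  rw [mat_toSU, gm_mul]
  have h2 : Mono θ j (gm g) σ := fun k => ⟨1, one_ne_zero, hg k⟩
  exact (h2.mul hd :)

seal _root_.Finset.card _root_.Finset.sum _root_.dotProduct _root_.Matrix.det in
/-- automorphisms modulo inner ones -/
theorem exists_conj (hn : 1 ≤ n) (A : GU n F q) (ρ : F ≃+* F) :
    ∃ (s : PSU n F q) (d : GU n F q), Mono θ j (gm d) 1 ∧ MulAut.conj s * toAut A ρ = toAut d ρ := by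
  obtain ⟨d, hd, hd'⟩ := exists_diag hF h hn (det_gu hF A)
  have h1 : (gm (A * d⁻¹)).det = 1 := by
    rw [gm_mul, det_mul, ← hd', ← det_mul, gm_mul_inv, det_one]
  refine ⟨(pr n F q (toSU (A * d⁻¹) h1))⁻¹, d, hd, ?_⟩
  set s := toSU (A * d⁻¹) h1 with hs
  have hsd : ∀ x, act s (gm d *ᵥ x) = gm A *ᵥ x := by
    intro x
    rw [act_def, hs, mat_toSU, mulVec_mulVec, gm_mul, Matrix.mul_assoc, gm_inv_mul, Matrix.mul_one]
  ext1 m
  obtain ⟨g, rfl⟩ := pr_surjective m
  rw [MulAut.mul_apply, toAut_pr, toAut_pr, MulAut.conj_apply, inv_inv, ← map_inv, ← map_mul, ← map_mul]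
  congr 1
  apply ext_act
  intro x
  have hx : x = gm d *ᵥ fun i => ρ ((fun j => ρ.symm ((gm d⁻¹ *ᵥ x) j)) i) := by
    have : (fun i => ρ ((fun j => ρ.symm ((gm d⁻¹ *ᵥ x) j)) i)) = gm d⁻¹ *ᵥ x := by
      funext i
      simp
    rw [this, gm_mulVec_inv]
  rw [hx]
  generalize (fun j => ρ.symm ((gm d⁻¹ *ᵥ x) j)) = y
  rw [act_semiConj, act_mul, act_mul, hsd, act_semiConj, ← hsd, act_inv_act]

omit hF h in
/-- the permutation of an element of `PSU` -/
def Pm (θ : Equiv.Perm (Fin n)) (j : F) (m : PSU n F q) (σ : Equiv.Perm (Fin n)) : Prop :=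
  ∃ g : SU n F q, pr n F q g = m ∧ Mono θ j (mat g) σ

omit hF h in
theorem Pm.mul {m m' : PSU n F q} {σ σ' : Equiv.Perm (Fin n)} (hm : Pm θ j m σ) (hm' : Pm θ j m' σ') :
    Pm θ j (m * m') (σ * σ') := by
  obtain ⟨g, rfl, hg⟩ := hm
  obtain ⟨g', rfl, hg'⟩ := hm'
  exact ⟨g * g', map_mul _ _ _, by rw [mat_mul]; exact hg.mul hg'⟩

omit hF h in
theorem mem_FrP {m : PSU n F q} : m ∈ FrP q θ j ↔ ∃ σ, Pm θ j m σ := by
  constructor
  · rintro ⟨g, ⟨σ, hσ⟩, rfl⟩
    exact ⟨σ, g, rfl, hσ⟩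
  · rintro ⟨σ, g, rfl, hσ⟩
    exact ⟨g, ⟨σ, hσ⟩, rfl⟩

theorem Pm.unique (hn : 3 ≤ n) {m : PSU n F q} {σ σ' : Equiv.Perm (Fin n)} (hm : Pm θ j m σ)
    (hm' : Pm θ j m σ') : σ = σ' := by
  obtain ⟨g, rfl, hg⟩ := hm
  obtain ⟨g', hgg, hg'⟩ := hm'
  obtain ⟨c, hc, hx⟩ := exists_scalar_of_pr_eq hF hn hgg
  have hc0 : c ≠ 0 := by
    rintro rfl
    rw [zero_mul] at hc
    exact zero_ne_one hc
  refine Mono.unique (q_pos hF).ne' h hg (ρ := σ') ?_
  intro k
  obtain ⟨a, ha, ha'⟩ := hg' k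
  refine ⟨c * a, mul_ne_zero hc0 ha, ?_⟩
  rw [mul_smul, ← ha']
  exact hx _

theorem Pm.comm {m : PSU n F q} {σ : Equiv.Perm (Fin n)} (hm : Pm θ j m σ) (k : Fin n) :
    σ (θ k) = θ (σ k) := by
  obtain ⟨g, rfl, hg⟩ := hm
  exact hg.comm (q_pos hF).ne' h (fun u v => (LieClassical.HermBasic.mem_SU_iff _).1 g.2 u v) k

theorem Pm.semi {m : PSU n F q} {σ : Equiv.Perm (Fin n)} (hm : Pm θ j m σ) {d : GU n F q}
    (hd : Mono θ j (gm d) 1) (ρ : F ≃+* F) : Pm θ j (toAut d ρ m) σ := by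
  have hc := hm.comm hF h
  obtain ⟨g, rfl, hg⟩ := hm
  exact ⟨semiConj d ρ g, (toAut_pr _ _ _).symm, mono_semi h hd ρ hc hg⟩

omit hF h in
/-- the permutations commuting with `θ` -/
def Cen (θ : Equiv.Perm (Fin n)) : Subgroup (Equiv.Perm (Fin n)) where
  carrier := {σ | ∀ k, σ (θ k) = θ (σ k)}
  one_mem' := fun _ => rfl
  mul_mem' := by
    intro a b ha hb k
    rw [Equiv.Perm.mul_apply, hb, ha]
    rfl
  inv_mem' := by
    intro a ha k
    apply a.injective
    have h1 : ∀ x, a (a⁻¹ x) = x := a.apply_symm_apply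
    rw [ha, h1, h1]

/-- the homomorphism onto the group of permutations -/
theorem exists_hom (hn : 3 ≤ n) : ∃ f : FrP q θ j →* Cen θ, Function.Surjective f ∧
    ∀ (m : FrP q θ j) (σ : Equiv.Perm (Fin n)), Pm θ j (m : PSU n F q) σ → (f m : Equiv.Perm (Fin n)) = σ := by
  choose σ hσ using fun m : FrP q θ j => mem_FrP.1 m.2
  have huniq : ∀ (m : FrP q θ j) (ρ : Equiv.Perm (Fin n)), Pm θ j (m : PSU n F q) ρ → σ m = ρ :=
    fun m ρ hρ => (hσ m).unique hF h hn hρ
  refine ⟨MonoidHom.mk' (fun m => ⟨σ m, (hσ m).comm hF h⟩) (fun a b => Subtype.ext ?_), ?_, huniq⟩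
  · exact huniq _ _ ((hσ a).mul (hσ b))
  · rintro ⟨ρ, hρ⟩
    obtain ⟨g, hg⟩ := exists_su hF h (by omega) hρ
    refine ⟨⟨pr n F q g, mem_FrP.2 ⟨ρ, g, rfl, hg⟩⟩, Subtype.ext ?_⟩
    exact huniq _ _ ⟨g, rfl, hg⟩

end fin

end Cfsg.Agent.H311.K547
end

-- part: H311/K547/Data
section
/-!
# S4547: outer automorphisms of `PSU_n(q)`, `n ≥ 4`, `q` odd (helper311)

`ext_data` : a subgroup `M` of odd index (the stabiliser of a frame), a conjugate `τ'` of `τ` modulo inner automorphisms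
which normalises `M`, and a homomorphism of `M` onto a group of permutations, invariant under `τ'`; the Sylow
2-subgroups of the image map onto `C2²`.
-/

set_option autoImplicit false

namespace Cfsg.Agent.H311.K547

open Cfsg Cfsg.Agent.H821.K547 Cfsg.Agent.LieClassical.HermBasic
open Cfsg.Agent.ClassicalGeometry.PSUAutCount Cfsg.Agent.ClassicalGeometry.UnitAutBasic

/-- `2i ↔ 2i + 1` -/
def tN (n k : ℕ) : ℕ := if k % 2 = 0 then (if k + 1 < n then k + 1 else k) else k - 1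

def vN (k : ℕ) : ℕ := if k < 4 then (if k % 2 = 0 then k + 1 else k - 1) else k

def wN (k : ℕ) : ℕ := if k < 4 then (if k < 2 then k + 2 else k - 2) else k

theorem tN_lt {n k : ℕ} (h : k < n) : tN n k < n := by
  unfold tN; split_ifs <;> omega

theorem tN_tN {n k : ℕ} (h : k < n) : tN n (tN n k) = k := by
  unfold tN; (first | (lia; done) | (split_ifs <;> omega))

theorem vN_lt {n k : ℕ} (hn : 4 ≤ n) (h : k < n) : vN k < n := by
  unfold vN; split_ifs <;> omega

theorem vN_vN (k : ℕ) : vN (vN k) = k := by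
  unfold vN; (first | (lia; done) | (split_ifs <;> omega))

theorem wN_lt {n k : ℕ} (hn : 4 ≤ n) (h : k < n) : wN k < n := by
  unfold wN; split_ifs <;> omega

theorem wN_wN (k : ℕ) : wN (wN k) = k := by
  unfold wN; (first | (lia; done) | (split_ifs <;> omega))

theorem vN_wN (k : ℕ) : vN (wN k) = wN (vN k) := by
  unfold vN wN; (first | (lia; done) | (split_ifs <;> omega))

theorem vN_tN {n k : ℕ} (hn : 4 ≤ n) (h : k < n) : vN (tN n k) = tN n (vN k) := by
  unfold vN tN; (first | (lia; done) | (split_ifs <;> omega))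

theorem wN_tN {n k : ℕ} (hn : 4 ≤ n) (h : k < n) : wN (tN n k) = tN n (wN k) := by
  unfold wN tN; (first | (lia; done) | (split_ifs <;> omega))

/-- permutations given by involutions of `ℕ` -/
def mkP (n : ℕ) (f : ℕ → ℕ) (h1 : ∀ k < n, f k < n) (h2 : ∀ k < n, f (f k) = k) : Equiv.Perm (Fin n) where
  toFun k := ⟨f k, h1 k k.2⟩
  invFun k := ⟨f k, h1 k k.2⟩
  left_inv k := Fin.ext (h2 k k.2)
  right_inv k := Fin.ext (h2 k k.2)

/-- **existence of the frame** -/
theorem exists_fd {F : Type*} [Field F] [Fintype F] {n q : ℕ} (hF : Fintype.card F = q ^ 2) (hq : Odd q) (hn : 4 ≤ n) :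
    ∃ (θ : Equiv.Perm (Fin n)) (j : F), Fd q θ j ∧ OddF q θ ∧
      ∃ a b : Equiv.Perm (Fin n), (∀ k, a (θ k) = θ (a k)) ∧ (∀ k, b (θ k) = θ (b k)) ∧ a * a = 1 ∧ b * b = 1 ∧
        a * b = b * a ∧ a ≠ 1 ∧ b ≠ 1 ∧ a ≠ b := by
  have h2 : (2 : F) ≠ 0 := by
    intro h0
    have h1 : ringChar F ∣ 2 := (ringChar.spec F 2).1 (by exact_mod_cast h0)
    have h3 : ringChar F = 2 := by
      rcases (Nat.dvd_prime Nat.prime_two).1 h1 with h4 | h4
      · exact absurd h4 (CharP.ringChar_ne_one)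
      · exact h4
    have h4 := FiniteField.even_card_of_char_two h3
    rw [hF] at h4
    have h5 : Odd (q ^ 2) := hq.pow
    rw [Nat.odd_iff] at h5
    omega
  let a := mkP n vN (fun k hk => vN_lt hn hk) (fun k _ => vN_vN k)
  let b := mkP n wN (fun k hk => wN_lt hn hk) (fun k _ => wN_wN k)
  have haa : a * a = 1 := Equiv.ext fun k => Fin.ext (vN_vN k)
  have hbb : b * b = 1 := Equiv.ext fun k => Fin.ext (wN_wN k)
  have hab : a * b = b * a := Equiv.ext fun k => Fin.ext (vN_wN k)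
  let z : Fin n := ⟨0, by omega⟩
  have haz : ((a z : Fin n) : ℕ) = 1 := rfl
  have hbz : ((b z : Fin n) : ℕ) = 2 := rfl
  have ha1 : a ≠ 1 := fun h => by
    rw [h] at haz
    exact absurd haz (by show (0 : ℕ) ≠ 1; norm_num)
  have hb1 : b ≠ 1 := fun h => by
    rw [h] at hbz
    exact absurd hbz (by show (0 : ℕ) ≠ 2; norm_num)
  have hne : a ≠ b := fun h => by
    rw [h, hbz] at haz
    omega
  have hq4 : q % 4 = 1 ∨ q % 4 = 3 := by
    rw [Nat.odd_iff] at hq
    omega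
  rcases hq4 with hq4 | hq4
  · obtain ⟨j, hj⟩ : IsSquare (-1 : F) := by
      rw [FiniteField.isSquare_neg_one_iff, hF]
      have : q ^ 2 % 4 = 1 := by rw [Nat.pow_mod, hq4]
      omega
    have hj2 : j ^ 2 = -1 := by rw [pow_two, ← hj]
    refine ⟨mkP n (tN n) (fun k hk => tN_lt hk) (fun k hk => tN_tN hk), j,
      ⟨fun k => Fin.ext (tN_tN k.2), fun _ _ => hj2, fun _ _ => ?_, h2⟩, Or.inr ⟨hq4, ?_⟩,
      a, b, fun k => Fin.ext (vN_tN hn k.2), fun k => Fin.ext (wN_tN hn k.2), haa, hbb, hab, ha1, hb1, hne⟩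
    · obtain ⟨m, rfl⟩ : ∃ m, q = 4 * m + 1 := ⟨q / 4, by omega⟩
      rw [pow_succ, pow_mul, show 4 = 2 * 2 from rfl, pow_mul, hj2]
      simp only [_root_.even_two, _root_.Even.neg_pow, _root_.one_pow, _root_.one_mul]
    · rw [Finite.card_le_one_iff_subsingleton]
      refine ⟨fun x y => Subtype.ext (Fin.ext ?_)⟩
      have h3 : tN n (x : Fin n) = (x : Fin n) := congrArg Fin.val x.2
      have h4 : tN n (y : Fin n) = (y : Fin n) := congrArg Fin.val y.2
      have h5 := (x : Fin n).2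
      have h6 := (y : Fin n).2
      unfold tN at h3 h4
      (first | (lia; done) | (split_ifs at h3 h4 <;> omega))
  · refine ⟨1, 0, ⟨fun k => rfl, fun k hk => absurd rfl hk, fun k hk => absurd rfl hk, h2⟩, Or.inl ⟨by omega, rfl⟩,
      a, b, fun k => rfl, fun k => rfl, haa, hbb, hab, ha1, hb1, hne⟩

/-- **the data** -/
theorem ext_data {F : Type*} [Field F] [Fintype F] {n q : ℕ} (hF : Fintype.card F = q ^ 2) (hq : Odd q) (hn : 4 ≤ n)
    (τ : MulAut (PSU n F q)) :
    ∃ (s : PSU n F q) (M : Subgroup (PSU n F q)) (Y : Subgroup (Equiv.Perm (Fin n))) (f : M →* Y),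
      Odd M.index ∧ Function.Surjective f ∧ (∀ Q : Sylow 2 Y, Rk 2 Q) ∧
      ∀ m : M, ∃ hm : (MulAut.conj s * τ) m ∈ M, f ⟨(MulAut.conj s * τ) m, hm⟩ = f m := by
  obtain ⟨θ, j, h, ho, a, b, hac, hbc, haa, hbb, hab, ha1, hb1, hne⟩ := exists_fd hF hq hn
  obtain ⟨A, ρ, rfl⟩ := Cfsg.Agent.ClassicalGeometry.PSUAutMain.exists_toAut hF (by omega)
    (fun h => by omega) τ
  obtain ⟨s, d, hd, hsd⟩ := exists_conj hF h (by omega) A ρ
  obtain ⟨f, hf, hf'⟩ := exists_hom hF h (by omega)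
  refine ⟨s, FrP q θ j, Cen θ, f, odd_index_FrP hF h (by omega) ho, hf, ?_, ?_⟩
  · exact rk_two_sylow (a := ⟨a, hac⟩) (b := ⟨b, hbc⟩) (Subtype.ext haa) (Subtype.ext hbb) (Subtype.ext hab)
      (fun h => ha1 (congrArg Subtype.val h)) (fun h => hb1 (congrArg Subtype.val h))
      (fun h => hne (congrArg Subtype.val h))
  · intro m
    rw [hsd]
    obtain ⟨σ, hσ⟩ := mem_FrP.1 m.2
    have h1 := hσ.semi hF h hd ρ
    refine ⟨mem_FrP.2 ⟨σ, h1⟩, Subtype.ext ?_⟩
    rw [hf' _ _ h1, hf' _ _ hσ]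

/-- cyclic groups do not map onto `C2²` -/
theorem not_rk_two_of_cyclic {P : Type*} [Group P] [IsCyclic P] (h : Rk 2 P) : False := by
  obtain ⟨f, hf⟩ := h
  have h1 : IsCyclic (Multiplicative (Fin 2 → ZMod 2)) := isCyclic_of_surjective f hf
  have h2 : ∀ x : Multiplicative (Fin 2 → ZMod 2), x * x = 1 := by decide
  exact not_cyclic (h2 (Multiplicative.ofAdd (fun _ => 1))) (h2 (Multiplicative.ofAdd (fun i => if i = 0 then 1 else 0)))
    (by decide) (by decide) (by decide) h1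

/-- **outer automorphisms of `PSU_n(q)`, `n ≥ 4`, `q` odd** -/
theorem d3_ext_psu {F : Type*} [Field F] [Fintype F] {n q : ℕ} (hF : Fintype.card F = q ^ 2) (hq : Odd q) (hn : 4 ≤ n)
    (τ : MulAut (PSU n F q)) (h2 : TwoPow τ) (hni : ¬ IsInn τ) : D3 (AutExt τ) := by
  obtain ⟨s, M, Y, f, hM, hf, hY, hm⟩ := ext_data hF hq hn τ
  have : IsSimpleGroup (PSU n F q) := Cfsg.Agent.S0283.result hF n (by omega) (fun h => by omega)
  have hna : ¬ ∀ a b : PSU n F q, a * b = b * a := by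
    intro hab
    let _ : CommGroup (PSU n F q) := { (inferInstance : Group (PSU n F q)) with mul_comm := hab }
    have h1 : IsCyclic (PSU n F q) := IsSimpleGroup.isCyclic
    have h3 : IsCyclic M := inferInstance
    have h4 : IsCyclic Y := isCyclic_of_surjective f hf
    obtain ⟨Q⟩ : Nonempty (Sylow 2 Y) := inferInstance
    have h5 : IsCyclic Q := (Subgroup.isCyclic (Q : Subgroup Y) :)
    exact not_rk_two_of_cyclic (hY Q)
  refine Cfsg.Agent.H951.K547.gen_inner (Cfsg.Agent.H951.K547.center_of_simple hna)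
    (Cfsg.Agent.H951.K547.commutator_of_simple hna) τ h2 hni s M ?_ (fun x hx => (hm ⟨x, hx⟩).1) f hf 1 ?_ hY
  · rw [← even_iff_two_dvd, Nat.not_even_iff_odd]
    exact hM
  · intro m m' hmm
    obtain ⟨h3, h4⟩ := hm m
    rw [one_mul, inv_one, mul_one, ← h4]
    exact congrArg f (Subtype.ext hmm)

end Cfsg.Agent.H311.K547
end

-- part: H829/K547/PsuC
section
/-!
# S4547, QO-EXT3: outer automorphisms of `PSU_3(q)`, `q` odd (helper829)

`N3` : the stabiliser in `SU_3(q)` of a frame and of its last point, of odd index.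
-/

set_option autoImplicit false

namespace Cfsg.Agent.H829.K547.PsuC

open Cfsg Matrix Equiv Cfsg.Agent.LieClassical.HermBasic Cfsg.Agent.LieClassical.HermSiegel
open Cfsg.Agent.LieClassical.SUBasic
open Cfsg.Agent.ClassicalGeometry.PSUAutCount Cfsg.Agent.ClassicalGeometry.UnitAutBasic
open Cfsg.Agent.H311.K547 Cfsg.Agent.H821.K547

variable {F : Type*} [Field F] {q : ℕ} {θ : Perm (Fin 3)} {j : F}

theorem fb_two (hθ : θ 2 = 2) : fb θ j 2 = Pi.single 2 1 := by
  rw [fb, co, if_pos hθ, zero_smul, add_zero]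

theorem mul_two {A : Matrix (Fin 3) (Fin 3) F} {σ : Perm (Fin 3)} (hθ : θ 2 = 2) (hA : Mono θ j A σ) (hσ : σ 2 = 2) :
    A *ᵥ Pi.single 2 1 = A 2 2 • Pi.single 2 (1 : F) ∧ A 2 2 ≠ 0 := by
  obtain ⟨c, hc, h1⟩ := hA 2
  rw [hσ, fb_two hθ] at h1
  have h2 := congrFun h1 2
  rw [Matrix.mulVec_single_one, Pi.smul_apply, Pi.single_eq_same, smul_eq_mul, mul_one] at h2
  change A 2 2 = c at h2
  rw [h2]
  exact ⟨h1, hc⟩

theorem entry_mul {A B : Matrix (Fin 3) (Fin 3) F} {σ ρ : Perm (Fin 3)} (hθ : θ 2 = 2) (hA : Mono θ j A σ)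
    (hσ : σ 2 = 2) (hB : Mono θ j B ρ) (hρ : ρ 2 = 2) : (A * B) 2 2 = A 2 2 * B 2 2 := by
  have h1 := (mul_two hθ hA hσ).1
  have h2 := (mul_two hθ hB hρ).1
  have h3 := (mul_two hθ (hA.mul hB) (by rw [Perm.mul_apply, hρ, hσ])).1
  rw [← mulVec_mulVec, h2, mulVec_smul, h1] at h3
  have h4 := congrFun h3 2
  simp only [Pi.smul_apply, Pi.single_eq_same, smul_eq_mul, mul_one] at h4
  rw [← h4, mul_comm]

/-- the permutation -/
theorem exists_pm {q : ℕ} (hq : q ≠ 0) (h : Fd q θ j) : ∃ f : FrS (n := 3) q θ j →* Perm (Fin 3),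
    (∀ x : FrS q θ j, Mono θ j (mat (x : SU 3 F q)) (f x)) ∧
      ∀ (x : FrS q θ j) (σ : Perm (Fin 3)), Mono θ j (mat (x : SU 3 F q)) σ → f x = σ := by
  choose f hf using fun x : FrS (n := 3) q θ j => mem_FrS.1 x.2
  refine ⟨MonoidHom.mk' f fun x y => ?_, hf, fun x σ hσ => (hf x).unique hq h hσ⟩
  refine (hf (x * y)).unique hq h ?_
  rw [Subgroup.coe_mul, mat_mul]
  exact (hf x).mul (hf y)

/-- the stabiliser of the frame and of the last point -/
def N3 (q : ℕ) (θ : Perm (Fin 3)) (j : F) : Subgroup (SU 3 F q) where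
  carrier := {g | ∃ σ : Perm (Fin 3), Mono θ j (mat g) σ ∧ σ 2 = 2}
  one_mem' := ⟨1, Mono.one, rfl⟩
  mul_mem' := by
    rintro g h ⟨σ, hσ, hσ2⟩ ⟨ρ, hρ, hρ2⟩
    exact ⟨σ * ρ, by rw [mat_mul]; exact hσ.mul hρ, by rw [Perm.mul_apply, hρ2, hσ2]⟩
  inv_mem' := by
    rintro g ⟨σ, hσ, hσ2⟩
    refine ⟨σ⁻¹, hσ.inv (by rw [← mat_mul, inv_mul_cancel, mat_one]), ?_⟩
    rw [Perm.inv_eq_iff_eq, hσ2]

theorem mem_N3 {g : SU 3 F q} : g ∈ N3 q θ j ↔ ∃ σ : Perm (Fin 3), Mono θ j (mat g) σ ∧ σ 2 = 2 := Iff.rfl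

/-- the frames which we use -/
def Two (q : ℕ) (θ : Perm (Fin 3)) : Prop := (q % 4 = 3 ∧ θ = 1) ∨ (q % 4 = 1 ∧ θ = _root_.Equiv.swap 0 1)

theorem Two.two {q : ℕ} {θ : Perm (Fin 3)} (h : Two q θ) : θ 2 = 2 := by
  rcases h with ⟨-, rfl⟩ | ⟨-, rfl⟩
  · rfl
  · decide

theorem Two.oddF {q : ℕ} {θ : Perm (Fin 3)} (h : Two q θ) : OddF q θ := by
  rcases h with ⟨h, rfl⟩ | ⟨h, rfl⟩
  · exact Or.inl ⟨by omega, rfl⟩
  · refine Or.inr ⟨h, ?_⟩
    rw [Nat.card_eq_fintype_card]
    decide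

theorem comm_swap : ∀ σ : Perm (Fin 3), (∀ k, σ (_root_.Equiv.swap (0 : Fin 3) 1 k) = _root_.Equiv.swap 0 1 (σ k)) → σ 2 = 2 := by
  decide

theorem perm_sq (π : Perm (Fin 3)) (h : π 2 = 2) : π * π = 1 := by
  revert π
  decide

theorem perm_comm (π ρ : Perm (Fin 3)) (h : π 2 = 2) (h' : ρ 2 = 2) : π * ρ = ρ * π := by
  revert π ρ
  decide +kernel

section fin

variable [Fintype F] (hF : Fintype.card F = q ^ 2) (h : Fd q θ j) (ho : Two q θ)
include hF h ho

theorem odd_index_N3 : Odd (N3 q θ j).index := by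
  have hq : q ≠ 0 := (q_pos hF).ne'
  obtain ⟨f, hf, hf'⟩ := exists_pm hq h
  have h1 : N3 q θ j = ((MulAction.stabilizer (Perm (Fin 3)) (2 : Fin 3)).comap f).map (FrS q θ j).subtype := by
    ext g
    constructor
    · rintro ⟨σ, hσ, hσ2⟩
      refine ⟨⟨g, σ, hσ⟩, ?_, rfl⟩
      show f ⟨g, σ, hσ⟩ ∈ MulAction.stabilizer (Perm (Fin 3)) (2 : Fin 3)
      rw [hf' ⟨g, σ, hσ⟩ σ hσ]
      exact hσ2
    · rintro ⟨x, hx, rfl⟩
      exact ⟨f x, hf x, hx⟩
  rw [h1, Subgroup.index_map_subtype]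
  refine Odd.mul ?_ (odd_index_FrS hF h (by norm_num) ho.oddF)
  rcases ho with ⟨h3, h4⟩ | ⟨h3, h4⟩
  · have hs : Function.Surjective f := by
      intro σ
      obtain ⟨g, hg⟩ := exists_su hF h (by norm_num) (σ := σ) (fun k => by rw [h4]; rfl)
      exact ⟨⟨g, σ, hg⟩, hf' _ _ hg⟩
    rw [Subgroup.index_comap_of_surjective _ hs, MulAction.index_stabilizer_of_transitive, Nat.card_fin]
    decide
  · have ht : (MulAction.stabilizer (Perm (Fin 3)) (2 : Fin 3)).comap f = ⊤ := by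
      rw [eq_top_iff]
      intro x _
      have h5 := (hf x).comm hq h (fun u v => (LieClassical.HermBasic.mem_SU_iff _).1 x.1.2 u v)
      have h6 : ∀ σ : Perm (Fin 3), (∀ k, σ (θ k) = θ (σ k)) → σ 2 = 2 := by
        rw [h4]
        exact comm_swap
      exact h6 _ h5
    rw [ht, Subgroup.index_top]
    exact odd_one

omit ho in
/-- the last coefficient has norm one -/
theorem entry_norm (hθ : θ 2 = 2) {g : SU 3 F q} {σ : Perm (Fin 3)} (hg : Mono θ j (mat g) σ) (hσ : σ 2 = 2) :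
    (mat g) 2 2 ^ (q + 1) = 1 := by
  have hq : q ≠ 0 := (q_pos hF).ne'
  have hi : Isom q (mat g) := fun u v => (LieClassical.HermBasic.mem_SU_iff _).1 g.2 u v
  choose c hc hc' using hg
  have h1 := coef_rel hq h hi (fun k => Mono.comm hq h (fun k => ⟨c k, hc k, hc' k⟩) hi k) hc' 2
  have h2 := hc' 2
  rw [hσ, fb_two hθ, (mul_two hθ (fun k => ⟨c k, hc k, hc' k⟩) hσ).1] at h2
  have h3 := congrFun h2 2
  simp only [Pi.smul_apply, Pi.single_eq_same, smul_eq_mul, mul_one] at h3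
  rw [hθ, ← h3] at h1
  rw [pow_succ']
  exact h1

end fin

/-- the last coefficient as a unit -/
noncomputable def u3 (hθ : θ 2 = 2) (x : N3 q θ j) : Fˣ :=
  Units.mk0 ((mat (x : SU 3 F q)) 2 2) (mul_two hθ (mem_N3.1 x.2).choose_spec.1 (mem_N3.1 x.2).choose_spec.2).2

theorem u3_mul (hθ : θ 2 = 2) (x y : N3 q θ j) : u3 hθ (x * y) = u3 hθ x * u3 hθ y := by
  apply Units.ext
  show (mat ((x * y : N3 q θ j) : SU 3 F q)) 2 2 = (mat (x : SU 3 F q)) 2 2 * (mat (y : SU 3 F q)) 2 2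
  rw [Subgroup.coe_mul, mat_mul]
  exact entry_mul hθ (mem_N3.1 x.2).choose_spec.1 (mem_N3.1 x.2).choose_spec.2
    (mem_N3.1 y.2).choose_spec.1 (mem_N3.1 y.2).choose_spec.2

/-- the two homomorphisms together -/
noncomputable def f3 (hq : q ≠ 0) (h : Fd q θ j) (hθ : θ 2 = 2) (e : ℕ) : N3 q θ j →* Perm (Fin 3) × Fˣ :=
  MonoidHom.mk' (fun x => ((mem_N3.1 x.2).choose, u3 hθ x ^ e)) (by
    intro x y
    refine Prod.ext ?_ ?_
    · refine (mem_N3.1 (x * y).2).choose_spec.1.unique hq h ?_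
      rw [Subgroup.coe_mul, mat_mul]
      exact (mem_N3.1 x.2).choose_spec.1.mul (mem_N3.1 y.2).choose_spec.1
    · simp only [Prod.snd_mul]
      rw [u3_mul, mul_pow])

section f3

variable {hq : q ≠ 0} {h : Fd q θ j} {hθ : θ 2 = 2} {e : ℕ}

theorem f3_fst (x : N3 q θ j) : Mono θ j (mat (x : SU 3 F q)) (f3 hq h hθ e x).1 ∧ (f3 hq h hθ e x).1 2 = 2 :=
  (mem_N3.1 x.2).choose_spec

theorem f3_snd (x : N3 q θ j) : (((f3 hq h hθ e x).2 : Fˣ) : F) = (mat (x : SU 3 F q)) 2 2 ^ e := by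
  show ((u3 hθ x ^ e : Fˣ) : F) = _
  rw [Units.val_pow_eq_pow_val]
  rfl

theorem f3_eq {x y : N3 q θ j} {σ : Perm (Fin 3)} (hx : Mono θ j (mat (x : SU 3 F q)) σ)
    (hy : Mono θ j (mat (y : SU 3 F q)) σ) (hxy : (mat (x : SU 3 F q)) 2 2 ^ e = (mat (y : SU 3 F q)) 2 2 ^ e) :
    f3 hq h hθ e x = f3 hq h hθ e y := by
  refine Prod.ext ?_ (Units.ext ?_)
  · rw [(f3_fst x).1.unique hq h hx, (f3_fst y).1.unique hq h hy]
  · rw [f3_snd, f3_snd, hxy]

end f3

/-- square roots of one -/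
theorem pm_one {a : F} {e : ℕ} (ha : a ^ (2 * e) = 1) : a ^ e = 1 ∨ a ^ e = -1 := by
  have h1 : (a ^ e) ^ 2 = 1 := by rw [← pow_mul, mul_comm, ha]
  have h2 : (a ^ e - 1) * (a ^ e + 1) = 0 := by linear_combination h1
  rcases mul_eq_zero.1 h2 with h3 | h3
  · exact Or.inl (by linear_combination h3)
  · exact Or.inr (by linear_combination h3)

section main

variable [Fintype F] (hF : Fintype.card F = q ^ 2) (h : Fd q θ j) (ho : Two q θ)
include hF h ho

omit [Fintype F] hF in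
/-- the last coefficient under semilinear conjugation -/
theorem entry_semi {d : GU 3 F q} (hd : Mono θ j (gm d) 1) (ρ : F ≃+* F) {g : SU 3 F q} {σ : Perm (Fin 3)}
    (hg : Mono θ j (mat g) σ) (hσ : σ 2 = 2) (hσ' : ∀ k, σ (θ k) = θ (σ k)) :
    (mat (semiConj d ρ g)) 2 2 = ρ ((mat g) 2 2) := by
  obtain ⟨h1, h2⟩ := mul_two ho.two hd rfl
  obtain ⟨h3, -⟩ := mul_two ho.two hg hσ
  obtain ⟨h4, -⟩ := mul_two ho.two (mono_semi h hd ρ hσ' hg) hσ
  have h5 := act_semiConj d ρ g (Pi.single 2 1)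
  have h6 : ∀ c : F, (fun i => ρ ((c • (Pi.single 2 1 : Fin 3 → F)) i)) = ρ c • (Pi.single 2 1 : Fin 3 → F) := by
    intro c
    funext i
    simp only [Pi.smul_apply, smul_eq_mul, map_mul, Pi.single_apply]
    split_ifs <;> simp only [_root_.map_one, _root_.mul_one, _root_.map_zero, _root_.MulZeroClass.mul_zero]
  have h7 := h6 1
  rw [one_smul, map_one, one_smul] at h7
  rw [h7, h1, act_def, act_def, h3, h6, mulVec_smul, mulVec_smul, h1, h4, smul_smul, smul_smul] at h5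
  have h8 := congrFun h5 2
  simp only [Pi.smul_apply, Pi.single_eq_same, smul_eq_mul, mul_one] at h8
  rw [mul_comm] at h8
  exact mul_right_cancel₀ h2 h8

/-- a diagonal element -/
theorem exists_dg {δ : F} (hδ : δ * δ ^ q = 1) : ∃ b : N3 q θ j,
    Mono θ j (mat (b : SU 3 F q)) 1 ∧ (mat (b : SU 3 F q)) 2 2 = δ := by
  have hq : q ≠ 0 := (q_pos hF).ne'
  have hδ0 : δ ≠ 0 := by
    rintro rfl
    rw [zero_mul] at hδ
    exact zero_ne_one hδ
  have hδi : δ⁻¹ * δ⁻¹ ^ q = 1 := by rw [inv_pow, ← mul_inv, hδ, inv_one]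
  have key : ∃ c : Fin 3 → F, (∀ k, c k * c (θ k) ^ q = 1) ∧ ∏ k, c k = 1 ∧ c 2 = δ := by
    rcases ho with ⟨-, rfl⟩ | ⟨-, rfl⟩
    · refine ⟨![δ⁻¹, 1, δ], fun k => ?_, ?_, rfl⟩
      · fin_cases k
        · exact hδi
        · show (1 : F) * 1 ^ q = 1
          rw [one_pow, mul_one]
        · exact hδ
      · rw [Fin.prod_univ_three]
        show δ⁻¹ * 1 * δ = 1
        rw [mul_one, inv_mul_cancel₀ hδ0]
    · obtain ⟨s, hs0, hs⟩ := hilb hF hδi
      have hsq := pow_ne_zero q hs0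
      refine ⟨![s, (s ^ q)⁻¹, δ], fun k => ?_, ?_, rfl⟩
      · fin_cases k
        · show s * (s ^ q)⁻¹ ^ q = 1
          rw [inv_pow, pow_q_pow_q hF, mul_inv_cancel₀ hs0]
        · show (s ^ q)⁻¹ * s ^ q = 1
          exact inv_mul_cancel₀ hsq
        · show δ * δ ^ q = 1
          exact hδ
      · rw [Fin.prod_univ_three]
        show s * (s ^ q)⁻¹ * δ = 1
        have : s * (s ^ q)⁻¹ = δ⁻¹ := by
          rw [← div_eq_mul_inv, div_eq_iff hsq]
          exact hs
        rw [this, inv_mul_cancel₀ hδ0]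
  obtain ⟨c, hc, hp, hc2⟩ := key
  obtain ⟨g, hg⟩ := exists_gu hF h (σ := 1) (fun k => rfl) hc
  have hdet : (gm g).det = 1 := by
    rw [det_of_diag hq h (A := gm g) (c := c) hg, hp]
  have hm : Mono θ j (mat (toSU g hdet)) 1 := fun k => ⟨c k, coef_ne h hc k, hg k⟩
  refine ⟨⟨toSU g hdet, 1, hm, rfl⟩, hm, ?_⟩
  have h1 := (mul_two ho.two hm rfl).1
  have h2 := hg 2
  rw [Perm.one_apply, fb_two ho.two] at h2
  have h3 := congrFun (h1.symm.trans h2) 2
  simp only [Pi.smul_apply, Pi.single_eq_same, smul_eq_mul, mul_one] at h3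
  rw [← hc2, ← h3]

omit h in
/-- a norm-one element which is not a square of such -/
theorem exists_delta : ∃ δ : F, δ * δ ^ q = 1 ∧ δ ^ ((q + 1) / 2) ≠ 1 := by
  have hodd : q % 2 = 1 := by rcases ho with ⟨h1, -⟩ | ⟨h1, -⟩ <;> (clear * - h1; omega)
  have hq0 := q_pos hF
  obtain ⟨m, hm⟩ : ∃ m, q = 2 * m + 1 := ⟨q / 2, by omega⟩
  have h2 : (2 : F) ≠ 0 := by
    intro h0
    have h1' : ringChar F ∣ 2 := (ringChar.spec F 2).1 (by exact_mod_cast h0)
    have h3 : ringChar F = 2 := by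
      rcases (Nat.dvd_prime Nat.prime_two).1 h1' with h4 | h4
      · exact absurd h4 (CharP.ringChar_ne_one)
      · exact h4
    have h4 := FiniteField.even_card_of_char_two h3
    rw [hF, hm, Nat.pow_mod] at h4
    have : (2 * m + 1) % 2 = 1 := by omega
    rw [this] at h4
    omega
  obtain ⟨a, ha0, ha⟩ := PslA.exists_nonsq h2
  have hc : Fintype.card F - 1 = (q - 1) * (q + 1) := by
    rw [hF, hm]
    have : (2 * m + 1) ^ 2 - 1 = (2 * m) * (2 * m + 2) := by
      zify [Nat.one_le_pow 2 (2 * m + 1) (by omega)]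
      ring
    rw [this]
    congr 1
  refine ⟨a ^ (q - 1), ?_, ?_⟩
  · rw [← pow_succ', ← pow_mul, ← hc]
    exact FiniteField.pow_card_sub_one_eq_one a ha0
  · rw [← pow_mul]
    intro h3
    apply ha
    have h4 : (q - 1) * ((q + 1) / 2) = Fintype.card F / 2 := by
      rw [hF, hm]
      have e1 : (2 * m + 1 + 1) / 2 = m + 1 := by omega
      have e2 : (2 * m + 1) ^ 2 = 2 * (2 * m * (m + 1)) + 1 := by ring
      have e3 : 2 * m + 1 - 1 = 2 * m := by omega
      rw [e1, e2, e3]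
      generalize 2 * m * (m + 1) = t
      omega
    rw [← h4]
    exact h3

theorem entry_pm (x : N3 q θ j) : (mat (x : SU 3 F q)) 2 2 ^ (2 * ((q + 1) / 2)) = 1 := by
  have hodd : q % 2 = 1 := by rcases ho with ⟨h1, -⟩ | ⟨h1, -⟩ <;> (clear * - h1; omega)
  obtain ⟨σ, hσ, hσ2⟩ := mem_N3.1 x.2
  have h1 := entry_norm hF h ho.two hσ hσ2
  have h2 : 2 * ((q + 1) / 2) = q + 1 := by omega
  rw [h2, h1]

omit ho in
theorem comm_of {x : N3 q θ j} {σ : Perm (Fin 3)} (hσ : Mono θ j (mat (x : SU 3 F q)) σ) (k : Fin 3) :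
    σ (θ k) = θ (σ k) :=
  hσ.comm (q_pos hF).ne' h (fun u v => (LieClassical.HermBasic.mem_SU_iff _).1 x.1.2 u v) k

/-- **outer automorphisms of `PSU_3(q)`, for one frame** -/
theorem ext_frame (hq2 : q ≠ 2) (τ : MulAut (PSU 3 F q)) (ht : TwoPow τ) (hni : ¬ IsInn τ) : D3 (AutExt τ) := by
  have hq : q ≠ 0 := (q_pos hF).ne'
  have hθ := ho.two
  have hsimple : IsSimpleGroup (PSU 3 F q) := Cfsg.Agent.S0283.result hF 3 le_rfl (fun h => hq2 h.2)
  obtain ⟨A, ρ, rfl⟩ := Cfsg.Agent.ClassicalGeometry.PSUAutMain.exists_toAut hF le_rfl (fun h => hq2 h.2) τ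
  obtain ⟨s, d, hd, hsd⟩ := exists_conj hF h (by norm_num) A ρ
  obtain ⟨a0, ha0⟩ := exists_su hF h (by norm_num) (σ := _root_.Equiv.swap 0 1) (by
    rcases ho with ⟨-, h4⟩ | ⟨-, h4⟩
    · rw [h4]; decide
    · rw [h4]; decide)
  obtain ⟨δ, hδ, hδ1⟩ := exists_delta hF ho
  obtain ⟨b, hb, hb'⟩ := exists_dg hF h ho hδ
  let a : N3 q θ j := ⟨a0, _, ha0, by decide⟩
  have e1 : (f3 hq h hθ ((q + 1) / 2) a).1 = _root_.Equiv.swap 0 1 := (f3_fst a).1.unique hq h ha0
  have e2 : (f3 hq h hθ ((q + 1) / 2) b).1 = 1 := (f3_fst b).1.unique hq h hb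
  have hN : ∀ x ∈ N3 q θ j, semiConj d ρ x ∈ N3 q θ j := by
    intro x hx
    obtain ⟨σ, h3, h4⟩ := mem_N3.1 hx
    exact mem_N3.2 ⟨σ, mono_semi h hd ρ (comm_of hF h (x := ⟨x, hx⟩) h3) h3, h4⟩
  refine d3_of_cover_sq (pr 3 F q) pr_surjective (N3 q θ j) (odd_index_N3 hF h ho) (f3 hq h hθ ((q + 1) / 2)) ?_ _
    ht hni s (semiConj d ρ) ?_ hN ?_ ?_ ?_ a b ?_ ?_ ?_ inferInstance
  · intro x hx
    obtain ⟨c, hc, hx'⟩ := exists_scalar_of_pr_eq hF le_rfl (g := 1) (g' := (x : SU 3 F q)) (by rw [hx, map_one])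
    have hc0 : c ≠ 0 := by
      rintro rfl
      rw [zero_mul] at hc
      exact zero_ne_one hc
    have hx2 : ∀ y, mat (x : SU 3 F q) *ᵥ y = c • y := by
      intro y
      have h3 := hx' y
      rw [act_def, act_def, mat_one, one_mulVec] at h3
      exact h3
    have hm : Mono θ j (mat (x : SU 3 F q)) 1 := fun k => ⟨c, hc0, by rw [hx2]; rfl⟩
    have hcc : (mat (x : SU 3 F q)) 2 2 = c := by
      have h3 := (mul_two hθ hm rfl).1
      rw [hx2] at h3
      have h4 := congrFun h3 2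
      simp only [Pi.smul_apply, Pi.single_eq_same, smul_eq_mul, mul_one] at h4
      exact h4.symm
    have hc3 : c ^ 3 = 1 := by
      have h3 : (mat (x : SU 3 F q)).det = 1 := x.1.1.2
      rw [det_of_diag hq h (A := mat (x : SU 3 F q)) (c := fun _ => c) (fun k => hx2 _), Finset.prod_const,
        Finset.card_univ, Fintype.card_fin] at h3
      exact h3
    rw [← map_one (f3 hq h hθ ((q + 1) / 2))]
    refine f3_eq (σ := 1) hm Mono.one ?_
    have h5 : (mat ((1 : N3 q θ j) : SU 3 F q)) 2 2 = (1 : F) := Matrix.one_apply_eq 2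
    rw [h5, one_pow]
    rcases pm_one (entry_pm hF h ho x) with h6 | h6
    · exact h6
    · exfalso
      have h7 : (c ^ ((q + 1) / 2)) ^ 3 = 1 := by rw [← pow_mul, mul_comm, pow_mul, hc3, one_pow]
      rw [hcc] at h6
      rw [h6] at h7
      apply h.two
      linear_combination -h7
  · intro x
    rw [hsd, toAut_pr]
  · intro x
    obtain ⟨h3, h4⟩ := f3_fst (hq := hq) (h := h) (hθ := hθ) (e := (q + 1) / 2) x
    have h5 := comm_of hF h h3
    refine f3_eq (mono_semi h hd ρ h5 h3) h3 ?_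
    show (mat (semiConj d ρ (x : SU 3 F q))) 2 2 ^ ((q + 1) / 2) = _
    rw [entry_semi h ho hd ρ h3 h4 h5, ← map_pow]
    rcases pm_one (entry_pm hF h ho x) with h6 | h6
    · rw [h6, map_one]
    · rw [h6, map_neg, map_one]
  · intro x
    refine Prod.ext (perm_sq _ (f3_fst x).2) (Units.ext ?_)
    show ((f3 hq h hθ ((q + 1) / 2) x).2 : F) * ((f3 hq h hθ ((q + 1) / 2) x).2 : F) = 1
    rw [f3_snd]
    rcases pm_one (entry_pm hF h ho x) with h6 | h6
    · rw [h6, one_mul]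
    · rw [h6]; ring
  · intro x y
    exact Prod.ext (perm_comm _ _ (f3_fst x).2 (f3_fst y).2) (mul_comm _ _)
  · intro h3
    rw [h3] at e1
    exact absurd (show (1 : Perm (Fin 3)) = _root_.Equiv.swap 0 1 from e1) (by decide)
  · intro h3
    have h4 := f3_snd (hq := hq) (h := h) (hθ := hθ) (e := (q + 1) / 2) b
    rw [h3, hb'] at h4
    exact hδ1 h4.symm
  · intro h3
    rw [h3, e2] at e1
    exact absurd e1 (by decide)

end main

/-- **outer automorphisms of `PSU_3(q)`, `q` odd** -/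
theorem ext_psu3 {F : Type*} [Field F] [Fintype F] {q : ℕ} (hF : Fintype.card F = q ^ 2) (hq : Odd q)
    (τ : MulAut (PSU 3 F q)) (ht : TwoPow τ) (hni : ¬ IsInn τ) : D3 (AutExt τ) := by
  have h2 : (2 : F) ≠ 0 := by
    intro h0
    have h1 : ringChar F ∣ 2 := (ringChar.spec F 2).1 (by exact_mod_cast h0)
    have h3 : ringChar F = 2 := by
      rcases (Nat.dvd_prime Nat.prime_two).1 h1 with h4 | h4
      · exact absurd h4 (CharP.ringChar_ne_one)
      · exact h4
    have h4 := FiniteField.even_card_of_char_two h3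
    rw [hF] at h4
    have h5 : Odd (q ^ 2) := hq.pow
    rw [Nat.odd_iff] at h5
    omega
  have hq2 : q ≠ 2 := by
    rintro rfl
    exact absurd hq (by decide)
  have hq4 : q % 4 = 1 ∨ q % 4 = 3 := by
    rw [Nat.odd_iff] at hq
    omega
  rcases hq4 with hq4 | hq4
  · obtain ⟨j, hj⟩ : IsSquare (-1 : F) := by
      rw [FiniteField.isSquare_neg_one_iff, hF]
      have : q ^ 2 % 4 = 1 := by rw [Nat.pow_mod, hq4]
      omega
    have hj2 : j ^ 2 = -1 := by rw [pow_two, ← hj]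
    have h : Fd q (_root_.Equiv.swap (0 : Fin 3) 1) j := by
      refine ⟨by decide, fun _ _ => hj2, fun _ _ => ?_, h2⟩
      obtain ⟨m, rfl⟩ : ∃ m, q = 4 * m + 1 := ⟨q / 4, by omega⟩
      rw [pow_succ, pow_mul, show 4 = 2 * 2 from rfl, pow_mul, hj2]
      simp only [_root_.even_two, _root_.Even.neg_pow, _root_.one_pow, _root_.one_mul]
    exact ext_frame hF h (Or.inr ⟨hq4, rfl⟩) hq2 τ ht hni
  · have h : Fd q (1 : Perm (Fin 3)) (0 : F) :=
      ⟨fun k => rfl, fun k hk => absurd rfl hk, fun k hk => absurd rfl hk, h2⟩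
    exact ext_frame hF h (Or.inl ⟨hq4, rfl⟩) hq2 τ ht hni

end Cfsg.Agent.H829.K547.PsuC
end

-- part: H829/K547/Ext3
section
/-!
# S4547, QO-EXT3: outer 2-automorphisms of `PSL_3(q)` and `PSU_3(q)`, `q` odd (helper829)
-/

set_option autoImplicit false

namespace Cfsg.Agent.H829.K547

open Cfsg Cfsg.Agent.H821.K547

/-- the Sylow 2-subgroups of `PSL_3(q)<τ>`, `q` odd, `τ` an outer 2-automorphism, need three generators -/
theorem ext_psl3 {F : Type*} [Field F] [Fintype F] (ho : Odd (Fintype.card F))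
    (τ : MulAut (Matrix.ProjectiveSpecialLinearGroup (Fin 3) F)) (ht : TwoPow τ) (hni : ¬ IsInn τ) :
    D3 (AutExt τ) := by
  have h4 : Fintype.card F % 4 = 1 ∨ Fintype.card F % 4 = 3 := by
    rw [Nat.odd_iff] at ho
    omega
  rcases h4 with h4 | h4
  · exact PslA.ext_one h4 τ ht hni
  · exact PslB.ext_three h4 τ ht hni

/-- the Sylow 2-subgroups of `PSU_3(q)<τ>`, `q` odd, `τ` an outer 2-automorphism, need three generators -/
theorem ext_psu3 {F : Type*} [Field F] [Fintype F] {q : ℕ} (hF : Fintype.card F = q ^ 2) (hq : Odd q)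
    (τ : MulAut (PSU 3 F q)) (ht : TwoPow τ) (hni : ¬ IsInn τ) : D3 (AutExt τ) :=
  PsuC.ext_psu3 hF hq τ ht hni

end Cfsg.Agent.H829.K547
end

-- part: H83/K547/PSL
section
/-!
# S4547: the Sylow 2-subgroups of `PSL_n(q)`, `n ≥ 4`, `q` odd, need three generators (helper83, task 5023)

* `4 ∣ q + 1`, or `n = 4` : `P / P'` is elementary abelian (S4627, S4628) and there is an elementary abelian subgroup of
  order 8;
* `4 ∣ q - 1`, `n ≥ 6` : the monomial group has odd index and maps onto `Sym(n)`;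
* `4 ∣ q - 1`, `n = 5` : the monomial group of `GL_4(q)` has odd index and maps onto `Sym(4) × C₂`.
-/

set_option autoImplicit false

namespace Cfsg.Agent.H83.K547

open Subgroup Cfsg Cfsg.Agent.H821.K547 Matrix Equiv Cfsg.Agent.H637

universe u

/-! ### Symmetric groups -/

theorem dd_perm {n : ℕ} (hn : 6 ≤ n) : DD 3 (Perm (Fin n)) := by
  have : Fact (Nat.Prime 2) := ⟨Nat.prime_two⟩
  let i0 : Fin n := ⟨0, by omega⟩
  let i1 : Fin n := ⟨1, by omega⟩
  let i2 : Fin n := ⟨2, by omega⟩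
  let i3 : Fin n := ⟨3, by omega⟩
  let i4 : Fin n := ⟨4, by omega⟩
  let i5 : Fin n := ⟨5, by omega⟩
  have hne : ∀ {a b : ℕ} (ha : a < n) (hb : b < n), a ≠ b → (⟨a, ha⟩ : Fin n) ≠ ⟨b, hb⟩ := fun ha hb h h' =>
    h (congrArg Fin.val h')
  have e01 : i0 ≠ i1 := hne _ _ (by norm_num)
  have e02 : i0 ≠ i2 := hne _ _ (by norm_num)
  have e03 : i0 ≠ i3 := hne _ _ (by norm_num)
  have e04 : i0 ≠ i4 := hne _ _ (by norm_num)
  have e05 : i0 ≠ i5 := hne _ _ (by norm_num)
  have e12 : i1 ≠ i2 := hne _ _ (by norm_num)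
  have e13 : i1 ≠ i3 := hne _ _ (by norm_num)
  have e14 : i1 ≠ i4 := hne _ _ (by norm_num)
  have e15 : i1 ≠ i5 := hne _ _ (by norm_num)
  have e23 : i2 ≠ i3 := hne _ _ (by norm_num)
  have e24 : i2 ≠ i4 := hne _ _ (by norm_num)
  have e25 : i2 ≠ i5 := hne _ _ (by norm_num)
  have e34 : i3 ≠ i4 := hne _ _ (by norm_num)
  have e35 : i3 ≠ i5 := hne _ _ (by norm_num)
  have e45 : i4 ≠ i5 := hne _ _ (by norm_num)
  have hsq : ∀ a b : Fin n, _root_.Equiv.swap a b ^ 2 = 1 := fun a b => by rw [pow_two, Equiv.swap_mul_self]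
  have hcomm : ∀ {a b c d : Fin n}, a ≠ c → a ≠ d → b ≠ c → b ≠ d → _root_.Equiv.swap a b * _root_.Equiv.swap c d = _root_.Equiv.swap c d * _root_.Equiv.swap a b := by
    intro a b c d h1 h2 h3 h4
    have : Perm.Disjoint (_root_.Equiv.swap a b) (_root_.Equiv.swap c d) := by
      intro x
      by_cases hx : x = a ∨ x = b
      · right
        rcases hx with rfl | rfl
        · exact swap_apply_of_ne_of_ne h1 h2
        · exact swap_apply_of_ne_of_ne h3 h4
      · left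
        push Not at hx
        exact swap_apply_of_ne_of_ne hx.1 hx.2
    exact this.commute
  have hv : ∀ {σ τ : Perm (Fin n)} (x : Fin n), σ x ≠ τ x → σ ≠ τ := fun x h h' => h (by rw [h'])
  obtain ⟨E, hE, hc⟩ := exists_E_three (a := _root_.Equiv.swap i0 i1) (b := _root_.Equiv.swap i2 i3) (c := _root_.Equiv.swap i4 i5) (hsq _ _) (hsq _ _)
    (hsq _ _) (hcomm e02 e03 e12 e13) (hcomm e04 e05 e14 e15) (hcomm e24 e25 e34 e35)
    (hv i0 (by rw [swap_apply_left]; exact e01.symm))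
    (hv i2 (by rw [swap_apply_left]; exact e23.symm))
    (hv i0 (by rw [swap_apply_left, swap_apply_of_ne_of_ne e02 e03]; exact e01.symm))
    (hv i4 (by rw [swap_apply_left]; exact e45.symm))
    (hv i4 (by rw [swap_apply_left, swap_apply_of_ne_of_ne e04.symm e14.symm]; exact e45.symm))
    (hv i4 (by rw [swap_apply_left, swap_apply_of_ne_of_ne e24.symm e34.symm]; exact e45.symm))
    (hv i4 (by
      rw [swap_apply_left, Perm.mul_apply, swap_apply_of_ne_of_ne e24.symm e34.symm,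
        swap_apply_of_ne_of_ne e04.symm e14.symm]
      exact e45.symm))
  have hQ : Sylow 2 (alternatingGroup (Fin n)) := default
  exact dd_three_of_elementary (MonoidHom.id (Perm (Fin n))) Function.surjective_id
    (fun P => (Cfsg.Agent.S4623.result 2 n P hQ).1) hE hc

theorem dd_perm_four : DD 2 (Perm (Fin 4)) := by
  have : Fact (Nat.Prime 2) := ⟨Nat.prime_two⟩
  obtain ⟨E, hE, hc⟩ := exists_E_two (a := (_root_.Equiv.swap 0 1 : Perm (Fin 4))) (b := swap 2 3) (by decide) (by decide)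
    (by decide) (by decide) (by decide) (by decide)
  have hQ : Sylow 2 (alternatingGroup (Fin 4)) := default
  exact dd_two_of_elementary (MonoidHom.id (Perm (Fin 4))) Function.surjective_id
    (fun P => (Cfsg.Agent.S4623.result 2 4 P hQ).1) hE hc

/-! ### Elementary abelian subgroups of `PSL` -/

section Elem

variable {n : ℕ} {F : Type u} [Field F]

/-- signs -/
def sg (x y : Fin n) : Fin n → F := Function.update (1 : Fin n → F) x (-1) * Function.update (1 : Fin n → F) y (-1)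

theorem sg_right {x y : Fin n} (h : x ≠ y) : (sg x y : Fin n → F) y = -1 := by
  simp [sg, Function.update_of_ne h.symm]

theorem sg_of_ne {x y i : Fin n} (h1 : i ≠ x) (h2 : i ≠ y) : (sg x y : Fin n → F) i = 1 := by
  simp [sg, Function.update_of_ne h1, Function.update_of_ne h2]

theorem sg_mul_self (x y : Fin n) : (sg x y : Fin n → F) * sg x y = 1 := by
  have h : ∀ z : Fin n, Function.update (1 : Fin n → F) z (-1) * Function.update (1 : Fin n → F) z (-1) = 1 := by
    intro z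
    funext i
    by_cases hi : i = z
    · rw [hi]; simp
    · simp [Function.update_of_ne hi]
  calc (sg x y : Fin n → F) * sg x y =
        (Function.update (1 : Fin n → F) x (-1) * Function.update (1 : Fin n → F) x (-1)) *
        (Function.update (1 : Fin n → F) y (-1) * Function.update (1 : Fin n → F) y (-1)) := by unfold sg; ring
    _ = 1 := by rw [h, h, mul_one]

/-- the sign matrices -/
def sd (x y : Fin n) : _root_.Matrix.SpecialLinearGroup (Fin n) F := ⟨diagonal (sg x y), by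
  rw [det_diagonal]
  unfold sg
  simp only [Pi.mul_apply]
  rw [Finset.prod_mul_distrib, Finset.prod_update_of_mem (Finset.mem_univ _),
    Finset.prod_update_of_mem (Finset.mem_univ _)]
  simp only [_root_.Pi.one_apply, _root_.Finset.prod_const_one, _root_.mul_one, _root_.mul_neg, _root_.neg_neg]⟩

theorem coe_sd (x y : Fin n) : ((sd x y : _root_.Matrix.SpecialLinearGroup (Fin n) F) : Matrix (Fin n) (Fin n) F) =
    diagonal (sg x y) := rfl

theorem sd_sq (x y : Fin n) : (sd x y : _root_.Matrix.SpecialLinearGroup (Fin n) F) ^ 2 = 1 := by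
  apply Subtype.ext
  rw [pow_two]
  show diagonal (sg x y : Fin n → F) * diagonal (sg x y) = 1
  rw [diagonal_mul_diagonal, ← diagonal_one]
  congr 1
  exact sg_mul_self x y

theorem sd_comm (x y z w : Fin n) : (sd x y : _root_.Matrix.SpecialLinearGroup (Fin n) F) * sd z w = sd z w * sd x y := by
  apply Subtype.ext
  show diagonal (sg x y : Fin n → F) * diagonal (sg z w) = diagonal (sg z w) * diagonal (sg x y)
  rw [diagonal_mul_diagonal, diagonal_mul_diagonal]
  congr 1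
  funext i
  ring

/-- the class in `PSL` -/
abbrev pm (A : _root_.Matrix.SpecialLinearGroup (Fin n) F) : ProjectiveSpecialLinearGroup (Fin n) F := QuotientGroup.mk A

theorem pm_ne {A B : _root_.Matrix.SpecialLinearGroup (Fin n) F} (h : ∀ r : F, (A : Matrix (Fin n) (Fin n) F) ≠ r • (B : Matrix (Fin n) (Fin n) F)) :
    pm A ≠ pm B := by
  intro h1
  have h2 : B⁻¹ * A ∈ center (_root_.Matrix.SpecialLinearGroup (Fin n) F) := by
    have := QuotientGroup.eq.1 h1.symm
    exact this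
  obtain ⟨r, -, hr⟩ := Matrix.SpecialLinearGroup.mem_center_iff.1 h2
  apply h r
  have h3 : A = B * (B⁻¹ * A) := by group
  have h4 : (A : Matrix (Fin n) (Fin n) F) = (B : Matrix (Fin n) (Fin n) F) * ((B⁻¹ * A : _root_.Matrix.SpecialLinearGroup (Fin n) F) : Matrix (Fin n) (Fin n) F) := by
    conv_lhs => rw [h3]
    rfl
  rw [h4, ← hr, scalar_apply, ← smul_one_eq_diagonal, Matrix.mul_smul, Matrix.mul_one]

theorem exists_E_PSL (h2 : (2 : F) ≠ 0) [Finite F] (hn : 5 ≤ n) :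
    ∃ E : Subgroup (ProjectiveSpecialLinearGroup (Fin n) F), (∀ x ∈ E, x ^ 2 = 1) ∧ 4 < Nat.card E := by
  let i0 : Fin n := ⟨0, by omega⟩
  let i1 : Fin n := ⟨1, by omega⟩
  let i2 : Fin n := ⟨2, by omega⟩
  let i3 : Fin n := ⟨3, by omega⟩
  let i4 : Fin n := ⟨4, by omega⟩
  have hne : ∀ {a b : ℕ} (ha : a < n) (hb : b < n), a ≠ b → (⟨a, ha⟩ : Fin n) ≠ ⟨b, hb⟩ := fun ha hb h h' =>
    h (congrArg Fin.val h')
  have e01 : i0 ≠ i1 := hne _ _ (by norm_num)
  have e02 : i0 ≠ i2 := hne _ _ (by norm_num)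
  have e03 : i0 ≠ i3 := hne _ _ (by norm_num)
  have e04 : i0 ≠ i4 := hne _ _ (by norm_num)
  have e12 : i1 ≠ i2 := hne _ _ (by norm_num)
  have e13 : i1 ≠ i3 := hne _ _ (by norm_num)
  have e14 : i1 ≠ i4 := hne _ _ (by norm_num)
  have e23 : i2 ≠ i3 := hne _ _ (by norm_num)
  have e24 : i2 ≠ i4 := hne _ _ (by norm_num)
  have e34 : i3 ≠ i4 := hne _ _ (by norm_num)
  have hm : (-1 : F) ≠ 1 := by
    intro h
    apply h2
    have h3 : (1 : F) + 1 = 0 := by nth_rewrite 1 [← h]; ring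
    rwa [one_add_one_eq_two] at h3
  -- compare the entries 3 and i
  have key : ∀ {d e : Fin n → F} {A B : _root_.Matrix.SpecialLinearGroup (Fin n) F}, (A : Matrix (Fin n) (Fin n) F) = diagonal d →
      (B : Matrix (Fin n) (Fin n) F) = diagonal e → ∀ i : Fin n, d i3 = 1 → e i3 = 1 → d i ≠ e i → pm A ≠ pm B := by
    intro d e A B hA hB i h3 h4 h5
    apply pm_ne
    intro r hr
    rw [hA, hB, ← diagonal_smul] at hr
    have h6 := congrFun (diagonal_injective hr) i3
    have h7 := congrFun (diagonal_injective hr) i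
    rw [Pi.smul_apply, smul_eq_mul, h3, h4, mul_one] at h6
    rw [Pi.smul_apply, smul_eq_mul, ← h6, one_mul] at h7
    exact h5 h7
  have h1 : ((1 : _root_.Matrix.SpecialLinearGroup (Fin n) F) : Matrix (Fin n) (Fin n) F) = diagonal 1 := (diagonal_one).symm
  have hab : ((sd i0 i1 * sd i0 i2 : _root_.Matrix.SpecialLinearGroup (Fin n) F) : Matrix (Fin n) (Fin n) F) =
      diagonal (sg i0 i1 * sg i0 i2) := by
    show diagonal _ * diagonal _ = _
    rw [diagonal_mul_diagonal]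
    rfl
  have a3 : (sg i0 i1 : Fin n → F) i3 = 1 := sg_of_ne e03.symm e13.symm
  have b3 : (sg i0 i2 : Fin n → F) i3 = 1 := sg_of_ne e03.symm e23.symm
  have c3 : (sg i0 i4 : Fin n → F) i3 = 1 := sg_of_ne e03.symm e34
  have ab3 : (sg i0 i1 * sg i0 i2 : Fin n → F) i3 = 1 := by rw [Pi.mul_apply, a3, b3, mul_one]
  have o3 : (1 : Fin n → F) i3 = 1 := rfl
  refine exists_E_three (a := pm (sd i0 i1)) (b := pm (sd i0 i2)) (c := pm (sd i0 i4)) ?_ ?_ ?_ ?_ ?_ ?_
    (key (B := 1) (coe_sd _ _) h1 i1 a3 o3 (by rw [sg_right e01]; exact hm))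
    (key (B := 1) (coe_sd _ _) h1 i2 b3 o3 (by rw [sg_right e02]; exact hm))
    (key (coe_sd _ _) (coe_sd _ _) i1 a3 b3 (by rw [sg_right e01, sg_of_ne e01.symm e12]; exact hm))
    (key (B := 1) (coe_sd _ _) h1 i4 c3 o3 (by rw [sg_right e04]; exact hm))
    (key (coe_sd _ _) (coe_sd _ _) i4 c3 a3 (by rw [sg_right e04, sg_of_ne e04.symm e14.symm]; exact hm))
    (key (coe_sd _ _) (coe_sd _ _) i4 c3 b3 (by rw [sg_right e04, sg_of_ne e04.symm e24.symm]; exact hm))
    (key (A := sd i0 i4) (coe_sd _ _) hab i4 c3 ab3 (by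
      rw [sg_right e04, Pi.mul_apply, sg_of_ne e04.symm e14.symm, sg_of_ne e04.symm e24.symm, mul_one]; exact hm))
  · rw [← QuotientGroup.mk_pow, sd_sq]; rfl
  · rw [← QuotientGroup.mk_pow, sd_sq]; rfl
  · rw [← QuotientGroup.mk_pow, sd_sq]; rfl
  · rw [← QuotientGroup.mk_mul, ← QuotientGroup.mk_mul, sd_comm]
  · rw [← QuotientGroup.mk_mul, ← QuotientGroup.mk_mul, sd_comm]
  · rw [← QuotientGroup.mk_mul, ← QuotientGroup.mk_mul, sd_comm]

/-- the permutation `(01)(23)` -/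
def pc : _root_.Matrix.SpecialLinearGroup (Fin 4) F := ⟨!![0, 1, 0, 0; 1, 0, 0, 0; 0, 0, 0, 1; 0, 0, 1, 0], by
  have e : Fin.succAbove (1 : Fin 4) 2 = 3 := by decide
  simp only [Matrix.det_succ_row_zero, Fin.sum_univ_succ, e, _root_.Nat.succ_eq_add_one, _root_.Nat.reduceAdd, _root_.Fin.isValue, _root_.Matrix.of_apply, _root_.Matrix.cons_val', _root_.Matrix.cons_val_fin_one, _root_.Matrix.cons_val_zero, _root_.Matrix.submatrix_apply, _root_.Fin.succ_zero_eq_one, _root_.Matrix.cons_val_one, _root_.Matrix.submatrix_submatrix, _root_.Function.comp_apply, _root_.Fin.succ_one_eq_two, _root_.Matrix.cons_val, _root_.Matrix.det_unique, _root_.Fin.default_eq_zero, _root_.Fin.reduceSucc, _root_.Fin.coe_ofNat_eq_mod, _root_.Nat.zero_mod, _root_.pow_zero, _root_.one_mul, _root_.Fin.zero_succAbove, _root_.Finset.univ_unique, _root_.Fin.val_succ, _root_.Fin.val_eq_zero, _root_.zero_add, _root_.pow_one, _root_.neg_mul, _root_.ne_eq, _root_.Fin.succ_ne_zero,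 _root_.not_false_eq_true, _root_.Fin.succAbove_ne_zero_zero, _root_.Finset.sum_neg_distrib, _root_.Finset.sum_singleton, _root_.Fin.succ_succAbove_one, _root_.even_two, _root_.Even.neg_pow, _root_.one_pow, _root_.MulZeroClass.mul_zero, _root_.mul_one, _root_.mul_neg, _root_.neg_zero, _root_.add_zero, _root_.Matrix.cons_val_succ, _root_.MulZeroClass.zero_mul, _root_.neg_neg, _root_.Finset.sum_const_zero]⟩

def pa : _root_.Matrix.SpecialLinearGroup (Fin 4) F := ⟨!![-1, 0, 0, 0; 0, -1, 0, 0; 0, 0, 1, 0; 0, 0, 0, 1], by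
  simp only [Matrix.det_succ_row_zero, Fin.sum_univ_succ, _root_.Nat.succ_eq_add_one, _root_.Nat.reduceAdd, _root_.Fin.isValue, _root_.Matrix.of_apply, _root_.Matrix.cons_val', _root_.Matrix.cons_val_fin_one, _root_.Matrix.cons_val_zero, _root_.Matrix.submatrix_apply, _root_.Fin.succ_zero_eq_one, _root_.Matrix.cons_val_one, _root_.Matrix.submatrix_submatrix, _root_.Function.comp_apply, _root_.Fin.succ_one_eq_two, _root_.Matrix.cons_val, _root_.Matrix.det_unique, _root_.Fin.default_eq_zero, _root_.Fin.reduceSucc, _root_.Fin.coe_ofNat_eq_mod, _root_.Nat.zero_mod, _root_.pow_zero, _root_.one_mul, _root_.Fin.zero_succAbove, _root_.Finset.univ_unique, _root_.Fin.val_succ, _root_.Fin.val_eq_zero, _root_.zero_add, _root_.pow_one, _root_.neg_mul, _root_.ne_eq, _root_.Fin.succ_ne_zero, _root_.not_false_eq_true, _root_.Fin.succAbove_ne_zero_zero, _root_.Finset.sum_neg_distrib, _root_.Finset.sum_singleton, _root_.Fin.succ_succAbove_one, _root_.even_two,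 _root_.Even.neg_pow, _root_.one_pow, _root_.mul_neg, _root_.mul_one, _root_.MulZeroClass.mul_zero, _root_.neg_zero, _root_.add_zero, _root_.neg_neg, _root_.Matrix.cons_val_succ, _root_.MulZeroClass.zero_mul, _root_.Finset.sum_const_zero]⟩

def pb : _root_.Matrix.SpecialLinearGroup (Fin 4) F := ⟨!![-1, 0, 0, 0; 0, 1, 0, 0; 0, 0, -1, 0; 0, 0, 0, 1], by
  simp only [Matrix.det_succ_row_zero, Fin.sum_univ_succ, _root_.Nat.succ_eq_add_one, _root_.Nat.reduceAdd, _root_.Fin.isValue, _root_.Matrix.of_apply, _root_.Matrix.cons_val', _root_.Matrix.cons_val_fin_one, _root_.Matrix.cons_val_zero, _root_.Matrix.submatrix_apply, _root_.Fin.succ_zero_eq_one, _root_.Matrix.cons_val_one, _root_.Matrix.submatrix_submatrix, _root_.Function.comp_apply, _root_.Fin.succ_one_eq_two, _root_.Matrix.cons_val, _root_.Matrix.det_unique, _root_.Fin.default_eq_zero, _root_.Fin.reduceSucc, _root_.Fin.coe_ofNat_eq_mod, _root_.Nat.zero_mod, _root_.pow_zero, _root_.one_mul,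 _root_.Fin.zero_succAbove, _root_.Finset.univ_unique, _root_.Fin.val_succ, _root_.Fin.val_eq_zero, _root_.zero_add, _root_.pow_one, _root_.neg_mul, _root_.ne_eq, _root_.Fin.succ_ne_zero, _root_.not_false_eq_true, _root_.Fin.succAbove_ne_zero_zero, _root_.Finset.sum_neg_distrib, _root_.Finset.sum_singleton, _root_.Fin.succ_succAbove_one, _root_.even_two, _root_.Even.neg_pow, _root_.one_pow, _root_.mul_neg, _root_.mul_one, _root_.MulZeroClass.mul_zero, _root_.neg_zero, _root_.add_zero, _root_.neg_neg, _root_.Matrix.cons_val_succ, _root_.MulZeroClass.zero_mul, _root_.Finset.sum_const_zero]⟩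

theorem pm_eq_of_neg {A B : _root_.Matrix.SpecialLinearGroup (Fin 4) F} (h : (A : Matrix (Fin 4) (Fin 4) F) = -(B : Matrix (Fin 4) (Fin 4) F)) :
    pm A = pm B := by
  have h1 : B⁻¹ * A ∈ center (_root_.Matrix.SpecialLinearGroup (Fin 4) F) := by
    rw [Matrix.SpecialLinearGroup.mem_center_iff]
    refine ⟨-1, by rw [Fintype.card_fin]; norm_num, ?_⟩
    have h2 : ((B⁻¹ * A : _root_.Matrix.SpecialLinearGroup (Fin 4) F) : Matrix (Fin 4) (Fin 4) F) =
        ((B⁻¹ : _root_.Matrix.SpecialLinearGroup (Fin 4) F) : Matrix (Fin 4) (Fin 4) F) * (A : Matrix (Fin 4) (Fin 4) F) := rfl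
    have h3 : ((B⁻¹ : _root_.Matrix.SpecialLinearGroup (Fin 4) F) : Matrix (Fin 4) (Fin 4) F) * (B : Matrix (Fin 4) (Fin 4) F) = 1 :=
      congrArg Subtype.val (inv_mul_cancel B)
    rw [h2, h, Matrix.mul_neg, h3, scalar_apply, ← smul_one_eq_diagonal, neg_smul, one_smul]
  exact (QuotientGroup.eq.2 h1).symm

theorem exists_E_PSL_four (h2 : (2 : F) ≠ 0) [Finite F] :
    ∃ E : Subgroup (ProjectiveSpecialLinearGroup (Fin 4) F), (∀ x ∈ E, x ^ 2 = 1) ∧ 4 < Nat.card E := by
  have hm : (-1 : F) ≠ 1 := by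
    intro h
    apply h2
    have h3 : (1 : F) + 1 = 0 := by nth_rewrite 1 [← h]; ring
    rwa [one_add_one_eq_two] at h3
  have h1 : ((1 : _root_.Matrix.SpecialLinearGroup (Fin 4) F) : Matrix (Fin 4) (Fin 4) F) = 1 := rfl
  have ca : ((pa : _root_.Matrix.SpecialLinearGroup (Fin 4) F) : Matrix (Fin 4) (Fin 4) F) =
    !![-1, 0, 0, 0; 0, -1, 0, 0; 0, 0, 1, 0; 0, 0, 0, 1] := rfl
  have cb : ((pb : _root_.Matrix.SpecialLinearGroup (Fin 4) F) : Matrix (Fin 4) (Fin 4) F) =
    !![-1, 0, 0, 0; 0, 1, 0, 0; 0, 0, -1, 0; 0, 0, 0, 1] := rfl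
  have cc : ((pc : _root_.Matrix.SpecialLinearGroup (Fin 4) F) : Matrix (Fin 4) (Fin 4) F) =
    !![0, 1, 0, 0; 1, 0, 0, 0; 0, 0, 0, 1; 0, 0, 1, 0] := rfl
  have cm : ∀ A B : _root_.Matrix.SpecialLinearGroup (Fin 4) F, ((A * B : _root_.Matrix.SpecialLinearGroup (Fin 4) F) : Matrix (Fin 4) (Fin 4) F) =
    (A : Matrix (Fin 4) (Fin 4) F) * (B : Matrix (Fin 4) (Fin 4) F) := fun _ _ => rfl
  -- two different entries
  have key : ∀ {A B : _root_.Matrix.SpecialLinearGroup (Fin 4) F} (i j : Fin 4) (a : F),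
      (A : Matrix (Fin 4) (Fin 4) F) i j = a → (B : Matrix (Fin 4) (Fin 4) F) i j = 0 → a ≠ 0 → pm A ≠ pm B := by
    intro A B i j a hA hB ha
    apply pm_ne
    intro r hr
    have h3 := congrFun (congrFun hr i) j
    rw [Matrix.smul_apply, hA, hB, smul_zero] at h3
    exact ha h3
  have key2 : ∀ {A B : _root_.Matrix.SpecialLinearGroup (Fin 4) F} (i : Fin 4),
      (A : Matrix (Fin 4) (Fin 4) F) 3 3 = 1 → (B : Matrix (Fin 4) (Fin 4) F) 3 3 = 1 →
      (A : Matrix (Fin 4) (Fin 4) F) i i ≠ (B : Matrix (Fin 4) (Fin 4) F) i i → pm A ≠ pm B := by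
    intro A B i hA hB hne
    apply pm_ne
    intro r hr
    have h3 := congrFun (congrFun hr 3) 3
    rw [Matrix.smul_apply, hA, hB, smul_eq_mul, mul_one] at h3
    have h4 := congrFun (congrFun hr i) i
    rw [Matrix.smul_apply, ← h3, one_smul] at h4
    exact hne h4
  refine exists_E_three (a := pm pa) (b := pm pb) (c := pm pc) ?_ ?_ ?_ ?_ ?_ ?_
    (key2 (B := 1) 1 (by rw [ca]; rfl) (by rw [h1]; rfl) (by rw [ca, h1]; exact hm))
    (key2 (B := 1) 2 (by rw [cb]; rfl) (by rw [h1]; rfl) (by rw [cb, h1]; exact hm))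
    (key2 1 (by rw [ca]; rfl) (by rw [cb]; rfl) (by rw [ca, cb]; exact hm))
    (key (B := 1) 0 1 1 (by rw [cc]; rfl) (by rw [h1]; rfl) one_ne_zero)
    (key 0 1 1 (by rw [cc]; rfl) (by rw [ca]; rfl) one_ne_zero)
    (key 0 1 1 (by rw [cc]; rfl) (by rw [cb]; rfl) one_ne_zero)
    (key (B := pa * pb) 0 1 1 (by rw [cc]; rfl) (by
      rw [cm, ca, cb]; simp only [Matrix.mul_apply, Fin.sum_univ_succ, _root_.Fin.isValue, _root_.Matrix.of_apply, _root_.Matrix.cons_val', _root_.Matrix.cons_val_fin_one, _root_.Matrix.cons_val_zero, _root_.Matrix.cons_val_one, _root_.MulZeroClass.mul_zero, _root_.Matrix.cons_val_succ, _root_.mul_one, _root_.Finset.univ_unique, _root_.Fin.default_eq_zero, _root_.Finset.sum_const_zero, _root_.add_zero]) one_ne_zero)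
  · rw [← QuotientGroup.mk_pow]
    have h3 : (pa : _root_.Matrix.SpecialLinearGroup (Fin 4) F) ^ 2 = 1 := by
      apply Subtype.ext
      rw [pow_two]
      show (pa : _root_.Matrix.SpecialLinearGroup (Fin 4) F).1 * (pa : _root_.Matrix.SpecialLinearGroup (Fin 4) F).1 = 1
      rw [ca]
      ext i j
      (revert i j; simp only [Matrix.mul_apply, Fin.sum_univ_succ, _root_.Fin.forall_fin_succ, _root_.Matrix.of_apply, _root_.Matrix.cons_val', _root_.Matrix.cons_val_fin_one, Fin.isValue, _root_.Matrix.cons_val_zero, _root_.Matrix.cons_val_succ, _root_.Finset.univ_unique, _root_.Fin.default_eq_zero, _root_.Finset.sum_const, _root_.Finset.card_singleton, _root_.one_smul, _root_.mul_neg, _root_.mul_one, _root_.MulZeroClass.mul_zero, _root_.add_zero, _root_.zero_add, _root_.IsEmpty.forall_iff, _root_.and_true, _root_.neg_neg, _root_.Matrix.one_apply_eq, _root_.neg_zero, Nat.reduceAdd, _root_.Fin.succ_zero_eq_one, _root_.ne_eq, _root_.zero_ne_one,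 _root_.not_false_eq_true, _root_.Matrix.one_apply_ne, _root_.Fin.succ_one_eq_two, Fin.reduceEq, Fin.reduceSucc, _root_.and_self, _root_.Fin.succ_ne_zero, _root_.neg_eq_zero, _root_.true_and])
    rw [h3]; rfl
  · rw [← QuotientGroup.mk_pow]
    have h3 : (pb : _root_.Matrix.SpecialLinearGroup (Fin 4) F) ^ 2 = 1 := by
      apply Subtype.ext
      rw [pow_two]
      show (pb : _root_.Matrix.SpecialLinearGroup (Fin 4) F).1 * (pb : _root_.Matrix.SpecialLinearGroup (Fin 4) F).1 = 1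
      rw [cb]
      ext i j
      (revert i j; simp only [Matrix.mul_apply, Fin.sum_univ_succ, _root_.Fin.forall_fin_succ, _root_.Matrix.of_apply, _root_.Matrix.cons_val', _root_.Matrix.cons_val_fin_one, Fin.isValue, _root_.Matrix.cons_val_zero, _root_.Matrix.cons_val_succ, _root_.Finset.univ_unique, _root_.Fin.default_eq_zero, _root_.Finset.sum_const, _root_.Finset.card_singleton, _root_.one_smul, _root_.mul_neg, _root_.mul_one, _root_.MulZeroClass.mul_zero, _root_.add_zero, _root_.zero_add, _root_.IsEmpty.forall_iff, _root_.and_true, _root_.neg_neg, _root_.Matrix.one_apply_eq, Nat.reduceAdd, _root_.Fin.succ_zero_eq_one, _root_.ne_eq, _root_.zero_ne_one, _root_.not_false_eq_true, _root_.Matrix.one_apply_ne, _root_.neg_zero, _root_.Fin.succ_one_eq_two, Fin.reduceEq, Fin.reduceSucc, _root_.and_self, _root_.Fin.succ_ne_zero, _root_.neg_eq_zero, _root_.true_and])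
    rw [h3]; rfl
  · rw [← QuotientGroup.mk_pow]
    have h3 : (pc : _root_.Matrix.SpecialLinearGroup (Fin 4) F) ^ 2 = 1 := by
      apply Subtype.ext
      rw [pow_two]
      show (pc : _root_.Matrix.SpecialLinearGroup (Fin 4) F).1 * (pc : _root_.Matrix.SpecialLinearGroup (Fin 4) F).1 = 1
      rw [cc]
      ext i j
      (revert i j; simp only [Matrix.mul_apply, Fin.sum_univ_succ, _root_.Fin.forall_fin_succ, _root_.Matrix.of_apply, _root_.Matrix.cons_val', _root_.Matrix.cons_val_fin_one, Fin.isValue, _root_.Matrix.cons_val_zero, _root_.Matrix.cons_val_succ, _root_.Finset.univ_unique, _root_.Fin.default_eq_zero, _root_.Finset.sum_const, _root_.Finset.card_singleton, _root_.one_smul, _root_.MulZeroClass.mul_zero, _root_.mul_one, _root_.add_zero, _root_.zero_add, _root_.IsEmpty.forall_iff, _root_.and_true, _root_.Matrix.one_apply_eq, Nat.reduceAdd, _root_.Fin.succ_zero_eq_one, _root_.ne_eq, _root_.zero_ne_one, _root_.not_false_eq_true, _root_.Matrix.one_apply_ne,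 _root_.Fin.succ_one_eq_two, Fin.reduceEq, Fin.reduceSucc, _root_.and_self, _root_.Fin.succ_ne_zero, _root_.true_and])
    rw [h3]; rfl
  · rw [← QuotientGroup.mk_mul, ← QuotientGroup.mk_mul]
    congr 1
    apply Subtype.ext
    rw [cm, cm, ca, cb]
    ext i j
    (revert i j; simp only [Matrix.mul_apply, Fin.sum_univ_succ, _root_.Fin.forall_fin_succ, _root_.Matrix.of_apply, _root_.Matrix.cons_val', _root_.Matrix.cons_val_fin_one, Fin.isValue, _root_.Matrix.cons_val_zero, _root_.Matrix.cons_val_succ, _root_.Finset.univ_unique, _root_.Fin.default_eq_zero, _root_.Finset.sum_const, _root_.Finset.card_singleton, _root_.one_smul, _root_.add_right_inj, _root_.MulZeroClass.mul_zero, _root_.add_zero, _root_.mul_one, _root_.mul_neg, _root_.zero_add, _root_.implies_true, _root_.and_true, _root_.true_and, _root_.neg_zero, _root_.and_self])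
  · rw [← QuotientGroup.mk_mul, ← QuotientGroup.mk_mul]
    congr 1
    apply Subtype.ext
    rw [cm, cm, ca, cc]
    ext i j
    (revert i j; simp only [Matrix.mul_apply, Fin.sum_univ_succ, _root_.Fin.forall_fin_succ, _root_.Matrix.of_apply, _root_.Matrix.cons_val', _root_.Matrix.cons_val_fin_one, Fin.isValue, _root_.Matrix.cons_val_zero, _root_.Matrix.cons_val_succ, _root_.Finset.univ_unique, _root_.Fin.default_eq_zero, _root_.Finset.sum_const, _root_.Finset.card_singleton, _root_.one_smul, _root_.MulZeroClass.mul_zero, _root_.mul_one, _root_.add_zero, _root_.zero_add, _root_.mul_neg, _root_.implies_true, _root_.and_self, _root_.and_true, _root_.neg_zero])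
  · rw [← QuotientGroup.mk_mul, ← QuotientGroup.mk_mul]
    apply pm_eq_of_neg
    rw [cm, cm, cb, cc]
    ext i j
    (revert i j; simp only [Matrix.mul_apply, Fin.sum_univ_succ, _root_.Fin.forall_fin_succ, _root_.Matrix.of_apply, _root_.Matrix.cons_val', _root_.Matrix.cons_val_fin_one, Fin.isValue, _root_.Matrix.cons_val_zero, _root_.Matrix.cons_val_succ, _root_.Finset.univ_unique, _root_.Fin.default_eq_zero, _root_.Finset.sum_const, _root_.Finset.card_singleton, _root_.one_smul, _root_.Matrix.cons_mul, _root_.Nat.succ_eq_add_one, Nat.reduceAdd, _root_.Matrix.vecMul_cons, _root_.Matrix.head_cons, _root_.zero_smul, _root_.Matrix.tail_cons, _root_.Matrix.empty_vecMul, _root_.add_zero, _root_.zero_add, _root_.Matrix.empty_mul, _root_.Equiv.symm_apply_apply, _root_.Matrix.neg_apply, _root_.MulZeroClass.mul_zero, _root_.mul_one, _root_.forall_const, _root_.neg_zero, _root_.and_self, _root_.neg_neg, _root_.and_self_left, _root_.implies_true])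

end Elem

/-! ### `4 ∣ q + 1`, and `n = 4` -/

section CaseOne

variable {F : Type u} [Field F] [Fintype F]

theorem dd_of_sq {n : ℕ} (hn : 4 ≤ n) (h2 : (2 : F) ≠ 0)
    (h : ∀ (P : Sylow 2 (_root_.Matrix.SpecialLinearGroup (Fin n) F)) (x : P), x ^ 2 ∈ commutator P) :
    DD 3 (ProjectiveSpecialLinearGroup (Fin n) F) := by
  have hE : ∃ E : Subgroup (ProjectiveSpecialLinearGroup (Fin n) F), (∀ x ∈ E, x ^ 2 = 1) ∧ 4 < Nat.card E := by
    rcases Nat.lt_or_ge n 5 with h5 | h5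
    · obtain rfl : n = 4 := by omega
      exact exists_E_PSL_four h2
    · exact exists_E_PSL h2 h5
  obtain ⟨E, hE1, hE2⟩ := hE
  exact dd_three_of_elementary (QuotientGroup.mk' _) (QuotientGroup.mk'_surjective _) h hE1 hE2

theorem dd_add {n : ℕ} (hn : 4 ≤ n) (h2 : (2 : F) ≠ 0) (hodd : Odd (Fintype.card F)) (hq : 4 ∣ Fintype.card F + 1) :
    DD 3 (ProjectiveSpecialLinearGroup (Fin n) F) := by
  apply dd_of_sq hn h2
  rcases Nat.even_or_odd' n with ⟨m, rfl | rfl⟩
  · exact fun P => Cfsg.Agent.S4627.result hodd m (by omega) (Or.inl hq) P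
  · exact fun P => Cfsg.Agent.S4628.result hodd hq m (by omega) P

theorem dd_four (h2 : (2 : F) ≠ 0) (hodd : Odd (Fintype.card F)) (hq : 4 ∣ Fintype.card F - 1) :
    DD 3 (ProjectiveSpecialLinearGroup (Fin 4) F) := by
  apply dd_of_sq le_rfl h2
  exact fun P => Cfsg.Agent.S4627.result (F := F) hodd 2 (by norm_num) (Or.inr ⟨hq, 1, by norm_num⟩) P

/-! ### `4 ∣ q - 1`, `n ≥ 6` -/

theorem dd_sub_six {n : ℕ} (hn : 6 ≤ n) (hq : 4 ∣ Fintype.card F - 1) :
    DD 3 (ProjectiveSpecialLinearGroup (Fin n) F) := by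
  have : NeZero n := ⟨by omega⟩
  have h1 : 1 < Fintype.card F := Fintype.one_lt_card
  let dm : XM n F →* Fˣ := (Matrix.GeneralLinearGroup.det : GL (Fin n) F →* Fˣ).comp (mono n F)
  let φ : dm.ker →* GL (Fin n) F := (mono n F).comp dm.ker.subtype
  have hφ : ∀ x, Matrix.GeneralLinearGroup.det (φ x) = 1 := fun x => x.2
  have hφi : Function.Injective φ := mono_injective.comp dm.ker.subtype_injective
  have hdm : Function.Surjective dm := by
    intro u
    refine ⟨⟨Function.update 1 0 u, 1⟩, ?_⟩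
    show Matrix.GeneralLinearGroup.det (mono n F _) = u
    rw [det_mono, Finset.prod_update_of_mem (Finset.mem_univ _)]
    simp
  have hcard : Nat.card dm.ker * (Fintype.card F - 1) = Nat.card (XM n F) := by
    have h2 := dm.ker.card_mul_index
    rwa [Subgroup.index_ker, MonoidHom.range_eq_top.2 hdm, Subgroup.card_top, Nat.card_units,
      Nat.card_eq_fintype_card (α := F)] at h2
  have hv : padicValNat 2 (Nat.card dm.ker) = padicValNat 2 (Nat.card (_root_.Matrix.SpecialLinearGroup (Fin n) F)) := by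
    have h3 := v_card_SL (n := n) (F := F)
    have h4 := v_card_XM (n := n) hq
    rw [← hcard, padicValNat.mul Nat.card_pos.ne' (by omega)] at h4
    omega
  refine dd_of_hom (toPSL φ hφ) (index_toPSL (index_of_v (toSL_injective hφ hφi) hv))
    (SemidirectProduct.rightHom.comp dm.ker.subtype) ?_ ?_ (dd_perm hn)
  · intro σ
    -- adjust the determinant
    refine ⟨⟨⟨Function.update 1 0 (Units.map (Int.castRingHom F).toMonoidHom (Perm.sign σ))⁻¹, σ⟩, ?_⟩, rfl⟩
    rw [MonoidHom.mem_ker]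
    show Matrix.GeneralLinearGroup.det (mono n F _) = 1
    rw [det_mono, Finset.prod_update_of_mem (Finset.mem_univ _)]
    simp
  · intro x hx
    obtain ⟨r, hr⟩ := toPSL_eq_one hx
    exact (mono_scalar hr).1

/-! ### `4 ∣ q - 1`, `n = 5` -/

/-- the inverse determinant -/
def idet : GL (Fin 4) F →* Fˣ := (invMonoidHom : Fˣ →* Fˣ).comp Matrix.GeneralLinearGroup.det

/-- `GL_4 → GL_{4+1}`, `A ↦ (A, det A ^ -1)` -/
def emb0 : GL (Fin 4) F →* GL (Fin 4 ⊕ Fin 1) F :=
  (blk (Fin 4) (Fin 1) F).comp ((MonoidHom.id _).prod ((dgGL 1 F).comp (MonoidHom.pi fun _ : Fin 1 => idet)))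

theorem det_emb0 (A : GL (Fin 4) F) : Matrix.GeneralLinearGroup.det (emb0 A) = 1 := by
  show Matrix.GeneralLinearGroup.det (blk (Fin 4) (Fin 1) F (A, dgGL 1 F fun _ => idet A)) = 1
  rw [det_blk]
  have h1 : Matrix.GeneralLinearGroup.det (dgGL 1 F fun _ => idet A) = idet A := by
    apply Units.ext
    show (diagonal fun _ : Fin 1 => ((idet A : Fˣ) : F)).det = (idet A : Fˣ)
    rw [det_diagonal]
    simp
  show Matrix.GeneralLinearGroup.det A * Matrix.GeneralLinearGroup.det (dgGL 1 F fun _ => idet A) = 1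
  rw [h1]
  exact mul_inv_cancel _

theorem emb0_injective : Function.Injective (emb0 (F := F)) := by
  intro A B h
  exact congrArg Prod.fst (blk_injective h)

/-- five letters -/
def e5 : Fin 4 ⊕ Fin 1 ≃ Fin 5 := finSumFinEquiv

/-- `GL_4 → GL_5` -/
def emb : GL (Fin 4) F →* GL (Fin 5) F :=
  (LieClassical.OmegaReindex.glReindex F e5).toMonoidHom.comp emb0

theorem det_emb (A : GL (Fin 4) F) : Matrix.GeneralLinearGroup.det (emb A) = 1 := by
  rw [← det_emb0 A]
  exact DFunLike.congr_fun (det_glReindex (F := F) e5) (emb0 A)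

theorem emb_injective : Function.Injective (emb (F := F)) :=
  (LieClassical.OmegaReindex.glReindex F e5).injective.comp emb0_injective

theorem emb_scalar {A : GL (Fin 4) F} {r : F} (h : (emb A : Matrix (Fin 5) (Fin 5) F) = scalar (Fin 5) r) :
    (A : Matrix (Fin 4) (Fin 4) F) = scalar (Fin 4) r := by
  ext i j
  have h1 : (emb A : Matrix (Fin 5) (Fin 5) F) (e5 (Sum.inl i)) (e5 (Sum.inl j)) =
      (A : Matrix (Fin 4) (Fin 4) F) i j := by
    show ((emb0 A : Matrix (Fin 4 ⊕ Fin 1) (Fin 4 ⊕ Fin 1) F).submatrix e5.symm e5.symm)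
      (e5 (Sum.inl i)) (e5 (Sum.inl j)) = _
    rw [submatrix_apply, Equiv.symm_apply_apply, Equiv.symm_apply_apply]
    rfl
  rw [← h1, h, scalar_apply, scalar_apply, diagonal_apply, diagonal_apply]
  have h2 : (e5 (Sum.inl i) = e5 (Sum.inl j)) ↔ i = j := by
    rw [e5.injective.eq_iff, Sum.inl.injEq]
  by_cases h3 : i = j
  · rw [if_pos (h2.2 h3), if_pos h3]
  · rw [if_neg (fun h4 => h3 (h2.1 h4)), if_neg h3]

variable (F) in
/-- the quadratic character -/
noncomputable def qc [DecidableEq F] : Fˣ →* ℤˣ := (quadraticChar F).toUnitHom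

variable (F) in
/-- `Sym(4) × C₂` -/
noncomputable def fy [DecidableEq F] : XM 4 F →* Perm (Fin 4) × ℤˣ :=
  SemidirectProduct.rightHom.prod (SemidirectProduct.lift
    ((qc F).comp { toFun := fun t : Fin 4 → Fˣ => ∏ i, t i
                   map_one' := Finset.prod_const_one
                   map_mul' := fun _ _ => Finset.prod_mul_distrib }) 1 (by
      intro σ
      refine MonoidHom.ext fun t => ?_
      show qc F (∏ i, t (σ⁻¹ i)) = 1 * qc F (∏ i, t i) * 1⁻¹
      rw [Equiv.prod_comp, one_mul, inv_one, mul_one]))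

theorem fy_apply [DecidableEq F] (x : XM 4 F) : fy F x = (x.right, qc F (∏ i, x.left i)) := by
  refine Prod.ext rfl ?_
  show qc F (∏ i, x.left i) * 1 = _
  rw [mul_one]

theorem dd_sub_five (h2 : (2 : F) ≠ 0) (hq : 4 ∣ Fintype.card F - 1) :
    DD 3 (ProjectiveSpecialLinearGroup (Fin 5) F) := by
  classical
  have hchar : ringChar F ≠ 2 := by
    intro h
    apply h2
    have := ringChar.Nat.cast_ringChar (R := F)
    rw [h] at this
    exact_mod_cast this
  let φ : XM 4 F →* GL (Fin 5) F := emb.comp (mono 4 F)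
  have hφ : ∀ x, Matrix.GeneralLinearGroup.det (φ x) = 1 := fun x => det_emb _
  have hφi : Function.Injective φ := emb_injective.comp mono_injective
  have hv : padicValNat 2 (Nat.card (XM 4 F)) = padicValNat 2 (Nat.card (_root_.Matrix.SpecialLinearGroup (Fin 5) F)) := by
    have h3 := v_card_SL (n := 5) (F := F)
    have h4 := v_card_XM (n := 4) hq
    have h5 : gv F 5 = gv F 4 + padicValNat 2 (Fintype.card F - 1) := gv_two_mul_add_one (odd_card hq) 2
    omega
  have hY : DD (2 + 1) (Perm (Fin 4) × ℤˣ) := dd_prod dd_perm_four (C := ℤˣ) (fun c => by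
    rcases Int.units_eq_one_or c with rfl | rfl <;> rfl) (m := 1) (by
      rw [Nat.card_eq_fintype_card]; decide)
  refine dd_of_hom (toPSL φ hφ) (index_toPSL (index_of_v (toSL_injective hφ hφi) hv)) (fy F) ?_ ?_ hY
  · rintro ⟨σ, ε⟩
    obtain ⟨u, hu⟩ : ∃ u, qc F u = ε := by
      rcases Int.units_eq_one_or ε with rfl | rfl
      · exact ⟨1, map_one _⟩
      · obtain ⟨a, ha⟩ := quadraticChar_exists_neg_one' hchar
        refine ⟨a, Units.ext ?_⟩
        show quadraticChar F a = -1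
        exact ha
    refine ⟨⟨Function.update 1 0 u, σ⟩, ?_⟩
    rw [fy_apply, Finset.prod_update_of_mem (Finset.mem_univ _)]
    simp [hu]
  · intro x hx
    obtain ⟨r, hr⟩ := toPSL_eq_one hx
    obtain ⟨h3, h4⟩ := mono_scalar (emb_scalar hr)
    rw [fy_apply, h3]
    have h5 : ∀ i, x.left i = x.left 0 := fun i => Units.ext ((h4 i).trans (h4 0).symm)
    have h6 : ∏ i, x.left i = (x.left 0) ^ 4 := by
      rw [Finset.prod_congr rfl (fun i _ => h5 i), Finset.prod_const, Finset.card_univ, Fintype.card_fin]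
    rw [h6, map_pow]
    refine Prod.ext rfl ?_
    show qc F (x.left 0) ^ 4 = 1
    rcases Int.units_eq_one_or (qc F (x.left 0)) with h7 | h7 <;> rw [h7] <;> rfl

end CaseOne

/-- **K547-QO-PSL**: the Sylow 2-subgroups of `PSL_n(q)`, `n ≥ 4`, `q` odd, need at least three generators -/
theorem d3_psl {n : ℕ} (hn : 4 ≤ n) (F : Type u) [Field F] [Finite F] (h2 : (2 : F) ≠ 0) :
    D3 (ProjectiveSpecialLinearGroup (Fin n) F) := by
  let _ : Fintype F := Fintype.ofFinite F
  have hodd : Odd (Fintype.card F) := by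
    have hchar : ringChar F ≠ 2 := by
      intro h
      apply h2
      have := ringChar.Nat.cast_ringChar (R := F)
      rw [h] at this
      exact_mod_cast this
    exact Nat.odd_iff.2 (FiniteField.odd_card_of_char_ne_two hchar)
  have h4 : 4 ∣ Fintype.card F + 1 ∨ 4 ∣ Fintype.card F - 1 := by
    obtain ⟨k, hk⟩ := hodd
    omega
  rcases h4 with h4 | h4
  · exact dd_add hn h2 hodd h4
  · rcases Nat.lt_or_ge n 6 with h6 | h6
    · obtain rfl | rfl : n = 4 ∨ n = 5 := by omega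
      · exact dd_four h2 hodd h4
      · exact dd_sub_five h2 h4
    · exact dd_sub_six h6 h4

end Cfsg.Agent.H83.K547
end

private theorem dce_05b2ea953163 : _root_.True := by
  try have : _root_.True := by simp only [_root_.Cfsg.Agent.H311.K547.co.eq_1]
  try have : _root_.True := by simp only [_root_.Cfsg.Agent.H83.K547.sg.eq_1]
  try have : _root_.True := by simp only [_root_.Cfsg.Agent.H311.K547.gam.eq_1]
  try have : _root_.True := by simp only [_root_.Cfsg.Agent.ClassicalGeometry.GUBasic.detHom.congr_simp]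
  try have : _root_.True := by simp only [_root_.Cfsg.Agent.H311.K547.toSU.congr_simp]
  try have : _root_.True := by simp only [_root_.Cfsg.Agent.H311.K547.Fd.basis.eq_1]
  try have : _root_.True := by simp only [_root_.Cfsg.Agent.H311.K547.fb.eq_1]
  try have : _root_.True := by simp only [_root_.Cfsg.Agent.H829.K547.PsuC.u3.congr_simp]
  exact _root_.True.intro
end
end
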